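import Mathlib
import Groth.Prelude.Def_DRing4
import Groth.Agent.H9.RG.Elem

set_option backward.isDefEq.respectTransparency false
set_option backward.isDefEq.respectTransparency.types false
set_option autoImplicit false

/-!
# Quasi-isomorphisms between Hom complexes `DRing.homCx`

* `quasiIso_homCxMap`: if postcomposition with `f⟦n⟧'` is bijective on homotopy classes of maps out
  of `E` for all `n`, then `Hom•(E, f)` is a quasi-isomorphism.
* `homCxPre`, `quasiIso_homCxPre`: the contravariant analogue.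
* consequences for homotopy equivalences, K-projective sources and K-injective targets.
-/

universe u

open CategoryTheory CategoryTheory.Limits CochainComplex CochainComplex.HomComplex

namespace Groth.Agent.H84.RHom

section General

variable {C : Type*} [Category C] [Preadditive C]

lemma toHom_mk_postcomp {K L L' : CochainComplex C ℤ} {n : ℤ} (z : Cocycle K L n) (f : L ⟶ L') :
    CohomologyClass.toHom (CohomologyClass.mk (z.postcomp f)) =
      CohomologyClass.toHom (CohomologyClass.mk z) ≫
        (HomotopyCategory.quotient C (ComplexShape.up ℤ)).map (f⟦n⟧') := by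
  rw [CohomologyClass.toHom_mk, CohomologyClass.toHom_mk, Cocycle.equivHomShift_symm_postcomp,
    Functor.map_comp]

lemma toHom_mk_precomp {K K' L : CochainComplex C ℤ} {n : ℤ} (z : Cocycle K' L n) (s : K ⟶ K') :
    CohomologyClass.toHom (CohomologyClass.mk (z.precomp s)) =
      (HomotopyCategory.quotient C (ComplexShape.up ℤ)).map s ≫
        CohomologyClass.toHom (CohomologyClass.mk z) := by
  rw [CohomologyClass.toHom_mk, CohomologyClass.toHom_mk, Cocycle.equivHomShift_symm_precomp,
    Functor.map_comp]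

lemma exists_δ_eq_sub_of_toHom_eq {K L : CochainComplex C ℤ} {n : ℤ} (z₁ z₂ : Cocycle K L n)
    (h : CohomologyClass.toHom (CohomologyClass.mk z₁) =
      CohomologyClass.toHom (CohomologyClass.mk z₂)) (m : ℤ) (hm : m + 1 = n) :
    ∃ β : Cochain K L m, δ m n β = z₁.1 - z₂.1 := by
  have h1 := (CohomologyClass.toHom_bijective K L n).1 h
  have h2 : CohomologyClass.mk (z₁ - z₂) = 0 := by
    rw [CohomologyClass.mk_sub, h1, sub_self]
  rw [CohomologyClass.mk_eq_zero_iff, mem_coboundaries_iff _ m hm] at h2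
  obtain ⟨β, hβ⟩ := h2
  exact ⟨β, by rw [hβ]; rfl⟩

lemma exists_cocycle_of_hom {K L : CochainComplex C ℤ} {n : ℤ}
    (g : (HomotopyCategory.quotient C (ComplexShape.up ℤ)).obj K ⟶
      (HomotopyCategory.quotient C (ComplexShape.up ℤ)).obj (L⟦n⟧)) :
    ∃ z : Cocycle K L n, CohomologyClass.toHom (CohomologyClass.mk z) = g := by
  obtain ⟨c, hc⟩ := (CohomologyClass.toHom_bijective K L n).2 g
  obtain ⟨z, rfl⟩ := c.mk_surjective
  exact ⟨z, hc⟩

end General

variable {A : Type u} [CommRing A]

/-- the quotient functor to the homotopy category -/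
noncomputable abbrev Hq (A : Type u) [CommRing A] :=
  HomotopyCategory.quotient (ModuleCat.{u} A) (ComplexShape.up ℤ)

/-- `Hom•(E, f)` is a quasi-isomorphism as soon as `f` induces bijections on homotopy classes of
maps `E ⟶ L⟦n⟧`. -/
theorem quasiIso_homCxMap (E : DRing.Cx A) {L L' : DRing.Cx A} (f : L ⟶ L')
    (H : ∀ n : ℤ, Function.Bijective
      (fun g : ((Hq A).obj E ⟶ (Hq A).obj (L⟦n⟧)) => g ≫ (Hq A).map (f⟦n⟧'))) :
    QuasiIso (DRing.homCxMap E f) := by
  rw [quasiIso_iff]
  intro j
  refine Groth.Agent.H9.RG.quasiIsoAt_of_elem _ (j - 1) j (j + 1) (by lia) rfl ?_ ?_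
  · intro (z : Cochain E L j) hz hw
    obtain ⟨(w : Cochain E L' (j - 1)), hw⟩ := hw
    replace hz : δ j (j + 1) z = 0 := hz
    replace hw : δ (j - 1) j w = z.comp (Cochain.ofHom f) (add_zero j) := hw
    let zc : Cocycle E L j := Cocycle.mk z (j + 1) rfl hz
    have h0 : CohomologyClass.mk (zc.postcomp f) = 0 := by
      rw [CohomologyClass.mk_eq_zero_iff, mem_coboundaries_iff _ (j - 1) (by lia)]
      exact ⟨w, hw⟩
    have h1 : CohomologyClass.toHom (CohomologyClass.mk zc) ≫ (Hq A).map (f⟦j⟧') = 0 := by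
      rw [← toHom_mk_postcomp, h0, map_zero]
    have h2 : CohomologyClass.toHom (CohomologyClass.mk zc) = 0 :=
      (H j).1 (by simpa using h1)
    rw [CohomologyClass.toHom_mk_eq_zero_iff, mem_coboundaries_iff _ (j - 1) (by lia)] at h2
    obtain ⟨β, hβ⟩ := h2
    exact ⟨β, hβ⟩
  · intro (y : Cochain E L' j) hy
    replace hy : δ j (j + 1) y = 0 := hy
    let yc : Cocycle E L' j := Cocycle.mk y (j + 1) rfl hy
    obtain ⟨g, hg⟩ := (H j).2 (CohomologyClass.toHom (CohomologyClass.mk yc))
    obtain ⟨zc, rfl⟩ := exists_cocycle_of_hom g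
    replace hg : CohomologyClass.toHom (CohomologyClass.mk zc) ≫ (Hq A).map (f⟦j⟧') =
      CohomologyClass.toHom (CohomologyClass.mk yc) := hg
    rw [← toHom_mk_postcomp] at hg
    obtain ⟨β, hβ⟩ := exists_δ_eq_sub_of_toHom_eq _ _ hg.symm (j - 1) (by lia)
    refine ⟨zc.1, ?_, β, ?_⟩
    · exact (Cocycle.mem_iff j (j + 1) rfl zc.1).1 zc.2
    · change y = zc.1.comp (Cochain.ofHom f) (add_zero j) + δ (j - 1) j β
      rw [hβ]
      change y = zc.1.comp (Cochain.ofHom f) (add_zero j) +
        (y - zc.1.comp (Cochain.ofHom f) (add_zero j))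
      abel

/-- precomposition with `s` as a linear map on cochains -/
noncomputable def precompLin {X X' : DRing.Cx A} (s : X ⟶ X') (I : DRing.Cx A) (i : ℤ) :
    Cochain X' I i →ₗ[A] Cochain X I i where
  toFun z := (Cochain.ofHom s).comp z (zero_add i)
  map_add' z z' := by simp
  map_smul' a z := by simp

/-- Contravariant functoriality of `Hom•(-, I)`. -/
noncomputable def homCxPre {X X' : DRing.Cx A} (s : X ⟶ X') (I : DRing.Cx A) :
    DRing.homCx X' I ⟶ DRing.homCx X I where
  f i := ModuleCat.ofHom (precompLin s I i)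
  comm' i j _ := by
    ext z
    change δ i j ((Cochain.ofHom s).comp z (zero_add i)) =
      (Cochain.ofHom s).comp (δ i j z) (zero_add j)
    exact δ_ofHom_comp s z j

/-- `Hom•(s, I)` is a quasi-isomorphism as soon as `s` induces bijections on homotopy classes of
maps to `I⟦n⟧`. -/
theorem quasiIso_homCxPre {X X' : DRing.Cx A} (s : X ⟶ X') (I : DRing.Cx A)
    (H : ∀ n : ℤ, Function.Bijective
      (fun g : ((Hq A).obj X' ⟶ (Hq A).obj (I⟦n⟧)) => (Hq A).map s ≫ g)) :
    QuasiIso (homCxPre s I) := by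
  rw [quasiIso_iff]
  intro j
  refine Groth.Agent.H9.RG.quasiIsoAt_of_elem _ (j - 1) j (j + 1) (by lia) rfl ?_ ?_
  · intro (z : Cochain X' I j) hz hw
    obtain ⟨(w : Cochain X I (j - 1)), hw⟩ := hw
    replace hz : δ j (j + 1) z = 0 := hz
    replace hw : δ (j - 1) j w = (Cochain.ofHom s).comp z (zero_add j) := hw
    let zc : Cocycle X' I j := Cocycle.mk z (j + 1) rfl hz
    have h0 : CohomologyClass.mk (zc.precomp s) = 0 := by
      rw [CohomologyClass.mk_eq_zero_iff, mem_coboundaries_iff _ (j - 1) (by lia)]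
      exact ⟨w, hw⟩
    have h1 : (Hq A).map s ≫ CohomologyClass.toHom (CohomologyClass.mk zc) = 0 := by
      rw [← toHom_mk_precomp, h0, map_zero]
    have h2 : CohomologyClass.toHom (CohomologyClass.mk zc) = 0 :=
      (H j).1 (by simpa using h1)
    rw [CohomologyClass.toHom_mk_eq_zero_iff, mem_coboundaries_iff _ (j - 1) (by lia)] at h2
    obtain ⟨β, hβ⟩ := h2
    exact ⟨β, hβ⟩
  · intro (y : Cochain X I j) hy
    replace hy : δ j (j + 1) y = 0 := hy
    let yc : Cocycle X I j := Cocycle.mk y (j + 1) rfl hy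
    obtain ⟨g, hg⟩ := (H j).2 (CohomologyClass.toHom (CohomologyClass.mk yc))
    obtain ⟨zc, rfl⟩ := exists_cocycle_of_hom g
    replace hg : (Hq A).map s ≫ CohomologyClass.toHom (CohomologyClass.mk zc) =
      CohomologyClass.toHom (CohomologyClass.mk yc) := hg
    rw [← toHom_mk_precomp] at hg
    obtain ⟨β, hβ⟩ := exists_δ_eq_sub_of_toHom_eq _ _ hg.symm (j - 1) (by lia)
    refine ⟨zc.1, ?_, β, ?_⟩
    · exact (Cocycle.mem_iff j (j + 1) rfl zc.1).1 zc.2
    · change y = (Cochain.ofHom s).comp zc.1 (zero_add j) + δ (j - 1) j β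
      rw [hβ]
      change y = (Cochain.ofHom s).comp zc.1 (zero_add j) +
        (y - (Cochain.ofHom s).comp zc.1 (zero_add j))
      abel

end Groth.Agent.H84.RHom
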