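import Mathlib
import Groth.Agent.H84.RHomQis
import Groth.Agent.H5.KInjDeriv
import Groth.Agent.H33.KInj.Main

set_option backward.isDefEq.respectTransparency false
set_option backward.isDefEq.respectTransparency.types false
set_option autoImplicit false

/-!
# `DRing.RHomCx` computed on K-injective complexes, and on K-projective sources

* `CxUnit.isIso_unit_app`: for a homotopy invariant functor `F` on cochain complexes, the unit
  `F I ⟶ RF (Q I)` of a right derived functor (with respect to quasi-isomorphisms of complexes) is an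
  isomorphism on K-injective complexes (mirror of `H45.LDer.CxCounit.isIso_counit_app`).
* `RHomCxIso E I hI : RHom(E, Q I) ≅ Q (Hom•(E, I))` for `I` K-injective.
* `quasiIso_homCxMap_of_isKProjective`, `quasiIso_homCxPre_of_isKInjective`.
* `nonempty_RHomCx_iso_of_isKProjective`: `RHom(P, Q L) ≅ Q (Hom•(P, L))` for `P` K-projective.
-/

universe w v u

open CategoryTheory CategoryTheory.Limits CochainComplex CochainComplex.HomComplex

namespace Groth.Agent.H84.RHom

namespace CxUnit

variable {𝒜 : Type u} [Category.{v} 𝒜] [Abelian 𝒜] [HasDerivedCategory.{w} 𝒜]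
  {H : Type*} [Category H]
  (F : CochainComplex 𝒜 ℤ ⥤ H)
  (hF : ∀ ⦃K L : CochainComplex 𝒜 ℤ⦄ (f g : K ⟶ L), Homotopy f g → F.map f = F.map g)

/-- The functor induced on the homotopy category by a homotopy invariant functor. -/
def Fh : HomotopyCategory 𝒜 (ComplexShape.up ℤ) ⥤ H :=
  CategoryTheory.Quotient.lift _ F (fun _ _ f g h => hF f g h.some)

variable (RF : DerivedCategory 𝒜 ⥤ H) (α : F ⟶ DerivedCategory.Q ⋙ RF)

/-- The unit on the homotopy category. -/
noncomputable def αh : Fh F hF ⟶ DerivedCategory.Qh ⋙ RF :=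
  CategoryTheory.Quotient.natTransLift _
    { app := fun K => α.app K
      naturality := fun K L f => α.naturality f }

lemma αh_app (K : CochainComplex 𝒜 ℤ) :
    (αh F hF RF α).app ((HomotopyCategory.quotient _ _).obj K) = α.app K := rfl

/-- A right derived functor with respect to quasi-isomorphisms of complexes is also a right
derived functor (of the induced functor) with respect to quasi-isomorphisms in the homotopy
category. -/
lemma isRightDerivedFunctor_αh
    [RF.IsRightDerivedFunctor α (HomologicalComplex.quasiIso 𝒜 (ComplexShape.up ℤ))] :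
    RF.IsRightDerivedFunctor (αh F hF RF α)
      (HomotopyCategory.quasiIso 𝒜 (ComplexShape.up ℤ)) := by
  let W := HomologicalComplex.quasiIso 𝒜 (ComplexShape.up ℤ)
  let β : ∀ (E : Functor.LeftExtension DerivedCategory.Qh (Fh F hF)),
      F ⟶ DerivedCategory.Q ⋙ E.right := fun E =>
    { app := fun K => E.hom.app ((HomotopyCategory.quotient _ _).obj K)
      naturality := fun K L f => E.hom.naturality ((HomotopyCategory.quotient _ _).map f) }
  constructor
  constructor
  refine ⟨Limits.IsInitial.ofUniqueHom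
    (fun E => StructuredArrow.homMk (RF.rightDerivedDesc α W E.right (β E)) ?_) ?_⟩
  · ext X
    obtain ⟨K, rfl⟩ := X.quotient_obj_surjective
    exact RF.rightDerived_fac_app α W E.right (β E) K
  · intro E m
    ext Y
    have h1 : m.right = RF.rightDerivedDesc α W E.right (β E) := by
      apply RF.rightDerived_ext α W
      rw [Functor.rightDerived_fac]
      ext K
      have := congr_app m.w ((HomotopyCategory.quotient _ _).obj K)
      simp only [NatTrans.comp_app, Functor.whiskeringLeft_obj_map,
        Functor.whiskerLeft_app] at this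
      exact this
    exact congr_app h1 Y

include hF in
/-- The unit of a right derived functor (with respect to quasi-isomorphisms of cochain complexes)
of a homotopy invariant functor is an isomorphism on K-injective complexes. -/
theorem isIso_unit_app
    [RF.IsRightDerivedFunctor α (HomologicalComplex.quasiIso 𝒜 (ComplexShape.up ℤ))]
    (hKinj : ∀ K : CochainComplex 𝒜 ℤ, ∃ (I : CochainComplex 𝒜 ℤ) (f : K ⟶ I),
      I.IsKInjective ∧ QuasiIso f)
    (I : CochainComplex 𝒜 ℤ) (hI : I.IsKInjective) : IsIso (α.app I) := by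
  have := isRightDerivedFunctor_αh F hF RF α
  have := Groth.Agent.H5.KInjDeriv.isRightDerivabilityStructure hKinj
  exact (Groth.Agent.H5.KInjDeriv.derives (Fh F hF)).isIso_of_isRightDerivedFunctor
    (αh F hF RF α) ⟨(HomotopyCategory.quotient 𝒜 (ComplexShape.up ℤ)).obj I, hI⟩

end CxUnit

attribute [local instance] HasDerivedCategory.standard

variable {A : Type u} [CommRing A]

/-- K-injective resolutions exist in `ModuleCat A` -/
lemma hKinj (K : DRing.Cx A) : ∃ (J : DRing.Cx A) (f : K ⟶ J), J.IsKInjective ∧ QuasiIso f := by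
  obtain ⟨J, f, hJ, hf, -, -⟩ := Groth.Agent.H33.KInj.exists_kInjective_resolution K
  exact ⟨J, f, hJ, hf⟩

lemma isIso_Hq_map_shift {L L' : DRing.Cx A} (f : L ⟶ L') (hf : IsIso ((Hq A).map f)) (n : ℤ) :
    IsIso ((Hq A).map (f⟦n⟧')) := by
  have h : IsIso ((Hq A ⋙ shiftFunctor _ n).map f) := by
    dsimp
    infer_instance
  exact (NatIso.isIso_map_iff ((Hq A).commShiftIso n) f).2 h

/-- `Hom•(E, -)` sends homotopy equivalences to quasi-isomorphisms. -/
theorem quasiIso_homCxMap_of_homotopyEquivalences (E : DRing.Cx A) {L L' : DRing.Cx A} (f : L ⟶ L')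
    (hf : HomologicalComplex.homotopyEquivalences _ _ f) : QuasiIso (DRing.homCxMap E f) := by
  have h1 : IsIso ((Hq A).map f) :=
    HomotopyCategory.quotient_inverts_homotopyEquivalences _ _ f hf
  refine quasiIso_homCxMap E f (fun n => ?_)
  have := isIso_Hq_map_shift f h1 n
  exact ⟨fun g₁ g₂ h => (cancel_mono _).1 h,
    fun g => ⟨g ≫ inv ((Hq A).map (f⟦n⟧')), by simp⟩⟩

/-- `Hom•(P, -)` preserves quasi-isomorphisms when `P` is K-projective. -/
theorem quasiIso_homCxMap_of_isKProjective (P : DRing.Cx A) [P.IsKProjective] {L L' : DRing.Cx A}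
    (f : L ⟶ L') [QuasiIso f] : QuasiIso (DRing.homCxMap P f) := by
  refine quasiIso_homCxMap P f (fun n => ?_)
  have hq : QuasiIso (f⟦n⟧') := inferInstance
  have : IsIso (DerivedCategory.Qh.map ((Hq A).map (f⟦n⟧'))) :=
    Localization.inverts DerivedCategory.Qh (HomotopyCategory.quasiIso _ _) _
      ((HomotopyCategory.quotient_map_mem_quasiIso_iff _).2 hq)
  have hb := fun X => CochainComplex.IsKProjective.Qh_map_bijective P X
  constructor
  · intro g₁ g₂ h
    apply (hb _).1
    have := congrArg DerivedCategory.Qh.map h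
    simp only [Functor.map_comp] at this
    exact (cancel_mono _).1 this
  · intro g
    obtain ⟨g', hg'⟩ := (hb _).2
      (DerivedCategory.Qh.map g ≫ inv (DerivedCategory.Qh.map ((Hq A).map (f⟦n⟧'))))
    exact ⟨g', (hb _).1 (by simp [hg'])⟩

/-- `Hom•(-, I)` sends quasi-isomorphisms to quasi-isomorphisms when `I` is K-injective. -/
theorem quasiIso_homCxPre_of_isKInjective {X X' : DRing.Cx A} (s : X ⟶ X') [QuasiIso s]
    (I : DRing.Cx A) [I.IsKInjective] : QuasiIso (homCxPre s I) := by
  refine quasiIso_homCxPre s I (fun n => ?_)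
  have hs : QuasiIso s := inferInstance
  have : IsIso (DerivedCategory.Qh.map ((Hq A).map s)) :=
    Localization.inverts DerivedCategory.Qh (HomotopyCategory.quasiIso _ _) _
      ((HomotopyCategory.quotient_map_mem_quasiIso_iff _).2 hs)
  have hb := fun K => CochainComplex.IsKInjective.Qh_map_bijective K (I⟦n⟧)
  constructor
  · intro g₁ g₂ h
    apply (hb _).1
    have := congrArg DerivedCategory.Qh.map h
    simp only [Functor.map_comp] at this
    exact (cancel_epi _).1 this
  · intro g
    obtain ⟨g', hg'⟩ := (hb _).2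
      (inv (DerivedCategory.Qh.map ((Hq A).map s)) ≫ DerivedCategory.Qh.map g)
    exact ⟨g', (hb _).1 (by simp [hg'])⟩

/-- `Hom•(E, -) ⋙ Q` is homotopy invariant. -/
lemma homCxQ_map_eq_of_homotopy (E : DRing.Cx A) ⦃K L : DRing.Cx A⦄ (f g : K ⟶ L)
    (h : Homotopy f g) : (DRing.homCxQ E).map f = (DRing.homCxQ E).map g :=
  h.map_eq_of_inverts_homotopyEquivalences (fun j => ⟨j - 1, by simp⟩) _ (fun K L f hf => by
    have := quasiIso_homCxMap_of_homotopyEquivalences E f hf
    exact inferInstanceAs (IsIso (DerivedCategory.Q.map (DRing.homCxMap E f))))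

/-- The unit `Q (Hom•(E, I)) ⟶ RHom(E, Q I)` is an isomorphism for `I` K-injective. -/
theorem isIso_RHomCx_unit_app (E : DRing.Cx A) [DRing.HasRHomCx E] (I : DRing.Cx A)
    (hI : I.IsKInjective) :
    IsIso (((DRing.homCxQ E).totalRightDerivedUnit DerivedCategory.Q
      (HomologicalComplex.quasiIso (ModuleCat.{u} A) (ComplexShape.up ℤ))).app I) :=
  CxUnit.isIso_unit_app (DRing.homCxQ E) (homCxQ_map_eq_of_homotopy E) (DRing.RHomCx E) _ hKinj I hI

/-- `RHom(E, Q I) ≅ Q (Hom•(E, I))` for `I` K-injective. -/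
noncomputable def RHomCxIso (E : DRing.Cx A) [DRing.HasRHomCx E] (I : DRing.Cx A)
    (hI : I.IsKInjective) :
    (DRing.RHomCx E).obj (DerivedCategory.Q.obj I) ≅ DerivedCategory.Q.obj (DRing.homCx E I) :=
  haveI := isIso_RHomCx_unit_app E I hI
  (asIso (((DRing.homCxQ E).totalRightDerivedUnit DerivedCategory.Q
      (HomologicalComplex.quasiIso (ModuleCat.{u} A) (ComplexShape.up ℤ))).app I)).symm

/-- `RHom(E, Q L) ≅ Q (Hom•(E, I))` for a K-injective resolution `L ⟶ I`. -/
noncomputable def RHomCxIsoOfRes (E : DRing.Cx A) [DRing.HasRHomCx E] {L I : DRing.Cx A}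
    (f : L ⟶ I) [QuasiIso f] (hI : I.IsKInjective) :
    (DRing.RHomCx E).obj (DerivedCategory.Q.obj L) ≅ DerivedCategory.Q.obj (DRing.homCx E I) :=
  (DRing.RHomCx E).mapIso (asIso (DerivedCategory.Q.map f)) ≪≫ RHomCxIso E I hI

/-- For `P` K-projective, `RHom(P, Q L) ≅ Q (Hom•(P, L))`. -/
theorem nonempty_RHomCx_iso_of_isKProjective (P : DRing.Cx A) [P.IsKProjective]
    [DRing.HasRHomCx P] (L : DRing.Cx A) :
    Nonempty ((DRing.RHomCx P).obj (DerivedCategory.Q.obj L) ≅
      DerivedCategory.Q.obj (DRing.homCx P L)) := by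
  obtain ⟨I, f, hI, hf⟩ := hKinj L
  have := quasiIso_homCxMap_of_isKProjective P f
  exact ⟨RHomCxIsoOfRes P f hI ≪≫ (asIso (DerivedCategory.Q.map (DRing.homCxMap P f))).symm⟩

/-- S6996 -/
theorem nonempty_RHomCx_iso_of_projective (P : DRing.Cx A) (b : ℤ) (hb : DRing.VanishesAbove P b)
    (hP : ∀ i : ℤ, Module.Projective A (P.X i)) [DRing.HasRHomCx P] (L : DRing.Cx A) :
    Nonempty ((DRing.RHomCx P).obj (DRing.toD L) ≅ DRing.toD (DRing.homCx P L)) := by
  have : P.IsStrictlyLE b := (CochainComplex.isStrictlyLE_iff P b).2 hb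
  have : ∀ n : ℤ, Projective (P.X n) := fun n =>
    (IsProjective.iff_projective (R := A) (P := P.X n)).1 (hP n)
  have : P.IsKProjective := isKProjective_of_projective P b
  exact nonempty_RHomCx_iso_of_isKProjective P L

end Groth.Agent.H84.RHom
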