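import Mathlib

/-!
# Local irreducibility / reducedness on locally Noetherian schemes (helper84)

* `exists_basicOpen_subset_zeroLocus`: Noetherian `A`, prime `p` with `nilradical A_p` prime:
  there are `f ∉ p` and a prime `q0` with `D(f) ⊆ V(q0)`.
* `exists_kill_nilradical`: Noetherian `A`, `A_p` reduced: some `f ∉ p` kills the nilradical.
* `isReduced_of_away`: `A_f` is reduced if `f` kills the nilradical.
* `exists_irreducible_nhd`, `exists_reduced_nhd`, `exists_integral_nhd`.
-/

set_option autoImplicit false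
universe u

namespace Groth.Agent.H84.LocNoeth

open AlgebraicGeometry CategoryTheory TopologicalSpace

section Algebra

variable {A S : Type*} [CommRing A] [CommRing S] [Algebra A S]

theorem exists_basicOpen_subset_zeroLocus [IsNoetherianRing A]
    (p : Ideal A) [p.IsPrime] [IsLocalization.AtPrime S p] (h : (nilradical S).IsPrime) :
    ∃ (f : A) (q0 : Ideal A), q0.IsPrime ∧ f ∉ p ∧ ∀ q : Ideal A, q.IsPrime → f ∉ q → q0 ≤ q := by
  classical
  set q0 : Ideal A := (nilradical S).comap (algebraMap A S) with hq0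
  have hq0p : q0.IsPrime := Ideal.IsPrime.comap _
  -- `q0` is the smallest prime contained in `p`
  have hsmall : ∀ q : Ideal A, q.IsPrime → q ≤ p → q0 ≤ q := by
    intro q hq hqp
    have hd : Disjoint (p.primeCompl : Set A) (q : Set A) := by
      rw [Set.disjoint_left]
      intro a ha haq
      exact ha (hqp haq)
    have hprime : (Ideal.map (algebraMap A S) q).IsPrime :=
      IsLocalization.isPrime_of_isPrime_disjoint p.primeCompl S q hq hd
    have hle : nilradical S ≤ Ideal.map (algebraMap A S) q := nilradical_le_prime _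
    have h1 := Ideal.comap_mono (f := algebraMap A S) hle
    have h2 : Ideal.comap (algebraMap A S) (Ideal.map (algebraMap A S) q) = q :=
      IsLocalization.under_map_of_isPrime_disjoint p.primeCompl S hq hd
    rw [h2] at h1
    exact h1
  have hfin : (minimalPrimes A).Finite := minimalPrimes.finite_of_isNoetherianRing A
  set s : Finset (Ideal A) := hfin.toFinset.filter (fun m => ¬ m ≤ p) with hs
  have hnot : ¬ s.inf id ≤ p := by
    intro hle
    obtain ⟨m, hm, hmp⟩ := (Ideal.IsPrime.inf_le' (s := s) (f := id) ‹p.IsPrime›).mp hle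
    rw [hs, Finset.mem_filter] at hm
    exact hm.2 hmp
  obtain ⟨f, hf, hfp⟩ := SetLike.not_le_iff_exists.mp hnot
  refine ⟨f, q0, hq0p, hfp, ?_⟩
  intro q hq hfq
  obtain ⟨m, hm, hmq⟩ := Ideal.exists_minimalPrimes_le (I := ⊥) (J := q) bot_le
  have hmprime : m.IsPrime := hm.1.1
  by_cases hmp : m ≤ p
  · exact (hsmall m hmprime hmp).trans hmq
  · exfalso
    apply hfq
    apply hmq
    have hms : m ∈ s := by
      rw [hs, Finset.mem_filter]
      exact ⟨hfin.mem_toFinset.mpr hm, hmp⟩
    have : s.inf id ≤ id m := Finset.inf_le hms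
    exact this hf

theorem exists_kill_nilradical [IsNoetherianRing A]
    (p : Ideal A) [hp : p.IsPrime] [IsLocalization.AtPrime S p] [IsReduced S] :
    ∃ f : A, f ∉ p ∧ ∀ n : A, IsNilpotent n → f * n = 0 := by
  have hsupp : (⟨p, hp⟩ : PrimeSpectrum A) ∉ Module.support A (nilradical A) := by
    rw [Module.notMem_support_iff']
    rintro ⟨m, hm⟩
    have hm' : IsNilpotent (algebraMap A S m) := (mem_nilradical.mp hm).map _
    have h0 : algebraMap A S m = 0 := hm'.eq_zero
    obtain ⟨r, hr⟩ := (IsLocalization.map_eq_zero_iff p.primeCompl S m).mp h0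
    refine ⟨r, r.2, ?_⟩
    ext
    simpa using hr
  rw [Module.mem_support_iff_of_finite] at hsupp
  obtain ⟨f, hf, hfp⟩ := SetLike.not_le_iff_exists.mp hsupp
  refine ⟨f, hfp, ?_⟩
  intro n hn
  have := Module.mem_annihilator.mp hf ⟨n, mem_nilradical.mpr hn⟩
  simpa using congrArg Subtype.val this

theorem isReduced_of_away {B : Type*} [CommRing B] [Algebra A B] (f : A)
    [IsLocalization.Away f B] (hf : ∀ n : A, IsNilpotent n → f * n = 0) : IsReduced B := by
  refine ⟨fun b hb => ?_⟩
  obtain ⟨⟨a, s⟩, hs⟩ := IsLocalization.surj (Submonoid.powers f) b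
  dsimp only at hs
  have hunit : IsUnit (algebraMap A B f) := IsLocalization.Away.algebraMap_isUnit f
  have hsunit : IsUnit (algebraMap A B s) := IsLocalization.map_units B s
  -- `algebraMap a` is nilpotent
  have ha : IsNilpotent (algebraMap A B a) := by
    rw [← hs]
    exact (Commute.all _ _).isNilpotent_mul_right hb
  obtain ⟨m, hm⟩ := ha
  rw [← map_pow] at hm
  obtain ⟨⟨c, k, rfl⟩, hc⟩ := (IsLocalization.map_eq_zero_iff (Submonoid.powers f) B (a ^ m)).mp hm
  dsimp only at hc
  -- `f * a` is nilpotent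
  have hfa : IsNilpotent (f * a) := by
    refine ⟨k + m, ?_⟩
    rw [mul_pow]
    calc f ^ (k + m) * a ^ (k + m) = f ^ m * a ^ k * (f ^ k * a ^ m) := by ring
      _ = 0 := by rw [hc, mul_zero]
  have h2 := hf _ hfa
  have h3 : algebraMap A B f * algebraMap A B f * algebraMap A B a = 0 := by
    rw [← map_mul, ← map_mul, mul_assoc, h2, map_zero]
  have h4 : algebraMap A B a = 0 := by
    have := (hunit.mul hunit).mul_right_eq_zero.mp h3
    exact this
  rw [h4] at hs
  exact hsunit.mul_left_eq_zero.mp hs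

end Algebra

section Geometry

variable (X : Scheme.{u}) [IsLocallyNoetherian X] (x : X)

theorem exists_irreducible_nhd (hx : (nilradical (X.presheaf.stalk x)).IsPrime) :
    ∃ U : X.Opens, x ∈ U ∧ IsIrreducible (U : Set X) := by
  obtain ⟨U, hU, hxU, -⟩ := exists_isAffineOpen_mem_and_subset (x := x) (U := ⊤) trivial
  have : IsNoetherianRing Γ(X, U) := IsLocallyNoetherian.component_noetherian ⟨U, hU⟩
  let := X.presheaf.algebra_section_stalk ⟨x, hxU⟩
  have := hU.isLocalization_stalk ⟨x, hxU⟩
  set y := hU.primeIdealOf ⟨x, hxU⟩ with hy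
  obtain ⟨f, q0, hq0, hfp, hq⟩ :=
    exists_basicOpen_subset_zeroLocus (S := X.presheaf.stalk x) y.asIdeal hx
  refine ⟨X.basicOpen f, ?_, ?_⟩
  · rw [← hU.fromSpec_image_basicOpen]
    exact ⟨y, hfp, hU.fromSpec_primeIdealOf ⟨x, hxU⟩⟩
  · rw [← hU.fromSpec_image_basicOpen]
    have hirr : IsIrreducible ((PrimeSpectrum.basicOpen f : Opens (PrimeSpectrum Γ(X, U))) :
        Set (PrimeSpectrum Γ(X, U))) := by
      refine ⟨⟨y, hfp⟩, ?_⟩
      have hV : IsIrreducible (PrimeSpectrum.zeroLocus (q0 : Set Γ(X, U))) :=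
        (PrimeSpectrum.isIrreducible_zeroLocus_iff_of_radical q0 hq0.isRadical).mpr hq0
      refine hV.isPreirreducible.open_subset (PrimeSpectrum.basicOpen f).isOpen ?_
      intro z hz
      exact hq z.asIdeal z.2 hz
    exact hirr.image _ hU.fromSpec.continuous.continuousOn

theorem exists_reduced_nhd [IsReduced (X.presheaf.stalk x)] :
    ∃ U : X.Opens, x ∈ U ∧ IsReduced (U : Scheme.{u}) := by
  obtain ⟨U, hU, hxU, -⟩ := exists_isAffineOpen_mem_and_subset (x := x) (U := ⊤) trivial
  have : IsNoetherianRing Γ(X, U) := IsLocallyNoetherian.component_noetherian ⟨U, hU⟩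
  let := X.presheaf.algebra_section_stalk ⟨x, hxU⟩
  have := hU.isLocalization_stalk ⟨x, hxU⟩
  set y := hU.primeIdealOf ⟨x, hxU⟩ with hy
  obtain ⟨f, hfp, hf⟩ := exists_kill_nilradical (S := X.presheaf.stalk x) y.asIdeal
  refine ⟨X.basicOpen f, ?_, ?_⟩
  · rw [← hU.fromSpec_image_basicOpen]
    exact ⟨y, hfp, hU.fromSpec_primeIdealOf ⟨x, hxU⟩⟩
  · have hW : IsAffineOpen (X.basicOpen f) := hU.basicOpen f
    have := hU.isLocalization_basicOpen f
    have : IsReduced Γ(X, X.basicOpen f) := isReduced_of_away f hf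
    have : IsReduced (Spec Γ(X, X.basicOpen f)) := (affine_isReduced_iff _).mpr inferInstance
    exact isReduced_of_isOpenImmersion hW.isoSpec.hom

theorem exists_integral_nhd [IsDomain (X.presheaf.stalk x)] :
    ∃ U : X.Opens, x ∈ U ∧ IsIntegral (U : Scheme.{u}) := by
  have hprime : (nilradical (X.presheaf.stalk x)).IsPrime := by
    rw [nilradical_eq_zero]
    exact Ideal.isPrime_bot
  obtain ⟨U₁, hx₁, hU₁⟩ := exists_irreducible_nhd X x hprime
  obtain ⟨U₂, hx₂, hU₂⟩ := exists_reduced_nhd X x
  refine ⟨U₁ ⊓ U₂, ⟨hx₁, hx₂⟩, ?_⟩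
  have hred : IsReduced ((U₁ ⊓ U₂ : X.Opens) : Scheme.{u}) :=
    isReduced_of_isOpenImmersion (X.homOfLE (inf_le_right : U₁ ⊓ U₂ ≤ U₂))
  have hirr : IsIrreducible ((U₁ ⊓ U₂ : X.Opens) : Set X) := by
    refine ⟨⟨x, hx₁, hx₂⟩, ?_⟩
    exact hU₁.isPreirreducible.open_subset (U₁ ⊓ U₂).isOpen Set.inter_subset_left
  have : IrreducibleSpace ((U₁ ⊓ U₂ : X.Opens) : Scheme.{u}) := Subtype.irreducibleSpace hirr
  exact isIntegral_of_irreducibleSpace_of_isReduced _

end Geometry

section Algebra2

variable {A S : Type*} [CommRing A] [CommRing S] [Algebra A S]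

theorem isPrime_nilradical_of_atPrime (p : Ideal A) [p.IsPrime] [IsLocalization.AtPrime S p]
    (h : (nilradical A).IsPrime) : (nilradical S).IsPrime := by
  have hNp : nilradical A ≤ p := nilradical_le_prime p
  have hd : Disjoint (p.primeCompl : Set A) (nilradical A : Set A) := by
    rw [Set.disjoint_left]
    intro a ha haq
    exact ha (hNp haq)
  have hP : (Ideal.map (algebraMap A S) (nilradical A)).IsPrime :=
    IsLocalization.isPrime_of_isPrime_disjoint p.primeCompl S _ h hd
  have heq : nilradical S = Ideal.map (algebraMap A S) (nilradical A) := by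
    apply le_antisymm
    · exact nilradical_le_prime _
    · rw [nilradical_eq_sInf S]
      refine le_sInf ?_
      intro J (hJ : J.IsPrime)
      have h1 : nilradical A ≤ Ideal.comap (algebraMap A S) J := nilradical_le_prime _
      have h2 := Ideal.map_mono (f := algebraMap A S) h1
      have h3 : Ideal.map (algebraMap A S) (Ideal.comap (algebraMap A S) J) = J :=
        IsLocalization.map_under p.primeCompl S J
      rw [h3] at h2
      exact h2
  rw [heq]
  exact hP

end Algebra2

section Geometry2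

variable (X : Scheme.{u})

theorem isPrime_nilradical_stalk_of_irreducibleSpace [IrreducibleSpace X] (x : X) :
    (nilradical (X.presheaf.stalk x)).IsPrime := by
  obtain ⟨U, hU, hxU, -⟩ := exists_isAffineOpen_mem_and_subset (x := x) (U := ⊤) trivial
  let _ := X.presheaf.algebra_section_stalk ⟨x, hxU⟩
  have := hU.isLocalization_stalk ⟨x, hxU⟩
  set y := hU.primeIdealOf ⟨x, hxU⟩ with hy
  refine isPrime_nilradical_of_atPrime (S := X.presheaf.stalk x) y.asIdeal ?_
  rw [← PrimeSpectrum.irreducibleSpace_iff_isPrime_nilradical, irreducibleSpace_def]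
  refine ⟨⟨y, trivial⟩, ?_⟩
  have h1 : IsPreirreducible (Set.univ : Set X) := (IrreducibleSpace.isIrreducible_univ X).2
  have h2 := h1.preimage (f := hU.fromSpec) hU.fromSpec.isOpenEmbedding
  rw [Set.preimage_univ] at h2
  exact h2

theorem irreducibleSpace_of_connected_of_isPrime_nilradical [IsLocallyNoetherian X]
    [ConnectedSpace X] (h : ∀ x : X, (nilradical (X.presheaf.stalk x)).IsPrime) :
    IrreducibleSpace X := by
  obtain ⟨x₀⟩ := (inferInstance : Nonempty X)
  obtain ⟨U₀, hx₀, hU₀⟩ := exists_irreducible_nhd X x₀ (h x₀)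
  have hZirr : IsIrreducible (closure (U₀ : Set X)) := hU₀.closure
  have hZopen : IsOpen (closure (U₀ : Set X)) := by
    rw [isOpen_iff_mem_nhds]
    intro y hy
    obtain ⟨V, hyV, hV⟩ := exists_irreducible_nhd X y (h y)
    have hsub : (V : Set X) ⊆ closure (U₀ : Set X) := by
      obtain ⟨w, hwV, hwU⟩ : ((V : Set X) ∩ (U₀ : Set X)).Nonempty := by
        have := mem_closure_iff.mp hy V V.isOpen hyV
        exact this
      intro z hz
      rw [mem_closure_iff]
      intro o ho hzo
      obtain ⟨t, htV, hto, htU⟩ := hV.isPreirreducible o U₀ ho U₀.isOpen ⟨z, hz, hzo⟩ ⟨w, hwV, hwU⟩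
      exact ⟨t, hto, htU⟩
    exact Filter.mem_of_superset (V.isOpen.mem_nhds hyV) hsub
  have hclopen : IsClopen (closure (U₀ : Set X)) := ⟨isClosed_closure, hZopen⟩
  have huniv : closure (U₀ : Set X) = Set.univ :=
    hclopen.eq_univ ⟨x₀, subset_closure hx₀⟩
  rw [irreducibleSpace_def]
  have : (⊤ : Set X) = closure (U₀ : Set X) := huniv.symm
  rw [this]
  exact hZirr

end Geometry2

end Groth.Agent.H84.LocNoeth
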