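import Mathlib
import Groth.Agent.H13.AlgClosedGeom
import Groth.Agent.H13.PullbackPts

/-!
# Geometric connectedness from a geometrically connected source (helper84)

`geometricallyConnected_of_hom`: `X` connected over a field `k`, `Y ⟶ X` a `k`-morphism from a
nonempty geometrically connected `k`-scheme; then `X` is geometrically connected over `k`.
-/

set_option autoImplicit false
universe u

namespace Groth.Agent.H84.GeomConn

open CategoryTheory AlgebraicGeometry Limits

variable {k : Type u} [Field k] {X Y : Scheme.{u}} (g : Y ⟶ X) (f : X ⟶ Spec (CommRingCat.of k))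

instance surjective_specMap_field (K : Type u) [Field K] [Algebra k K] :
    Surjective (Spec.map (CommRingCat.ofHom (algebraMap k K))) := by
  refine ⟨fun y => ⟨IsLocalRing.closedPoint K, ?_⟩⟩
  exact Subsingleton.elim (α := PrimeSpectrum k) _ _

/-- The case of an algebraic extension. -/
theorem connectedSpace_of_isPullback_of_algebraic [Nonempty Y] [ConnectedSpace X]
    [GeometricallyConnected (g ≫ f)]
    (K : Type u) [Field K] [Algebra k K] [Algebra.IsIntegral k K]
    {XK : Scheme.{u}} {fstX : XK ⟶ X} {sndX : XK ⟶ Spec (CommRingCat.of K)}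
    (hX : IsPullback fstX sndX f (Spec.map (CommRingCat.ofHom (algebraMap k K)))) :
    ConnectedSpace XK := by
  set s := Spec.map (CommRingCat.ofHom (algebraMap k K)) with hs
  -- properties of the projection
  have hint : IsIntegralHom s := by
    rw [hs, IsIntegralHom.SpecMap_iff]
    exact algebraMap_isIntegral_iff.mpr inferInstance
  have hsurj : Surjective fstX := MorphismProperty.of_isPullback (P := @Surjective) hX.flip
    (surjective_specMap_field K)
  have hintX : IsIntegralHom fstX := MorphismProperty.of_isPullback (P := @IsIntegralHom) hX.flip hint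
  have huo : UniversallyOpen s := by rw [hs]; infer_instance
  have huoX : UniversallyOpen fstX :=
    MorphismProperty.of_isPullback (P := @UniversallyOpen) hX.flip huo
  have hopen : IsOpenMap fstX := fstX.isOpenMap
  have hclosed : IsClosedMap fstX := fstX.isClosedMap
  -- the base change of `Y`
  have hYK : ConnectedSpace ↥(pullback (g ≫ f) s) :=
    pullback_of_geometrically
      (GeometricallyConnected.geometrically_connectedSpace (f := g ≫ f)) K s
  have sY : IsPullback (pullback.snd (g ≫ f) s) (pullback.fst (g ≫ f) s) s (g ≫ f) :=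
    (IsPullback.of_hasPullback (g ≫ f) s).flip
  have hleft := IsPullback.of_right' sY hX.flip
  set gK := hX.flip.lift (pullback.snd (g ≫ f) s) (pullback.fst (g ≫ f) s ≫ g)
    (by rw [sY.w, Category.assoc]) with hgK
  -- key claims
  have claim1 : ∀ T : Set XK, IsClopen T → T.Nonempty → fstX '' T = Set.univ := by
    intro T hT hne
    have hc : IsClopen (fstX '' T) := ⟨hclosed _ hT.1, hopen _ hT.2⟩
    exact hc.eq_univ (hne.image _)
  have claim2 : ∀ T : Set XK, IsClopen T → T.Nonempty → (Set.range gK ∩ T).Nonempty := by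
    intro T hT hne
    obtain ⟨y0⟩ := (inferInstance : Nonempty Y)
    have : g y0 ∈ fstX '' T := by rw [claim1 T hT hne]; trivial
    obtain ⟨z, hzT, hz⟩ := this
    obtain ⟨w, hw1, hw2⟩ := Groth.Agent.H13.exists_preimage_of_isPullback hleft z y0 hz
    exact ⟨z, ⟨w, hw1⟩, hzT⟩
  have hpre : _root_.IsPreconnected (Set.range gK) := isPreconnected_range gK.continuous
  rw [connectedSpace_iff_clopen]
  refine ⟨?_, ?_⟩
  · obtain ⟨y0⟩ := (inferInstance : Nonempty Y)
    obtain ⟨z, -⟩ := hsurj.surj (g y0)
    exact ⟨z⟩
  · intro T hT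
    by_contra hcon
    rw [not_or] at hcon
    obtain ⟨h1, h2⟩ := hcon
    have hne1 : T.Nonempty := Set.nonempty_iff_ne_empty.mpr h1
    have hne2 : Tᶜ.Nonempty := Set.nonempty_compl.mpr h2
    have s1 : Set.range gK ⊆ T := hpre.subset_isClopen hT (claim2 T hT hne1)
    have s2 : Set.range gK ⊆ Tᶜ := hpre.subset_isClopen hT.compl (claim2 Tᶜ hT.compl hne2)
    obtain ⟨z, hz, -⟩ := claim2 T hT hne1
    exact s2 hz (s1 hz)

theorem geometricallyConnected_of_hom [Nonempty Y] [ConnectedSpace X]
    [GeometricallyConnected (g ≫ f)] : GeometricallyConnected f := by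
  refine ⟨geometrically_iff_of_commRing_of_isClosedUnderIsomorphisms.mpr fun K _ _ => ?_⟩
  let kb := AlgebraicClosure k
  let Ω := AlgebraicClosure K
  let φ : kb →ₐ[k] Ω := IsAlgClosed.lift
  let _ : Algebra kb Ω := φ.toRingHom.toAlgebra
  have tower1 : (algebraMap kb Ω).comp (algebraMap k kb) = algebraMap k Ω := by
    ext x; exact φ.commutes x
  have tower2 : (algebraMap K Ω).comp (algebraMap k K) = algebraMap k Ω :=
    (IsScalarTower.algebraMap_eq k K Ω).symm
  let s₁ := Spec.map (CommRingCat.ofHom (algebraMap k kb))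
  let s₂ := Spec.map (CommRingCat.ofHom (algebraMap kb Ω))
  let sK := Spec.map (CommRingCat.ofHom (algebraMap k K))
  let sKΩ := Spec.map (CommRingCat.ofHom (algebraMap K Ω))
  have hs : s₂ ≫ s₁ = sKΩ ≫ sK := by
    simp only [s₁, s₂, sK, sKΩ, ← Spec.map_comp, ← CommRingCat.ofHom_comp, tower1, tower2]
  let f₁ : pullback f s₁ ⟶ Spec (CommRingCat.of kb) := pullback.snd f s₁
  have hX₁ : ConnectedSpace ↥(pullback f s₁) :=
    connectedSpace_of_isPullback_of_algebraic g f kb (IsPullback.of_hasPullback f s₁)
  have hgc : GeometricallyConnected s₂ :=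
    Groth.Agent.H13.geometricallyConnected_specMap_of_isAlgClosed kb Ω
  have hX₂ : ConnectedSpace ↥(pullback f₁ s₂) := inferInstance
  have A := IsPullback.of_hasPullback f₁ s₂
  have B := IsPullback.of_hasPullback f s₁
  have outer := A.paste_horiz B
  rw [hs] at outer
  have t := IsPullback.of_hasPullback f sK
  have left := IsPullback.of_right' outer t
  have hq : Surjective (t.lift (pullback.fst f₁ s₂ ≫ pullback.fst f s₁)
      (pullback.snd f₁ s₂ ≫ sKΩ) (by rw [outer.w, Category.assoc])) :=
    MorphismProperty.of_isPullback (P := @Surjective) left.flip (surjective_specMap_field Ω)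
  exact hq.surj.connectedSpace (Scheme.Hom.continuous _)

end Groth.Agent.H84.GeomConn
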