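import Mathlib
import Groth.Agent.H84.RHomUnit

set_option backward.isDefEq.respectTransparency false
set_option backward.isDefEq.respectTransparency.types false
set_option autoImplicit false

/-!
# The dual `Hom•(P, A[0])` of a complex and biduality for bounded complexes of finite projectives
-/

universe u

open CategoryTheory CategoryTheory.Limits CochainComplex CochainComplex.HomComplex

namespace Groth.Agent.H84.RHom

attribute [local instance] HasDerivedCategory.standard

variable {A : Type u} [CommRing A]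

/-- the ring in degree `0` -/
noncomputable abbrev S0 (A : Type u) [CommRing A] : DRing.Cx A :=
  (CochainComplex.singleFunctor (ModuleCat.{u} A) 0).obj (ModuleCat.of A A)

/-- cochains to `A[0]` of degree `n` are linear forms on the term of degree `-n` -/
noncomputable def eX (X : DRing.Cx A) (p n : ℤ) (h : p + n = 0) :
    Cochain X (S0 A) n ≃ₗ[A] (X.X p →ₗ[A] A) :=
  ({ Cochain.toSingleEquiv (K := X) (X := ModuleCat.of A A) h with
      map_smul' := fun a α => by
        simp [Cochain.toSingleEquiv] } :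
    Cochain X (S0 A) n ≃ₗ[A] (X.X p ⟶ ModuleCat.of A A)) ≪≫ₗ ModuleCat.homLinearEquiv

lemma eX_apply (X : DRing.Cx A) (p n : ℤ) (h : p + n = 0) (α : Cochain X (S0 A) n) :
    eX X p n h α =
      (α.v p 0 h ≫ (HomologicalComplex.singleObjXSelf (ComplexShape.up ℤ) 0
        (ModuleCat.of A A)).hom).hom := rfl

lemma eX_δ (X : DRing.Cx A) (n m : ℤ) (hnm : n + 1 = m) (p p' : ℤ) (h : p + n = 0)
    (h' : p' + m = 0) (α : Cochain X (S0 A) n) :
    eX X p' m h' (δ n m α) = ((m.negOnePow : ℤˣ) : ℤ) • (eX X p n h α) ∘ₗ (X.d p' p).hom := by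
  rw [eX_apply, eX_apply, δ_v n m hnm α p' 0 h' (-1) p (by lia) (by lia)]
  have : (S0 A).d (-1) 0 = 0 := HomologicalComplex.single_obj_d _ _ _ _ _
  rw [this, comp_zero, zero_add]
  ext x
  simp [Units.smul_def]

/-- the dual complex -/
noncomputable abbrev dualCx (X : DRing.Cx A) : DRing.Cx A := DRing.homCx X (S0 A)

lemma vanishesOutside_dualCx (X : DRing.Cx A) (a b : ℤ) (hX : DRing.VanishesOutside X a b) :
    DRing.VanishesOutside (dualCx X) (-b) (-a) := by
  intro i hi
  have hz : IsZero (X.X (-i)) := hX (-i) (by lia)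
  have : Subsingleton (X.X (-i)) := ModuleCat.subsingleton_of_isZero hz
  have : Subsingleton ((dualCx X).X i) :=
    (eX X (-i) i (by lia)).toEquiv.subsingleton
  exact ModuleCat.isZero_of_subsingleton _

lemma termwiseFiniteProjective_dualCx (X : DRing.Cx A) (hX : DRing.TermwiseFiniteProjective X) :
    DRing.TermwiseFiniteProjective (dualCx X) := by
  intro i
  obtain ⟨h1, h2⟩ := hX (-i)
  let e := eX X (-i) i (by lia)
  have f1 : Module.Finite A (X.X (-i) →ₗ[A] A) := Module.dual_finite
  have f2 : Module.Projective A (X.X (-i) →ₗ[A] A) := Module.dual_projective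
  exact ⟨Module.Finite.equiv e.symm, Module.Projective.of_equiv e.symm⟩

lemma isKProjective_of_perf (X : DRing.Cx A) (a b : ℤ) (hX : DRing.VanishesOutside X a b)
    (hX' : DRing.TermwiseFiniteProjective X) : X.IsKProjective := by
  have : X.IsStrictlyLE b := (CochainComplex.isStrictlyLE_iff X b).2 (fun i hi => hX i (Or.inr hi))
  have : ∀ n : ℤ, Projective (X.X n) := fun n =>
    (IsProjective.iff_projective (R := A) (P := X.X n)).1 (hX' n).2
  exact isKProjective_of_projective X b

/-- the sign `(-1)^n` as an integer -/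
def sgn (n : ℤ) : ℤ := ((n.negOnePow : ℤˣ) : ℤ)

lemma sgn_mul_sgn_neg (n : ℤ) : sgn n * sgn (-n) = 1 := by
  simp [sgn, Int.negOnePow_neg, ← Units.val_mul]

/-- the biduality map in degree `n`, with the sign `(-1)^n` -/
noncomputable def θlin (P : DRing.Cx A) (n : ℤ) : P.X n →ₗ[A] Cochain (dualCx P) (S0 A) n :=
  sgn n • (((eX (dualCx P) (-n) n (by lia)).symm.toLinearMap ∘ₗ
    (eX P n (-n) (by lia)).dualMap.toLinearMap) ∘ₗ Module.Dual.eval A (P.X n))

lemma eX_θlin (P : DRing.Cx A) (n : ℤ) (x : P.X n) (β : Cochain P (S0 A) (-n)) :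
    eX (dualCx P) (-n) n (by lia) (θlin P n x) β = sgn n * eX P n (-n) (by lia) β x := by
  simp [θlin]
  rfl

lemma θlin_d (P : DRing.Cx A) (n m : ℤ) (hnm : n + 1 = m) (x : P.X n) :
    θlin P m ((P.d n m).hom x) = δ n m (θlin P n x) := by
  apply (eX (dualCx P) (-m) m (by lia)).injective
  ext β
  rw [eX_θlin, eX_δ (dualCx P) n m hnm (-n) (-m) (by lia) (by lia)]
  simp only [LinearMap.smul_apply, LinearMap.comp_apply]
  have hd : ((dualCx P).d (-m) (-n)).hom β = δ (-m) (-n) β := rfl
  rw [hd, eX_θlin, eX_δ P (-m) (-n) (by lia) m n (by lia) (by lia)]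
  simp only [LinearMap.smul_apply, LinearMap.comp_apply]
  have h1 : ((sgn n : ℤ) : A) * (((-n).negOnePow : ℤˣ) : ℤ) = 1 := by
    rw [← Int.cast_mul]
    change ((sgn n * sgn (-n) : ℤ) : A) = 1
    rw [sgn_mul_sgn_neg, Int.cast_one]
  generalize ((eX P m (-m) (by lia)) β) ((ModuleCat.Hom.hom (P.d n m)) x) = y
  rw [zsmul_eq_mul, zsmul_eq_mul, ← mul_assoc (sgn n : A), h1, one_mul]
  rfl

lemma sgn_mul_self (n : ℤ) : sgn n * sgn n = 1 := by
  simp [sgn, ← Units.val_mul]

lemma bijective_θlin (P : DRing.Cx A) (n : ℤ) [Module.Finite A (P.X n)]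
    [Module.Projective A (P.X n)] : Function.Bijective (θlin P n) := by
  let g : P.X n →ₗ[A] Cochain (dualCx P) (S0 A) n :=
    ((eX (dualCx P) (-n) n (by lia)).symm.toLinearMap ∘ₗ
      (eX P n (-n) (by lia)).dualMap.toLinearMap) ∘ₗ Module.Dual.eval A (P.X n)
  have hg : Function.Bijective g := by
    have h1 := Module.bijective_dual_eval A (P.X n)
    exact ((eX (dualCx P) (-n) n (by lia)).symm.bijective.comp
      (eX P n (-n) (by lia)).dualMap.bijective).comp h1
  have hθ : ∀ x, θlin P n x = sgn n • g x := fun x => rfl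
  have hs : ∀ y : Cochain (dualCx P) (S0 A) n, sgn n • sgn n • y = y := fun y => by
    rw [smul_smul, sgn_mul_self, one_smul]
  constructor
  · intro x y h
    rw [hθ, hθ] at h
    have := congrArg (fun z => sgn n • z) h
    simp only [hs] at this
    exact hg.1 this
  · intro y
    obtain ⟨x, hx⟩ := hg.2 (sgn n • y)
    exact ⟨x, by rw [hθ, hx, hs]⟩

/-- the biduality map `P ⟶ P^∨∨` -/
noncomputable def θ (P : DRing.Cx A) : P ⟶ dualCx (dualCx P) where
  f n := ModuleCat.ofHom (θlin P n)
  comm' n m hnm := by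
    ext x
    exact (θlin_d P n m hnm x).symm

lemma isIso_θ (P : DRing.Cx A) (hP : DRing.TermwiseFiniteProjective P) : IsIso (θ P) := by
  have : ∀ n, IsIso ((θ P).f n) := fun n => by
    have := (hP n).1
    have := (hP n).2
    exact (ConcreteCategory.isIso_iff_bijective _).2 (bijective_θlin P n)
  exact HomologicalComplex.Hom.isIso_of_components _

/-- lifting an isomorphism in `D(A)` with K-projective source to a quasi-isomorphism of complexes -/
lemma exists_quasiIso_of_iso (P E : DRing.Cx A) [P.IsKProjective]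
    (e : DRing.toD P ≅ DRing.toD E) : ∃ s : P ⟶ E, QuasiIso s := by
  let φ : DerivedCategory.Qh.obj ((Hq A).obj P) ⟶ DerivedCategory.Qh.obj ((Hq A).obj E) :=
    (DerivedCategory.quotientCompQhIso _).hom.app P ≫ e.hom ≫
      (DerivedCategory.quotientCompQhIso _).inv.app E
  obtain ⟨g, hg⟩ := (CochainComplex.IsKProjective.Qh_map_bijective P _).2 φ
  obtain ⟨s, rfl⟩ := (Hq A).map_surjective g
  refine ⟨s, ?_⟩
  rw [← DerivedCategory.isIso_Q_map_iff_quasiIso]
  have h : DerivedCategory.Q.map s = e.hom := by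
    have nat := (DerivedCategory.quotientCompQhIso (ModuleCat.{u} A)).hom.naturality s
    dsimp only [Functor.comp_map] at nat
    rw [hg] at nat
    simp only [φ, Category.assoc, Iso.inv_hom_id_app, Category.comp_id] at nat
    exact ((cancel_epi _).1 nat).symm
  rw [h]
  infer_instance

/-- the dual of a complex isomorphic in `D(A)` to a K-projective complex `P` is computed by
`Hom•(P, A[0])` -/
theorem nonempty_dual_iso (E : DRing.Cx A) [DRing.HasRHomCx E] (P : DRing.Cx A) [P.IsKProjective]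
    (e : DRing.toD P ≅ DRing.toD E) :
    Nonempty ((DRing.RHomCx E).obj (Dual.inD A A) ≅ DRing.toD (dualCx P)) := by
  obtain ⟨s, hs⟩ := exists_quasiIso_of_iso P E e
  obtain ⟨I, j, hI, hj⟩ := hKinj (S0 A)
  have h1 : QuasiIso (homCxPre s I) := quasiIso_homCxPre_of_isKInjective s I
  have h2 : QuasiIso (DRing.homCxMap P j) := quasiIso_homCxMap_of_isKProjective P j
  let e0 : Dual.inD A A ≅ DerivedCategory.Q.obj (S0 A) :=
    (DerivedCategory.singleFunctorIsoCompQ (ModuleCat.{u} A) 0).app (ModuleCat.of A A)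
  exact ⟨(DRing.RHomCx E).mapIso e0 ≪≫ RHomCxIsoOfRes E j hI ≪≫
    asIso (DerivedCategory.Q.map (homCxPre s I)) ≪≫
    (asIso (DerivedCategory.Q.map (DRing.homCxMap P j))).symm⟩

/-- S6963 -/
theorem dual_perfect (K : Dual.D A) (hK : DRing.IsPerfect A K)
    (E : DRing.Cx A) (eK : DRing.toD E ≅ K) [DRing.HasRHomCx E] :
    DRing.IsPerfect A ((DRing.RHomCx E).obj (Dual.inD A A)) ∧
      ∀ (E' : DRing.Cx A) (_ : DRing.toD E' ≅ (DRing.RHomCx E).obj (Dual.inD A A))
        [DRing.HasRHomCx E'], Nonempty ((DRing.RHomCx E').obj (Dual.inD A A) ≅ K) := by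
  obtain ⟨P, a, b, hP1, hP2, ⟨eP⟩⟩ := hK
  have : P.IsKProjective := isKProjective_of_perf P a b hP1 hP2
  obtain ⟨d1⟩ := nonempty_dual_iso E P (eP ≪≫ eK.symm)
  refine ⟨⟨dualCx P, -b, -a, vanishesOutside_dualCx P a b hP1,
    termwiseFiniteProjective_dualCx P hP2, ⟨d1.symm⟩⟩, ?_⟩
  intro E' eK' _
  have : (dualCx P).IsKProjective := isKProjective_of_perf _ (-b) (-a)
    (vanishesOutside_dualCx P a b hP1) (termwiseFiniteProjective_dualCx P hP2)
  obtain ⟨d2⟩ := nonempty_dual_iso E' (dualCx P) (d1.symm ≪≫ eK'.symm)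
  have := isIso_θ P hP2
  exact ⟨d2 ≪≫ (asIso (DerivedCategory.Q.map (θ P))).symm ≪≫ eP⟩

end Groth.Agent.H84.RHom
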