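import Mathlib
import Groth.Agent.H84.RHomUnit
import Groth.Agent.H30.KInjAdj

set_option backward.isDefEq.respectTransparency false
set_option backward.isDefEq.respectTransparency.types false
set_option autoImplicit false

/-!
# `RHom` out of a module placed in degree `0`; `RHom(A_f, RHom(A_g, K)) ≅ RHom(A_{fg}, K)`
-/

universe u

open CategoryTheory CategoryTheory.Limits CochainComplex CochainComplex.HomComplex MonoidalCategory

namespace Groth.Agent.H84.RHom

attribute [local instance] HasDerivedCategory.standard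

variable {A : Type u} [CommRing A]

/-- a module in degree `0` -/
noncomputable abbrev sgl (M : ModuleCat.{u} A) : DRing.Cx A :=
  (HomologicalComplex.single (ModuleCat.{u} A) (ComplexShape.up ℤ) 0).obj M

/-- `Hom(M, -)` applied termwise -/
noncomputable abbrev Hc (M : ModuleCat.{u} A) : DRing.Cx A ⥤ DRing.Cx A :=
  (ihom M).mapHomologicalComplex (ComplexShape.up ℤ)

/-- cochains of degree `n` out of `M[0]` are maps `M ⟶ I^n` -/
noncomputable def eS (M : ModuleCat.{u} A) (I : DRing.Cx A) (n : ℤ) :
    Cochain (sgl M) I n ≃ₗ[A] (M ⟶ I.X n) :=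
  { Cochain.fromSingleEquiv (X := M) (K := I) (zero_add n) with
      map_smul' := fun a α => by
        simp [Cochain.fromSingleEquiv] }

lemma eS_symm_apply (M : ModuleCat.{u} A) (I : DRing.Cx A) (n : ℤ) (f : M ⟶ I.X n) :
    (eS M I n).symm f = Cochain.fromSingleMk f (zero_add n) := rfl

/-- `Hom•(M[0], I)` is `Hom(M, -)` applied termwise to `I` -/
noncomputable def homSingleIso (M : ModuleCat.{u} A) (I : DRing.Cx A) :
    DRing.homCx (sgl M) I ≅ (Hc M).obj I :=
  HomologicalComplex.Hom.isoOfComponents (fun n => (eS M I n).toModuleIso) (by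
    intro i j hij
    ext (α : Cochain (sgl M) I i)
    obtain ⟨f, rfl⟩ := (eS M I i).symm.surjective α
    change (eS M I i ((eS M I i).symm f)) ≫ I.d i j = eS M I j (δ i j ((eS M I i).symm f))
    rw [LinearEquiv.apply_symm_apply, eS_symm_apply, Cochain.δ_fromSingleMk f (zero_add i) j j
      (zero_add j), ← eS_symm_apply, LinearEquiv.apply_symm_apply])

instance (M : ModuleCat.{u} A) : (ihom M).Additive :=
  (ihom.adjunction M).right_adjoint_additive

/-- `Hom(M, I)` is K-injective for `M` flat and `I` K-injective -/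
lemma isKInjective_Hc (M : ModuleCat.{u} A) [Module.Flat A M] (I : DRing.Cx A) [I.IsKInjective] :
    ((Hc M).obj I).IsKInjective := by
  have : PreservesFiniteColimits (tensorLeft M) :=
    ⟨fun _ => (ihom.adjunction M).leftAdjoint_preservesColimits.preservesColimitsOfShape⟩
  exact Groth.Agent.H30.KInjAdj.isKInjective_map (ihom.adjunction M) I

/-- `RHom(M[0], Q I) ≅ Q (Hom(M, I))` for `I` K-injective -/
noncomputable def RHomSingleIso (M : ModuleCat.{u} A) [DRing.HasRHomCx (sgl M)] (I : DRing.Cx A)
    (hI : I.IsKInjective) :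
    (DRing.RHomCx (sgl M)).obj (DerivedCategory.Q.obj I) ≅ DerivedCategory.Q.obj ((Hc M).obj I) :=
  RHomCxIso (sgl M) I hI ≪≫ DerivedCategory.Q.mapIso (homSingleIso M I)

/-- `Hom(N, Hom(M, -)) ≅ Hom(P, -)` when `M ⊗ N ≅ P` -/
noncomputable def ihomCompIso (M N P : ModuleCat.{u} A) (e : M ⊗ N ≅ P) :
    ihom M ⋙ ihom N ≅ ihom P :=
  Adjunction.rightAdjointUniq
    ((((ihom.adjunction N).comp (ihom.adjunction M)).ofNatIsoLeft
      ((tensorLeftTensor M N).symm ≪≫ (tensoringLeft _).mapIso e)))
    (ihom.adjunction P)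

/-- `Hom(N, Hom(M, I)) ≅ Hom(P, I)` on complexes -/
noncomputable def HcCompIso (M N P : ModuleCat.{u} A) (e : M ⊗ N ≅ P) (I : DRing.Cx A) :
    (Hc N).obj ((Hc M).obj I) ≅ (Hc P).obj I :=
  HomologicalComplex.Hom.isoOfComponents (fun n => (ihomCompIso M N P e).app (I.X n)) (by
    intro i j _
    exact ((ihomCompIso M N P e).hom.naturality (I.d i j)).symm)

lemma isLocalization_away_tensor (f g : A) :
    IsLocalization.Away (f * g)
      (TensorProduct A (Localization.Away g) (Localization.Away f)) := by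
  have h1 : IsLocalization.Away (algebraMap A (Localization.Away g) f)
      (TensorProduct A (Localization.Away g) (Localization.Away f)) := inferInstance
  have h2 := IsLocalization.Away.mul' (Localization.Away g)
    (TensorProduct A (Localization.Away g) (Localization.Away f)) g f
  rwa [mul_comm] at h2

/-- `A_g ⊗ A_f ≅ A_{fg}` -/
noncomputable def awayTensorIso (f g : A) :
    ModuleCat.of A (Localization.Away g) ⊗ ModuleCat.of A (Localization.Away f) ≅
      ModuleCat.of A (Localization.Away (f * g)) :=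
  haveI := isLocalization_away_tensor f g
  LinearEquiv.toModuleIso
    (IsLocalization.algEquiv (Submonoid.powers (f * g))
      (TensorProduct A (Localization.Away g) (Localization.Away f))
      (Localization.Away (f * g))).toLinearEquiv

/-- S7099 -/
theorem nonempty_RHom_away_iso (f g : A)
    [DRing.HasRHomCx (sgl (ModuleCat.of A (Localization.Away f)))]
    [DRing.HasRHomCx (sgl (ModuleCat.of A (Localization.Away g)))]
    [DRing.HasRHomCx (sgl (ModuleCat.of A (Localization.Away (f * g))))]
    (K : Dual.D A) :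
    Nonempty ((DRing.RHomCx (sgl (ModuleCat.of A (Localization.Away f)))).obj
        ((DRing.RHomCx (sgl (ModuleCat.of A (Localization.Away g)))).obj K) ≅
      (DRing.RHomCx (sgl (ModuleCat.of A (Localization.Away (f * g))))).obj K) := by
  let Mf := ModuleCat.of A (Localization.Away f)
  let Mg := ModuleCat.of A (Localization.Away g)
  let Mfg := ModuleCat.of A (Localization.Away (f * g))
  obtain ⟨I, j, hI, hj⟩ := hKinj (DerivedCategory.Q.objPreimage K)
  let eK : K ≅ DerivedCategory.Q.obj I :=
    (DerivedCategory.Q.objObjPreimageIso K).symm ≪≫ asIso (DerivedCategory.Q.map j)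
  have : Module.Flat A Mg := inferInstanceAs (Module.Flat A (Localization.Away g))
  have hI' : ((Hc Mg).obj I).IsKInjective := isKInjective_Hc Mg I
  let e1 : (DRing.RHomCx (sgl Mg)).obj K ≅ DerivedCategory.Q.obj ((Hc Mg).obj I) :=
    (DRing.RHomCx (sgl Mg)).mapIso eK ≪≫ RHomSingleIso Mg I hI
  let e2 : (DRing.RHomCx (sgl Mf)).obj ((DRing.RHomCx (sgl Mg)).obj K) ≅
      DerivedCategory.Q.obj ((Hc Mf).obj ((Hc Mg).obj I)) :=
    (DRing.RHomCx (sgl Mf)).mapIso e1 ≪≫ RHomSingleIso Mf _ hI'
  let e3 : (DRing.RHomCx (sgl Mfg)).obj K ≅ DerivedCategory.Q.obj ((Hc Mfg).obj I) :=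
    (DRing.RHomCx (sgl Mfg)).mapIso eK ≪≫ RHomSingleIso Mfg I hI
  exact ⟨e2 ≪≫ DerivedCategory.Q.mapIso (HcCompIso Mg Mf Mfg (awayTensorIso f g) I) ≪≫ e3.symm⟩

end Groth.Agent.H84.RHom
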