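import Groth.Agent.H84.GerbeBC

set_option autoImplicit false
open CategoryTheory
universe v₅ u₅ v₄ u₄ v₃ u₃ v₂ u₂ v u

namespace Groth.Agent.H84

variable {C : Type u} [Category.{v} C] (J : GrothendieckTopology C)

section Equiv

variable {𝒳 : BasedCategory.{v₂, u₂} C} {𝒴 : BasedCategory.{v₃, u₃} C}
  {𝒵 : BasedCategory.{v₄, u₄} C}

/-- An equivalence over `C` is essentially surjective over identities, with isomorphisms. -/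
theorem equivOver_essSurj {E : 𝒳 ⥤ᵇ 𝒴} (hE : FibCat.IsEquivOver E) (y : 𝒴.obj) :
    ∃ (x : 𝒳.obj) (ε : E.obj x ≅ y), 𝒴.p.IsHomLift (𝟙 (𝒴.p.obj y)) ε.hom := by
  obtain ⟨G, ⟨η⟩, ⟨ε⟩⟩ := hE
  let counitIso : G.toFunctor ⋙ E.toFunctor ≅ 𝟭 𝒴.obj := (BasedNatTrans.forgetful _ _).mapIso ε
  exact ⟨G.obj y, counitIso.app y, ε.hom.isHomLift' y⟩

/-- Cancellation: if `E` is an equivalence over `C` and `E ⋙ H` is a gerbe, then `H` is a gerbe. -/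
theorem isGerbeOver_of_equiv_comp (E : 𝒳 ⥤ᵇ 𝒴) (hE : FibCat.IsEquivOver E) (H : 𝒴 ⥤ᵇ 𝒵)
    (hH : Gerb.IsGerbeOver J (BasedFunctor.comp E H)) : Gerb.IsGerbeOver J H := by
  refine ⟨?_, ?_⟩
  · intro z
    obtain ⟨R, hR, hRz⟩ := hH.1 z
    refine ⟨R, hR, fun V f hf => ?_⟩
    obtain ⟨x, g, hg⟩ := hRz f hf
    exact ⟨E.obj x, g, hg⟩
  · intro y y' b hb
    obtain ⟨x, ε, hε⟩ := equivOver_essSurj hE y
    obtain ⟨x', ε', hε'⟩ := equivOver_essSurj hE y'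
    have hy' : 𝒴.p.obj y' = 𝒴.p.obj y := by
      have h1 := IsHomLift.codomain_eq 𝒵.p (𝟙 (𝒴.p.obj y)) b
      exact (H.w_obj y').symm.trans h1
    have hε'' : 𝒴.p.IsHomLift (𝟙 (𝒴.p.obj y)) ε'.hom := by rw [← hy']; exact hε'
    have hε'inv : 𝒴.p.IsHomLift (𝟙 (𝒴.p.obj y)) ε'.inv := IsHomLift.lift_id_inv 𝒴.p _ ε'
    have h1 : 𝒵.p.IsHomLift (𝟙 (𝒴.p.obj y)) (H.map ε.hom) := inferInstance
    have h2 : 𝒵.p.IsHomLift (𝟙 (𝒴.p.obj y)) (H.map ε'.inv) := inferInstance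
    have h3 : 𝒵.p.IsHomLift (𝟙 (𝒴.p.obj y)) b := hb
    let bt : H.obj (E.obj x) ⟶ H.obj (E.obj x') := H.map ε.hom ≫ b ≫ H.map ε'.inv
    have hbt : 𝒵.p.IsHomLift (𝟙 (𝒴.p.obj y)) bt := inferInstance
    obtain ⟨R, hR, hRb⟩ := locSurjHom_free J hH.2 x x' bt hbt
    refine ⟨R, hR, fun V f hf => ?_⟩
    obtain ⟨x₀, φ, ψ, hφ, hψ, hφψ⟩ := hRb f hf
    have h4 : 𝒴.p.IsHomLift f (E.map φ) := inferInstance
    have h5 : 𝒴.p.IsHomLift f (E.map ψ) := inferInstance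
    have h6 : 𝒴.p.IsHomLift f (E.map φ ≫ ε.hom) := inferInstance
    have h7 : 𝒴.p.IsHomLift f (E.map ψ ≫ ε'.hom) := inferInstance
    refine ⟨E.obj x₀, E.map φ ≫ ε.hom, E.map ψ ≫ ε'.hom, h6, h7, ?_⟩
    have key : H.map (E.map φ) ≫ bt = H.map (E.map ψ) := hφψ
    rw [H.map_comp, H.map_comp, ← key]
    simp only [bt, Category.assoc, ← H.map_comp, Iso.inv_hom_id, H.map_id, Category.comp_id]
    simp

end Equiv

section Fp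

variable {𝒳 : BasedCategory.{v₂, u₂} C} {𝒴 : BasedCategory.{v₃, u₃} C}
  {𝒴' : BasedCategory.{v₄, u₄} C}

/-- Descent of the gerbe property along a base change which is locally surjective on objects. -/
theorem isGerbeOver_of_fpFst (fX : FibCat.IsFibGrpd 𝒳.p) (fY : FibCat.IsFibGrpd 𝒴.p)
    (F : 𝒳 ⥤ᵇ 𝒴) (G : 𝒴' ⥤ᵇ 𝒴) (hG : Gerb.LocSurjObj J G)
    (hF' : Gerb.IsGerbeOver J (FibCat.fpFst G F)) : Gerb.IsGerbeOver J F := by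
  refine ⟨?_, ?_⟩
  · intro y
    obtain ⟨R, hR, hRy⟩ := hG y
    refine exists_cover_of_local J
      (fun V k => ∃ (x : 𝒳.obj) (g : F.obj x ⟶ y), 𝒴.p.IsHomLift k g) R hR ?_
    intro V f hf
    obtain ⟨y', g, hg⟩ := hRy f hf
    have hy' : 𝒴'.p.obj y' = V := (G.w_obj y').symm.trans (IsHomLift.domain_eq 𝒴.p f g)
    obtain ⟨R', hR', hR'y⟩ := locSurjObj_free J hF'.1 y' hy'
    refine ⟨R', hR', fun W k hk => ?_⟩
    obtain ⟨ξ, lam, hlam⟩ := hR'y k hk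
    let lam' : ξ.obj.fst ⟶ y' := lam
    have hlam' : 𝒴'.p.IsHomLift k lam' := hlam
    have hW : 𝒴'.p.obj ξ.obj.fst = W := IsHomLift.domain_eq 𝒴'.p k lam'
    have hi : 𝒴.p.IsHomLift (𝟙 W) ξ.obj.iso.hom := by
      have := ξ.property
      change 𝒴.p.IsHomLift (𝟙 (𝒴'.p.obj ξ.obj.fst)) ξ.obj.iso.hom at this
      rw [hW] at this; exact this
    have hi' : 𝒴.p.IsHomLift (𝟙 W) ξ.obj.iso.inv := IsHomLift.lift_id_inv 𝒴.p W ξ.obj.iso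
    have h1 : 𝒴.p.IsHomLift k (G.map lam') := inferInstance
    have h2 : 𝒴.p.IsHomLift f g := hg
    have h3 : 𝒴.p.IsHomLift (k ≫ f) (G.map lam' ≫ g) := inferInstance
    have h4 : 𝒴.p.IsHomLift (k ≫ f) (ξ.obj.iso.inv ≫ G.map lam' ≫ g) := inferInstance
    exact ⟨ξ.obj.snd, ξ.obj.iso.inv ≫ G.map lam' ≫ g, h4⟩
  · intro x₁ x₂ b hb
    obtain ⟨R, hR, hRy⟩ := locSurjObj_free J hG (F.obj x₁) (F.w_obj x₁)
    refine exists_cover_of_local J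
      (fun V k => ∃ (x₀ : 𝒳.obj) (φ : x₀ ⟶ x₁) (ψ : x₀ ⟶ x₂),
        𝒳.p.IsHomLift k φ ∧ 𝒳.p.IsHomLift k ψ ∧ F.map φ ≫ b = F.map ψ) R hR ?_
    intro V f hf
    obtain ⟨y', g, hg⟩ := hRy f hf
    have hy' : 𝒴'.p.obj y' = V := (G.w_obj y').symm.trans (IsHomLift.domain_eq 𝒴.p f g)
    have hx₂ : 𝒳.p.obj x₂ = 𝒳.p.obj x₁ :=
      (F.w_obj x₂).symm.trans (IsHomLift.codomain_eq 𝒴.p (𝟙 (𝒳.p.obj x₁)) b)
    obtain ⟨xa, α, hα⟩ := fX.exists_lift (x := x₁) f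
    obtain ⟨xb, β, hβ⟩ := exists_lift_free 𝒳.p fX hx₂ f
    have hFα : 𝒴.p.IsHomLift f (F.map α) := inferInstance
    have hFβ : 𝒴.p.IsHomLift f (F.map β) := inferInstance
    have hgb : 𝒴.p.IsHomLift f (g ≫ b) := inferInstance
    obtain ⟨ia, hia, hiaα⟩ := exists_factor_of_fibGrpd 𝒴.p fY f (𝟙 V) f (by simp) (F.map α) g
    obtain ⟨ib, hib, hibβ⟩ := exists_factor_of_fibGrpd 𝒴.p fY f (𝟙 V) f (by simp) (F.map β) (g ≫ b)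
    have hisoa : IsIso ia := isIso_of_fibGrpd 𝒴.p fY (𝟙 V) ia
    have hisob : IsIso ib := isIso_of_fibGrpd 𝒴.p fY (𝟙 V) ib
    have hpa : 𝒴.p.IsHomLift (𝟙 (𝒴'.p.obj y')) (asIso ia).hom := by rw [hy']; exact hia
    have hpb : 𝒴.p.IsHomLift (𝟙 (𝒴'.p.obj y')) (asIso ib).hom := by rw [hy']; exact hib
    let ξa : (FibCat.fp G F).obj := ⟨⟨y', xa, asIso ia⟩, hpa⟩
    let ξb : (FibCat.fp G F).obj := ⟨⟨y', xb, asIso ib⟩, hpb⟩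
    let c : (FibCat.fpFst G F).obj ξa ⟶ (FibCat.fpFst G F).obj ξb := 𝟙 y'
    have hc : 𝒴'.p.IsHomLift (𝟙 V) c := IsHomLift.id hy'
    obtain ⟨R', hR', hR'c⟩ := locSurjHom_free J hF'.2 ξa ξb c hc
    refine ⟨R', hR', fun W k hk => ?_⟩
    obtain ⟨ξ₀, Φ, Ψ, hΦ, hΨ, hΦΨ⟩ := hR'c k hk
    have hfst : Φ.hom.fst = Ψ.hom.fst := by
      have : Φ.hom.fst ≫ 𝟙 y' = Ψ.hom.fst := hΦΨ
      exact (Category.comp_id _).symm.trans this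
    have hφ : 𝒳.p.IsHomLift k Φ.hom.snd := by
      have h1 : 𝒳.p.IsHomLift ((FibCat.fp G F).p.map Φ) Φ.hom.snd := FibCat.fp_isHomLift_snd G F Φ
      have e := IsHomLift.fac (FibCat.fp G F).p k Φ
      rw [e]; infer_instance
    have hψ : 𝒳.p.IsHomLift k Ψ.hom.snd := by
      have h1 : 𝒳.p.IsHomLift ((FibCat.fp G F).p.map Ψ) Ψ.hom.snd := FibCat.fp_isHomLift_snd G F Ψ
      have e := IsHomLift.fac (FibCat.fp G F).p k Ψ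
      rw [e]; infer_instance
    refine ⟨ξ₀.obj.snd, Φ.hom.snd ≫ α, Ψ.hom.snd ≫ β, inferInstance, inferInstance, ?_⟩
    have wΦ : G.map Φ.hom.fst ≫ ia = ξ₀.obj.iso.hom ≫ F.map Φ.hom.snd := Φ.hom.w
    have wΨ : G.map Ψ.hom.fst ≫ ib = ξ₀.obj.iso.hom ≫ F.map Ψ.hom.snd := Ψ.hom.w
    rw [← cancel_epi ξ₀.obj.iso.hom]
    rw [F.map_comp, F.map_comp]
    rw [← Category.assoc, ← Category.assoc, ← Category.assoc, ← wΦ, ← wΨ, ← hfst]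
    simp only [Category.assoc]
    rw [reassoc_of% hiaα, hibβ]

end Fp

end Groth.Agent.H84
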