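import Groth.Agent.H84.StkConcrete

/-!
# Descent along a sieve from descent along a smaller sieve
-/

set_option autoImplicit false
set_option backward.isDefEq.respectTransparency false
set_option backward.isDefEq.respectTransparency.types false
open CategoryTheory CategoryTheory.Limits
universe v₃ u₃ v₂ u₂ v u

namespace Groth.Agent.H84.StkRefine

open Groth.Agent.H32 Groth.Agent.H64 Groth.Agent.H84.StkConcrete Groth.Agent.H84.GerbeGlue

variable {C : Type u} [Category.{v} C] {𝒳 : BasedCategory.{v₂, u₂} C}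

/-- inclusion of a smaller sieve -/
def sieveLE {U : C} {S R : Sieve U} (h : S ≤ R) : Stk.sieveCat S ⥤ᵇ Stk.sieveCat R where
  toFunctor := ObjectProperty.ιOfLE (fun _ ha => h _ ha)
  w := rfl

/-- the object of the sieve category of an arrow -/
abbrev mkObj {U : C} (S : Sieve U) {V : C} (f : V ⟶ U) (hf : S f) : (Stk.sieveCat S).obj :=
  ⟨Over.mk f, hf⟩

/-- morphisms of the sieve category from arrows of the base -/
def mkHom {U : C} (S : Sieve U) {r' r : (Stk.sieveCat S).obj} (u : r'.obj.left ⟶ r.obj.left)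
    (hu : u ≫ r.obj.hom = r'.obj.hom) : r' ⟶ r :=
  ObjectProperty.homMk (Over.homMk u hu)

theorem mkHom_ext {U : C} (S : Sieve U) {r' r : (Stk.sieveCat S).obj} (m m' : r' ⟶ r)
    (h : m.hom.left = m'.hom.left) : m = m' := by
  apply ObjectProperty.hom_ext
  exact Over.OverMorphism.ext h

section refine

variable (h𝒳 : FibCat.IsFibGrpd 𝒳.p) {U : C} {S R : Sieve U} (hSR : S ≤ R)
include h𝒳 hSR

theorem faithful_of_le (hS : (Stk.resSieve S 𝒳).Faithful) : (Stk.resSieve R 𝒳).Faithful :=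
  faithful_of_hom_ext h𝒳 R (fun _ _ ht ht' a b ha hb hloc =>
    hom_ext_of_restr_faithful h𝒳 S hS ht ht' a b ha hb
      (fun _ f hf s ψ hψ => hloc f (hSR _ hf) s ψ hψ))

theorem full_of_le (hS : (Stk.resSieve S 𝒳).Full)
    (hR : ∀ ⦃V : C⦄ (f : V ⟶ U), R f → (Stk.resSieve (S.pullback f) 𝒳).Faithful) :
    (Stk.resSieve R 𝒳).Full := by
  refine full_of_glue_hom h𝒳 R (fun t t' ht ht' m hm hcompat => ?_)
  obtain ⟨a, ha, hfac⟩ := glue_hom h𝒳 S hS ht ht' (fun V f hf => m f (hSR _ hf))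
    (fun V f hf s ψ hψ => hm f (hSR _ hf) s ψ hψ)
    (fun V V' f hf f' hf' u hu s s' ψ hψ ψ' hψ' h hh hhψ =>
      hcompat f (hSR _ hf) f' (hSR _ hf') u hu s s' ψ hψ ψ' hψ' h hh hhψ)
  refine ⟨a, ha, fun V f hf s ψ hψ => ?_⟩
  apply hom_ext_over h𝒳 f (S.pullback f) (hR f hf) _ _ (lift_comp_id_right 𝒳.p hψ ha)
    (hm f hf s ψ hψ)
  intro W g hg s' χ hχ
  have h1 : 𝒳.p.IsHomLift (g ≫ f) (χ ≫ ψ) := lift_comp 𝒳.p hχ hψ
  have h2 := hfac (g ≫ f) hg _ (χ ≫ ψ) h1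
  have h3 := hcompat f hf (g ≫ f) (hSR _ hg) g rfl s s' ψ hψ (χ ≫ ψ) h1 χ hχ rfl
  rw [← Category.assoc, h2, h3]

theorem essSurj_of_le (hS : (Stk.resSieve S 𝒳).EssSurj)
    (hR : ∀ ⦃V : C⦄ (f : V ⟶ U), R f → Stk.IsPrestackFor (S.pullback f) 𝒳) :
    (Stk.resSieve R 𝒳).EssSurj := by
  refine essSurj_of_glue_obj h𝒳 R (fun D => ?_)
  obtain ⟨t, ht, π, hπ, hπnat⟩ :=
    glue_obj_of_essSurj S hS (BasedFunctor.comp (sieveLE hSR) D)
  -- key: for every `r` of `R` a morphism `D r ⟶ t` compatible with all `π r₀`, `r₀ ⟶ r`, `r₀ ∈ S`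
  have key : ∀ r : (Stk.sieveCat R).obj, ∃ ρ : D.obj r ⟶ t, 𝒳.p.IsHomLift r.obj.hom ρ ∧
      ∀ (r₀ : (Stk.sieveCat S).obj) (k : (sieveLE hSR).obj r₀ ⟶ r), D.map k ≫ ρ = π r₀ := by
    intro r
    obtain ⟨t₂, c, hc⟩ := h𝒳.exists_lift (x := t) (ht ▸ r.obj.hom : r.obj.left ⟶ 𝒳.p.obj t)
    subst ht
    have hsc : 𝒳.p.IsStronglyCartesian r.obj.hom c := cart_of_fibGrpd 𝒳.p h𝒳 hc
    have ht₂ : 𝒳.p.obj t₂ = r.obj.left := lift_domain_eq 𝒳.p hc
    have hDr : 𝒳.p.obj (D.obj r) = r.obj.left := D.w_obj r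
    -- objects and morphisms of the sieve categories attached to `g ∈ f^* S`
    let r₁ : ∀ ⦃W : C⦄ (g : W ⟶ r.obj.left), S (g ≫ r.obj.hom) → (Stk.sieveCat S).obj :=
      fun W g hg => mkObj S (g ≫ r.obj.hom) hg
    let k₁ : ∀ ⦃W : C⦄ (g : W ⟶ r.obj.left) (hg : S (g ≫ r.obj.hom)),
        (sieveLE hSR).obj (r₁ g hg) ⟶ r := fun W g hg => mkHom R g rfl
    have hk₁ : ∀ ⦃W : C⦄ (g : W ⟶ r.obj.left) (hg : S (g ≫ r.obj.hom)),
        𝒳.p.IsStronglyCartesian g (D.map (k₁ g hg)) := fun W g hg =>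
      cart_of_fibGrpd 𝒳.p h𝒳 (sieve_map_isHomLift R D (k₁ g hg))
    have hlift : ∀ ⦃W : C⦄ (g : W ⟶ r.obj.left) (hg : S (g ≫ r.obj.hom)) (s : 𝒳.obj)
        (ψ : s ⟶ D.obj r) (hψ : 𝒳.p.IsHomLift g ψ),
        𝒳.p.IsHomLift (g ≫ r.obj.hom) (cartMap 𝒳.p (hk₁ g hg) ψ hψ ≫ π (r₁ g hg)) :=
      fun W g hg s ψ hψ => lift_comp_id_left 𝒳.p (cartMap_lift 𝒳.p (hk₁ g hg) ψ hψ) (hπ (r₁ g hg))
    let m : ∀ ⦃W : C⦄ (g : W ⟶ r.obj.left), (S.pullback r.obj.hom) g → ∀ (s : 𝒳.obj)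
        (ψ : s ⟶ D.obj r), 𝒳.p.IsHomLift g ψ → (s ⟶ t₂) := fun W g hg s ψ hψ =>
      cartLift 𝒳.p hsc g (cartMap 𝒳.p (hk₁ g hg) ψ hψ ≫ π (r₁ g hg)) (hlift g hg s ψ hψ)
    have hm : ∀ ⦃W : C⦄ (g : W ⟶ r.obj.left) (hg : (S.pullback r.obj.hom) g) (s : 𝒳.obj)
        (ψ : s ⟶ D.obj r) (hψ : 𝒳.p.IsHomLift g ψ), 𝒳.p.IsHomLift g (m g hg s ψ hψ) :=
      fun W g hg s ψ hψ => cartLift_lift 𝒳.p hsc g _ (hlift g hg s ψ hψ)
    have hmfac : ∀ ⦃W : C⦄ (g : W ⟶ r.obj.left) (hg : (S.pullback r.obj.hom) g) (s : 𝒳.obj)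
        (ψ : s ⟶ D.obj r) (hψ : 𝒳.p.IsHomLift g ψ),
        m g hg s ψ hψ ≫ c = cartMap 𝒳.p (hk₁ g hg) ψ hψ ≫ π (r₁ g hg) :=
      fun W g hg s ψ hψ => cartLift_fac 𝒳.p hsc g _ (hlift g hg s ψ hψ)
    obtain ⟨a, ha, hafac⟩ := glue_hom h𝒳 (S.pullback r.obj.hom) (hR r.obj.hom r.property).1
      hDr ht₂ m hm (by
        intro W W' g hg g' hg' u hu s s' ψ hψ ψ' hψ' h hh hhψ
        subst hu
        have hL : 𝒳.p.IsHomLift (u ≫ g) (m (u ≫ g) hg' s' ψ' hψ') := hm (u ≫ g) hg' s' ψ' hψ'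
        have hR' : 𝒳.p.IsHomLift (u ≫ g) (h ≫ m g hg s ψ hψ) := lift_comp 𝒳.p hh (hm g hg s ψ hψ)
        apply cart_ext 𝒳.p hsc (u ≫ g) hL hR'
        rw [hmfac, Category.assoc, hmfac]
        -- the morphism of `S` induced by `u`
        let n : r₁ (u ≫ g) hg' ⟶ r₁ g hg := mkHom S u (Category.assoc _ _ _).symm
        have hn : (sieveLE hSR).map n ≫ k₁ g hg = k₁ (u ≫ g) hg' := by
          apply mkHom_ext
          rfl
        have hDn : D.map ((sieveLE hSR).map n) ≫ D.map (k₁ g hg) = D.map (k₁ (u ≫ g) hg') := by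
          rw [← D.map_comp, hn]
        have hnl : 𝒳.p.IsHomLift u (D.map ((sieveLE hSR).map n)) :=
          sieve_map_isHomLift R D ((sieveLE hSR).map n)
        have h1 := cartMap_comp 𝒳.p (hk₁ g hg) (hk₁ (u ≫ g) hg') hnl hDn ψ hψ ψ' hψ' h hh hhψ
        have h2 : D.map ((sieveLE hSR).map n) ≫ π (r₁ g hg) = π (r₁ (u ≫ g) hg') := hπnat n
        rw [← h2, ← Category.assoc, h1, Category.assoc])
    refine ⟨a ≫ c, lift_comp_id_left 𝒳.p ha hc, fun r₀ k => ?_⟩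
    -- `k` lies over an arrow of the pulled back sieve
    have hkw : k.hom.left ≫ r.obj.hom = r₀.obj.hom := Over.w k.hom
    have hg : (S.pullback r.obj.hom) k.hom.left := by
      show S (k.hom.left ≫ r.obj.hom)
      rw [hkw]
      exact r₀.property
    have hkl : 𝒳.p.IsHomLift k.hom.left (D.map k) := sieve_map_isHomLift R D k
    have h1 := hafac k.hom.left hg _ (D.map k) hkl
    rw [← Category.assoc, h1, hmfac]
    -- compare `r₀` with the canonical object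
    let e : r₀ ⟶ r₁ k.hom.left hg := mkHom S (𝟙 _) ((Category.id_comp _).trans hkw)
    have he : (sieveLE hSR).map e ≫ k₁ k.hom.left hg = k := by
      apply mkHom_ext
      exact Category.id_comp _
    have hel : 𝒳.p.IsHomLift (𝟙 r₀.obj.left) (D.map ((sieveLE hSR).map e)) :=
      sieve_map_isHomLift R D ((sieveLE hSR).map e)
    have h2 : D.map ((sieveLE hSR).map e) = cartMap 𝒳.p (hk₁ k.hom.left hg) (D.map k) hkl :=
      cartMap_uniq 𝒳.p (hk₁ k.hom.left hg) (D.map k) hkl _ hel (by rw [← D.map_comp, he])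
    rw [← h2]
    exact hπnat e
  choose ρ hρ hρfac using key
  refine ⟨t, ht, ρ, hρ, ?_⟩
  intro r' r n
  have hnl : 𝒳.p.IsHomLift n.hom.left (D.map n) := sieve_map_isHomLift R D n
  have hnw : n.hom.left ≫ r.obj.hom = r'.obj.hom := Over.w n.hom
  have hL : 𝒳.p.IsHomLift r'.obj.hom (D.map n ≫ ρ r) := by
    rw [← hnw]
    exact lift_comp 𝒳.p hnl (hρ r)
  apply hom_ext_over h𝒳 r'.obj.hom (S.pullback r'.obj.hom) (hR r'.obj.hom r'.property).2 _ _ hL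
    (hρ r')
  intro W g hg s χ hχ
  let r₀ : (Stk.sieveCat S).obj := mkObj S (g ≫ r'.obj.hom) hg
  let k' : (sieveLE hSR).obj r₀ ⟶ r' := mkHom R g rfl
  have hk' : 𝒳.p.IsStronglyCartesian g (D.map k') :=
    cart_of_fibGrpd 𝒳.p h𝒳 (sieve_map_isHomLift R D k')
  obtain ⟨ι, -, hι⟩ := cart_lift_id 𝒳.p hk' χ hχ
  rw [← hι, Category.assoc, Category.assoc, hρfac r' r₀ k', ← Category.assoc (D.map k'),
    ← D.map_comp, hρfac r r₀ (k' ≫ n)]

/-- Descent along a sieve from descent along a smaller sieve. -/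
theorem isStackFor_of_le (hS : Stk.IsStackFor S 𝒳)
    (hR : ∀ ⦃V : C⦄ (f : V ⟶ U), R f → Stk.IsPrestackFor (S.pullback f) 𝒳) :
    Stk.IsStackFor R 𝒳 :=
  { faithful := faithful_of_le h𝒳 hSR hS.faithful
    full := full_of_le h𝒳 hSR hS.full (fun _ f hf => (hR f hf).2)
    essSurj := essSurj_of_le h𝒳 hSR hS.essSurj hR }

end refine

end Groth.Agent.H84.StkRefine
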