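import Groth.Agent.H84.GerbeGlue
import Groth.Agent.H64.OverMapRep

/-!
# Concrete criteria for the stack conditions `Stk.IsPrestackFor` / `Stk.IsStackFor`

For a category `𝒯` fibred in groupoids over `C` and a sieve `R` on `U`, the three parts of
"restriction along `sieveCat R ⟶ C/U` is an equivalence" are expressed through objects of `𝒯` over `U`
and families of morphisms indexed by the arrows of `R`:

* faithful  ⟺ `hom_ext` (H64 `hom_ext_of_restr_faithful` / `faithful_of_hom_ext` here),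
* full      ⟺ compatible families of morphisms glue (`GerbeGlue.glue_hom` / `full_of_glue_hom`),
* ess. surj ⟺ every functor `D : sieveCat R ⥤ᵇ 𝒯` has a "colimit cone" `π r : D r ⟶ t` over the
  arrows of `R` (`glue_obj_of_essSurj` / `essSurj_of_glue_obj`).
-/

set_option autoImplicit false
set_option backward.isDefEq.respectTransparency false
set_option backward.isDefEq.respectTransparency.types false
open CategoryTheory CategoryTheory.Limits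
universe v₃ u₃ v₂ u₂ v u

namespace Groth.Agent.H84.StkConcrete

open Groth.Agent.H32 Groth.Agent.H64

variable {C : Type u} [Category.{v} C]

section cartMap

variable {𝒳 : Type u₂} [Category.{v₂} 𝒳] (p : 𝒳 ⥤ C)

/-- the factorization through a strongly cartesian morphism of a morphism over the same arrow -/
noncomputable def cartMap {R S : C} {a b : 𝒳} {f : R ⟶ S} {φ : a ⟶ b}
    (hs : p.IsStronglyCartesian f φ) {a' : 𝒳} (φ' : a' ⟶ b) (h : p.IsHomLift f φ') : a' ⟶ a :=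
  (cart_lift_id p hs φ' h).choose

theorem cartMap_lift {R S : C} {a b : 𝒳} {f : R ⟶ S} {φ : a ⟶ b}
    (hs : p.IsStronglyCartesian f φ) {a' : 𝒳} (φ' : a' ⟶ b) (h : p.IsHomLift f φ') :
    p.IsHomLift (𝟙 R) (cartMap p hs φ' h) :=
  (cart_lift_id p hs φ' h).choose_spec.1

theorem cartMap_fac {R S : C} {a b : 𝒳} {f : R ⟶ S} {φ : a ⟶ b}
    (hs : p.IsStronglyCartesian f φ) {a' : 𝒳} (φ' : a' ⟶ b) (h : p.IsHomLift f φ') :
    cartMap p hs φ' h ≫ φ = φ' :=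
  (cart_lift_id p hs φ' h).choose_spec.2

theorem cartMap_uniq {R S : C} {a b : 𝒳} {f : R ⟶ S} {φ : a ⟶ b}
    (hs : p.IsStronglyCartesian f φ) {a' : 𝒳} (φ' : a' ⟶ b) (h : p.IsHomLift f φ')
    (χ : a' ⟶ a) (hχ : p.IsHomLift (𝟙 R) χ) (hfac : χ ≫ φ = φ') : χ = cartMap p hs φ' h :=
  cart_ext p hs (𝟙 R) hχ (cartMap_lift p hs φ' h) (hfac.trans (cartMap_fac p hs φ' h).symm)

/-- compatibility of the factorizations with precomposition -/
theorem cartMap_comp {R S R' : C} {a b c : 𝒳} {f : R ⟶ S} {φ : a ⟶ b}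
    (hs : p.IsStronglyCartesian f φ) {f' : R' ⟶ S} {φ₁ : c ⟶ b}
    (hs₁ : p.IsStronglyCartesian f' φ₁) {u : R' ⟶ R} {k : c ⟶ a} (hk : p.IsHomLift u k)
    (hkφ : k ≫ φ = φ₁)
    {a' a'' : 𝒳} (ψ : a' ⟶ b) (hψ : p.IsHomLift f ψ) (ψ' : a'' ⟶ b) (hψ' : p.IsHomLift f' ψ')
    (h : a'' ⟶ a') (hh : p.IsHomLift u h) (hfac : h ≫ ψ = ψ') :
    cartMap p hs₁ ψ' hψ' ≫ k = h ≫ cartMap p hs ψ hψ := by
  have h1 : p.IsHomLift u (cartMap p hs₁ ψ' hψ' ≫ k) :=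
    lift_comp_id_left p (cartMap_lift p hs₁ ψ' hψ') hk
  have h2 : p.IsHomLift u (h ≫ cartMap p hs ψ hψ) :=
    lift_comp_id_right p hh (cartMap_lift p hs ψ hψ)
  apply cart_ext p hs u h1 h2
  rw [Category.assoc, hkφ, cartMap_fac, Category.assoc, cartMap_fac, hfac]

/-- the factorization through a strongly cartesian morphism, over a general arrow -/
noncomputable def cartLift {R S : C} {a b : 𝒳} {f : R ⟶ S} {φ : a ⟶ b}
    (hs : p.IsStronglyCartesian f φ) {R' : C} {a' : 𝒳} (g : R' ⟶ R) (φ' : a' ⟶ b)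
    (h : p.IsHomLift (g ≫ f) φ') : a' ⟶ a :=
  (cart_lift p hs g (g ≫ f) rfl φ' h).choose

theorem cartLift_lift {R S : C} {a b : 𝒳} {f : R ⟶ S} {φ : a ⟶ b}
    (hs : p.IsStronglyCartesian f φ) {R' : C} {a' : 𝒳} (g : R' ⟶ R) (φ' : a' ⟶ b)
    (h : p.IsHomLift (g ≫ f) φ') : p.IsHomLift g (cartLift p hs g φ' h) :=
  (cart_lift p hs g (g ≫ f) rfl φ' h).choose_spec.1

theorem cartLift_fac {R S : C} {a b : 𝒳} {f : R ⟶ S} {φ : a ⟶ b}
    (hs : p.IsStronglyCartesian f φ) {R' : C} {a' : 𝒳} (g : R' ⟶ R) (φ' : a' ⟶ b)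
    (h : p.IsHomLift (g ≫ f) φ') : cartLift p hs g φ' h ≫ φ = φ' :=
  (cart_lift p hs g (g ≫ f) rfl φ' h).choose_spec.2

end cartMap

section aux

variable {D : Type u₂} [Category.{v₂} D]

theorem full_aux {s s' A A' B B' t' : D} (c' : s' ⟶ A') (Gk : A' ⟶ A) (h : s' ⟶ s) (c : s ⟶ A)
    (γ : A ⟶ B) (γ' : A' ⟶ B') (Hk : B' ⟶ B) (Ho : B ⟶ t') (Ho' : B' ⟶ t')
    (h1 : c' ≫ Gk = h ≫ c) (hnat : Gk ≫ γ = γ' ≫ Hk) (hk : Hk ≫ Ho = Ho') :
    c' ≫ γ' ≫ Ho' = h ≫ c ≫ γ ≫ Ho := by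
  rw [← hk, ← Category.assoc γ', ← hnat, Category.assoc, ← Category.assoc c', h1, Category.assoc]

theorem full_aux2 {A B T T' : D} (Go : A ⟶ T) (αT : T ⟶ T') (αr γr : A ⟶ B) (Ho : B ⟶ T')
    (hnat : Go ≫ αT = αr ≫ Ho) (h2 : Go ≫ αT = γr ≫ Ho) : αr ≫ Ho = γr ≫ Ho := by
  rw [← hnat, h2]

end aux

variable {𝒯 : BasedCategory.{v₂, u₂} C}

/-- morphisms over an arbitrary arrow are determined locally on a sieve along which restriction
is faithful -/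
theorem hom_ext_over (h𝒯 : FibCat.IsFibGrpd 𝒯.p) {V U : C} (g : V ⟶ U) (T : Sieve V)
    (hT : (Stk.resSieve T 𝒯).Faithful) {s t' : 𝒯.obj} (a b : s ⟶ t')
    (ha : 𝒯.p.IsHomLift g a) (hb : 𝒯.p.IsHomLift g b)
    (hloc : ∀ ⦃W : C⦄ (f : W ⟶ V), T f → ∀ (s' : 𝒯.obj) (χ : s' ⟶ s), 𝒯.p.IsHomLift f χ →
      χ ≫ a = χ ≫ b) : a = b := by
  have hsa : 𝒯.p.IsStronglyCartesian g a := cart_of_fibGrpd 𝒯.p h𝒯 ha
  obtain ⟨δ, hδ, hδfac⟩ := cart_lift_id 𝒯.p hsa b hb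
  have hs : 𝒯.p.obj s = V := lift_domain_eq 𝒯.p ha
  have hid : 𝒯.p.IsHomLift (𝟙 V) (𝟙 s) := lift_id_of_obj 𝒯.p hs
  have hδ1 : δ = 𝟙 s := by
    apply hom_ext_of_restr_faithful h𝒯 T hT hs hs δ (𝟙 s) hδ hid
    intro W f hf s' χ hχ
    have h1 : 𝒯.p.IsHomLift f (χ ≫ δ) := lift_comp_id_right 𝒯.p hχ hδ
    have h2 : 𝒯.p.IsHomLift f (χ ≫ 𝟙 s) := lift_comp_id_right 𝒯.p hχ hid
    apply cart_ext 𝒯.p hsa f h1 h2
    rw [Category.assoc, hδfac, Category.assoc, Category.id_comp]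
    exact (hloc f hf s' χ hχ).symm
  rw [← hδfac, hδ1, Category.id_comp]

/-- functors over `C` out of a sieve send a morphism to a morphism over its underlying arrow -/
theorem sieve_map_isHomLift {U : C} (R : Sieve U) (D : Stk.sieveCat R ⥤ᵇ 𝒯)
    {r' r : (Stk.sieveCat R).obj} (m : r' ⟶ r) : 𝒯.p.IsHomLift m.hom.left (D.map m) := by
  have h0 : (Stk.sieveCat R).p.IsHomLift m.hom.left m := IsHomLift.map (Stk.sieveCat R).p m
  exact BasedFunctor.preserves_isHomLift (𝒳 := Stk.sieveCat R) D m.hom.left m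

section criteria

variable (h𝒯 : FibCat.IsFibGrpd 𝒯.p) {U : C} (R : Sieve U)
include h𝒯

/-- criterion for faithfulness of restriction to a sieve -/
theorem faithful_of_hom_ext
    (H : ∀ (t t' : 𝒯.obj) (_ : 𝒯.p.obj t = U) (_ : 𝒯.p.obj t' = U) (a b : t ⟶ t'),
      𝒯.p.IsHomLift (𝟙 U) a → 𝒯.p.IsHomLift (𝟙 U) b →
      (∀ ⦃V : C⦄ (f : V ⟶ U), R f → ∀ (s : 𝒯.obj) (ψ : s ⟶ t), 𝒯.p.IsHomLift f ψ →
        ψ ≫ a = ψ ≫ b) → a = b) : (Stk.resSieve R 𝒯).Faithful := by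
  apply (restr_faithful_iff _ _).mpr
  intro G H' α β hαβ
  apply undNat_ext_of_app_T (preserves_of_isFibGrpd h𝒯 H')
  have hT : 𝒯.p.obj ((und G).obj (ovT U)) = U := G.w_obj (ovT U)
  have hT' : 𝒯.p.obj ((und H').obj (ovT U)) = U := H'.w_obj (ovT U)
  apply H _ _ hT hT' _ _ (undNat_app_isHomLift α (ovT U)) (undNat_app_isHomLift β (ovT U))
  intro V f hf s ψ hψ
  let r : (Stk.sieveCat R).obj := ⟨Over.mk f, hf⟩
  have hs : 𝒯.p.IsStronglyCartesian f ((und G).map (ovTo r.obj)) :=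
    und_map_ovTo_isStronglyCartesian G (preserves_of_isFibGrpd h𝒯 G) r.obj
  obtain ⟨θ, hθ, hθfac⟩ := cart_lift_id 𝒯.p hs ψ hψ
  have hnatα : (und G).map (ovTo r.obj) ≫ (undNat α).app (ovT U) =
      (undNat α).app r.obj ≫ (und H').map (ovTo r.obj) := (undNat α).naturality (ovTo r.obj)
  have hnatβ : (und G).map (ovTo r.obj) ≫ (undNat β).app (ovT U) =
      (undNat β).app r.obj ≫ (und H').map (ovTo r.obj) := (undNat β).naturality (ovTo r.obj)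
  have hr : (undNat α).app r.obj = (undNat β).app r.obj := hαβ r
  rw [← hθfac, Category.assoc, Category.assoc, hnatα, hnatβ, hr]

/-- criterion for fullness of restriction to a sieve: compatible families of morphisms glue -/
theorem full_of_glue_hom
    (H : ∀ (t t' : 𝒯.obj) (_ : 𝒯.p.obj t = U) (_ : 𝒯.p.obj t' = U)
      (m : ∀ ⦃V : C⦄ (f : V ⟶ U), R f → ∀ (s : 𝒯.obj) (ψ : s ⟶ t), 𝒯.p.IsHomLift f ψ → (s ⟶ t'))
      (_ : ∀ ⦃V : C⦄ (f : V ⟶ U) (hf : R f) (s : 𝒯.obj) (ψ : s ⟶ t) (hψ : 𝒯.p.IsHomLift f ψ),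
        𝒯.p.IsHomLift f (m f hf s ψ hψ))
      (_ : ∀ ⦃V V' : C⦄ (f : V ⟶ U) (hf : R f) (f' : V' ⟶ U) (hf' : R f') (u : V' ⟶ V)
        (_ : u ≫ f = f') (s s' : 𝒯.obj)
        (ψ : s ⟶ t) (hψ : 𝒯.p.IsHomLift f ψ) (ψ' : s' ⟶ t) (hψ' : 𝒯.p.IsHomLift f' ψ')
        (h : s' ⟶ s), 𝒯.p.IsHomLift u h → h ≫ ψ = ψ' → m f' hf' s' ψ' hψ' = h ≫ m f hf s ψ hψ),
      ∃ a : t ⟶ t', 𝒯.p.IsHomLift (𝟙 U) a ∧
        ∀ ⦃V : C⦄ (f : V ⟶ U) (hf : R f) (s : 𝒯.obj) (ψ : s ⟶ t) (hψ : 𝒯.p.IsHomLift f ψ),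
          ψ ≫ a = m f hf s ψ hψ) : (Stk.resSieve R 𝒯).Full := by
  apply (restr_full_iff _ _).mpr
  intro G H' γ
  have hG := preserves_of_isFibGrpd h𝒯 G
  have hH := preserves_of_isFibGrpd h𝒯 H'
  have hT : 𝒯.p.obj ((und G).obj (ovT U)) = U := G.w_obj (ovT U)
  have hT' : 𝒯.p.obj ((und H').obj (ovT U)) = U := H'.w_obj (ovT U)
  have hsG : ∀ Y : Over U, 𝒯.p.IsStronglyCartesian (ovHom Y) ((und G).map (ovTo Y)) := fun Y =>
    und_map_ovTo_isStronglyCartesian G hG Y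
  have hsH : ∀ Y : Over U, 𝒯.p.IsStronglyCartesian (ovHom Y) ((und H').map (ovTo Y)) := fun Y =>
    und_map_ovTo_isStronglyCartesian H' hH Y
  -- the family of morphisms
  let rr : ∀ ⦃V : C⦄ (f : V ⟶ U), R f → (Stk.sieveCat R).obj := fun V f hf => ⟨Over.mk f, hf⟩
  let m : ∀ ⦃V : C⦄ (f : V ⟶ U), R f → ∀ (s : 𝒯.obj) (ψ : s ⟶ (und G).obj (ovT U)),
      𝒯.p.IsHomLift f ψ → (s ⟶ (und H').obj (ovT U)) := fun V f hf s ψ hψ =>
    cartMap 𝒯.p (hsG (rr f hf).obj) ψ hψ ≫ bapp γ (rr f hf) ≫ (und H').map (ovTo (rr f hf).obj)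
  have hγl : ∀ r : (Stk.sieveCat R).obj, 𝒯.p.IsHomLift (𝟙 r.obj.left) (bapp γ r) := fun r =>
    bapp_isHomLift γ r
  have hm : ∀ ⦃V : C⦄ (f : V ⟶ U) (hf : R f) (s : 𝒯.obj) (ψ : s ⟶ (und G).obj (ovT U))
      (hψ : 𝒯.p.IsHomLift f ψ), 𝒯.p.IsHomLift f (m f hf s ψ hψ) := by
    intro V f hf s ψ hψ
    exact lift_comp_id_left 𝒯.p (cartMap_lift 𝒯.p (hsG (rr f hf).obj) ψ hψ)
      (lift_comp_id_left 𝒯.p (hγl (rr f hf)) (hsH (rr f hf).obj).toIsHomLift)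
  obtain ⟨a, ha, hfac⟩ := H _ _ hT hT' m hm (by
    intro V V' f hf f' hf' u hu s s' ψ hψ ψ' hψ' h hh hhψ
    let k : rr f' hf' ⟶ rr f hf := ObjectProperty.homMk (Over.homMk u hu)
    have hk : 𝒯.p.IsHomLift u ((und G).map k.hom) := und_map_isHomLift G k.hom
    have hkfac : (und G).map k.hom ≫ (und G).map (ovTo (rr f hf).obj) =
        (und G).map (ovTo (rr f' hf').obj) := by
      rw [← (und G).map_comp, ovTo_comp]
    have hkfac' : (und H').map k.hom ≫ (und H').map (ovTo (rr f hf).obj) =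
        (und H').map (ovTo (rr f' hf').obj) := by
      rw [← (und H').map_comp, ovTo_comp]
    have h1 := cartMap_comp 𝒯.p (hsG (rr f hf).obj) (hsG (rr f' hf').obj) hk hkfac ψ hψ ψ' hψ'
      h hh hhψ
    have hnat : (und G).map k.hom ≫ bapp γ (rr f hf) = bapp γ (rr f' hf') ≫ (und H').map k.hom :=
      bapp_naturality γ k
    exact full_aux _ _ _ _ _ _ _ _ _ h1 hnat hkfac')
  obtain ⟨α, hα⟩ := exists_undNat_of_app_T hH a ha
  refine ⟨α, fun r => ?_⟩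
  have hl1 : 𝒯.p.IsHomLift (𝟙 r.obj.left) (bapp α r.obj) := undNat_app_isHomLift α r.obj
  apply cart_ext 𝒯.p (hsH r.obj) (𝟙 r.obj.left) hl1 (hγl r)
  have hnat : (und G).map (ovTo r.obj) ≫ (undNat α).app (ovT U) =
      (undNat α).app r.obj ≫ (und H').map (ovTo r.obj) := (undNat α).naturality (ovTo r.obj)
  have hψ : 𝒯.p.IsHomLift r.obj.hom ((und G).map (ovTo r.obj)) := (hsG r.obj).toIsHomLift
  have h2 := hfac r.obj.hom r.property _ ((und G).map (ovTo r.obj)) hψ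
  have h3 : cartMap 𝒯.p (hsG r.obj) ((und G).map (ovTo r.obj)) hψ = 𝟙 _ :=
    (cartMap_uniq 𝒯.p (hsG r.obj) _ hψ (𝟙 _)
      (lift_id_of_obj 𝒯.p (lift_domain_eq 𝒯.p hψ)) (Category.id_comp _)).symm
  have h2' : (und G).map (ovTo r.obj) ≫ a = bapp γ r ≫ (und H').map (ovTo r.obj) := by
    refine h2.trans ?_
    show cartMap 𝒯.p (hsG r.obj) ((und G).map (ovTo r.obj)) hψ ≫ bapp γ r ≫
      (und H').map (ovTo r.obj) = _
    rw [h3, Category.id_comp]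
  exact full_aux2 _ _ _ _ _ hnat (hα ▸ h2')

omit h𝒯 in
/-- objects glue along a sieve for which restriction is essentially surjective: every functor
over `C` out of the sieve has a cone over the arrows of the sieve -/
theorem glue_obj_of_essSurj (hR : (Stk.resSieve R 𝒯).EssSurj) (D : Stk.sieveCat R ⥤ᵇ 𝒯) :
    ∃ (t : 𝒯.obj) (_ : 𝒯.p.obj t = U) (π : ∀ r : (Stk.sieveCat R).obj, D.obj r ⟶ t),
      (∀ r, 𝒯.p.IsHomLift r.obj.hom (π r)) ∧
      ∀ {r' r : (Stk.sieveCat R).obj} (m : r' ⟶ r), D.map m ≫ π r = π r' := by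
  obtain ⟨G, ⟨θ⟩⟩ := (restr_essSurj_iff _ _).mp hR D
  have hT : 𝒯.p.obj ((und G).obj (ovT U)) = U := G.w_obj (ovT U)
  refine ⟨(und G).obj (ovT U), hT, fun r => bapp θ.inv r ≫ (und G).map (ovTo r.obj), ?_, ?_⟩
  · intro r
    have h1 : 𝒯.p.IsHomLift (𝟙 r.obj.left) (bapp θ.inv r) := bapp_isHomLift θ.inv r
    have h2 : 𝒯.p.IsHomLift r.obj.hom ((und G).map (ovTo r.obj)) :=
      und_map_ovTo_isHomLift G r.obj
    exact lift_comp_id_left 𝒯.p h1 h2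
  · intro r' r m
    have hnat : D.map m ≫ bapp θ.inv r = bapp θ.inv r' ≫ (und G).map m.hom :=
      bapp_naturality θ.inv m
    show D.map m ≫ bapp θ.inv r ≫ (und G).map (ovTo r.obj) =
      bapp θ.inv r' ≫ (und G).map (ovTo r'.obj)
    rw [← Category.assoc, hnat, Category.assoc, ← (und G).map_comp, ovTo_comp]
    rfl

/-- criterion for essential surjectivity of restriction to a sieve -/
theorem essSurj_of_glue_obj
    (H : ∀ D : Stk.sieveCat R ⥤ᵇ 𝒯, ∃ (t : 𝒯.obj) (_ : 𝒯.p.obj t = U)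
      (π : ∀ r : (Stk.sieveCat R).obj, D.obj r ⟶ t),
      (∀ r, 𝒯.p.IsHomLift r.obj.hom (π r)) ∧
      ∀ {r' r : (Stk.sieveCat R).obj} (m : r' ⟶ r), D.map m ≫ π r = π r') :
    (Stk.resSieve R 𝒯).EssSurj := by
  apply (restr_essSurj_iff _ _).mpr
  intro D
  obtain ⟨t, ht, π, hπ, hπnat⟩ := H D
  have hfib : 𝒯.p.IsFibered := isFibered_of_fibGrpd _ h𝒯
  refine ⟨yonedaBased t ht, ⟨?_⟩⟩
  have hs : ∀ Y : Over U, 𝒯.p.IsStronglyCartesian Y.hom (yonedaProj t ht Y) := fun Y =>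
    yonedaProj_isStronglyCartesian t ht Y
  -- components
  let χ : ∀ r : (Stk.sieveCat R).obj, D.obj r ⟶ (yonedaFunctor t ht).obj r.obj := fun r =>
    cartMap 𝒯.p (hs r.obj) (π r) (hπ r)
  have hχl : ∀ r, 𝒯.p.IsHomLift (𝟙 r.obj.left) (χ r) := fun r =>
    cartMap_lift 𝒯.p (hs r.obj) (π r) (hπ r)
  have hχfac : ∀ r, χ r ≫ yonedaProj t ht r.obj = π r := fun r =>
    cartMap_fac 𝒯.p (hs r.obj) (π r) (hπ r)
  have hχiso : ∀ r, IsIso (χ r) := fun r => isIso_of_lift_id 𝒯.p h𝒯 (hχl r)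
  have hnat : ∀ {r' r : (Stk.sieveCat R).obj} (m : r' ⟶ r),
      D.map m ≫ χ r = χ r' ≫ (yonedaFunctor t ht).map m.hom := by
    intro r' r m
    have h1 : 𝒯.p.IsHomLift m.hom.left (D.map m) := sieve_map_isHomLift R D m
    have h5 : 𝒯.p.IsHomLift m.hom.left ((yonedaFunctor t ht).map m.hom) :=
      yonedaFunctor_map_isHomLift t ht m.hom
    have hL : 𝒯.p.IsHomLift m.hom.left (D.map m ≫ χ r) := lift_comp_id_right 𝒯.p h1 (hχl r)
    have hR' : 𝒯.p.IsHomLift m.hom.left (χ r' ≫ (yonedaFunctor t ht).map m.hom) :=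
      lift_comp_id_left 𝒯.p (hχl r') h5
    apply cart_ext 𝒯.p (hs r.obj) m.hom.left hL hR'
    rw [Category.assoc, hχfac, hπnat, Category.assoc, yonedaFunctor_map_fac t ht m.hom, hχfac]
  refine (mkBIso (H := D) (H' := BasedFunctor.comp (Stk.sieveIncl R) (yonedaBased t ht))
    (fun r => @asIso _ _ _ _ (χ r) (hχiso r)) (fun m => hnat m) hχl).symm

end criteria

end Groth.Agent.H84.StkConcrete
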