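import Mathlib.FieldTheory.IsAlgClosed.Basic
import Mathlib.FieldTheory.Separable
import Mathlib.Algebra.CharP.Defs
import Mathlib.LinearAlgebra.Basis.Defs
import Mathlib.LinearAlgebra.FiniteDimensional.Defs
import Mathlib.LinearAlgebra.FiniteDimensional.Lemmas
import Mathlib.LinearAlgebra.LinearIndependent.Lemmas
import Mathlib.LinearAlgebra.Quotient.Basic
import Mathlib.Tactic

set_option autoImplicit false
universe u v

namespace Groth.Agent.H84

open Polynomial

section poly

variable {k : Type u} [Field k] (q : ℕ) (c : ℕ → k)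

/-- the additive polynomials giving the coordinates of a fixed vector. -/
noncomputable def XP : ℕ → k[X]
  | 0 => C (c 0) * X ^ q
  | i + 1 => (XP i) ^ q + C (c (i + 1)) * X ^ q

theorem XP_zero : XP q c 0 = C (c 0) * X ^ q := rfl

theorem XP_succ (i : ℕ) : XP q c (i + 1) = (XP q c i) ^ q + C (c (i + 1)) * X ^ q := rfl

theorem XP_derivative (hq0 : (q : k) = 0) (i : ℕ) : derivative (XP q c i) = 0 := by
  have h1 : ∀ a : k, derivative (C a * X ^ q : k[X]) = 0 := by
    intro a
    rw [derivative_C_mul, derivative_X_pow, hq0, C_0, zero_mul, mul_zero]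
  induction i with
  | zero => exact h1 _
  | succ i ih =>
    rw [XP_succ, derivative_add, h1, derivative_pow, ih, mul_zero, add_zero]

theorem XP_eq_zero (hq : 1 ≤ q) (i : ℕ) (h : ∀ j ≤ i, c j = 0) : XP q c i = 0 := by
  induction i with
  | zero => rw [XP_zero, h 0 le_rfl, C_0, zero_mul]
  | succ i ih =>
    rw [XP_succ, ih (fun j hj => h j (Nat.le_succ_of_le hj)), h (i + 1) le_rfl, C_0, zero_mul,
      add_zero, zero_pow (by omega)]

theorem natDegree_C_mul_X_pow_le' (a : k) : (C a * X ^ q : k[X]).natDegree ≤ q :=
  natDegree_C_mul_X_pow_le a q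

theorem XP_natDegree (hq : 2 ≤ q) (i : ℕ) (h : ∃ j ≤ i, c j ≠ 0) : q ≤ (XP q c i).natDegree := by
  induction i with
  | zero =>
    obtain ⟨j, hj, hc⟩ := h
    have : j = 0 := by omega
    subst this
    rw [XP_zero, natDegree_C_mul_X_pow q (c 0) hc]
  | succ i ih =>
    by_cases h' : ∃ j ≤ i, c j ≠ 0
    · have h1 := ih h'
      have h2 : ((XP q c i) ^ q).natDegree = q * (XP q c i).natDegree := natDegree_pow _ _
      have h3 : (C (c (i + 1)) * X ^ q : k[X]).natDegree < ((XP q c i) ^ q).natDegree := by
        rw [h2]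
        calc (C (c (i + 1)) * X ^ q : k[X]).natDegree ≤ q := natDegree_C_mul_X_pow_le _ _
          _ < q * q := by nlinarith
          _ ≤ q * (XP q c i).natDegree := Nat.mul_le_mul_left _ h1
      rw [XP_succ, natDegree_add_eq_left_of_natDegree_lt h3, h2]
      calc q ≤ q * q := by nlinarith
        _ ≤ q * (XP q c i).natDegree := Nat.mul_le_mul_left _ h1
    · push Not at h'
      obtain ⟨j, hj, hc⟩ := h
      have hj' : j = i + 1 := by
        by_contra hne
        exact hc (h' j (by omega))
      subst hj'
      rw [XP_succ, XP_eq_zero q c (by omega) i h', zero_pow (by omega), zero_add,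
        natDegree_C_mul_X_pow q _ hc]

/-- the key existence: a nonzero root of `XP m - X`. -/
theorem exists_root [IsAlgClosed k] (hq : 2 ≤ q) (hq0 : (q : k) = 0) (m : ℕ)
    (h : ∃ j ≤ m, c j ≠ 0) : ∃ y : k, y ≠ 0 ∧ (XP q c m).eval y = y := by
  classical
  set Q : k[X] := XP q c m - X with hQ
  have hdeg : (X : k[X]).natDegree < (XP q c m).natDegree := by
    rw [natDegree_X]
    have := XP_natDegree q c hq m h
    omega
  have hQdeg : Q.natDegree = (XP q c m).natDegree := natDegree_sub_eq_left_of_natDegree_lt hdeg
  have hQ2 : 2 ≤ Q.natDegree := by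
    rw [hQdeg]
    exact le_trans hq (XP_natDegree q c hq m h)
  have hsep : Q.Separable := by
    rw [separable_def, hQ, derivative_sub, XP_derivative q c hq0, derivative_X, zero_sub]
    exact (isCoprime_one_right).neg_right
  have hcard : Q.roots.card = Q.natDegree := (IsAlgClosed.splits Q).natDegree_eq_card_roots.symm
  have hnodup : Q.roots.Nodup := nodup_roots hsep
  have hQ0 : Q ≠ 0 := by
    intro h0
    rw [h0, natDegree_zero] at hQ2
    omega
  have h2 : 1 < Q.roots.toFinset.card := by
    rw [Multiset.toFinset_card_of_nodup hnodup, hcard]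
    omega
  obtain ⟨a, ha, b, hb, hab⟩ := Finset.one_lt_card.mp h2
  have key : ∀ z ∈ Q.roots.toFinset, (XP q c m).eval z = z := by
    intro z hz
    rw [Multiset.mem_toFinset, mem_roots hQ0, IsRoot.def, hQ, eval_sub, eval_X, sub_eq_zero] at hz
    exact hz
  by_cases ha0 : a = 0
  · refine ⟨b, ?_, key b hb⟩
    rintro rfl
    exact hab ha0
  · exact ⟨a, ha0, key a ha⟩

end poly

end Groth.Agent.H84

namespace Groth.Agent.H84

open Polynomial

section step1

variable {k : Type u} [Field k] {V : Type v} [AddCommGroup V] [Module k V]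

/-- independence of the first orbit vectors when no vector lies in the span of the previous. -/
theorem indep_of_not_mem (e : ℕ → V) (n : ℕ)
    (h : ∀ j < n, e j ∉ Submodule.span k (Set.range (fun i : Fin j => e i))) :
    LinearIndependent k (fun i : Fin n => e i) := by
  induction n with
  | zero => exact linearIndependent_empty_type
  | succ n ih =>
    have hsnoc : (fun i : Fin (n + 1) => e i) =
        Fin.snoc (fun i : Fin n => e i) (e n) := by
      funext i
      refine Fin.lastCases ?_ (fun j => ?_) i
      · simp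
      · simp
    rw [hsnoc, linearIndependent_finSnoc]
    exact ⟨ih (fun j hj => h j (Nat.lt_succ_of_lt hj)), h n (Nat.lt_succ_self n)⟩

/-- a finite initial segment of the orbit is independent and the next vector depends on it. -/
theorem exists_dep [FiniteDimensional k V] (e : ℕ → V) (h0 : e 0 ≠ 0) :
    ∃ m : ℕ, LinearIndependent k (fun i : Fin (m + 1) => e i) ∧
      e (m + 1) ∈ Submodule.span k (Set.range (fun i : Fin (m + 1) => e i)) := by
  classical
  by_contra hcon
  push Not at hcon
  have hall : ∀ n, LinearIndependent k (fun i : Fin n => e i) := by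
    intro n
    induction n using Nat.strong_induction_on with
    | _ n ih =>
      apply indep_of_not_mem e n
      intro j hj
      rcases j with _ | j
      · have : Set.range (fun i : Fin 0 => e i) = ∅ := Set.range_eq_empty _
        rw [this, Submodule.span_empty, Submodule.mem_bot]
        exact h0
      · exact hcon j (ih (j + 1) hj)
  have := (hall (Module.finrank k V + 1)).fintype_card_le_finrank
  simp at this

variable (σ : k →+* k) (q : ℕ) (hσ : ∀ a, σ a = a ^ q)

include hσ in
/-- Existence of a nonzero fixed vector of an injective Frobenius-semilinear endomorphism. -/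
theorem exists_fixed [IsAlgClosed k] [FiniteDimensional k V] [Nontrivial V]
    (hq : 2 ≤ q) (hq0 : (q : k) = 0) (Φ : V →ₛₗ[σ] V) (hinj : Function.Injective Φ) :
    ∃ v : V, v ≠ 0 ∧ Φ v = v := by
  classical
  obtain ⟨v, hv⟩ := exists_ne (0 : V)
  set e : ℕ → V := fun i => Φ^[i] v with he
  have he_succ : ∀ i, e (i + 1) = Φ (e i) := fun i => Function.iterate_succ_apply' Φ i v
  have he_ne : ∀ i, e i ≠ 0 := by
    intro i
    induction i with
    | zero => exact hv
    | succ i ih =>
      rw [he_succ]
      intro h0
      exact ih (hinj (h0.trans (map_zero Φ).symm))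
  obtain ⟨m, hind, hmem⟩ := exists_dep (k := k) e (he_ne 0)
  obtain ⟨c0, hc0⟩ := (Submodule.mem_span_range_iff_exists_fun k).mp hmem
  set c : ℕ → k := fun i => if h : i < m + 1 then c0 ⟨i, h⟩ else 0 with hc
  have hsum : ∑ i ∈ Finset.range (m + 1), c i • e i = e (m + 1) := by
    rw [← hc0, ← Fin.sum_univ_eq_sum_range (fun i => c i • e i) (m + 1)]
    apply Finset.sum_congr rfl
    intro i _
    have : (i : ℕ) < m + 1 := i.2
    simp only [hc, dif_pos this]
  have hcne : ∃ j ≤ m, c j ≠ 0 := by
    by_contra hcon
    push Not at hcon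
    apply he_ne (m + 1)
    rw [← hsum]
    apply Finset.sum_eq_zero
    intro i hi
    rw [hcon i (by simpa [Nat.lt_succ_iff] using hi), zero_smul]
  obtain ⟨y, hy0, hy⟩ := exists_root q c hq hq0 m hcne
  set x : ℕ → k := fun i => (XP q c i).eval y with hx
  have hx0 : x 0 = c 0 * y ^ q := by simp [hx, XP_zero]
  have hxs : ∀ i, x (i + 1) = (x i) ^ q + c (i + 1) * y ^ q := by
    intro i; simp [hx, XP_succ]
  have hxm : x m = y := hy
  set w : V := ∑ i ∈ Finset.range (m + 1), x i • e i with hw
  refine ⟨w, ?_, ?_⟩
  · -- nonzero by independence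
    intro hw0
    have h1 : ∑ i : Fin (m + 1), x i • e i = 0 := by
      rw [Fin.sum_univ_eq_sum_range (fun i => x i • e i) (m + 1)]
      exact hw0
    have h2 := Fintype.linearIndependent_iff.mp hind (fun i => x i) h1 (Fin.last m)
    simp only [Fin.val_last] at h2
    exact hy0 (hxm ▸ h2)
  · -- fixed
    have h1 : Φ w = ∑ i ∈ Finset.range (m + 1), (x i) ^ q • e (i + 1) := by
      rw [hw, map_sum]
      apply Finset.sum_congr rfl
      intro i _
      rw [map_smulₛₗ, hσ, he_succ]
    rw [h1, Finset.sum_range_succ, hxm, ← hsum, Finset.smul_sum, hw]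
    rw [Finset.sum_range_succ' (fun i => x i • e i) m,
      Finset.sum_range_succ' (fun i => y ^ q • c i • e i) m, ← add_assoc,
      ← Finset.sum_add_distrib]
    congr 1
    · apply Finset.sum_congr rfl
      intro i _
      rw [hxs, add_smul, mul_comm, mul_smul]
    · rw [hx0, mul_comm, mul_smul]

end step1

end Groth.Agent.H84

namespace Groth.Agent.H84

open Polynomial

section step2

variable {k : Type u} [Field k] [IsAlgClosed k] {V : Type v} [AddCommGroup V] [Module k V]
  [FiniteDimensional k V]
variable (σ : k →+* k) (q : ℕ) (hσ : ∀ a, σ a = a ^ q)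

include hσ in
/-- The fixed vectors of a bijective Frobenius-semilinear endomorphism span the space. -/
theorem span_fixed_eq_top (hq : 2 ≤ q) (hq0 : (q : k) = 0) (Φ : V →ₛₗ[σ] V)
    (hinj : Function.Injective Φ) :
    Submodule.span k {v : V | Φ v = v} = ⊤ := by
  classical
  set W : Submodule k V := Submodule.span k {v : V | Φ v = v} with hW
  have hq1 : 0 < q := by omega
  -- `Φ` maps `W` into `W`
  have hWW : W ≤ W.comap Φ := by
    rw [hW, Submodule.span_le]
    intro v hv
    change Φ v ∈ Submodule.span k {v : V | Φ v = v}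
    rw [hv]
    exact Submodule.subset_span hv
  -- every element of `W` is the image of an element of `W`
  have hS : ∀ w ∈ W, ∃ w' ∈ W, Φ w' = w := by
    intro w hw
    induction hw using Submodule.span_induction with
    | mem v hv => exact ⟨v, Submodule.subset_span hv, hv⟩
    | zero => exact ⟨0, W.zero_mem, map_zero Φ⟩
    | add x y _ _ hx hy =>
      obtain ⟨x', hx', rfl⟩ := hx
      obtain ⟨y', hy', rfl⟩ := hy
      exact ⟨x' + y', W.add_mem hx' hy', map_add Φ x' y'⟩
    | smul a x _ hx =>
      obtain ⟨x', hx', rfl⟩ := hx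
      obtain ⟨a', ha'⟩ := IsAlgClosed.exists_pow_nat_eq a hq1
      refine ⟨a' • x', W.smul_mem a' hx', ?_⟩
      rw [map_smulₛₗ, hσ, ha']
  -- `Φ - 1` is onto `W` on `W`
  have hT : ∀ w ∈ W, ∀ a : k, ∃ w' ∈ W, Φ w' - w' = a • w := by
    intro w hw
    induction hw using Submodule.span_induction with
    | mem v hv =>
      intro a
      have hdeg : (X ^ q - (X + C a) : k[X]).degree ≠ 0 := by
        have h1 : (X + C a : k[X]).degree < (X ^ q : k[X]).degree := by
          rw [degree_X_pow]
          calc (X + C a : k[X]).degree ≤ 1 := by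
                refine (degree_add_le _ _).trans (max_le degree_X_le ?_)
                exact degree_C_le.trans (by norm_num)
            _ < (q : WithBot ℕ) := by exact_mod_cast hq
        rw [degree_sub_eq_left_of_degree_lt h1, degree_X_pow]
        exact_mod_cast hq1.ne'
      obtain ⟨x, hx⟩ := IsAlgClosed.exists_root _ hdeg
      simp only [IsRoot.def, eval_sub, eval_pow, eval_X, eval_add, eval_C] at hx
      refine ⟨x • v, W.smul_mem x (Submodule.subset_span hv), ?_⟩
      have hv' : Φ v = v := hv
      rw [map_smulₛₗ, hσ, hv', ← sub_smul]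
      congr 1
      linear_combination hx
    | zero => intro a; exact ⟨0, W.zero_mem, by simp⟩
    | add x y _ _ hx hy =>
      intro a
      obtain ⟨x', hx', hx''⟩ := hx a
      obtain ⟨y', hy', hy''⟩ := hy a
      refine ⟨x' + y', W.add_mem hx' hy', ?_⟩
      rw [map_add, smul_add, ← hx'', ← hy'']
      abel
    | smul b x _ hx =>
      intro a
      obtain ⟨x', hx', hx''⟩ := hx (a * b)
      exact ⟨x', hx', by rw [hx'', mul_smul]⟩
  by_contra hne
  -- the induced map on the quotient
  set Ψ : (V ⧸ W) →ₛₗ[σ] (V ⧸ W) := W.mapQ W Φ hWW with hΨ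
  have hΨinj : Function.Injective Ψ := by
    rw [injective_iff_map_eq_zero]
    intro x hx
    obtain ⟨v, rfl⟩ := Submodule.Quotient.mk_surjective W x
    rw [hΨ, Submodule.mapQ_apply, Submodule.Quotient.mk_eq_zero] at hx
    obtain ⟨w', hw', hw''⟩ := hS _ hx
    rw [Submodule.Quotient.mk_eq_zero, ← hinj hw'']
    exact hw'
  have : Nontrivial (V ⧸ W) := Submodule.Quotient.nontrivial_iff.mpr hne
  obtain ⟨ubar, hu0, hufix⟩ := exists_fixed σ q hσ hq hq0 Ψ hΨinj
  obtain ⟨u, rfl⟩ := Submodule.Quotient.mk_surjective W ubar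
  rw [hΨ, Submodule.mapQ_apply, Submodule.Quotient.eq] at hufix
  obtain ⟨w', hw', hw''⟩ := hT _ hufix (-1)
  apply hu0
  rw [Submodule.Quotient.mk_eq_zero]
  have hfix : Φ (u + w') = u + w' := by
    rw [map_add]
    have : Φ w' = w' - (Φ u - u) := by
      rw [neg_one_smul] at hw''
      rw [sub_eq_add_neg w', ← hw'']; abel
    rw [this]; abel
  have : u + w' ∈ W := Submodule.subset_span hfix
  have h2 := W.sub_mem this hw'
  simpa using h2

end step2

end Groth.Agent.H84

namespace Groth.Agent.H84

open Polynomial

section step3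

variable {k : Type u} [Field k] [IsAlgClosed k] {V : Type v} [AddCommGroup V] [Module k V]
  [FiniteDimensional k V]
variable (σ : k →+* k) (q : ℕ) (hσ : ∀ a, σ a = a ^ q)

include hσ in
/-- `Φ - 1` is surjective for a bijective Frobenius-semilinear endomorphism. -/
theorem sub_one_surjective (hq : 2 ≤ q) (hq0 : (q : k) = 0) (Φ : V →ₛₗ[σ] V)
    (hinj : Function.Injective Φ) (w : V) : ∃ w' : V, Φ w' - w' = w := by
  have hq1 : 0 < q := by omega
  have hT : ∀ w ∈ Submodule.span k {v : V | Φ v = v}, ∀ a : k, ∃ w' : V, Φ w' - w' = a • w := by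
    intro w hw
    induction hw using Submodule.span_induction with
    | mem v hv =>
      intro a
      have hdeg : (X ^ q - (X + C a) : k[X]).degree ≠ 0 := by
        have h1 : (X + C a : k[X]).degree < (X ^ q : k[X]).degree := by
          rw [degree_X_pow]
          calc (X + C a : k[X]).degree ≤ 1 := by
                refine (degree_add_le _ _).trans (max_le degree_X_le ?_)
                exact degree_C_le.trans (by norm_num)
            _ < (q : WithBot ℕ) := by exact_mod_cast hq
        rw [degree_sub_eq_left_of_degree_lt h1, degree_X_pow]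
        exact_mod_cast hq1.ne'
      obtain ⟨x, hx⟩ := IsAlgClosed.exists_root _ hdeg
      simp only [IsRoot.def, eval_sub, eval_pow, eval_X, eval_add, eval_C] at hx
      refine ⟨x • v, ?_⟩
      have hv' : Φ v = v := hv
      rw [map_smulₛₗ, hσ, hv', ← sub_smul]
      congr 1
      linear_combination hx
    | zero => intro a; exact ⟨0, by simp⟩
    | add x y _ _ hx hy =>
      intro a
      obtain ⟨x', hx''⟩ := hx a
      obtain ⟨y', hy''⟩ := hy a
      refine ⟨x' + y', ?_⟩
      rw [map_add, smul_add, ← hx'', ← hy'']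
      abel
    | smul b x _ hx =>
      intro a
      obtain ⟨x', hx''⟩ := hx (a * b)
      exact ⟨x', by rw [hx'', mul_smul]⟩
  have hw : w ∈ Submodule.span k {v : V | Φ v = v} := by
    rw [span_fixed_eq_top σ q hσ hq hq0 Φ hinj]
    exact Submodule.mem_top
  obtain ⟨w', hw'⟩ := hT w hw 1
  exact ⟨w', by rw [hw', one_smul]⟩

end step3

end Groth.Agent.H84
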