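import Groth.Agent.H84.QuadCenter

/-!
# Coordinates for the base change of a quadratic form on `R^n` (helper84)
-/

set_option autoImplicit false

universe u

namespace Groth.Agent.H84

open Matrix TensorProduct QuadGrp

section coord

variable {R : Type u} [CommRing R] {n : ℕ} (Q : QuadraticForm R (Fin n → R))

/-- The matrix of the chosen bilinear lift of `Q`. -/
noncomputable def liftMat : Matrix (Fin n) (Fin n) R :=
  Matrix.of fun i j => bilinLift Q (Pi.single i 1) (Pi.single j 1)

/-- The polar matrix of `Q` in the standard basis. -/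
noncomputable abbrev stdPolarMat : Matrix (Fin n) (Fin n) R :=
  polarMat (Pi.basisFun R (Fin n)) (LinearEquiv.refl R R) Q

theorem liftMat_add_transpose : liftMat Q + (liftMat Q)ᵀ = stdPolarMat Q := by
  refine Matrix.ext fun i j => ?_
  simp only [liftMat, polarMat, Matrix.add_apply, transpose_apply, of_apply, Pi.basisFun_apply,
    LinearEquiv.refl_apply]
  conv_rhs => rw [← bilinLift_spec Q, LinearMap.BilinMap.polar_toQuadraticMap]

variable (A : Type u) [CommRing A] [Algebra R A]

/-- The coordinate expression of the base-changed quadratic form. -/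
noncomputable def qA (x : Fin n → A) : A := x ⬝ᵥ ((liftMat Q).map (algebraMap R A)) *ᵥ x

/-- The coordinate isomorphism. -/
noncomputable abbrev eA : A ⊗[R] (Fin n → R) ≃ₗ[A] (Fin n → A) :=
  TensorProduct.piScalarRight R A A (Fin n)

theorem rid_baseChange (z : A ⊗[R] (Fin n → R)) :
    AlgebraTensorModule.rid R A A (QuadGrp.baseChange A Q z) = qA Q A (eA A z) := by
  have key : ((bilinLift Q).baseChange A).compr₂ (AlgebraTensorModule.rid R A A).toLinearMap
      = (Matrix.toLinearMap₂' A ((liftMat Q).map (algebraMap R A))).compl₁₂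
          (eA A).toLinearMap (eA A).toLinearMap := by
    apply LinearMap.ext_basis ((Pi.basisFun R (Fin n)).baseChange A) ((Pi.basisFun R (Fin n)).baseChange A)
    intro i j
    simp only [Module.Basis.baseChange_apply, Pi.basisFun_apply, LinearMap.compr₂_apply,
      LinearMap.BilinMap.baseChange_tmul, LinearEquiv.coe_coe, AlgebraTensorModule.rid_tmul,
      LinearMap.compl₁₂_apply, TensorProduct.piScalarRight_apply, TensorProduct.piScalarRightHom_tmul]
    have hv : ∀ i : Fin n, (fun j => (Pi.single i (1 : R) : Fin n → R) j • (1 : A)) = Pi.single i 1 := by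
      intro i; ext j
      by_cases h : j = i
      · subst h; simp
      · simp [h]
    rw [hv, hv, Matrix.toLinearMap₂'_apply', mulVec_single_one, single_dotProduct, one_mul,
      Matrix.col_apply, Matrix.map_apply, liftMat, Matrix.of_apply, Algebra.smul_def, mul_one, one_mul]
  have h := LinearMap.congr_fun₂ key z z
  rw [LinearMap.compr₂_apply, LinearMap.compl₁₂_apply, Matrix.toLinearMap₂'_apply'] at h
  exact h

/-- The matrix of `g`, mapped to `A`. -/
noncomputable def matA (g : (Fin n → R) ≃ₗ[R] (Fin n → R)) : Matrix (Fin n) (Fin n) A :=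
  (LinearMap.toMatrix' g.toLinearMap).map (algebraMap R A)

theorem eA_baseChange (g : (Fin n → R) ≃ₗ[R] (Fin n → R)) (x : Fin n → A) :
    eA A (g.baseChange R A (Fin n → R) (Fin n → R) ((eA A).symm x)) = matA A g *ᵥ x := by
  have key : (eA A).toLinearMap ∘ₗ (g.baseChange R A (Fin n → R) (Fin n → R)).toLinearMap ∘ₗ
      (eA A).symm.toLinearMap = Matrix.toLin' (matA A g) := by
    apply (Pi.basisFun A (Fin n)).ext
    intro i
    rw [Pi.basisFun_apply, LinearMap.comp_apply, LinearMap.comp_apply, LinearEquiv.coe_coe,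
      LinearEquiv.coe_coe, LinearEquiv.coe_coe, TensorProduct.piScalarRight_symm_single,
      LinearEquiv.baseChange_tmul, TensorProduct.piScalarRight_apply,
      TensorProduct.piScalarRightHom_tmul, toLin'_apply, mulVec_single_one]
    ext j
    rw [Matrix.col_apply, matA, Matrix.map_apply, LinearMap.toMatrix'_apply, Algebra.smul_def, mul_one]
    rfl
  exact LinearMap.congr_fun key x

/-- The automorphism of `A^n` with matrix `K`. -/
noncomputable def matEquiv (K K' : Matrix (Fin n) (Fin n) A) (h1 : K * K' = 1) (h2 : K' * K = 1) :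
    (Fin n → A) ≃ₗ[A] (Fin n → A) :=
  LinearEquiv.ofLinearMap (Matrix.toLin' K) (Matrix.toLin' K')
    (by rw [← toLin'_mul, h1, toLin'_one]) (by rw [← toLin'_mul, h2, toLin'_one])

variable (R) in
/-- The automorphism of `A ⊗ R^n` with matrix `K` in the standard coordinates. -/
noncomputable def conjEquiv (K K' : Matrix (Fin n) (Fin n) A) (h1 : K * K' = 1) (h2 : K' * K = 1) :
    (A ⊗[R] (Fin n → R)) ≃ₗ[A] (A ⊗[R] (Fin n → R)) :=
  ((eA (R := R) (n := n) A).trans (matEquiv A K K' h1 h2)).trans (eA (R := R) (n := n) A).symm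

theorem conjEquiv_apply (K K' : Matrix (Fin n) (Fin n) A) (h1 : K * K' = 1) (h2 : K' * K = 1)
    (z : A ⊗[R] (Fin n → R)) :
    conjEquiv R A K K' h1 h2 z = (eA A).symm (K *ᵥ (eA A z)) := rfl

/-- If `g_A` commutes with the automorphism with matrix `K`, the matrix of `g` commutes with `K`. -/
theorem comm_of_comm (g : (Fin n → R) ≃ₗ[R] (Fin n → R))
    (K K' : Matrix (Fin n) (Fin n) A) (h1 : K * K' = 1) (h2 : K' * K = 1)
    (hc : g.baseChange R A (Fin n → R) (Fin n → R) * conjEquiv R A K K' h1 h2 =
      conjEquiv R A K K' h1 h2 * g.baseChange R A (Fin n → R) (Fin n → R)) :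
    matA A g * K = K * matA A g := by
  apply Matrix.toLin'.injective
  apply LinearMap.ext
  intro x
  have hcx := LinearEquiv.congr_fun hc ((eA A).symm x)
  rw [LinearEquiv.mul_apply, LinearEquiv.mul_apply, conjEquiv_apply, conjEquiv_apply,
    LinearEquiv.apply_symm_apply] at hcx
  have := congrArg (eA A) hcx
  rw [eA_baseChange, LinearEquiv.apply_symm_apply, eA_baseChange] at this
  rw [toLin'_apply, toLin'_apply, ← mulVec_mulVec, ← mulVec_mulVec]
  exact this

/-- The base-changed form in coordinates. -/
theorem baseChangeForm_apply (z : A ⊗[R] (Fin n → R)) :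
    QuadGrp.baseChangeForm A Q z = qA Q A (eA A z) := by
  rw [← rid_baseChange]; rfl

/-- The polar form of the base-changed form in coordinates. -/
theorem polar_baseChangeForm (z z' : A ⊗[R] (Fin n → R)) :
    QuadraticMap.polar (QuadGrp.baseChangeForm A Q) z z' =
      bil ((stdPolarMat Q).map (algebraMap R A)) (eA A z) (eA A z') := by
  have hMP : (liftMat Q).map (algebraMap R A) + ((liftMat Q).map (algebraMap R A))ᵀ =
      (stdPolarMat Q).map (algebraMap R A) := by
    rw [← liftMat_add_transpose, Matrix.map_add _ (map_add _), Matrix.transpose_map]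
  unfold QuadraticMap.polar
  rw [baseChangeForm_apply, baseChangeForm_apply, baseChangeForm_apply, map_add]
  unfold qA
  rw [quad_add _ _ hMP]
  ring

/-- Transport: an isometry of the coordinate form of determinant one commutes with the matrix of `g`
as soon as `g_A` commutes with all points of `SO'(Q_A)`. -/
theorem comm_of_hyp (g : (Fin n → R) ≃ₗ[R] (Fin n → R))
    (hyp : ∀ h ∈ QuadGrp.sorth' Q A, g.baseChange R A (Fin n → R) (Fin n → R) * h =
      h * g.baseChange R A (Fin n → R) (Fin n → R))
    (K K' : Matrix (Fin n) (Fin n) A) (h1 : K * K' = 1) (h2 : K' * K = 1)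
    (hq : ∀ x, qA Q A (K *ᵥ x) = qA Q A x) (hdet : K.det = 1) :
    matA A g * K = K * matA A g := by
  let kL : (Fin n → A) ≃ₗ[A] (Fin n → A) := LinearEquiv.ofLinearMap (Matrix.toLin' K) (Matrix.toLin' K')
    (by rw [← toLin'_mul, h1, toLin'_one]) (by rw [← toLin'_mul, h2, toLin'_one])
  let h : (A ⊗[R] (Fin n → R)) ≃ₗ[A] (A ⊗[R] (Fin n → R)) := ((eA A).trans kL).trans (eA A).symm
  have hh : ∀ z, h z = (eA A).symm (K *ᵥ (eA A z)) := fun z => rfl
  have hmem : h ∈ QuadGrp.sorth' Q A := by
    refine Subgroup.mem_inf.mpr ⟨?_, ?_⟩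
    · intro z
      apply (AlgebraTensorModule.rid R A A).injective
      rw [rid_baseChange, rid_baseChange, hh, LinearEquiv.apply_symm_apply, hq]
    · rw [MonoidHom.mem_ker]
      apply Units.ext
      rw [LinearEquiv.coe_det, Units.val_one]
      have : (h : (A ⊗[R] (Fin n → R)) →ₗ[A] (A ⊗[R] (Fin n → R))) =
          ((eA (R := R) (n := n) A).symm.toLinearMap) ∘ₗ Matrix.toLin' K ∘ₗ
            (((eA (R := R) (n := n) A).symm).symm.toLinearMap) := by
        ext z; rfl
      rw [this, LinearMap.det_conj, LinearMap.det_toLin', hdet]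
  have hc := hyp h hmem
  apply Matrix.toLin'.injective
  apply LinearMap.ext
  intro x
  have hcx := LinearEquiv.congr_fun hc ((eA A).symm x)
  rw [LinearEquiv.mul_apply, LinearEquiv.mul_apply, hh, hh, LinearEquiv.apply_symm_apply] at hcx
  have := congrArg (eA A) hcx
  rw [eA_baseChange, LinearEquiv.apply_symm_apply, eA_baseChange] at this
  rw [toLin'_apply, toLin'_apply, ← mulVec_mulVec, ← mulVec_mulVec]
  exact this

end coord

end Groth.Agent.H84
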