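import Groth.Agent.H84.QuadDiscTransform

/-!
# The half-discriminant and fibrewise non-degeneracy (helper84)
-/

set_option autoImplicit false

namespace Groth.Agent.H84

open Matrix MvPolynomial QuadGrp

section formula

variable {R : Type*} [CommRing R] {M : Type*} [AddCommGroup M] [Module R M]

/-- the upper triangular half matrix of `Q` in the basis `b`. -/
noncomputable def halfMat {n : ℕ} (b : Module.Basis (Fin n) R M) (Q : QuadraticForm R M) :
    Matrix (Fin n) (Fin n) R :=
  Matrix.of fun i j => if i ≤ j then coeffs b (LinearEquiv.refl R R) Q (Sym2.mk i j) else 0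

theorem mapMatrix_univHalfMat {n : ℕ} (b : Module.Basis (Fin n) R M) (Q : QuadraticForm R M) :
    (MvPolynomial.eval₂Hom (Int.castRingHom R) (coeffs b (LinearEquiv.refl R R) Q)).mapMatrix
      (univHalfMat n) = halfMat b Q := by
  refine Matrix.ext fun i j => ?_
  simp only [RingHom.mapMatrix_apply, Matrix.map_apply, univHalfMat, halfMat, of_apply]
  by_cases h : i ≤ j
  · rw [if_pos h, if_pos h, MvPolynomial.coe_eval₂Hom, MvPolynomial.eval₂_X]
  · rw [if_neg h, if_neg h, map_zero]

theorem ringHom_map_trace {S T : Type*} [CommRing S] [CommRing T] (f : S →+* T) {n : ℕ}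
    (A : Matrix (Fin n) (Fin n) S) : f (Matrix.trace A) = Matrix.trace (f.mapMatrix A) := by
  simp only [Matrix.trace, map_sum, Matrix.diag_apply, RingHom.mapMatrix_apply, Matrix.map_apply]

/-- the evaluated form of `halfDiscUniv_eq`. -/
theorem halfDisc_eq_trace (m : ℕ) (b : Module.Basis (Fin (2 * m + 1)) R M) (Q : QuadraticForm R M) :
    halfDisc b (LinearEquiv.refl R R) Q =
      Matrix.trace (halfMat b Q * (polarMat b (LinearEquiv.refl R R) Q).adjugate)
        - (m : R) * (polarMat b (LinearEquiv.refl R R) Q).det := by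
  have h := congrArg (MvPolynomial.eval₂Hom (Int.castRingHom R) (coeffs b (LinearEquiv.refl R R) Q))
    (halfDiscUniv_eq m)
  rw [map_sub, map_mul, map_natCast, RingHom.map_det, mapMatrix_univPolarMat,
    ringHom_map_trace, map_mul, RingHom.map_adjugate, mapMatrix_univPolarMat,
    mapMatrix_univHalfMat] at h
  exact h

/-- If `b i₀` lies in the kernel of the polar form, the half-discriminant is `Q (b i₀)` times the
determinant of the polar matrix with row `i₀` replaced by the `i₀`-th unit vector. -/
theorem halfDisc_of_mem_ker (m : ℕ) (b : Module.Basis (Fin (2 * m + 1)) R M) (Q : QuadraticForm R M)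
    (i₀ : Fin (2 * m + 1)) (h0 : ∀ j, QuadraticMap.polar Q (b i₀) (b j) = 0) :
    halfDisc b (LinearEquiv.refl R R) Q =
      Q (b i₀) * ((polarMat b (LinearEquiv.refl R R) Q).updateRow i₀ (Pi.single i₀ 1)).det := by
  set P := polarMat b (LinearEquiv.refl R R) Q with hP
  have hrow : ∀ j, P i₀ j = 0 := fun j => by
    rw [hP, polarMat, of_apply, h0 j, map_zero]
  have hcol : ∀ j, P j i₀ = 0 := fun j => by
    rw [hP, polarMat, of_apply, QuadraticMap.polar_comm, h0 j, map_zero]
  have hdet : P.det = 0 := det_eq_zero_of_row_eq_zero i₀ hrow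
  have hadj : ∀ j k, ¬ (j = i₀ ∧ k = i₀) → P.adjugate j k = 0 := by
    intro j k hjk
    rw [adjugate_apply]
    by_cases hk : k = i₀
    · have hj : j ≠ i₀ := fun hj => hjk ⟨hj, hk⟩
      subst hk
      apply det_eq_zero_of_column_eq_zero k
      intro r
      by_cases hr : r = k
      · subst hr
        rw [updateRow_self, Pi.single_eq_of_ne (Ne.symm hj)]
      · rw [updateRow_ne hr, hcol]
    · apply det_eq_zero_of_row_eq_zero i₀
      intro c
      rw [updateRow_ne (Ne.symm hk), hrow]
  rw [halfDisc_eq_trace, ← hP, hdet, mul_zero, sub_zero, Matrix.trace]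
  simp only [Matrix.diag_apply, Matrix.mul_apply]
  rw [Finset.sum_eq_single i₀]
  · rw [Finset.sum_eq_single i₀]
    · rw [adjugate_apply, halfMat, of_apply, if_pos le_rfl, coeffs_mk, if_pos rfl]
      rfl
    · intro k _ hk
      rw [hadj k i₀ (fun h => hk h.1), mul_zero]
    · intro h; exact absurd (Finset.mem_univ _) h
  · intro j _ hj
    apply Finset.sum_eq_zero
    intro k _
    rw [hadj k j (fun h => hj h.2), mul_zero]
  · intro h; exact absurd (Finset.mem_univ _) h

/-- the half-discriminants relative to two bases differ by the square of a unit. -/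
theorem halfDisc_basis_change (m : ℕ) (b b' : Module.Basis (Fin (2 * m + 1)) R M)
    (Q : QuadraticForm R M) :
    ∃ u : R, IsUnit u ∧ halfDisc b' (LinearEquiv.refl R R) Q =
      u ^ 2 * halfDisc b (LinearEquiv.refl R R) Q := by
  let ge : M ≃ₗ[R] M := b.equiv b' (Equiv.refl _)
  have hge : ∀ i, ge (b i) = b' i := fun i => by
    rw [Module.Basis.equiv_apply, Equiv.refl_apply]
  refine ⟨LinearMap.det (ge : M →ₗ[R] M), LinearEquiv.isUnit_det' ge, ?_⟩
  rw [← halfDisc_comp m b Q (ge : M →ₗ[R] M)]
  unfold halfDisc
  congr 1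
  funext s
  induction s using Sym2.ind with
  | _ i j =>
    rw [coeffs_mk, coeffs_mk]
    have e1 : ∀ x, (Q.comp (ge : M →ₗ[R] M)) x = Q (ge x) := fun x => rfl
    by_cases h : i = j
    · rw [if_pos h, if_pos h, e1, hge]
    · rw [if_neg h, if_neg h]
      unfold QuadraticMap.polar
      rw [e1, e1, e1, LinearEquiv.map_add, hge, hge]

theorem sum_mem_ker_polar {n : ℕ} (b : Module.Basis (Fin n) R M) (Q : QuadraticForm R M)
    (c : Fin n → R) (h : polarMat b (LinearEquiv.refl R R) Q *ᵥ c = 0) :
    QuadraticMap.polarBilin Q (∑ k, c k • b k) = 0 := by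
  apply b.ext
  intro j
  rw [map_sum, LinearMap.sum_apply, LinearMap.zero_apply]
  have hj := congrFun h j
  rw [Matrix.mulVec, dotProduct, Pi.zero_apply] at hj
  rw [← hj]
  apply Finset.sum_congr rfl
  intro k _
  rw [map_smul, LinearMap.smul_apply, QuadraticMap.polarBilin_apply_apply, smul_eq_mul, polarMat,
    of_apply, QuadraticMap.polar_comm, mul_comm]
  rfl

end formula

section field

variable {F : Type*} [Field F] {V : Type*} [AddCommGroup V] [Module F V]

/-- a basis indexed by `Fin n` containing a given linearly independent set. -/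
theorem exists_basis_containing {n : ℕ} (b : Module.Basis (Fin n) F V) {s : Set V}
    (hs : LinearIndepOn F id s) :
    ∃ b' : Module.Basis (Fin n) F V, ∀ v ∈ s, ∃ i, b' i = v := by
  classical
  have hfin : Module.Finite F V := Module.Finite.of_basis b
  let B := Module.Basis.extend hs
  let _ : Fintype (hs.extend (Set.subset_univ s)) := FiniteDimensional.fintypeBasisIndex B
  have hcard : Fintype.card (hs.extend (Set.subset_univ s)) = n := by
    rw [← Module.finrank_eq_card_basis B, Module.finrank_eq_card_basis b, Fintype.card_fin]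
  let e := Fintype.equivFinOfCardEq hcard
  refine ⟨B.reindex e, fun v hv => ?_⟩
  refine ⟨e ⟨v, Module.Basis.subset_extend hs hv⟩, ?_⟩
  rw [Module.Basis.reindex_apply, Equiv.symm_apply_apply, Module.Basis.extend_apply_self]

/-- a vector of the polar kernel with value zero kills the half-discriminant. -/
theorem halfDisc_eq_zero_of_mem_ker (m : ℕ) (b : Module.Basis (Fin (2 * m + 1)) F V)
    (q : QuadraticForm F V) (b' : Module.Basis (Fin (2 * m + 1)) F V) (i₀ : Fin (2 * m + 1))
    (h0 : QuadraticMap.polarBilin q (b' i₀) = 0)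
    (hz : q (b' i₀) *
      ((polarMat b' (LinearEquiv.refl F F) q).updateRow i₀ (Pi.single i₀ 1)).det = 0) :
    halfDisc b (LinearEquiv.refl F F) q = 0 := by
  obtain ⟨u, hu, hb⟩ := halfDisc_basis_change m b b' q
  have h1 : halfDisc b' (LinearEquiv.refl F F) q = 0 := by
    rw [halfDisc_of_mem_ker m b' q i₀ (fun j => by
      rw [← QuadraticMap.polarBilin_apply_apply, h0, LinearMap.zero_apply]), hz]
  rw [hb] at h1
  exact (mul_eq_zero.mp h1).resolve_left (pow_ne_zero 2 hu.ne_zero)

theorem nondegenerate_of_halfDisc_ne_zero (m : ℕ) (b : Module.Basis (Fin (2 * m + 1)) F V)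
    (q : QuadraticForm F V) (hne : halfDisc b (LinearEquiv.refl F F) q ≠ 0) :
    QuadraticMap.Nondegenerate (Q := q) := by
  classical
  constructor
  · -- the radical vanishes
    by_contra hrad
    obtain ⟨v, hv, hv0⟩ := Submodule.exists_mem_ne_zero_of_ne_bot hrad
    have hs : LinearIndepOn F id ({v} : Set V) := (linearIndepOn_singleton_iff (R := F) (v := id)).mpr hv0
    obtain ⟨b', hb'⟩ := exists_basis_containing b hs
    obtain ⟨i₀, hi₀⟩ := hb' v rfl
    apply hne
    apply halfDisc_eq_zero_of_mem_ker m b q b' i₀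
    · rw [hi₀]; exact hv.2
    · rw [hi₀, hv.1, zero_mul]
  · -- the polar kernel has rank at most one
    rw [rank_submodule_le_one_iff']
    by_cases hK : LinearMap.ker (QuadraticMap.polarBilin q) = ⊥
    · exact ⟨0, by rw [hK]; exact bot_le⟩
    obtain ⟨v₁, hv₁, hv₁0⟩ := Submodule.exists_mem_ne_zero_of_ne_bot hK
    refine ⟨v₁, fun v₂ hv₂ => ?_⟩
    by_contra hnot
    have hs : LinearIndepOn F id (insert v₂ ({v₁} : Set V)) :=
      ((linearIndepOn_singleton_iff (R := F) (v := id)).mpr hv₁0).id_insert hnot
    obtain ⟨b', hb'⟩ := exists_basis_containing b hs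
    obtain ⟨i₁, hi₁⟩ := hb' v₁ (Set.mem_insert_of_mem _ rfl)
    obtain ⟨i₂, hi₂⟩ := hb' v₂ (Set.mem_insert _ _)
    have hi12 : i₂ ≠ i₁ := by
      intro h
      apply hnot
      rw [← hi₂, h, hi₁]
      exact Submodule.mem_span_singleton_self v₁
    apply hne
    apply halfDisc_eq_zero_of_mem_ker m b q b' i₁
    · rw [hi₁]; exact hv₁
    · have : ((polarMat b' (LinearEquiv.refl F F) q).updateRow i₁ (Pi.single i₁ 1)).det = 0 := by
        apply det_eq_zero_of_row_eq_zero i₂
        intro c
        rw [updateRow_ne hi12, polarMat, of_apply, hi₂, ← QuadraticMap.polarBilin_apply_apply,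
          LinearMap.mem_ker.mp hv₂, LinearMap.zero_apply, map_zero]
      rw [this, mul_zero]

theorem halfDisc_ne_zero_of_nondegenerate (m : ℕ) (b : Module.Basis (Fin (2 * m + 1)) F V)
    (q : QuadraticForm F V) (hnd : QuadraticMap.Nondegenerate (Q := q)) :
    halfDisc b (LinearEquiv.refl F F) q ≠ 0 := by
  classical
  by_cases hK : LinearMap.ker (QuadraticMap.polarBilin q) = ⊥
  · -- the polar form is non-degenerate: the discriminant is non-zero
    have hdet : (polarMat b (LinearEquiv.refl F F) q).det ≠ 0 := by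
      intro hd
      obtain ⟨c, hc0, hc⟩ := (Matrix.exists_mulVec_eq_zero_iff).mpr hd
      have h1 := sum_mem_ker_polar b q c hc
      have h2 : (∑ k, c k • b k) ∈ LinearMap.ker (QuadraticMap.polarBilin q) :=
        LinearMap.mem_ker.mpr h1
      rw [hK, Submodule.mem_bot] at h2
      apply hc0
      funext k
      exact (Fintype.linearIndependent_iff.mp b.linearIndependent) c h2 k
    intro h0
    apply hdet
    rw [← two_mul_halfDisc ⟨m, rfl⟩ b (LinearEquiv.refl F F) q, h0, mul_zero]
  · obtain ⟨v₀, hv₀, hv₀0⟩ := Submodule.exists_mem_ne_zero_of_ne_bot hK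
    have hq0 : q v₀ ≠ 0 := by
      intro h0
      have : v₀ ∈ q.radical := ⟨h0, LinearMap.mem_ker.mp hv₀⟩
      rw [hnd.radical_eq_bot, Submodule.mem_bot] at this
      exact hv₀0 this
    have hle : LinearMap.ker (QuadraticMap.polarBilin q) ≤ Submodule.span F {v₀} := by
      obtain ⟨u, hu⟩ := (rank_submodule_le_one_iff' _).mp hnd.rank_rad_polar_le
      obtain ⟨r, hr⟩ := Submodule.mem_span_singleton.mp (hu hv₀)
      have hr0 : r ≠ 0 := by
        rintro rfl
        rw [zero_smul] at hr
        exact hv₀0 hr.symm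
      refine hu.trans ?_
      rw [Submodule.span_singleton_le_iff_mem]
      refine Submodule.mem_span_singleton.mpr ⟨r⁻¹, ?_⟩
      rw [← hr, smul_smul, inv_mul_cancel₀ hr0, one_smul]
    have hs : LinearIndepOn F id ({v₀} : Set V) :=
      (linearIndepOn_singleton_iff (R := F) (v := id)).mpr hv₀0
    obtain ⟨b', hb'⟩ := exists_basis_containing b hs
    obtain ⟨i₀, hi₀⟩ := hb' v₀ rfl
    obtain ⟨u, hu, hb⟩ := halfDisc_basis_change m b b' q
    have hker : ∀ j, QuadraticMap.polar q (b' i₀) (b' j) = 0 := fun j => by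
      rw [← QuadraticMap.polarBilin_apply_apply, hi₀, LinearMap.mem_ker.mp hv₀,
        LinearMap.zero_apply]
    have h1 := halfDisc_of_mem_ker m b' q i₀ hker
    have hdet : ((polarMat b' (LinearEquiv.refl F F) q).updateRow i₀ (Pi.single i₀ 1)).det ≠ 0 := by
      intro hd
      obtain ⟨c, hc0, hc⟩ := (Matrix.exists_mulVec_eq_zero_iff).mpr hd
      -- the `i₀`-th coordinate vanishes
      have hci₀ : c i₀ = 0 := by
        have := congrFun hc i₀
        rw [Matrix.mulVec, dotProduct, Pi.zero_apply] at this
        simp only [updateRow_self] at this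
        rw [Finset.sum_eq_single i₀] at this
        · rwa [Pi.single_eq_same, one_mul] at this
        · intro k _ hk
          rw [Pi.single_eq_of_ne hk, zero_mul]
        · intro h; exact absurd (Finset.mem_univ _) h
      -- `c` is in the kernel of the polar matrix
      have hPc : polarMat b' (LinearEquiv.refl F F) q *ᵥ c = 0 := by
        funext j
        by_cases hj : j = i₀
        · subst hj
          rw [Matrix.mulVec, dotProduct, Pi.zero_apply]
          apply Finset.sum_eq_zero
          intro k _
          rw [polarMat, of_apply, hker k, map_zero, zero_mul]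
        · have := congrFun hc j
          rw [Matrix.mulVec, dotProduct, Pi.zero_apply] at this ⊢
          simp only [updateRow_ne hj] at this
          exact this
      have h2 : (∑ k, c k • b' k) ∈ LinearMap.ker (QuadraticMap.polarBilin q) :=
        LinearMap.mem_ker.mpr (sum_mem_ker_polar b' q c hPc)
      obtain ⟨r, hr⟩ := Submodule.mem_span_singleton.mp (hle h2)
      -- compare coordinates
      have h3 : ∑ k, (c k - r * (Pi.single i₀ (1 : F) : Fin (2 * m + 1) → F) k) • b' k = 0 := by
        simp only [sub_smul, Finset.sum_sub_distrib, mul_smul]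
        rw [← hr, ← Finset.smul_sum]
        have : ∑ k, ((Pi.single i₀ (1 : F) : Fin (2 * m + 1) → F) k) • b' k = b' i₀ := by
          rw [Finset.sum_eq_single i₀]
          · rw [Pi.single_eq_same, one_smul]
          · intro k _ hk
            rw [Pi.single_eq_of_ne hk, zero_smul]
          · intro h; exact absurd (Finset.mem_univ _) h
        rw [this, hi₀, sub_self]
      have h4 := Fintype.linearIndependent_iff.mp b'.linearIndependent _ h3
      apply hc0
      funext k
      by_cases hk : k = i₀
      · subst hk; exact hci₀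
      · have := h4 k
        rwa [Pi.single_eq_of_ne hk, mul_zero, sub_zero] at this
    intro h0
    rw [hb, h0, mul_zero] at h1
    exact (mul_ne_zero hq0 hdet) (by rw [← hi₀]; exact h1.symm)

theorem halfDisc_ne_zero_iff_nondegenerate (m : ℕ) (b : Module.Basis (Fin (2 * m + 1)) F V)
    (q : QuadraticForm F V) :
    halfDisc b (LinearEquiv.refl F F) q ≠ 0 ↔ QuadraticMap.Nondegenerate (Q := q) :=
  ⟨nondegenerate_of_halfDisc_ne_zero m b q, halfDisc_ne_zero_of_nondegenerate m b q⟩

end field

section baseChange

open TensorProduct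

variable {R : Type*} [CommRing R] {M : Type*} [AddCommGroup M] [Module R M] [Module.Free R M]
  (A : Type*) [CommRing A] [Algebra R A]

theorem baseChangeForm_one_tmul (Q : QuadraticForm R M) (x : M) :
    QuadGrp.baseChangeForm A Q ((1 : A) ⊗ₜ[R] x) = algebraMap R A (Q x) := by
  change (AlgebraTensorModule.rid R A A) (QuadGrp.baseChange A Q ((1 : A) ⊗ₜ[R] x)) = _
  rw [QuadGrp.baseChange_tmul, AlgebraTensorModule.rid_tmul, mul_one, Algebra.smul_def, mul_one]

theorem coeffs_baseChange {n : ℕ} (b : Module.Basis (Fin n) R M) (Q : QuadraticForm R M)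
    (s : Sym2 (Fin n)) :
    coeffs (b.baseChange A) (LinearEquiv.refl A A) (QuadGrp.baseChangeForm A Q) s =
      algebraMap R A (coeffs b (LinearEquiv.refl R R) Q s) := by
  induction s using Sym2.ind with
  | _ i j =>
    rw [coeffs_mk, coeffs_mk]
    by_cases h : i = j
    · rw [if_pos h, if_pos h, Module.Basis.baseChange_apply]
      exact baseChangeForm_one_tmul A Q (b i)
    · rw [if_neg h, if_neg h, Module.Basis.baseChange_apply, Module.Basis.baseChange_apply]
      unfold QuadraticMap.polar
      rw [← TensorProduct.tmul_add]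
      change QuadGrp.baseChangeForm A Q ((1 : A) ⊗ₜ[R] (b i + b j)) -
        QuadGrp.baseChangeForm A Q ((1 : A) ⊗ₜ[R] b i) -
        QuadGrp.baseChangeForm A Q ((1 : A) ⊗ₜ[R] b j) = algebraMap R A (Q (b i + b j) - Q (b i) - Q (b j))
      rw [baseChangeForm_one_tmul, baseChangeForm_one_tmul, baseChangeForm_one_tmul, map_sub, map_sub]

theorem halfDisc_baseChange {n : ℕ} (b : Module.Basis (Fin n) R M) (Q : QuadraticForm R M) :
    halfDisc (b.baseChange A) (LinearEquiv.refl A A) (QuadGrp.baseChangeForm A Q) =
      algebraMap R A (halfDisc b (LinearEquiv.refl R R) Q) := by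
  unfold halfDisc
  rw [MvPolynomial.eval₂_comp_left (algebraMap R A)]
  congr 1
  · exact RingHom.ext_int _ _
  · funext s
    exact coeffs_baseChange A b Q s

end baseChange

end Groth.Agent.H84
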