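import Mathlib
import Groth.Agent.H97.UncountDense

/-!
# Irredundant decomposition of countable unions of closed sets (uncountable alg. closed field)
-/

set_option autoImplicit false

namespace Groth.Agent.H84.IrredDecomp

open AlgebraicGeometry CategoryTheory TopologicalSpace

universe u

/-- No strictly ascending chain of irreducible closed subsets in a locally noetherian scheme. -/
theorem no_ascending_chain (X : Scheme.{u}) [IsLocallyNoetherian X] (f : ℕ → Closeds X)
    (hf : ∀ n, IsIrreducible (f n : Set X)) (hlt : ∀ n, f n < f (n + 1)) : False := by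
  classical
  let x : ℕ → X := fun n => (hf n).genericPoint
  have hx : ∀ n, closure ({x n} : Set X) = (f n : Set X) :=
    fun n => (hf n).closure_genericPoint (f n).isClosed
  have hmono : ∀ n, f 0 ≤ f n := by
    intro n
    induction n with
    | zero => exact le_rfl
    | succ n ih => exact ih.trans (hlt n).le
  have hx0 : ∀ n, x n ⤳ x 0 := by
    intro n
    rw [specializes_iff_mem_closure, hx n]
    apply hmono n
    show x 0 ∈ (f 0 : Set X)
    rw [← hx 0]
    exact subset_closure rfl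
  obtain ⟨U, hU, hxU, -⟩ :=
    Opens.isBasis_iff_nbhd.mp X.isBasis_affineOpens (show x 0 ∈ (⊤ : Opens X) from trivial)
  have hU' : IsAffineOpen U := hU
  have hxn : ∀ n, x n ∈ U := fun n => (hx0 n).mem_open U.isOpen hxU
  have hN : IsNoetherianRing Γ(X, U) := IsLocallyNoetherian.component_noetherian ⟨U, hU⟩
  let p : ℕ → PrimeSpectrum Γ(X, U) := fun n => hU'.primeIdealOf ⟨x n, hxn n⟩
  have hp : ∀ n, hU'.fromSpec (p n) = x n := fun n => hU'.fromSpec_primeIdealOf ⟨x n, hxn n⟩
  have hlt' : ∀ n, p (n + 1) < p n := by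
    intro n
    have h1 : x (n + 1) ⤳ x n := by
      rw [specializes_iff_mem_closure, hx (n + 1)]
      apply (hlt n).le
      show x n ∈ (f n : Set X)
      rw [← hx n]
      exact subset_closure rfl
    have h2 : p (n + 1) ≤ p n := by
      rw [PrimeSpectrum.le_iff_specializes]
      have h5 : hU'.fromSpec (p (n + 1)) ⤳ hU'.fromSpec (p n) := by rw [hp, hp]; exact h1
      exact hU'.fromSpec.isOpenEmbedding.isInducing.specializes_iff.mp h5
    refine lt_of_le_of_ne h2 ?_
    intro h
    have h3 : x (n + 1) = x n := by rw [← hp, ← hp, h]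
    have h4 : f (n + 1) = f n := by
      apply Closeds.ext
      rw [← hx, ← hx, h3]
    exact (hlt n).ne h4.symm
  have hht : ∀ n, (p (n + 1)).asIdeal.height < (p n).asIdeal.height := by
    intro n
    exact Ideal.height_strict_mono_of_isPrime_of_isPrime (hlt' n)
  exact (wellFounded_iff_isEmpty_descending_chain.mp
    (wellFounded_lt : WellFounded ((· < ·) : ℕ∞ → ℕ∞ → Prop))).false
      ⟨fun n => (p n).asIdeal.height, hht⟩

/-- In a locally noetherian scheme every member of a family of irreducible closed subsets lies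
below a maximal member. -/
theorem exists_maximal_above (X : Scheme.{u}) [IsLocallyNoetherian X] (C : Set (Closeds X))
    (hC : ∀ T ∈ C, IsIrreducible (T : Set X)) (T : Closeds X) (hT : T ∈ C) :
    ∃ M ∈ C, T ≤ M ∧ ∀ T' ∈ C, M ≤ T' → T' ≤ M := by
  classical
  by_contra hcon
  push Not at hcon
  -- every element of `C` above `T` has a strictly larger element of `C`
  have step : ∀ M : {M : Closeds X // M ∈ C ∧ T ≤ M},
      ∃ M' : {M : Closeds X // M ∈ C ∧ T ≤ M}, M.1 < M'.1 := by
    rintro ⟨M, hM, hTM⟩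
    obtain ⟨T', hT', hle, hnle⟩ := hcon M hM hTM
    exact ⟨⟨T', hT', hTM.trans hle⟩, lt_of_le_not_ge hle hnle⟩
  choose g hg using step
  let s : ℕ → {M : Closeds X // M ∈ C ∧ T ≤ M} := fun n => g^[n] ⟨T, hT, le_rfl⟩
  refine no_ascending_chain X (fun n => (s n).1) (fun n => hC _ (s n).2.1) ?_
  intro n
  show (s n).1 < (s (n + 1)).1
  have : s (n + 1) = g (s n) := Function.iterate_succ_apply' g n _
  rw [this]
  exact hg (s n)

/-- Over an uncountable algebraically closed field, an irreducible closed subset not contained in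
any of countably many closed subsets has a closed point outside all of them. -/
theorem exists_closedPoint_not_mem (k : Type u) [Field k] [IsAlgClosed k] [Uncountable k]
    (X : Scheme.{u}) (sX : X ⟶ Spec (CommRingCat.of k)) [LocallyOfFiniteType sX]
    (T : Closeds X) (hT : IsIrreducible (T : Set X)) (g : ℕ → Closeds X)
    (hg : ∀ n, ¬ T ≤ g n) :
    ∃ x : X, IsClosed ({x} : Set X) ∧ x ∈ T ∧ ∀ n, x ∉ g n := by
  classical
  let I := Scheme.IdealSheafData.vanishingIdeal T
  let V : Scheme.{u} := I.subscheme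
  let ι : V ⟶ X := I.subschemeι
  have hrange : Set.range ι = (T : Set X) := by
    rw [Scheme.IdealSheafData.range_subschemeι, Scheme.IdealSheafData.coe_support_vanishingIdeal]
  have hemb : Topology.IsClosedEmbedding ι := ι.isClosedEmbedding
  have hirr : IrreducibleSpace V := by
    have hne : Nonempty V := by
      obtain ⟨y, hy⟩ := hT.nonempty
      have hy' : y ∈ Set.range ι := hrange ▸ hy
      obtain ⟨v, -⟩ := hy'
      exact ⟨v⟩
    have hpre : PreirreducibleSpace V := by
      refine ⟨?_⟩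
      rintro u v hu hv ⟨a, -, ha⟩ ⟨b, -, hb⟩
      obtain ⟨u', hu', rfl⟩ := hemb.isInducing.isOpen_iff.mp hu
      obtain ⟨v', hv', rfl⟩ := hemb.isInducing.isOpen_iff.mp hv
      have hTa : ι a ∈ (T : Set X) := hrange ▸ ⟨a, rfl⟩
      have hTb : ι b ∈ (T : Set X) := hrange ▸ ⟨b, rfl⟩
      obtain ⟨y, hyT, hyu, hyv⟩ := hT.2 u' v' hu' hv' ⟨ι a, hTa, ha⟩ ⟨ι b, hTb, hb⟩
      have hy' : y ∈ Set.range ι := hrange ▸ hyT
      obtain ⟨c, rfl⟩ := hy'
      exact ⟨c, Set.mem_univ _, hyu, hyv⟩
    exact { hpre with toNonempty := hne }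
  let Z : ℕ → Closeds V := fun n => ⟨ι ⁻¹' (g n : Set X), (g n).isClosed.preimage ι.continuous⟩
  have hZ : ∀ n, (Z n : Set V) ≠ Set.univ := by
    intro n h
    apply hg n
    intro y hy
    have hy' : y ∈ Set.range ι := hrange ▸ hy
    obtain ⟨v, rfl⟩ := hy'
    have : v ∈ (Z n : Set V) := h ▸ Set.mem_univ v
    exact this
  have hd := Groth.Agent.H97.UncountDense.dense_closedPoints_compl k V (ι ≫ sX) Z hZ
  obtain ⟨v, hv1, hv2⟩ := hd.nonempty
  refine ⟨ι v, ?_, ?_, ?_⟩
  · have := hemb.isClosedMap _ hv1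
    rwa [Set.image_singleton] at this
  · show ι v ∈ (T : Set X)
    rw [← hrange]
    exact ⟨v, rfl⟩
  · intro n hn
    exact hv2 n hn

/-- One inclusion between two irredundant countable decompositions with the same closed points. -/
theorem subset_of_same_closedPoints (k : Type u) [Field k] [IsAlgClosed k] [Uncountable k]
    (X : Scheme.{u}) (sX : X ⟶ Spec (CommRingCat.of k)) [LocallyOfFiniteType sX]
    (S₁ S₂ : Set (Closeds X)) (hc₁ : S₁.Countable) (hc₂ : S₂.Countable)
    (hi₁ : ∀ T ∈ S₁, IsIrreducible (T : Set X)) (hi₂ : ∀ T ∈ S₂, IsIrreducible (T : Set X))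
    (ha₁ : IsAntichain (· ≤ ·) S₁)
    (heq : {x : X | IsClosed ({x} : Set X) ∧ ∃ T ∈ S₁, x ∈ T} =
      {x : X | IsClosed ({x} : Set X) ∧ ∃ T ∈ S₂, x ∈ T}) : S₁ ⊆ S₂ := by
  classical
  -- every member of one family lies in a member of the other
  have cover : ∀ (A B : Set (Closeds X)), B.Countable →
      (∀ T ∈ A, IsIrreducible (T : Set X)) →
      {x : X | IsClosed ({x} : Set X) ∧ ∃ T ∈ A, x ∈ T} ⊆
        {x : X | IsClosed ({x} : Set X) ∧ ∃ T ∈ B, x ∈ T} →
      ∀ T ∈ A, ∃ T' ∈ B, T ≤ T' := by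
    intro A B hB hA hsub T hT
    by_contra hcon
    push Not at hcon
    obtain ⟨g, hg⟩ := (hB.insert (⊥ : Closeds X)).exists_eq_range (Set.insert_nonempty _ _)
    have hg' : ∀ n, ¬ T ≤ g n := by
      intro n
      have : g n ∈ insert (⊥ : Closeds X) B := hg ▸ Set.mem_range_self n
      rcases this with h | h
      · rw [h]
        intro hle
        obtain ⟨y, hy⟩ := (hA T hT).nonempty
        exact hle hy
      · exact hcon _ h
    obtain ⟨x, hx1, hx2, hx3⟩ := exists_closedPoint_not_mem k X sX T (hA T hT) g hg'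
    obtain ⟨-, T', hT', hxT'⟩ := hsub (show x ∈ {x : X | IsClosed ({x} : Set X) ∧ ∃ T ∈ A, x ∈ T}
      from ⟨hx1, T, hT, hx2⟩)
    have : T' ∈ Set.range g := hg ▸ Set.mem_insert_of_mem _ hT'
    obtain ⟨n, rfl⟩ := this
    exact hx3 n hxT'
  intro T hT
  obtain ⟨T', hT', hle⟩ := cover S₁ S₂ hc₂ hi₁ heq.le T hT
  obtain ⟨T'', hT'', hle'⟩ := cover S₂ S₁ hc₁ hi₂ heq.ge T' hT'
  have h1 : T = T'' := by
    by_contra hne
    exact ha₁ hT hT'' hne (hle.trans hle')
  have h2 : T = T' := le_antisymm hle (h1 ▸ hle')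
  exact h2 ▸ hT'

/-- Existence and uniqueness of the irredundant decomposition of a countable union of closed
subsets, read through closed points. -/
theorem unique_irredundant_decomposition (k : Type u) [Field k] [IsAlgClosed k]
    [Uncountable k] (X : Scheme.{u}) (sX : X ⟶ Spec (CommRingCat.of k)) [LocallyOfFiniteType sX]
    [QuasiCompact sX] (Z : ℕ → TopologicalSpace.Closeds X) :
    ∃! S : Set (TopologicalSpace.Closeds X), S.Countable ∧ (∀ T ∈ S, IsIrreducible (T : Set X)) ∧
      IsAntichain (· ≤ ·) S ∧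
      {x : X | IsClosed ({x} : Set X) ∧ ∃ T ∈ S, x ∈ T} =
        {x : X | IsClosed ({x} : Set X) ∧ ∃ n, x ∈ Z n} := by
  classical
  have hLN : IsLocallyNoetherian X := LocallyOfFiniteType.isLocallyNoetherian sX
  have hC : CompactSpace X := QuasiCompact.compactSpace_of_compactSpace sX
  have hN : IsNoetherian X := {}
  have hNS : NoetherianSpace X := inferInstance
  choose F hFirr hFsup using fun n => NoetherianSpace.exists_finset_irreducible (Z n)
  have hmem : ∀ n (x : X), x ∈ Z n ↔ ∃ T ∈ F n, x ∈ T := by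
    intro n x
    rw [← SetLike.mem_coe, hFsup n, Closeds.coe_finset_sup, Finset.sup_set_eq_biUnion]
    simp
  let C : Set (Closeds X) := ⋃ n, (F n : Set (Closeds X))
  have hCirr : ∀ T ∈ C, IsIrreducible (T : Set X) := by
    intro T hT
    obtain ⟨n, hn⟩ := Set.mem_iUnion.mp hT
    exact hFirr n ⟨T, hn⟩
  have hCc : C.Countable := Set.countable_iUnion fun n => (F n).countable_toSet
  let S : Set (Closeds X) := {T | T ∈ C ∧ ∀ T' ∈ C, T ≤ T' → T' ≤ T}
  have hS : S.Countable ∧ (∀ T ∈ S, IsIrreducible (T : Set X)) ∧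
      IsAntichain (· ≤ ·) S ∧
      {x : X | IsClosed ({x} : Set X) ∧ ∃ T ∈ S, x ∈ T} =
        {x : X | IsClosed ({x} : Set X) ∧ ∃ n, x ∈ Z n} := by
    refine ⟨hCc.mono fun T hT => hT.1, fun T hT => hCirr T hT.1, ?_, ?_⟩
    · intro T hT T' hT' hne hle
      exact hne (le_antisymm hle (hT.2 T' hT'.1 hle))
    · ext x
      constructor
      · rintro ⟨hx, T, hT, hxT⟩
        obtain ⟨n, hn⟩ := Set.mem_iUnion.mp hT.1
        exact ⟨hx, n, (hmem n x).mpr ⟨T, hn, hxT⟩⟩
      · rintro ⟨hx, n, hxn⟩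
        obtain ⟨T, hT, hxT⟩ := (hmem n x).mp hxn
        have hTC : T ∈ C := Set.mem_iUnion.mpr ⟨n, hT⟩
        obtain ⟨M, hM, hTM, hmax⟩ := exists_maximal_above X C hCirr T hTC
        exact ⟨hx, M, ⟨hM, hmax⟩, hTM hxT⟩
  refine ⟨S, hS, ?_⟩
  rintro S' ⟨hc', hi', ha', he'⟩
  obtain ⟨hc, hi, ha, he⟩ := hS
  have heq : {x : X | IsClosed ({x} : Set X) ∧ ∃ T ∈ S', x ∈ T} =
      {x : X | IsClosed ({x} : Set X) ∧ ∃ T ∈ S, x ∈ T} := he'.trans he.symm
  exact Set.Subset.antisymm
    (subset_of_same_closedPoints k X sX S' S hc' hc hi' hi ha' heq)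
    (subset_of_same_closedPoints k X sX S S' hc hc' hi hi' ha heq.symm)

end Groth.Agent.H84.IrredDecomp
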