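import Mathlib
import Groth.Agent.H84.IrredDecomp

/-!
# Subgroups of points of an abelian variety cut out by countably many closed subsets
-/

set_option autoImplicit false
set_option linter.unusedSectionVars false

namespace Groth.Agent.H84.AbVarSubgrp

open CategoryTheory MonoidalCategory CartesianMonoidalCategory MonObj GrpObj AlgebraicGeometry
open TopologicalSpace Groth.Agent.H84.IrredDecomp

universe u

section Points

variable (k : Type u) [Field k] [IsAlgClosed k] (A : Over (Spec (CommRingCat.of k))) [GrpObj A]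
    [IsProper A.hom] [GeometricallyIntegral A.hom]

/-- The image point of a `k`-point. -/
noncomputable def P (x : 𝟙_ (Over (Spec (CommRingCat.of k))) ⟶ A) : A.left :=
  x.left.base (IsLocalRing.closedPoint k)

theorem range_subset_iff (x : 𝟙_ (Over (Spec (CommRingCat.of k))) ⟶ A) (T : Set A.left) :
    Set.range ⇑x.left.base ⊆ T ↔ P k A x ∈ T := by
  constructor
  · intro h
    exact h ⟨_, rfl⟩
  · rintro h _ ⟨z, rfl⟩
    have : Subsingleton (PrimeSpectrum k) := inferInstance
    have hz : z = IsLocalRing.closedPoint k := Subsingleton.elim (α := PrimeSpectrum k) _ _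
    rw [hz]
    exact h

theorem P_mul (x a : 𝟙_ (Over (Spec (CommRingCat.of k))) ⟶ A) :
    P k A (x * a) = (GrpObj.mulRight a).hom.left.base (P k A x) := by
  have h : x ≫ (GrpObj.mulRight a).hom = x * a := by
    simp [GrpObj.mulRight, Hom.mul_def, comp_lift_assoc]
  rw [← h]
  rfl

theorem isClosed_P (x : 𝟙_ (Over (Spec (CommRingCat.of k))) ⟶ A) :
    IsClosed ({P k A x} : Set A.left) :=
  (pointEquivClosedPoint A.hom ⟨x.left, Over.w x⟩).2

/-- The `k`-point attached to a closed point. -/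
noncomputable def ofClosed (p : A.left) (hp : IsClosed ({p} : Set A.left)) :
    𝟙_ (Over (Spec (CommRingCat.of k))) ⟶ A :=
  Over.homMk (pointOfClosedPoint A.hom p hp) (by simp)

theorem P_ofClosed (p : A.left) (hp : IsClosed ({p} : Set A.left)) :
    P k A (ofClosed k A p hp) = p := by
  simp [P, ofClosed]

/-- The translate `T · a⁻¹ = {q | q · a ∈ T}` of a closed subset by a `k`-point. -/
noncomputable def tr (a : 𝟙_ (Over (Spec (CommRingCat.of k))) ⟶ A) (T : Closeds A.left) :
    Closeds A.left :=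
  ⟨(GrpObj.mulRight a).hom.left.base ⁻¹' (T : Set A.left),
    T.isClosed.preimage (GrpObj.mulRight a).hom.left.continuous⟩

theorem P_mem_tr (a x : 𝟙_ (Over (Spec (CommRingCat.of k))) ⟶ A) (T : Closeds A.left) :
    P k A x ∈ tr k A a T ↔ P k A (x * a) ∈ T := by
  rw [P_mul]
  rfl

theorem isIrreducible_tr (a : 𝟙_ (Over (Spec (CommRingCat.of k))) ⟶ A) (T : Closeds A.left)
    (hT : IsIrreducible (T : Set A.left)) : IsIrreducible (tr k A a T : Set A.left) := by
  let e : A.left ≅ A.left := (Over.forget _).mapIso (GrpObj.mulRight a)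
  let h : A.left ≃ₜ A.left := Scheme.homeoOfIso e
  have : (tr k A a T : Set A.left) = h.symm '' (T : Set A.left) := by
    rw [h.symm.image_eq_preimage_symm]
    rfl
  rw [this]
  exact hT.image _ h.symm.continuous.continuousOn

end Points

section Cover

/-- An irreducible closed subset whose closed points are covered by countably many closed subsets
lies in one of them (uncountable algebraically closed base field). -/
theorem exists_le_of_closedPoints_covered (k : Type u) [Field k] [IsAlgClosed k] [Uncountable k]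
    (X : Scheme.{u}) (sX : X ⟶ Spec (CommRingCat.of k)) [LocallyOfFiniteType sX]
    (T : Closeds X) (hT : IsIrreducible (T : Set X)) (W : Set (Closeds X)) (hW : W.Countable)
    (hcov : ∀ p : X, IsClosed ({p} : Set X) → p ∈ T → ∃ w ∈ W, p ∈ w) : ∃ w ∈ W, T ≤ w := by
  classical
  by_contra hcon
  push Not at hcon
  obtain ⟨g, hg⟩ := (hW.insert (⊥ : Closeds X)).exists_eq_range (Set.insert_nonempty _ _)
  have hg' : ∀ n, ¬ T ≤ g n := by
    intro n
    have : g n ∈ insert (⊥ : Closeds X) W := hg ▸ Set.mem_range_self n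
    rcases this with h | h
    · rw [h]
      intro hle
      obtain ⟨y, hy⟩ := hT.nonempty
      exact hle hy
    · exact hcon _ h
  obtain ⟨x, hx1, hx2, hx3⟩ := exists_closedPoint_not_mem k X sX T hT g hg'
  obtain ⟨w, hw, hxw⟩ := hcov x hx1 hx2
  have : w ∈ Set.range g := hg ▸ Set.mem_insert_of_mem _ hw
  obtain ⟨n, rfl⟩ := this
  exact hx3 n hxw

/-- In a Jacobson space a closed set is determined by its closed points. -/
theorem le_of_closedPoints_mem {X : Type*} [TopologicalSpace X] [JacobsonSpace X]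
    (T M : Closeds X) (h : ∀ p : X, IsClosed ({p} : Set X) → p ∈ T → p ∈ M) : T ≤ M := by
  have h1 : closure ((T : Set X) ∩ closedPoints X) = (T : Set X) :=
    (JacobsonSpace.closure_inter_closedPoints_eq_closure T.isClosed.isLocallyClosed).trans
      T.isClosed.closure_eq
  intro x hx
  have hx' : x ∈ closure ((T : Set X) ∩ closedPoints X) := by
    rw [h1]
    exact hx
  have h2 : (T : Set X) ∩ closedPoints X ⊆ (M : Set X) := by
    rintro p ⟨hpT, hp⟩
    exact h p hp hpT
  exact (M.isClosed.closure_subset_iff.mpr h2) hx'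

end Cover

section Main

variable (k : Type u) [Field k] [IsAlgClosed k] [Uncountable k]
    (A : Over (Spec (CommRingCat.of k))) [GrpObj A] [IsProper A.hom] [GeometricallyIntegral A.hom]

/-- Admissible closed subsets: irreducible with all `k`-points in `K`. -/
def Adm (K : Subgroup (𝟙_ (Over (Spec (CommRingCat.of k))) ⟶ A)) (T : Closeds A.left) : Prop :=
  IsIrreducible (T : Set A.left) ∧
    ∀ x : 𝟙_ (Over (Spec (CommRingCat.of k))) ⟶ A, P k A x ∈ (T : Set A.left) → x ∈ K

theorem main (K : Subgroup (𝟙_ (Over (Spec (CommRingCat.of k))) ⟶ A)) (Z : ℕ → Closeds A.left)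
    (hK : ∀ x : 𝟙_ (Over (Spec (CommRingCat.of k))) ⟶ A, x ∈ K ↔ ∃ n, P k A x ∈ Z n) :
    (∃! T : Closeds A.left, Maximal (Adm k A K) T ∧ P k A 1 ∈ (T : Set A.left)) ∧
    ∀ T : Closeds A.left, Maximal (Adm k A K) T → P k A 1 ∈ (T : Set A.left) →
      (∃ n, (T : Set A.left) ⊆ (Z n : Set A.left)) ∧
      ∀ x y : 𝟙_ (Over (Spec (CommRingCat.of k))) ⟶ A,
        P k A x ∈ (T : Set A.left) → P k A y ∈ (T : Set A.left) →
          P k A (x * y⁻¹) ∈ (T : Set A.left) := by
  classical
  have hLN : IsLocallyNoetherian A.left := LocallyOfFiniteType.isLocallyNoetherian A.hom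
  have hC : CompactSpace A.left := QuasiCompact.compactSpace_of_compactSpace A.hom
  have hN : IsNoetherian A.left := {}
  have hNS : NoetherianSpace A.left := inferInstance
  have hJ : JacobsonSpace A.left := LocallyOfFiniteType.jacobsonSpace A.hom
  have hcomm : IsCommMonObj A := isCommMonObj_of_isProper_of_geometricallyIntegral A
  have adm_of_le : ∀ (T : Closeds A.left) (n : ℕ), IsIrreducible (T : Set A.left) → T ≤ Z n →
      Adm k A K T := fun T n hT hle => ⟨hT, fun x hx => (hK x).mpr ⟨n, hle hx⟩⟩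
  have le_of_adm : ∀ T : Closeds A.left, Adm k A K T → ∃ n, T ≤ Z n := by
    intro T hT
    obtain ⟨w, ⟨n, rfl⟩, hle⟩ := exists_le_of_closedPoints_covered k A.left A.hom T hT.1
      (Set.range Z) (Set.countable_range Z) (by
        intro p hp hpT
        have hx : ofClosed k A p hp ∈ K := hT.2 _ (by rw [P_ofClosed]; exact hpT)
        obtain ⟨n, hn⟩ := (hK _).mp hx
        rw [P_ofClosed] at hn
        exact ⟨Z n, ⟨n, rfl⟩, hn⟩)
    exact ⟨n, hle⟩
  have adm_tr : ∀ (T : Closeds A.left) (a : 𝟙_ (Over (Spec (CommRingCat.of k))) ⟶ A),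
      Adm k A K T → a ∈ K → Adm k A K (tr k A a T) := by
    intro T a hT ha
    refine ⟨isIrreducible_tr k A a T hT.1, fun x hx => ?_⟩
    have h1 : x * a ∈ K := hT.2 _ ((P_mem_tr k A a x T).mp hx)
    have : x = (x * a) * a⁻¹ := by group
    rw [this]
    exact K.mul_mem h1 (K.inv_mem ha)
  have exists_max : ∀ T : Closeds A.left, Adm k A K T → ∃ M, Maximal (Adm k A K) M ∧ T ≤ M := by
    intro T hT
    obtain ⟨M, hM, hTM, hmax⟩ :=
      exists_maximal_above A.left {T | Adm k A K T} (fun T h => h.1) T hT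
    exact ⟨M, ⟨hM, fun T' hT' hle => hmax T' hT' hle⟩, hTM⟩
  choose F hFirr hFsup using fun n => NoetherianSpace.exists_finset_irreducible (Z n)
  have hmem : ∀ n (x : A.left), x ∈ Z n ↔ ∃ T ∈ F n, x ∈ T := by
    intro n x
    rw [← SetLike.mem_coe, hFsup n, Closeds.coe_finset_sup, Finset.sup_set_eq_biUnion]
    simp
  have hFle : ∀ n, ∀ T ∈ F n, T ≤ Z n := fun n T hT x hx => (hmem n x).mpr ⟨T, hT, hx⟩
  have irr_le : ∀ (T : Closeds A.left) (n : ℕ), IsIrreducible (T : Set A.left) → T ≤ Z n →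
      ∃ T' ∈ F n, T ≤ T' := by
    intro T n hT hle
    have := isIrreducible_iff_sUnion_isClosed.mp hT
      ((F n).image (fun T' : Closeds A.left => (T' : Set A.left)))
      (by
        intro z hz
        obtain ⟨T', -, rfl⟩ := Finset.mem_image.mp hz
        exact T'.isClosed)
      (by
        intro x hx
        obtain ⟨T', hT', hxT'⟩ := (hmem n x).mp (hle hx)
        exact Set.mem_sUnion.mpr ⟨T', Finset.mem_coe.mpr (Finset.mem_image.mpr ⟨T', hT', rfl⟩), hxT'⟩)
    obtain ⟨z, hz, hTz⟩ := this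
    obtain ⟨T', hT', rfl⟩ := Finset.mem_image.mp hz
    exact ⟨T', hT', hTz⟩
  have hScount : {M | Maximal (Adm k A K) M}.Countable := by
    refine (Set.countable_iUnion fun n => (F n).countable_toSet).mono ?_
    intro M hM
    obtain ⟨n, hn⟩ := le_of_adm M hM.1
    obtain ⟨T', hT', hle⟩ := irr_le M n hM.1.1 hn
    have hadm : Adm k A K T' := adm_of_le T' n (hFirr n ⟨T', hT'⟩) (hFle n T' hT')
    have : M = T' := le_antisymm hle (hM.2 hadm hle)
    exact Set.mem_iUnion.mpr ⟨n, this ▸ hT'⟩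
  have uniq : ∀ T₁ T₂ : Closeds A.left, Maximal (Adm k A K) T₁ → Maximal (Adm k A K) T₂ →
      P k A 1 ∈ (T₁ : Set A.left) → P k A 1 ∈ (T₂ : Set A.left) → T₁ = T₂ := by
    intro T₁ T₂ h₁ h₂ he₁ he₂
    let Wf : Closeds A.left → Closeds A.left := fun M =>
      ⟨⋂ t : {t : 𝟙_ (Over (Spec (CommRingCat.of k))) ⟶ A // P k A t ∈ (T₂ : Set A.left)},
        (tr k A t.1 M : Set A.left), isClosed_iInter fun t => (tr k A t.1 M).isClosed⟩
    have hW : ∀ (M : Closeds A.left) (a : 𝟙_ (Over (Spec (CommRingCat.of k))) ⟶ A),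
        P k A a ∈ (Wf M : Set A.left) ↔
          ∀ t, P k A t ∈ (T₂ : Set A.left) → P k A (a * t) ∈ (M : Set A.left) := by
      intro M a
      constructor
      · intro h t ht
        have := Set.mem_iInter.mp h ⟨t, ht⟩
        exact (P_mem_tr k A t a M).mp this
      · intro h
        exact Set.mem_iInter.mpr fun t => (P_mem_tr k A t.1 a M).mpr (h t.1 t.2)
    obtain ⟨w, ⟨M, hM, rfl⟩, hle⟩ := exists_le_of_closedPoints_covered k A.left A.hom T₁ h₁.1.1
      (Wf '' {M | Maximal (Adm k A K) M}) (hScount.image _) (by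
        intro p hp hpT
        have ha : ofClosed k A p hp ∈ K := h₁.1.2 _ (by rw [P_ofClosed]; exact hpT)
        obtain ⟨M, hM, hle⟩ := exists_max (tr k A (ofClosed k A p hp)⁻¹ T₂)
          (adm_tr T₂ _ h₂.1 (K.inv_mem ha))
        refine ⟨Wf M, ⟨M, hM, rfl⟩, ?_⟩
        have hgoal : P k A (ofClosed k A p hp) ∈ (Wf M : Set A.left) := by
          rw [hW]
          intro t ht
          apply hle
          show P k A (ofClosed k A p hp * t) ∈ tr k A (ofClosed k A p hp)⁻¹ T₂
          rw [P_mem_tr]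
          have : ofClosed k A p hp * t * (ofClosed k A p hp)⁻¹ = t := by
            rw [mul_comm (ofClosed k A p hp) t]
            group
          rw [this]
          exact ht
        rw [P_ofClosed] at hgoal
        exact hgoal)
    have hT₂M : T₂ ≤ M := le_of_closedPoints_mem T₂ M (by
      intro p hp hpT
      have h1 : P k A 1 ∈ (Wf M : Set A.left) := hle he₁
      have := (hW M 1).mp h1 (ofClosed k A p hp) (by rw [P_ofClosed]; exact hpT)
      rwa [_root_.one_mul, P_ofClosed] at this)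
    have hM_eq : M = T₂ := le_antisymm (h₂.2 hM.1 hT₂M) hT₂M
    have hT₁T₂ : T₁ ≤ T₂ := le_of_closedPoints_mem T₁ T₂ (by
      intro p hp hpT
      have h1 : P k A (ofClosed k A p hp) ∈ (Wf M : Set A.left) := by
        rw [P_ofClosed]
        exact hle hpT
      have := (hW M _).mp h1 1 he₂
      rwa [_root_.mul_one, P_ofClosed, hM_eq] at this)
    exact le_antisymm hT₁T₂ (h₁.2 h₂.1 hT₁T₂)
  refine ⟨?_, ?_⟩
  · obtain ⟨n, hn⟩ := (hK 1).mp K.one_mem
    obtain ⟨T', hT', hxT'⟩ := (hmem n _).mp hn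
    have hadm : Adm k A K T' := adm_of_le T' n (hFirr n ⟨T', hT'⟩) (hFle n T' hT')
    obtain ⟨M, hM, hle⟩ := exists_max T' hadm
    exact ⟨M, ⟨hM, hle hxT'⟩, fun M' hM' => uniq M' M hM'.1 hM hM'.2 (hle hxT')⟩
  · intro T hT he
    refine ⟨le_of_adm T hT.1, ?_⟩
    intro x y hx hy
    have hyK : y ∈ K := hT.1.2 y hy
    have hadm : Adm k A K (tr k A y T) := adm_tr T y hT.1 hyK
    have he' : P k A 1 ∈ (tr k A y T : Set A.left) := by
      show P k A 1 ∈ tr k A y T
      rw [P_mem_tr, _root_.one_mul]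
      exact hy
    obtain ⟨M, hM, hle⟩ := exists_max _ hadm
    have hMT : M = T := uniq M T hM hT (hle he') he
    rw [← hMT]
    apply hle
    show P k A (x * y⁻¹) ∈ tr k A y T
    rw [P_mem_tr]
    have : x * y⁻¹ * y = x := by group
    rw [this]
    exact hx

theorem final (K : Subgroup (𝟙_ (Over (Spec (CommRingCat.of k))) ⟶ A))
    (Z : ℕ → TopologicalSpace.Closeds ↥A.left)
    (hK : ∀ x : 𝟙_ (Over (Spec (CommRingCat.of k))) ⟶ A,
      x ∈ K ↔ Set.range ⇑x.left.base ⊆ ⋃ n, (Z n : Set ↥A.left)) :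
    (∃! T : TopologicalSpace.Closeds ↥A.left,
      Maximal (fun T : TopologicalSpace.Closeds ↥A.left => IsIrreducible (T : Set ↥A.left) ∧
        ∀ x : 𝟙_ (Over (Spec (CommRingCat.of k))) ⟶ A, Set.range ⇑x.left.base ⊆ (T : Set ↥A.left) → x ∈ K) T ∧
      Set.range ⇑(1 : 𝟙_ (Over (Spec (CommRingCat.of k))) ⟶ A).left.base ⊆ (T : Set ↥A.left)) ∧
    ∀ T : TopologicalSpace.Closeds ↥A.left,
      Maximal (fun T : TopologicalSpace.Closeds ↥A.left => IsIrreducible (T : Set ↥A.left) ∧
        ∀ x : 𝟙_ (Over (Spec (CommRingCat.of k))) ⟶ A, Set.range ⇑x.left.base ⊆ (T : Set ↥A.left) → x ∈ K) T →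
      Set.range ⇑(1 : 𝟙_ (Over (Spec (CommRingCat.of k))) ⟶ A).left.base ⊆ (T : Set ↥A.left) →
      (∃ n, (T : Set ↥A.left) ⊆ (Z n : Set ↥A.left)) ∧
      ∀ x y : 𝟙_ (Over (Spec (CommRingCat.of k))) ⟶ A,
        Set.range ⇑x.left.base ⊆ (T : Set ↥A.left) → Set.range ⇑y.left.base ⊆ (T : Set ↥A.left) →
        Set.range ⇑(x * y⁻¹).left.base ⊆ (T : Set ↥A.left) := by
  have hK' : ∀ x : 𝟙_ (Over (Spec (CommRingCat.of k))) ⟶ A, x ∈ K ↔ ∃ n, P k A x ∈ Z n := by
    intro x
    rw [hK x, range_subset_iff, Set.mem_iUnion]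
    rfl
  have hAdm : (fun T : TopologicalSpace.Closeds ↥A.left => IsIrreducible (T : Set ↥A.left) ∧
      ∀ x : 𝟙_ (Over (Spec (CommRingCat.of k))) ⟶ A,
        Set.range ⇑x.left.base ⊆ (T : Set ↥A.left) → x ∈ K) = Adm k A K := by
    funext T
    simp only [range_subset_iff, Adm]
  rw [hAdm]
  simp only [range_subset_iff]
  exact main k A K Z hK'

end Main

end Groth.Agent.H84.AbVarSubgrp
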