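import Mathlib

set_option autoImplicit false

namespace Groth.Agent.H84

open Matrix

/-- Alternating matrices: skew-symmetric with zero diagonal. -/
def IsAltMat {ι : Type*} {R : Type*} [CommRing R] (M : Matrix ι ι R) : Prop :=
  Mᵀ = -M ∧ ∀ i, M i i = 0

theorem IsAltMat.apply_swap {ι : Type*} {R : Type*} [CommRing R] {M : Matrix ι ι R}
    (h : IsAltMat M) (i j : ι) : M j i = -M i j := by
  have := congrFun (congrFun h.1 i) j
  simpa using this

theorem IsAltMat.submatrix {ι κ : Type*} {R : Type*} [CommRing R] {M : Matrix ι ι R}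
    (h : IsAltMat M) (e : κ → ι) : IsAltMat (M.submatrix e e) := by
  refine ⟨?_, fun i => h.2 (e i)⟩
  ext i j
  simp [h.apply_swap (e j) (e i)]

theorem IsAltMat.map {ι : Type*} {R S : Type*} [CommRing R] [CommRing S] {M : Matrix ι ι R}
    (h : IsAltMat M) (f : R →+* S) : IsAltMat (M.map f) := by
  refine ⟨?_, fun i => by simp [h.2 i]⟩
  ext i j
  simp [h.apply_swap j i]

theorem isAltMat_sub_transpose {ι : Type*} {R : Type*} [CommRing R] (Y : Matrix ι ι R) :
    IsAltMat (Y - Yᵀ) := by
  refine ⟨?_, fun i => by simp⟩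
  ext i j
  simp

/-- An equivalence `Fin 2 ⊕ Fin k ≃ ι` with prescribed values on the first block. -/
theorem exists_equiv_sum {ι : Type*} [Fintype ι] [DecidableEq ι] (k : ℕ)
    (hc : Fintype.card ι = 2 + k) (i j : ι) (hij : i ≠ j) :
    ∃ e : Fin 2 ⊕ Fin k ≃ ι, e (Sum.inl 0) = i ∧ e (Sum.inl 1) = j := by
  have hcard : Fintype.card (Fin 2 ⊕ Fin k) = Fintype.card ι := by simp [hc]
  let e₀ : Fin 2 ⊕ Fin k ≃ ι := Fintype.equivOfCardEq hcard
  set i₀ := e₀ (Sum.inl 0) with hi₀
  set i₁ := e₀ (Sum.inl 1) with hi₁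
  have h01 : i₀ ≠ i₁ := by
    intro h
    have := e₀.injective h
    simp at this
  let j' := Equiv.swap i₀ i j
  have hj' : j' ≠ i₀ := by
    intro h
    have h' := congrArg (Equiv.swap i₀ i) h
    simp only [j', Equiv.swap_apply_self, Equiv.swap_apply_left] at h'
    exact hij h'.symm
  let σ : Equiv.Perm ι := Equiv.swap i₀ i * Equiv.swap i₁ j'
  refine ⟨e₀.trans σ, ?_, ?_⟩
  · change σ i₀ = i
    simp only [σ, Equiv.Perm.mul_apply]
    rw [Equiv.swap_apply_of_ne_of_ne h01 hj'.symm, Equiv.swap_apply_left]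
  · change σ i₁ = j
    simp only [σ, Equiv.Perm.mul_apply]
    rw [Equiv.swap_apply_left]
    simp [j']

section Step

variable {K : Type*} [Field K] {β : Type*} [Fintype β] [DecidableEq β]

/-- The Schur complement step for alternating matrices. -/
theorem alt_step (M : Matrix (Fin 2 ⊕ β) (Fin 2 ⊕ β) K) (hM : IsAltMat M)
    (ha : M (Sum.inl 0) (Sum.inl 1) ≠ 0) :
    ∃ N : Matrix β β K, IsAltMat N ∧ M.det = (M (Sum.inl 0) (Sum.inl 1)) ^ 2 * N.det := by
  set a := M (Sum.inl 0) (Sum.inl 1) with ha_def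
  set A := M.toBlocks₁₁ with hA
  set B := M.toBlocks₁₂ with hB
  set C := M.toBlocks₂₁ with hC
  set D := M.toBlocks₂₂ with hD
  have hMeq : M = fromBlocks A B C D := (fromBlocks_toBlocks M).symm
  have hA00 : A 0 0 = 0 := hM.2 _
  have hA11 : A 1 1 = 0 := hM.2 _
  have hA01 : A 0 1 = a := rfl
  have hA10 : A 1 0 = -a := hM.apply_swap _ _
  have hAeq : A = !![0, a; -a, 0] := by
    ext p q
    fin_cases p <;> fin_cases q <;> simp [hA00, hA11, hA01, hA10]
  let A' : Matrix (Fin 2) (Fin 2) K := !![0, -a⁻¹; a⁻¹, 0]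
  have h1 : A' * A = 1 := by
    rw [hAeq]
    ext p q
    fin_cases p <;> fin_cases q <;> simp [A', Matrix.mul_apply, Fin.sum_univ_two, ha]
  have h2 : A * A' = 1 := by
    rw [hAeq]
    ext p q
    fin_cases p <;> fin_cases q <;> simp [A', Matrix.mul_apply, Fin.sum_univ_two, ha]
  let _ : Invertible A := ⟨A', h1, h2⟩
  have hinv : ⅟A = A' := rfl
  refine ⟨D - C * ⅟A * B, ?_, ?_⟩
  · have hBC : ∀ (p : Fin 2) (i : β), B p i = -C i p := fun p i => hM.apply_swap _ _
    have hDalt : ∀ i j : β, D j i = -D i j := fun i j => hM.apply_swap _ _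
    have hDdiag : ∀ i : β, D i i = 0 := fun i => hM.2 _
    have hentry : ∀ i j : β, (C * ⅟A * B) i j
        = (C i 0 * C j 1 - C i 1 * C j 0) * a⁻¹ := by
      intro i j
      rw [hinv]
      simp only [Matrix.mul_apply, Fin.sum_univ_two, A', hBC]
      simp
      ring
    refine ⟨?_, ?_⟩
    · ext i j
      simp only [Matrix.transpose_apply, Matrix.sub_apply, Matrix.neg_apply, hentry, hDalt i j]
      ring
    · intro i
      simp only [Matrix.sub_apply, hentry, hDdiag i]
      ring
  · have hdetA : A.det = a ^ 2 := by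
      rw [Matrix.det_fin_two, hA00, hA11, hA01, hA10]; ring
    rw [hMeq, det_fromBlocks₁₁, hdetA]

end Step

/-- The determinant of an alternating matrix over a field is a square. -/
theorem isSquare_det_of_isAltMat {K : Type*} [Field K] :
    ∀ (N : ℕ) {ι : Type} [Fintype ι] [DecidableEq ι] (_ : Fintype.card ι = N)
      (M : Matrix ι ι K), IsAltMat M → IsSquare M.det := by
  intro N
  induction N using Nat.strong_induction_on with
  | _ N ih =>
    intro ι _ _ hc M hM
    by_cases h0 : ∀ i j, M i j = 0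
    · have hM0 : M = 0 := by ext i j; exact h0 i j
      subst hM0
      rcases isEmpty_or_nonempty ι with hι | hι
      · rw [Matrix.det_isEmpty]; exact ⟨1, by simp⟩
      · exact ⟨0, by simp⟩
    · push Not at h0
      obtain ⟨i, j, hij⟩ := h0
      have hne : i ≠ j := by
        rintro rfl
        exact hij (hM.2 i)
      have h2 : 2 ≤ N := by
        rw [← hc]
        exact Fintype.one_lt_card_iff.mpr ⟨i, j, hne⟩
      obtain ⟨k, rfl⟩ := Nat.exists_eq_add_of_le h2
      obtain ⟨e, he0, he1⟩ := exists_equiv_sum k hc i j hne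
      have hM' : IsAltMat (M.submatrix e e) := hM.submatrix e
      have ha : (M.submatrix e e) (Sum.inl 0) (Sum.inl 1) ≠ 0 := by
        simp only [Matrix.submatrix_apply, he0, he1]
        exact hij
      obtain ⟨N', hN', hdet⟩ := alt_step (M.submatrix e e) hM' ha
      obtain ⟨r, hr⟩ := ih k (by omega) (ι := Fin k) (by simp) N' hN'
      rw [Matrix.det_submatrix_equiv_self] at hdet
      rw [hdet, hr]
      exact ⟨(M.submatrix e e) (Sum.inl 0) (Sum.inl 1) * r, by ring⟩

end Groth.Agent.H84
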