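import Mathlib
import Groth.Agent.H30.AffinePush
import Groth.Agent.H30.RestrPush
import Groth.Agent.H30.ConstPush
import Groth.Agent.Lead.Coh.RpushAffineOpen
import Groth.Agent.H8.QcqsPush
import Groth.Agent.H8.PushQCoh

/-!
# Vanishing of `R^i f_*` on quasi-coherent modules in degrees `> d` is stable under base change
-/

set_option autoImplicit false
set_option backward.isDefEq.respectTransparency false
set_option backward.isDefEq.respectTransparency.types false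
universe u
open CategoryTheory Limits AlgebraicGeometry Opposite TopologicalSpace

namespace Groth.Agent.H84.BCVanish

/-- sections of a zero sheaf are trivial -/
theorem subsingleton_sections_of_isZero {T : TopCat.{u}} (F : CohTop.Ab T) (hF : IsZero F)
    (U : (Opens T)ᵒᵖ) : Subsingleton (F.obj.obj U) := by
  refine ⟨fun a b => ?_⟩
  have h0 : (𝟙 F) = 0 := hF.eq_of_src _ _
  have h1 : ∀ x : F.obj.obj U, x = 0 := by
    intro x
    have := congrArg (fun φ : F ⟶ F => (φ.hom.app U).hom x) h0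
    simpa using this
  rw [h1 a, h1 b]

variable {X Y : Scheme.{u}} (f : X ⟶ Y)

/-- Over an affine base, vanishing of `R^i f_* M` gives vanishing of `H^i(X, M)`. -/
theorem subsingleton_HH_of_isZero_RpushAb [IsAffine Y] [QuasiCompact f] [QuasiSeparated f]
    (M : X.Modules) [M.IsQuasicoherent] (i : ℕ)
    (h : IsZero ((Coh.RpushAb f i).obj (Coh.toAb M))) : Subsingleton (Coh.HH X M i) := by
  obtain ⟨e⟩ := Groth.Agent.H30.ConstPush.H_iso_sections_Rpush f.base (Coh.toAb M)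
    (fun p q => Groth.Agent.Lead.Rpush.subsingleton_H_Rpush_of_isAffine f M q p) i
  have : Subsingleton (((CohTop.Rpush f.base i).obj (Coh.toAb M)).obj.obj (op ⊤)) :=
    subsingleton_sections_of_isZero _ h _
  exact e.toEquiv.subsingleton

/-- transfer of vanishing along an affine morphism -/
theorem subsingleton_HH_of_isAffineHom {W' W : Scheme.{u}} (q : W' ⟶ W) [IsAffineHom q]
    (i : ℕ) (h : ∀ G : W.Modules, G.IsQuasicoherent → Subsingleton (Coh.HH W G i))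
    (G' : W'.Modules) [G'.IsQuasicoherent] : Subsingleton (Coh.HH W' G' i) := by
  obtain ⟨e⟩ := Groth.Agent.H30.AffinePush.HH_equiv_push q G' i
  have := h _ (Groth.Agent.H8.isQuasicoherent_pushforward_of_isAffineHom q G')
  exact e.toEquiv.subsingleton

/-- If `R^i f_*` vanishes on all quasi-coherent modules, then `H^i(f⁻¹V, G) = 0` for every affine
open `V` of the base and every quasi-coherent `G` on `f⁻¹V`. -/
theorem subsingleton_HH_preimage_of_isAffineOpen [CompactSpace X] [QuasiSeparatedSpace X]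
    [QuasiSeparatedSpace Y] (i : ℕ)
    (hvan : ∀ M : X.Modules, Coh.IsQCoh M → IsZero ((Coh.RpushAb f i).obj (Coh.toAb M)))
    (V : Y.Opens) (hV : IsAffineOpen V)
    (G : (↑(f ⁻¹ᵁ V) : Scheme.{u}).Modules) [G.IsQuasicoherent] :
    Subsingleton (Coh.HH (↑(f ⁻¹ᵁ V)) G i) := by
  have : IsAffine (↑V : Scheme.{u}) := hV
  have hWc : CompactSpace (↑(f ⁻¹ᵁ V) : Scheme.{u}) :=
    isCompact_iff_compactSpace.mp (f.isCompact_preimage hV.isCompact)
  have hWq : QuasiSeparatedSpace (↑(f ⁻¹ᵁ V) : Scheme.{u}) :=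
    quasiSeparatedSpace_of_quasiSeparated (f ⁻¹ᵁ V).ι
  let F := (Scheme.Modules.pushforward (f ⁻¹ᵁ V).ι).obj G
  have hF : F.IsQuasicoherent :=
    Groth.Agent.H8.isQuasicoherent_pushforward_of_qcqs (f ⁻¹ᵁ V).ι G
  have h0 := hvan F hF
  obtain ⟨e2⟩ := Groth.Agent.H30.RestrPush.restr_Rpush f.base V (Coh.toAb F) i
  rw [← Groth.Agent.Lead.Rpush.morphismRestrict_base_eq] at e2
  have h1 : IsZero (CohTop.restr ((CohTop.Rpush f.base i).obj (Coh.toAb F)) V) :=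
    Functor.map_isZero (CohTop.restrFunctor V) h0
  have h2 : IsZero ((CohTop.Rpush (f ∣_ V).base i).obj
      (Coh.toAb (F.restrict (f ⁻¹ᵁ V).ι))) := IsZero.of_iso h1 e2.symm
  let c : F.restrict (f ⁻¹ᵁ V).ι ≅ G :=
    asIso ((Scheme.Modules.restrictAdjunction (f ⁻¹ᵁ V).ι).counit.app G)
  have h3 : IsZero ((Coh.RpushAb (f ∣_ V) i).obj (Coh.toAb G)) :=
    IsZero.of_iso h2 (((SheafOfModules.toSheaf _) ⋙ CohTop.Rpush (f ∣_ V).base i).mapIso c).symm
  exact subsingleton_HH_of_isZero_RpushAb (f ∣_ V) G i h3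

/-- In a cartesian square, the restriction of the base change map `g'` to the preimages of affine
opens `V' ⊆ g⁻¹ V` is an affine morphism `f'⁻¹ V' ⟶ f⁻¹ V`. -/
theorem isAffineHom_resLE {X' Y' : Scheme.{u}} {f : X ⟶ Y} {g : Y' ⟶ Y} {f' : X' ⟶ Y'}
    {g' : X' ⟶ X} (sq : IsPullback g' f' f g) (V : Y.Opens) (V' : Y'.Opens)
    (hV : IsAffineOpen V) (hV' : IsAffineOpen V') (hVV' : V' ≤ g ⁻¹ᵁ V) :
    ∃ (e : f' ⁻¹ᵁ V' ≤ g' ⁻¹ᵁ (f ⁻¹ᵁ V)), IsAffineHom (g'.resLE (f ⁻¹ᵁ V) (f' ⁻¹ᵁ V') e) := by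
  have e : f' ⁻¹ᵁ V' ≤ g' ⁻¹ᵁ (f ⁻¹ᵁ V) := by
    rw [← Scheme.Hom.comp_preimage, sq.w, Scheme.Hom.comp_preimage]
    exact f'.preimage_mono hVV'
  refine ⟨e, ?_⟩
  have hUY : f' ⁻¹ᵁ V' = g' ⁻¹ᵁ (f ⁻¹ᵁ V) ⊓ f' ⁻¹ᵁ V' := (inf_eq_right.mpr e).symm
  have H := Scheme.Hom.isPullback_resLE sq (US := V) (UT := V') (UX := f ⁻¹ᵁ V) hVV' le_rfl
    (UY := f' ⁻¹ᵁ V') hUY
  have : IsAffine (↑V : Scheme.{u}) := hV
  have : IsAffine (↑V' : Scheme.{u}) := hV'
  have hg : IsAffineHom (g.resLE V V' hVV') := inferInstance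
  exact MorphismProperty.of_isPullback (P := @IsAffineHom) H.flip hg

/-- **Base change preserves vanishing of higher direct images of quasi-coherent modules.** -/
theorem isZero_RpushAb_of_isPullback {X' Y' : Scheme.{u}} [CompactSpace X]
    [QuasiSeparatedSpace X] [QuasiSeparatedSpace Y] (i : ℕ) (hi : 0 < i)
    (hvan : ∀ M : X.Modules, Coh.IsQCoh M → IsZero ((Coh.RpushAb f i).obj (Coh.toAb M)))
    (g : Y' ⟶ Y) (f' : X' ⟶ Y') (g' : X' ⟶ X) (sq : IsPullback g' f' f g)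
    (M' : X'.Modules) [Coh.IsQCoh M'] :
    IsZero ((Coh.RpushAb f' i).obj (Coh.toAb M')) := by
  obtain ⟨j, rfl⟩ : ∃ j, i = j + 1 := ⟨i - 1, by omega⟩
  let B : Set Y'.Opens := {V' | IsAffineOpen V' ∧ ∃ V : Y.Opens, IsAffineOpen V ∧ V' ≤ g ⁻¹ᵁ V}
  have hB : Opens.IsBasis B := by
    rw [Opens.isBasis_iff_nbhd]
    intro U y hy
    obtain ⟨V, hV, hyV, -⟩ := Opens.isBasis_iff_nbhd.1 Y.isBasis_affineOpens
      (show g y ∈ (⊤ : Y.Opens) from trivial)
    obtain ⟨V', hV', hyV', hle⟩ := Opens.isBasis_iff_nbhd.1 Y'.isBasis_affineOpens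
      (show y ∈ U ⊓ g ⁻¹ᵁ V from ⟨hy, hyV⟩)
    exact ⟨V', ⟨hV', V, hV, hle.trans inf_le_right⟩, hyV', hle.trans inf_le_left⟩
  refine Groth.Agent.H30.LocalExact.isZero_Rpush_of_basis f'.base (Coh.toAb M') j B hB ?_
  rintro V' ⟨hV', V, hV, hVV'⟩
  obtain ⟨e, hq⟩ := isAffineHom_resLE sq V V' hV hV' hVV'
  have h1 : Subsingleton (Coh.HH (↑(f' ⁻¹ᵁ V')) (M'.restrict (f' ⁻¹ᵁ V').ι) (j + 1)) :=
    subsingleton_HH_of_isAffineHom (g'.resLE _ _ e) (j + 1)
      (fun G hG => subsingleton_HH_preimage_of_isAffineOpen f (j + 1) hvan V hV G) _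
  obtain ⟨e1⟩ := Groth.Agent.H30.RestrOpen.HU_equiv_H_restr (X := X'.carrier) (f' ⁻¹ᵁ V')
    (Coh.toAb M') (j + 1)
  have h2 : Subsingleton (CohTop.H (CohTop.restr (Coh.toAb M') (f' ⁻¹ᵁ V')) (j + 1)) := h1
  exact e1.toEquiv.subsingleton

end Groth.Agent.H84.BCVanish
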