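import Mathlib

set_option autoImplicit false
universe u v

namespace Groth.Agent.H84

open CliffordAlgebra

section general

variable {k : Type u} [Field k] {V : Type v} [AddCommGroup V] [Module k V]
  (Q : QuadraticForm k V) {I : Type*} (e : I → V)

/-- ordered product of the vectors `e i`, `i ∈ l`, in the Clifford algebra -/
noncomputable def eL (l : List I) : CliffordAlgebra Q :=
  (l.map fun i => ι Q (e i)).prod

@[simp] lemma eL_nil : eL Q e [] = 1 := by simp [eL]

@[simp] lemma eL_cons (i : I) (l : List I) : eL Q e (i :: l) = ι Q (e i) * eL Q e l := by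
  simp [eL]

lemma eL_append (l l' : List I) : eL Q e (l ++ l') = eL Q e l * eL Q e l' := by
  simp [eL]

variable {Q e}

/-- the basic commutation relation: `e_i` moves through `e_l` with the sign
`(-1)^(number of entries of l different from i)`. -/
lemma ι_mul_eL [DecidableEq I]
    (horth : ∀ i j, i ≠ j → QuadraticMap.polar Q (e i) (e j) = 0) (i : I) (l : List I) :
    ι Q (e i) * eL Q e l = (-1 : k) ^ (l.filter (· ≠ i)).length • (eL Q e l * ι Q (e i)) := by
  induction l with
  | nil => simp
  | cons j l ih =>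
    by_cases hj : j = i
    · subst hj
      rw [eL_cons, ih, mul_smul_comm, ← mul_assoc, ← ih]
      simp [mul_assoc]
    · have h1 : ι Q (e i) * ι Q (e j) = -(ι Q (e j) * ι Q (e i)) := by
        have := ι_mul_ι_add_swap (Q := Q) (e i) (e j)
        rw [horth i j (Ne.symm hj), map_zero] at this
        exact eq_neg_of_add_eq_zero_left this
      rw [eL_cons, ← mul_assoc, h1, neg_mul, mul_assoc, ih]
      simp [hj, pow_succ, mul_assoc]

end general

section fin

variable {k : Type u} [Field k] {V : Type v} [AddCommGroup V] [Module k V]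
  {Q : QuadraticForm k V} {n : ℕ} {e : Fin n → V}

variable (Q e) in
/-- span of the ordered products over strictly increasing lists with entries `≥ b`. -/
noncomputable def sortedSpan (b : ℕ) : Submodule k (CliffordAlgebra Q) :=
  Submodule.span k {x | ∃ m : List (Fin n), m.Pairwise (· < ·) ∧ (∀ j ∈ m, b ≤ j.val) ∧
    x = eL Q e m}

lemma eL_mem_sortedSpan {b : ℕ} {m : List (Fin n)} (hm : m.Pairwise (· < ·))
    (hb : ∀ j ∈ m, b ≤ j.val) : eL Q e m ∈ sortedSpan Q e b :=
  Submodule.subset_span ⟨m, hm, hb, rfl⟩

lemma ι_mul_mem_sortedSpan {b : ℕ} (j : Fin n) (hj : b ≤ j.val) {x : CliffordAlgebra Q}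
    (hx : x ∈ sortedSpan Q e (j.val + 1)) : ι Q (e j) * x ∈ sortedSpan Q e b := by
  induction hx using Submodule.span_induction with
  | mem x hx =>
    obtain ⟨m, hm, hmb, rfl⟩ := hx
    rw [← eL_cons]
    refine eL_mem_sortedSpan ?_ ?_
    · rw [List.pairwise_cons]
      refine ⟨fun a ha => ?_, hm⟩
      have := hmb a ha
      exact Fin.lt_def.2 (by omega)
    · intro a ha
      rcases List.mem_cons.1 ha with rfl | ha
      · exact hj
      · have := hmb a ha
        omega
  | zero => simp
  | add x y _ _ hx hy => rw [mul_add]; exact add_mem hx hy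
  | smul c x _ hx => rw [mul_smul_comm]; exact Submodule.smul_mem _ _ hx

lemma ι_mul_eL_mem_sortedSpan
    (horth : ∀ i j, i ≠ j → QuadraticMap.polar Q (e i) (e j) = 0)
    (i : Fin n) (l : List (Fin n)) :
    ∀ b : ℕ, b ≤ i.val → l.Pairwise (· < ·) → (∀ j ∈ l, b ≤ j.val) →
      ι Q (e i) * eL Q e l ∈ sortedSpan Q e b := by
  induction l with
  | nil =>
    intro b hb _ _
    rw [← eL_cons]
    exact eL_mem_sortedSpan (by simp) (by simpa using hb)
  | cons j l ih =>
    intro b hb hl hlb
    rw [List.pairwise_cons] at hl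
    have hjb : b ≤ j.val := hlb j (by simp)
    rcases lt_trichotomy i j with hij | hij | hij
    · rw [← eL_cons]
      refine eL_mem_sortedSpan ?_ ?_
      · rw [List.pairwise_cons, List.pairwise_cons]
        refine ⟨fun a ha => ?_, hl⟩
        rcases List.mem_cons.1 ha with rfl | ha
        · exact hij
        · exact hij.trans (hl.1 a ha)
      · intro a ha
        rcases List.mem_cons.1 ha with rfl | ha
        · exact hb
        · exact hlb a ha
    · subst hij
      rw [eL_cons, ← mul_assoc, ι_sq_scalar, ← Algebra.smul_def]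
      refine Submodule.smul_mem _ _ (eL_mem_sortedSpan hl.2 fun a ha => ?_)
      exact hlb a (List.mem_cons_of_mem _ ha)
    · have h1 : ι Q (e i) * ι Q (e j) = -(ι Q (e j) * ι Q (e i)) := by
        have := ι_mul_ι_add_swap (Q := Q) (e i) (e j)
        rw [horth i j (ne_of_gt hij), map_zero] at this
        exact eq_neg_of_add_eq_zero_left this
      rw [eL_cons, ← mul_assoc, h1, neg_mul, mul_assoc]
      refine neg_mem (ι_mul_mem_sortedSpan j hjb ?_)
      refine ih (j.val + 1) (Fin.lt_def.1 hij) hl.2 fun a ha => ?_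
      exact Fin.lt_def.1 (hl.1 a ha)

lemma ι_mul_mem_sortedSpan_zero
    (horth : ∀ i j, i ≠ j → QuadraticMap.polar Q (e i) (e j) = 0)
    (i : Fin n) {x : CliffordAlgebra Q} (hx : x ∈ sortedSpan Q e 0) :
    ι Q (e i) * x ∈ sortedSpan Q e 0 := by
  induction hx using Submodule.span_induction with
  | mem x hx =>
    obtain ⟨m, hm, hmb, rfl⟩ := hx
    exact ι_mul_eL_mem_sortedSpan horth i m 0 (Nat.zero_le _) hm hmb
  | zero => simp
  | add x y _ _ hx hy => rw [mul_add]; exact add_mem hx hy
  | smul c x _ hx => rw [mul_smul_comm]; exact Submodule.smul_mem _ _ hx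

/-- if the `e i` span `V` and are pairwise orthogonal, the ordered products over strictly
increasing lists span the Clifford algebra. -/
lemma sortedSpan_zero_eq_top
    (horth : ∀ i j, i ≠ j → QuadraticMap.polar Q (e i) (e j) = 0)
    (hspan : Submodule.span k (Set.range e) = ⊤) : sortedSpan Q e 0 = ⊤ := by
  rw [eq_top_iff]
  rintro x -
  induction x using CliffordAlgebra.left_induction with
  | algebraMap r =>
    rw [Algebra.algebraMap_eq_smul_one]
    refine Submodule.smul_mem _ _ ?_
    rw [← eL_nil Q e]
    exact eL_mem_sortedSpan (by simp) (by simp)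
  | add x y hx hy => exact add_mem hx hy
  | ι_mul x m hx =>
    have hm : m ∈ Submodule.span k (Set.range e) := by rw [hspan]; trivial
    induction hm using Submodule.span_induction with
    | mem v hv =>
      obtain ⟨i, rfl⟩ := hv
      exact ι_mul_mem_sortedSpan_zero horth i hx
    | zero => simp
    | add v w _ _ hv hw => rw [map_add, add_mul]; exact add_mem hv hw
    | smul c v _ hv => rw [map_smul, smul_mul_assoc]; exact Submodule.smul_mem _ _ hv

/-! ### the projection argument -/

lemma filter_ne_length {α : Type*} [DecidableEq α] (i : α) :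
    ∀ m : List α, m.Nodup → (m.filter (· ≠ i)).length + (if i ∈ m then 1 else 0) = m.length
  | [], _ => by simp
  | j :: m, hm => by
    rw [List.nodup_cons] at hm
    have ih := filter_ne_length i m hm.2
    by_cases hj : j = i
    · subst hj
      simp [hm.1] at ih ⊢
      omega
    · by_cases hi : i ∈ m
      · have : i ∈ j :: m := List.mem_cons_of_mem _ hi
        simp [hj, hi] at ih ⊢
        omega
      · have : i ∉ j :: m := by
          simp only [List.mem_cons, not_or]
          exact ⟨fun h => hj h.symm, hi⟩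
        simp [hj, hi, Ne.symm hj] at ih ⊢
        omega

variable (Q e) in
/-- the averaging projection `y ↦ (y + e_i y e_i⁻¹)/2`. -/
noncomputable def avgProj (i : Fin n) : CliffordAlgebra Q →ₗ[k] CliffordAlgebra Q :=
  (2⁻¹ : k) • (LinearMap.id + (Q (e i))⁻¹ •
    (LinearMap.mulLeft k (ι Q (e i)) ∘ₗ LinearMap.mulRight k (ι Q (e i))))

lemma avgProj_apply (i : Fin n) (y : CliffordAlgebra Q) :
    avgProj Q e i y = (2⁻¹ : k) • (y + (Q (e i))⁻¹ • (ι Q (e i) * (y * ι Q (e i)))) := by
  simp [avgProj]

lemma avgProj_center (h2 : (2 : k) ≠ 0) (hQ : ∀ i, Q (e i) ≠ 0) (i : Fin n)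
    {x : CliffordAlgebra Q} (hx : x ∈ Subalgebra.center k (CliffordAlgebra Q)) :
    avgProj Q e i x = x := by
  rw [avgProj_apply, ← mul_assoc, (Subalgebra.mem_center_iff.1 hx (ι Q (e i))), mul_assoc,
    ι_sq_scalar, ← Algebra.commutes, ← Algebra.smul_def, smul_smul, inv_mul_cancel₀ (hQ i),
    one_smul, ← two_smul k x, smul_smul, inv_mul_cancel₀ h2, one_smul]

lemma avgProj_eL (h2 : (2 : k) ≠ 0) (hQ : ∀ i, Q (e i) ≠ 0)
    (horth : ∀ i j, i ≠ j → QuadraticMap.polar Q (e i) (e j) = 0) (i : Fin n)
    (m : List (Fin n)) :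
    avgProj Q e i (eL Q e m) =
      if Even (m.filter (· ≠ i)).length then eL Q e m else 0 := by
  rw [avgProj_apply, ← mul_assoc, ι_mul_eL horth, smul_mul_assoc, mul_assoc, ι_sq_scalar,
    ← Algebra.commutes, ← Algebra.smul_def, smul_smul, smul_smul, mul_right_comm,
    inv_mul_cancel₀ (hQ i), one_mul]
  split_ifs with hev
  · rw [hev.neg_one_pow, one_smul, ← two_smul k, smul_smul,
      inv_mul_cancel₀ h2, one_smul]
  · rw [Nat.not_even_iff_odd] at hev
    rw [hev.neg_one_pow, neg_smul, one_smul, add_neg_cancel, smul_zero]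

variable (Q e) in
/-- span of the sorted products fixed by the conjugations indexed by `A`. -/
noncomputable def fixSpan (A : Finset (Fin n)) : Submodule k (CliffordAlgebra Q) :=
  Submodule.span k {x | ∃ m : List (Fin n), m.Pairwise (· < ·) ∧
    (∀ i ∈ A, Even (m.filter (· ≠ i)).length) ∧ x = eL Q e m}

lemma avgProj_mem_fixSpan (h2 : (2 : k) ≠ 0) (hQ : ∀ i, Q (e i) ≠ 0)
    (horth : ∀ i j, i ≠ j → QuadraticMap.polar Q (e i) (e j) = 0) (i : Fin n)
    (A : Finset (Fin n)) {x : CliffordAlgebra Q} (hx : x ∈ fixSpan Q e A) :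
    avgProj Q e i x ∈ fixSpan Q e (insert i A) := by
  induction hx using Submodule.span_induction with
  | mem x hx =>
    obtain ⟨m, hm, hmA, rfl⟩ := hx
    rw [avgProj_eL h2 hQ horth]
    split_ifs with hev
    · refine Submodule.subset_span ⟨m, hm, fun j hj => ?_, rfl⟩
      rcases Finset.mem_insert.1 hj with rfl | hj
      · exact hev
      · exact hmA j hj
    · exact zero_mem _
  | zero => simp
  | add x y _ _ hx hy => rw [map_add]; exact add_mem hx hy
  | smul c x _ hx => rw [map_smul]; exact Submodule.smul_mem _ _ hx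

lemma center_le_fixSpan (h2 : (2 : k) ≠ 0) (hQ : ∀ i, Q (e i) ≠ 0)
    (horth : ∀ i j, i ≠ j → QuadraticMap.polar Q (e i) (e j) = 0)
    (hspan : Submodule.span k (Set.range e) = ⊤)
    {x : CliffordAlgebra Q} (hx : x ∈ Subalgebra.center k (CliffordAlgebra Q))
    (A : Finset (Fin n)) : x ∈ fixSpan Q e A := by
  induction A using Finset.induction_on with
  | empty =>
    have : x ∈ sortedSpan Q e 0 := by rw [sortedSpan_zero_eq_top horth hspan]; trivial
    refine Submodule.span_mono ?_ this
    rintro y ⟨m, hm, -, rfl⟩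
    exact ⟨m, hm, by simp, rfl⟩
  | insert i A _ ih =>
    rw [← avgProj_center h2 hQ i hx]
    exact avgProj_mem_fixSpan h2 hQ horth i A ih

/-- sorted lists all of whose conjugation signs are trivial. -/
lemma sorted_fixed_cases {m : List (Fin n)} (hm : m.Pairwise (· < ·))
    (hfix : ∀ i : Fin n, Even (m.filter (· ≠ i)).length) :
    m = [] ∨ (m = List.finRange n ∧ Odd n) := by
  have hnd : m.Nodup := hm.imp (fun h => ne_of_lt h)
  rcases Nat.even_or_odd m.length with hlen | hlen
  · left
    cases m with
    | nil => rfl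
    | cons j m =>
      exfalso
      have h1 := filter_ne_length j (j :: m) hnd
      have h2 := hfix j
      simp only [List.mem_cons, true_or, if_true] at h1
      rw [← h1] at hlen
      rcases h2 with ⟨a, ha⟩
      rcases hlen with ⟨b, hb⟩
      omega
  · right
    have hall : ∀ i : Fin n, i ∈ m := by
      intro i
      by_contra hi
      have h1 := filter_ne_length i m hnd
      have h2 := hfix i
      simp only [hi, if_false, add_zero] at h1
      rw [h1] at h2
      exact (Nat.not_even_iff_odd.2 hlen) h2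
    have hmeq : m = List.finRange n :=
      hm.eq_of_mem_iff (List.sortedLT_finRange n).pairwise (fun a => by simp [hall a])
    refine ⟨hmeq, ?_⟩
    rw [hmeq, List.length_finRange] at hlen
    exact hlen

lemma center_le_span (h2 : (2 : k) ≠ 0) (hQ : ∀ i, Q (e i) ≠ 0)
    (horth : ∀ i j, i ≠ j → QuadraticMap.polar Q (e i) (e j) = 0)
    (hspan : Submodule.span k (Set.range e) = ⊤)
    {x : CliffordAlgebra Q} (hx : x ∈ Subalgebra.center k (CliffordAlgebra Q)) :
    x ∈ Submodule.span k {(1 : CliffordAlgebra Q), eL Q e (List.finRange n)} ∧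
      (Even n → x ∈ Submodule.span k {(1 : CliffordAlgebra Q)}) := by
  have hx' := center_le_fixSpan h2 hQ horth hspan hx Finset.univ
  constructor
  · refine Submodule.span_le.2 ?_ hx'
    rintro y ⟨m, hm, hfix, rfl⟩
    rcases sorted_fixed_cases hm (fun i => hfix i (Finset.mem_univ i)) with rfl | ⟨rfl, -⟩
    · rw [eL_nil]; exact Submodule.subset_span (by simp)
    · exact Submodule.subset_span (by simp)
  · intro hev
    refine Submodule.span_le.2 ?_ hx'
    rintro y ⟨m, hm, hfix, rfl⟩
    rcases sorted_fixed_cases hm (fun i => hfix i (Finset.mem_univ i)) with rfl | ⟨-, hodd⟩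
    · rw [eL_nil]; exact Submodule.subset_span (by simp)
    · exact absurd hev (Nat.not_even_iff_odd.2 hodd)

/-- facts extracted from an orthogonal basis of a nondegenerate form. -/
lemma basis_facts (_h2 : (2 : k) ≠ 0) (hreg : (QuadraticMap.polarBilin Q).Nondegenerate)
    (b : Module.Basis (Fin n) k V) (horth : (QuadraticMap.polarBilin Q).IsOrthoᵢ b) :
    (∀ i, Q (b i) ≠ 0) ∧ (∀ i j, i ≠ j → QuadraticMap.polar Q (b i) (b j) = 0) ∧
      Submodule.span k (Set.range b) = ⊤ := by
  refine ⟨fun i hi => ?_, fun i j hij => ?_, b.span_eq⟩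
  · have h := LinearMap.BilinForm.iIsOrtho.not_isOrtho_basis_self_of_nondegenerate
      (B := QuadraticMap.polarBilin Q) (v := b) horth hreg i
    apply h
    rw [QuadraticMap.polarBilin_apply_apply, QuadraticMap.polar_self, hi, smul_zero]
  · have := (LinearMap.isOrthoᵢ_def.1 horth) i j hij
    simpa using this

/-- even case: the centre is `k`. -/
theorem center_eq_bot_of_even (h2 : (2 : k) ≠ 0)
    (hreg : (QuadraticMap.polarBilin Q).Nondegenerate)
    (b : Module.Basis (Fin n) k V) (horth : (QuadraticMap.polarBilin Q).IsOrthoᵢ b)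
    (hn : Even n) : Subalgebra.center k (CliffordAlgebra Q) = ⊥ := by
  obtain ⟨hQ, ho, hspan⟩ := basis_facts h2 hreg b horth
  refine le_antisymm (fun x hx => ?_) bot_le
  have := (center_le_span h2 hQ ho hspan hx).2 hn
  obtain ⟨c, rfl⟩ := Submodule.mem_span_singleton.1 this
  rw [← Algebra.algebraMap_eq_smul_one]
  exact Subalgebra.algebraMap_mem _ c

/-! ### the odd case -/

lemma eL_mul_ι_of_notMem
    (horth : ∀ i j, i ≠ j → QuadraticMap.polar Q (e i) (e j) = 0) (i : Fin n)
    (l : List (Fin n)) (hi : i ∉ l) :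
    eL Q e l * ι Q (e i) = (-1 : k) ^ l.length • (ι Q (e i) * eL Q e l) := by
  have hfil : l.filter (· ≠ i) = l := by
    rw [List.filter_eq_self]
    intro a ha
    simpa using fun h : a = i => hi (h ▸ ha)
  rw [ι_mul_eL horth, hfil, smul_smul, ← mul_pow]
  simp

lemma eL_sq (horth : ∀ i j, i ≠ j → QuadraticMap.polar Q (e i) (e j) = 0) :
    ∀ l : List (Fin n), l.Nodup →
      eL Q e l * eL Q e l = algebraMap k (CliffordAlgebra Q)
        ((-1) ^ (l.length * (l.length - 1) / 2) * (l.map fun i => Q (e i)).prod)
  | [], _ => by simp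
  | j :: l, hl => by
    rw [List.nodup_cons] at hl
    have ih := eL_sq horth l hl.2
    have hlen : (l.length + 1) * (l.length + 1 - 1) / 2 =
        l.length + l.length * (l.length - 1) / 2 := by
      rw [Nat.add_sub_cancel]
      rcases Nat.eq_zero_or_pos l.length with h0 | hpos
      · simp [h0]
      · obtain ⟨m, hm⟩ : ∃ m, l.length = m + 1 := ⟨l.length - 1, by omega⟩
        rw [hm, Nat.add_sub_cancel]
        have : (m + 1 + 1) * (m + 1) = (m + 1) * 2 + (m + 1) * m := by ring
        rw [this, Nat.add_comm ((m + 1) * 2), Nat.add_mul_div_right _ _ (by norm_num : 0 < 2)]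
        omega
    calc eL Q e (j :: l) * eL Q e (j :: l)
        = ι Q (e j) * (eL Q e l * ι Q (e j)) * eL Q e l := by
          rw [eL_cons]; simp only [mul_assoc]
      _ = (-1 : k) ^ l.length • (ι Q (e j) * ι Q (e j) * (eL Q e l * eL Q e l)) := by
          rw [eL_mul_ι_of_notMem horth j l hl.1, mul_smul_comm, smul_mul_assoc]
          simp only [mul_assoc]
      _ = _ := by
          rw [ι_sq_scalar, ih, ← map_mul, Algebra.smul_def, ← map_mul, List.length_cons, hlen,
            List.map_cons, List.prod_cons, pow_add]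
          congr 1
          ring

variable (Q e) in
/-- the product of all the basis vectors. -/
noncomputable def zElt : CliffordAlgebra Q := eL Q e (List.finRange n)

lemma zElt_eq : zElt Q e = (List.ofFn fun i => ι Q (e i)).prod := by
  rw [zElt, eL, List.ofFn_eq_map]

lemma zElt_sq (horth : ∀ i j, i ≠ j → QuadraticMap.polar Q (e i) (e j) = 0) :
    zElt Q e ^ 2 = algebraMap k (CliffordAlgebra Q) ((-1) ^ (n * (n - 1) / 2) * ∏ i, Q (e i)) := by
  rw [pow_two, zElt, eL_sq horth _ (List.nodup_finRange n), List.length_finRange,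
    ← List.ofFn_eq_map, List.prod_ofFn]

lemma ι_mul_zElt (horth : ∀ i j, i ≠ j → QuadraticMap.polar Q (e i) (e j) = 0) (hn : Odd n)
    (i : Fin n) : ι Q (e i) * zElt Q e = zElt Q e * ι Q (e i) := by
  have h1 := filter_ne_length i (List.finRange n) (List.nodup_finRange n)
  simp only [List.mem_finRange, if_true, List.length_finRange] at h1
  have hev : Even ((List.finRange n).filter (· ≠ i)).length := by
    rcases hn with ⟨a, ha⟩
    exact ⟨a, by omega⟩
  rw [zElt, ι_mul_eL horth, hev.neg_one_pow, one_smul]

lemma zElt_mem_center (horth : ∀ i j, i ≠ j → QuadraticMap.polar Q (e i) (e j) = 0)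
    (hspan : Submodule.span k (Set.range e) = ⊤) (hn : Odd n) :
    zElt Q e ∈ Subalgebra.center k (CliffordAlgebra Q) := by
  rw [Subalgebra.mem_center_iff]
  intro x
  induction x using CliffordAlgebra.induction with
  | algebraMap r => exact Algebra.commutes r _
  | ι v =>
    have hv : v ∈ Submodule.span k (Set.range e) := by rw [hspan]; trivial
    induction hv using Submodule.span_induction with
    | mem v hv =>
      obtain ⟨i, rfl⟩ := hv
      exact ι_mul_zElt horth hn i
    | zero => simp
    | add v w _ _ hv hw => rw [map_add, add_mul, mul_add, hv, hw]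
    | smul c v _ hv => rw [map_smul, smul_mul_assoc, mul_smul_comm, hv]
  | mul a b ha hb => rw [mul_assoc, hb, ← mul_assoc, ha, mul_assoc]
  | add a b ha hb => rw [add_mul, mul_add, ha, hb]

lemma involute_eL (l : List (Fin n)) :
    involute (eL Q e l) = (-1 : k) ^ l.length • eL Q e l := by
  induction l with
  | nil => simp
  | cons j l ih =>
    rw [eL_cons, map_mul, involute_ι, ih, List.length_cons, pow_succ]
    simp

lemma zElt_ne_smul_one (h2 : (2 : k) ≠ 0) (hQ : ∀ i, Q (e i) ≠ 0)
    (horth : ∀ i j, i ≠ j → QuadraticMap.polar Q (e i) (e j) = 0) (hn : Odd n) (a : k) :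
    a • (1 : CliffordAlgebra Q) ≠ zElt Q e := by
  have : Invertible (2 : k) := invertibleOfNonzero h2
  intro h
  have h1 : involute (zElt Q e) = -zElt Q e := by
    rw [zElt, involute_eL, List.length_finRange, hn.neg_one_pow, neg_smul, one_smul]
  have h3 : involute (zElt Q e) = zElt Q e := by
    rw [← h, map_smul, map_one]
  have h4 : (2 : k) • zElt Q e = 0 := by
    rw [two_smul]
    nth_rewrite 1 [← h3]
    rw [h1, neg_add_cancel]
  have h5 : zElt Q e = 0 := by
    rcases smul_eq_zero.1 h4 with h | h
    · exact absurd h h2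
    · exact h
  have h6 := zElt_sq (Q := Q) (e := e) horth
  rw [h5, zero_pow two_ne_zero] at h6
  have h7 : ((-1 : k) ^ (n * (n - 1) / 2) * ∏ i, Q (e i)) = 0 := by
    apply (algebraMap k (CliffordAlgebra Q)).injective
    rw [← h6, map_zero]
  rcases mul_eq_zero.1 h7 with h | h
  · exact absurd h (pow_ne_zero _ (by simp))
  · exact absurd h (Finset.prod_ne_zero_iff.2 fun i _ => hQ i)

/-- odd case. -/
theorem center_of_odd (h2 : (2 : k) ≠ 0)
    (hreg : (QuadraticMap.polarBilin Q).Nondegenerate)
    (b : Module.Basis (Fin n) k V) (horth : (QuadraticMap.polarBilin Q).IsOrthoᵢ b)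
    (hn : Odd n) :
    zElt Q b ^ 2 = algebraMap k (CliffordAlgebra Q) ((-1) ^ (n * (n - 1) / 2) * ∏ i, Q (b i)) ∧
      Subalgebra.center k (CliffordAlgebra Q) = Algebra.adjoin k {zElt Q b} ∧
      Module.finrank k (Subalgebra.center k (CliffordAlgebra Q)) = 2 := by
  have : Invertible (2 : k) := invertibleOfNonzero h2
  obtain ⟨hQ, ho, hspan⟩ := basis_facts h2 hreg b horth
  have hz := zElt_mem_center ho hspan hn
  refine ⟨zElt_sq ho, ?_, ?_⟩
  · refine le_antisymm (fun x hx => ?_) (Algebra.adjoin_le ?_)
    · have := (center_le_span h2 hQ ho hspan hx).1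
      obtain ⟨c, d, rfl⟩ := Submodule.mem_span_pair.1 this
      refine add_mem ?_ (Subalgebra.smul_mem _ (Algebra.subset_adjoin (by simp [zElt])) d)
      rw [← Algebra.algebraMap_eq_smul_one]
      exact Subalgebra.algebraMap_mem _ c
    · rintro x hx
      rw [Set.mem_singleton_iff] at hx
      rw [hx]; exact hz
  · have hsub : Subalgebra.toSubmodule (Subalgebra.center k (CliffordAlgebra Q)) =
        Submodule.span k (Set.range ![(1 : CliffordAlgebra Q), zElt Q b]) := by
      have hr : Set.range ![(1 : CliffordAlgebra Q), zElt Q b] = {1, zElt Q b} := by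
        ext y; simp [or_comm]
      rw [hr]
      refine le_antisymm (fun x hx => (center_le_span h2 hQ ho hspan hx).1) ?_
      rw [Submodule.span_le]
      rintro x hx
      rcases hx with rfl | hx
      · exact Subalgebra.one_mem _
      · rw [Set.mem_singleton_iff] at hx
        rw [hx]; exact hz
    have hli : LinearIndependent k ![(1 : CliffordAlgebra Q), zElt Q b] := by
      rw [LinearIndependent.pair_iff' one_ne_zero]
      exact zElt_ne_smul_one h2 hQ ho hn
    rw [← Subalgebra.finrank_toSubmodule, hsub, finrank_span_eq_card hli]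
    simp

end fin

end Groth.Agent.H84
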