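import Mathlib

set_option autoImplicit false

open CategoryTheory CategoryTheory.Limits

namespace Groth.Agent.H84.ConnLim

universe u v w

variable {C : Type u} [Category.{v} C] {J : Type w} [Category.{w} J] (F : J ⥤ C)

/-- compatibility of a family of maps indexed by a set of objects of `J`. -/
def Compat (S : Set J) {X : C} (d : ∀ j, j ∈ S → (X ⟶ F.obj j)) : Prop :=
  ∀ i j (hi : i ∈ S) (hj : j ∈ S) (f : i ⟶ j), d i hi ≫ F.map f = d j hj

/-- joint monicity. -/
def JointMono (S : Set J) {L : C} (c : ∀ j, j ∈ S → (L ⟶ F.obj j)) : Prop :=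
  ∀ (X : C) (s t : X ⟶ L), (∀ j hj, s ≫ c j hj = t ≫ c j hj) → s = t

/-- weak universality. -/
def WeakUniv (S : Set J) {L : C} (c : ∀ j, j ∈ S → (L ⟶ F.obj j)) : Prop :=
  ∀ (X : C) (d : ∀ j, j ∈ S → (X ⟶ F.obj j)), Compat F S d →
    ∃ u : X ⟶ L, ∀ j hj, u ≫ c j hj = d j hj

/-- `L` with projections `c` is a limit of `F` restricted to the objects in `S`
(with all morphisms of `J` between them). -/
def IsPLim (S : Set J) {L : C} (c : ∀ j, j ∈ S → (L ⟶ F.obj j)) : Prop :=
  Compat F S c ∧ JointMono F S c ∧ WeakUniv F S c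

/-- existence of such a partial limit -/
def HasPLim (S : Set J) : Prop :=
  ∃ (L : C) (c : ∀ j, j ∈ S → (L ⟶ F.obj j)), IsPLim F S c

section multiEq

variable [HasEqualizers C]

/-- finite iterated equalizers. -/
lemma exists_multiEq {P : C} (l : List (Σ Y : C, (P ⟶ Y) × (P ⟶ Y))) :
    ∃ (E : C) (e : E ⟶ P), Mono e ∧ (∀ s ∈ l, e ≫ s.2.1 = e ≫ s.2.2) ∧
      ∀ (X : C) (t : X ⟶ P), (∀ s ∈ l, t ≫ s.2.1 = t ≫ s.2.2) → ∃ u : X ⟶ E, u ≫ e = t := by
  induction l with
  | nil => exact ⟨P, 𝟙 P, inferInstance, by simp, fun X t _ => ⟨t, by simp⟩⟩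
  | cons s l ih =>
    obtain ⟨E, e, he, h1, h2⟩ := ih
    refine ⟨equalizer (e ≫ s.2.1) (e ≫ s.2.2), equalizer.ι _ _ ≫ e, mono_comp _ _, ?_, ?_⟩
    · intro s' hs'
      rcases List.mem_cons.1 hs' with rfl | hs'
      · simpa using equalizer.condition (e ≫ s'.2.1) (e ≫ s'.2.2)
      · simp [h1 s' hs']
    · intro X t ht
      obtain ⟨u, hu⟩ := h2 X t (fun s' hs' => ht s' (List.mem_cons_of_mem _ hs'))
      have hs := ht s (List.mem_cons_self)
      refine ⟨equalizer.lift u (by rw [← Category.assoc, ← Category.assoc, hu]; exact hs), ?_⟩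
      simp [hu]

/-- finite iterated equalizers, indexed by a finite type. -/
lemma exists_multiEq_finite {P : C} {ι : Type*} [Finite ι] (Y : ι → C)
    (a b : ∀ i, P ⟶ Y i) :
    ∃ (E : C) (e : E ⟶ P), Mono e ∧ (∀ i, e ≫ a i = e ≫ b i) ∧
      ∀ (X : C) (t : X ⟶ P), (∀ i, t ≫ a i = t ≫ b i) → ∃ u : X ⟶ E, u ≫ e = t := by
  classical
  have := Fintype.ofFinite ι
  obtain ⟨E, e, he, h1, h2⟩ := exists_multiEq
    ((Finset.univ : Finset ι).toList.map fun i => (⟨Y i, a i, b i⟩ : Σ Y : C, (P ⟶ Y) × (P ⟶ Y)))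
  refine ⟨E, e, he, fun i => ?_, fun X t ht => h2 X t ?_⟩
  · exact h1 ⟨Y i, a i, b i⟩ (List.mem_map.2 ⟨i, by simp, rfl⟩)
  · intro s hs
    obtain ⟨i, -, rfl⟩ := List.mem_map.1 hs
    exact ht i

/-- equalize a family of projections into a compatible one. -/
lemma exists_equalize [Finite J] [∀ j j' : J, Finite (j ⟶ j')] (S : Set J) {P : C}
    (p : ∀ j, j ∈ S → (P ⟶ F.obj j)) :
    ∃ (E : C) (e : E ⟶ P), Mono e ∧ Compat F S (fun j hj => e ≫ p j hj) ∧
      ∀ (X : C) (t : X ⟶ P), Compat F S (fun j hj => t ≫ p j hj) → ∃ u : X ⟶ E, u ≫ e = t := by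
  obtain ⟨E, e, he, h1, h2⟩ := exists_multiEq_finite
    (ι := Σ (k : S) (l : S), (k.1 ⟶ l.1)) (P := P) (fun x => F.obj x.2.1.1)
    (fun x => p x.1.1 x.1.2 ≫ F.map x.2.2) (fun x => p x.2.1.1 x.2.1.2)
  refine ⟨E, e, he, ?_, fun X t ht => h2 X t ?_⟩
  · intro i j hi hj f
    simpa using h1 ⟨⟨i, hi⟩, ⟨j, hj⟩, f⟩
  · rintro ⟨⟨i, hi⟩, ⟨j, hj⟩, f⟩
    simpa using ht i j hi hj f

/-- a jointly monic, weakly universal family of projections can be cut down to a partial limit. -/
lemma hasPLim_of_weak [Finite J] [∀ j j' : J, Finite (j ⟶ j')] (S : Set J) {P : C}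
    (p : ∀ j, j ∈ S → (P ⟶ F.obj j)) (hm : JointMono F S p) (hw : WeakUniv F S p) :
    HasPLim F S := by
  obtain ⟨E, e, he, h1, h2⟩ := exists_equalize F S p
  refine ⟨E, fun j hj => e ≫ p j hj, h1, ?_, ?_⟩
  · intro X s t hst
    rw [← cancel_mono e]
    exact hm X _ _ (fun j hj => by simpa using hst j hj)
  · intro X d hd
    obtain ⟨t, ht⟩ := hw X d hd
    obtain ⟨u, hu⟩ := h2 X t (by
      intro i j hi hj f
      simp only [ht]
      exact hd i j hi hj f)
    exact ⟨u, fun j hj => by rw [← Category.assoc, hu, ht]⟩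

/-- base case: a single object. -/
lemma hasPLim_singleton [Finite J] [∀ j j' : J, Finite (j ⟶ j')] (j₀ : J) :
    HasPLim F {j₀} := by
  refine hasPLim_of_weak F {j₀} (P := F.obj j₀)
    (fun j hj => eqToHom (by rw [Set.mem_singleton_iff.1 hj])) ?_ ?_
  · intro X s t hst
    simpa using hst j₀ rfl
  · intro X d _
    refine ⟨d j₀ rfl, fun j hj => ?_⟩
    obtain rfl := Set.mem_singleton_iff.1 hj
    simp

end multiEq

section step

variable {F}

/-- extend a family of projections by one new object. -/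
noncomputable def extend {S : Set J} {P : C} (j₀ : J) (new : P ⟶ F.obj j₀)
    (base : ∀ k, k ∈ S → (P ⟶ F.obj k)) : ∀ k, k ∈ insert j₀ S → (P ⟶ F.obj k) := by
  classical
  exact fun k hk => if h : k = j₀ then new ≫ eqToHom (by rw [h]) else base k (hk.resolve_left h)

lemma extend_self {S : Set J} {P : C} (j₀ : J) (new : P ⟶ F.obj j₀)
    (base : ∀ k, k ∈ S → (P ⟶ F.obj k)) (h : j₀ ∈ insert j₀ S) :
    extend j₀ new base j₀ h = new := by
  simp [extend]

lemma extend_of_ne {S : Set J} {P : C} (j₀ : J) (new : P ⟶ F.obj j₀)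
    (base : ∀ k, k ∈ S → (P ⟶ F.obj k)) {k : J} (hk : k ∈ S) (hne : k ≠ j₀)
    (h : k ∈ insert j₀ S) :
    extend j₀ new base k h = base k hk := by
  simp [extend, hne]

variable [HasEqualizers C] [HasPullbacks C] [Finite J] [∀ j j' : J, Finite (j ⟶ j')]

/-- step, case of an arrow from the old part to the new object. -/
lemma hasPLim_insert_of_hom {S : Set J} (h : HasPLim F S) {i j₀ : J} (hi : i ∈ S)
    (hj₀ : j₀ ∉ S) (a : i ⟶ j₀) : HasPLim F (insert j₀ S) := by
  obtain ⟨L, c, hc, hm, hw⟩ := h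
  have hne : ∀ k, k ∈ S → k ≠ j₀ := fun k hk h => hj₀ (h ▸ hk)
  refine hasPLim_of_weak F (insert j₀ S) (P := L) (extend j₀ (c i hi ≫ F.map a) c) ?_ ?_
  · intro X s t hst
    refine hm X s t fun j hj => ?_
    have := hst j (Or.inr hj)
    rwa [extend_of_ne _ _ _ hj (hne j hj)] at this
  · intro X d hd
    obtain ⟨u, hu⟩ := hw X (fun j hj => d j (Or.inr hj))
      (fun k l hk hl f => hd k l (Or.inr hk) (Or.inr hl) f)
    refine ⟨u, fun j hj => ?_⟩
    rcases hj with rfl | hj'
    · rw [extend_self, ← Category.assoc, hu i hi]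
      exact hd i j (Or.inr hi) _ a
    · rw [extend_of_ne _ _ _ hj' (hne j hj')]
      exact hu j hj'

/-- step, case of an arrow from the new object to the old part. -/
lemma hasPLim_insert_of_hom' {S : Set J} (h : HasPLim F S) {i j₀ : J} (hi : i ∈ S)
    (hj₀ : j₀ ∉ S) (a : j₀ ⟶ i) : HasPLim F (insert j₀ S) := by
  obtain ⟨L, c, hc, hm, hw⟩ := h
  have hne : ∀ k, k ∈ S → k ≠ j₀ := fun k hk h => hj₀ (h ▸ hk)
  refine hasPLim_of_weak F (insert j₀ S) (P := pullback (c i hi) (F.map a))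
    (extend j₀ (pullback.snd _ _) (fun k hk => pullback.fst _ _ ≫ c k hk)) ?_ ?_
  · intro X s t hst
    apply pullback.hom_ext
    · refine hm X _ _ fun j hj => ?_
      have := hst j (Or.inr hj)
      rw [extend_of_ne _ _ _ hj (hne j hj)] at this
      simpa using this
    · have := hst j₀ (Or.inl rfl)
      rwa [extend_self] at this
  · intro X d hd
    obtain ⟨u, hu⟩ := hw X (fun j hj => d j (Or.inr hj))
      (fun k l hk hl f => hd k l (Or.inr hk) (Or.inr hl) f)
    refine ⟨pullback.lift u (d j₀ (Or.inl rfl)) ?_, fun j hj => ?_⟩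
    · rw [hu i hi]
      exact (hd j₀ i (Or.inl rfl) (Or.inr hi) a).symm
    · rcases hj with rfl | hj'
      · rw [extend_self, pullback.lift_snd]
      · rw [extend_of_ne _ _ _ hj' (hne j hj'), ← Category.assoc, pullback.lift_fst]
        exact hu j hj'

end step

section main

variable [HasEqualizers C] [HasPullbacks C] [Finite J] [∀ j j' : J, Finite (j ⟶ j')]
  [IsConnected J]

/-- a nonempty proper subset of the objects of a connected category has a neighbour. -/
lemma exists_adjacent (S : Set J) (hS : S.Nonempty) (hS' : S ≠ Set.univ) :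
    ∃ i ∈ S, ∃ j₀, j₀ ∉ S ∧ (Nonempty (i ⟶ j₀) ∨ Nonempty (j₀ ⟶ i)) := by
  by_contra hcon
  push Not at hcon
  obtain ⟨i₀, hi₀⟩ := hS
  apply hS'
  rw [Set.eq_univ_iff_forall]
  refine induct_on_objects S hi₀ ?_
  intro j₁ j₂ f
  constructor
  · intro h1
    by_contra h2
    exact (hcon j₁ h1 j₂ h2).1.elim f
  · intro h2
    by_contra h1
    exact (hcon j₂ h2 j₁ h1).2.elim f

lemma hasPLim_univ_aux : ∀ (n : ℕ) (S : Set J), S.Nonempty → Sᶜ.ncard = n → HasPLim F S →
    HasPLim F Set.univ := by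
  intro n
  induction n using Nat.strong_induction_on with
  | _ n ih =>
    intro S hS hn h
    by_cases hu : S = Set.univ
    · rwa [hu] at h
    · obtain ⟨i, hi, j₀, hj₀, hadj⟩ := exists_adjacent S hS hu
      have h' : HasPLim F (insert j₀ S) := by
        rcases hadj with ⟨⟨a⟩⟩ | ⟨⟨a⟩⟩
        · exact hasPLim_insert_of_hom h hi hj₀ a
        · exact hasPLim_insert_of_hom' h hi hj₀ a
      refine ih (insert j₀ S)ᶜ.ncard ?_ (insert j₀ S) (Set.insert_nonempty _ _) rfl h'
      rw [← hn]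
      apply Set.ncard_lt_ncard _ (Set.toFinite _)
      constructor
      · intro x hx
        exact fun hxs => hx (Or.inr hxs)
      · intro hsub
        exact (hsub hj₀) (Or.inl rfl)

lemma hasPLim_univ : HasPLim F Set.univ := by
  obtain ⟨j₀⟩ : Nonempty J := IsConnected.is_nonempty
  exact hasPLim_univ_aux F _ {j₀} (Set.singleton_nonempty _) rfl (hasPLim_singleton F j₀)

theorem hasLimit : HasLimit F := by
  obtain ⟨L, c, hc, hm, hw⟩ := hasPLim_univ F
  let cone : Cone F :=
    { pt := L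
      π := { app := fun j => c j trivial
             naturality := fun i j f => by
               simp only [Functor.const_obj_obj, Functor.const_obj_map, Category.id_comp]
               exact (hc i j trivial trivial f).symm } }
  refine HasLimit.mk ⟨cone, IsLimit.ofExistsUnique fun s => ?_⟩
  obtain ⟨u, hu⟩ := hw s.pt (fun j _ => s.π.app j) (fun i j _ _ f => by simp)
  refine ⟨u, fun j => hu j trivial, fun u' hu' => ?_⟩
  exact hm _ _ _ fun j _ => (hu' j).trans (hu j trivial).symm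

end main

end Groth.Agent.H84.ConnLim
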