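import Groth.Prelude.Def_ConstAct2

set_option autoImplicit false
universe u

namespace Groth.Agent.H84

open TensorProduct

section

variable (R : Type u) [CommRing R] (B : Type u) [CommRing B] [Algebra R B]
  (Γ : Type u) [Group Γ] [Fintype Γ] [DecidableEq Γ]

/-- evaluation at `γ`: `B ⊗ F → B`, `b ⊗ f ↦ f γ • b`. -/
noncomputable def evB (γ : Γ) : B ⊗[R] ConstGrp.F R Γ →ₐ[R] B :=
  Algebra.TensorProduct.lift (AlgHom.id R B) ((Algebra.ofId R B).comp (ConstGrp.ev R γ))
    (fun _ _ => Commute.all _ _)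

omit [Group Γ] [Fintype Γ] [DecidableEq Γ] in
theorem evB_tmul (γ : Γ) (b : B) (f : ConstGrp.F R Γ) : evB R B Γ γ (b ⊗ₜ f) = f γ • b := by
  simp [evB, Algebra.TensorProduct.lift_tmul, Algebra.smul_def, mul_comm, Algebra.ofId_apply]

omit [Group Γ] in
theorem evB_sum_e (γ : Γ) (x : Γ → B) :
    evB R B Γ γ (∑ g : Γ, x g ⊗ₜ[R] ConstGrp.e R g) = x γ := by
  rw [map_sum]
  simp only [evB_tmul, ConstGrp.e_apply]
  rw [Finset.sum_eq_single γ]
  · simp
  · intro g _ hg; rw [if_neg (Ne.symm hg), zero_smul]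
  · intro h; exact absurd (Finset.mem_univ γ) h

omit [Group Γ] in
theorem decomp (t : B ⊗[R] ConstGrp.F R Γ) :
    t = ∑ γ : Γ, (evB R B Γ γ t) ⊗ₜ[R] ConstGrp.e R γ := by
  induction t using TensorProduct.induction_on with
  | zero => simp
  | add x y hx hy =>
    conv_lhs => rw [hx, hy]
    rw [← Finset.sum_add_distrib]
    apply Finset.sum_congr rfl
    intro γ _
    rw [map_add, TensorProduct.add_tmul]
  | tmul b f =>
    simp only [evB_tmul]
    conv_lhs => rw [ConstGrp.eq_sum_smul_e f, TensorProduct.tmul_sum]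
    apply Finset.sum_congr rfl
    intro γ _
    rw [TensorProduct.smul_tmul]

/-- `b ⊗ (f ⊗ f') ↦ f g * f' h • b`. -/
noncomputable def evB2 (g h : Γ) : B ⊗[R] (ConstGrp.F R Γ ⊗[R] ConstGrp.F R Γ) →ₗ[R] B :=
  (TensorProduct.rid R B).toLinearMap ∘ₗ
    ((ConstGrp.ev R (g, h)).toLinearMap ∘ₗ (ConstGrp.pair R Γ).toLinearMap).lTensor B

omit [Group Γ] [Fintype Γ] [DecidableEq Γ] in
theorem evB2_tmul (g h : Γ) (b : B) (f f' : ConstGrp.F R Γ) :
    evB2 R B Γ g h (b ⊗ₜ (f ⊗ₜ f')) = (f g * f' h) • b := by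
  simp [evB2]

theorem evB2_comul (g h : Γ) :
    evB2 R B Γ g h ∘ₗ (Coalgebra.comul (R := R) (A := ConstGrp.F R Γ)).lTensor B =
      (evB R B Γ (g * h)).toLinearMap := by
  ext b f
  simp only [TensorProduct.AlgebraTensorModule.curry_apply, TensorProduct.curry_apply,
    LinearMap.coe_restrictScalars, LinearMap.comp_apply, LinearMap.lTensor_tmul,
    AlgHom.toLinearMap_apply, evB_tmul]
  simp only [evB2, LinearMap.comp_apply, LinearMap.lTensor_tmul, AlgHom.toLinearMap_apply,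
    LinearEquiv.coe_coe, TensorProduct.rid_tmul, ConstGrp.ev_apply, ConstGrp.pair_comul]

variable [HopfRep.Comod R (ConstGrp.F R Γ) B] [GLin.IsCoactAlg R (ConstGrp.F R Γ) B]

/-- the automorphism-to-be `b ↦ γ • b`. -/
noncomputable def actHom (γ : Γ) : B →ₐ[R] B :=
  (evB R B Γ γ).comp (GLin.coactAlgHom R (ConstGrp.F R Γ) B)

theorem actHom_apply (γ : Γ) (b : B) :
    actHom R B Γ γ b = evB R B Γ γ (HopfRep.Comod.coact (k := R) (A := ConstGrp.F R Γ) b) := rfl

theorem actHom_one (b : B) : actHom R B Γ 1 b = b := by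
  have h1 : (evB R B Γ 1).toLinearMap =
      (TensorProduct.rid R B).toLinearMap ∘ₗ
        (Coalgebra.counit (R := R) (A := ConstGrp.F R Γ)).lTensor B := by
    ext b f
    simp [evB_tmul]
  have h2 := LinearMap.congr_fun
    (HopfRep.Comod.counit_comp (k := R) (A := ConstGrp.F R Γ) (V := B)) b
  rw [actHom_apply]
  have h3 := LinearMap.congr_fun h1 (HopfRep.Comod.coact (k := R) (A := ConstGrp.F R Γ) b)
  simp only [AlgHom.toLinearMap_apply, LinearMap.comp_apply, LinearEquiv.coe_coe] at h3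
  rw [h3]
  simp only [LinearMap.comp_apply] at h2
  rw [h2]
  simp

theorem actHom_mul (g h : Γ) (b : B) : actHom R B Γ (g * h) b = actHom R B Γ g (actHom R B Γ h b) := by
  set ρ : B →ₗ[R] B ⊗[R] ConstGrp.F R Γ := HopfRep.Comod.coact (k := R) (A := ConstGrp.F R Γ) with hρ
  -- `Ψ_h`
  let Ψ : (B ⊗[R] ConstGrp.F R Γ) ⊗[R] ConstGrp.F R Γ →ₗ[R] B ⊗[R] ConstGrp.F R Γ :=
    (TensorProduct.rid R _).toLinearMap ∘ₗ (ConstGrp.ev R h).toLinearMap.lTensor _
  have hΨ1 : evB2 R B Γ g h ∘ₗ (TensorProduct.assoc R B (ConstGrp.F R Γ) (ConstGrp.F R Γ)).toLinearMap =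
      (evB R B Γ g).toLinearMap ∘ₗ Ψ := by
    ext b f f'
    simp only [TensorProduct.AlgebraTensorModule.curry_apply, TensorProduct.curry_apply,
      LinearMap.coe_restrictScalars, LinearMap.comp_apply, LinearEquiv.coe_coe,
      TensorProduct.assoc_tmul, evB2_tmul, Ψ, LinearMap.lTensor_tmul, AlgHom.toLinearMap_apply,
      ConstGrp.ev_apply, TensorProduct.rid_tmul, map_smul, evB_tmul, mul_smul]
    rw [smul_comm]
  have hΨ2 : Ψ ∘ₗ ρ.rTensor (ConstGrp.F R Γ) = ρ ∘ₗ (evB R B Γ h).toLinearMap := by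
    ext b f
    simp [Ψ, evB_tmul]
  have hco := LinearMap.congr_fun
    (HopfRep.Comod.coassoc (k := R) (A := ConstGrp.F R Γ) (V := B)) b
  simp only [LinearMap.comp_apply, LinearEquiv.coe_coe] at hco
  have e1 := LinearMap.congr_fun (evB2_comul R B Γ g h) (ρ b)
  have e2 := LinearMap.congr_fun hΨ1 ((ρ.rTensor (ConstGrp.F R Γ)) (ρ b))
  have e3 := LinearMap.congr_fun hΨ2 (ρ b)
  simp only [LinearMap.comp_apply, LinearEquiv.coe_coe, AlgHom.toLinearMap_apply] at e1 e2 e3
  rw [actHom_apply, actHom_apply, actHom_apply, ← hρ, ← e1, ← hco, e2, e3]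

/-- The action of `Γ` on `B` defined by a comodule algebra structure. -/
@[reducible] noncomputable def actionOfCoact : MulSemiringAction Γ B where
  smul γ b := actHom R B Γ γ b
  one_smul b := actHom_one R B Γ b
  mul_smul g h b := actHom_mul R B Γ g h b
  smul_zero γ := map_zero (actHom R B Γ γ)
  smul_add γ := map_add (actHom R B Γ γ)
  smul_one γ := map_one (actHom R B Γ γ)
  smul_mul γ := map_mul (actHom R B Γ γ)

theorem actionOfCoact_smulComm :
    letI := actionOfCoact R B Γ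
    SMulCommClass Γ R B := by
  let _ := actionOfCoact R B Γ
  exact ⟨fun γ r b => map_smul (actHom R B Γ γ) r b⟩

end

end Groth.Agent.H84
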