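import Mathlib

set_option autoImplicit false
universe u
open CategoryTheory CategoryTheory.Limits AlgebraicGeometry

namespace Groth.Agent.H84.ConstScheme

variable {S : Scheme.{u}} {M : Type u} {T : Scheme.{u}}

/-- The constant family. -/
abbrev cf (S : Scheme.{u}) (M : Type u) : M → Scheme.{u} := fun _ => S

/-- index of the copy containing `f t`. -/
noncomputable def idx (f : T ⟶ ∐ (cf S M)) (t : T) : M :=
  ((sigmaMk (cf S M)).symm (f.base t)).1

lemma idx_eq_iff (f : T ⟶ ∐ (cf S M)) (t : T) (m : M) :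
    idx f t = m ↔ f.base t ∈ (Sigma.ι (cf S M) m).opensRange := by
  obtain ⟨⟨m', x⟩, hx⟩ := (sigmaMk (cf S M)).surjective (f.base t)
  have h1 : idx f t = m' := by
    unfold idx
    rw [← hx, Homeomorph.symm_apply_apply]
  rw [h1]
  rw [sigmaMk_mk] at hx
  constructor
  · rintro rfl
    exact ⟨x, hx⟩
  · rintro ⟨y, hy⟩
    have := (sigmaι_eq_iff (cf S M) m' m x y).mp (hx.trans hy.symm)
    exact (Sigma.mk.inj_iff.mp this).1

lemma isLocallyConstant_idx (f : T ⟶ ∐ (cf S M)) : IsLocallyConstant (idx f) := by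
  rw [IsLocallyConstant.iff_isOpen_fiber]
  intro m
  have : idx f ⁻¹' {m} = (f ⁻¹ᵁ (Sigma.ι (cf S M) m).opensRange : Set T) := by
    ext t
    simp only [Set.mem_preimage, Set.mem_singleton_iff]
    rw [idx_eq_iff]
    rfl
  rw [this]
  exact (f ⁻¹ᵁ (Sigma.ι (cf S M) m).opensRange).isOpen

/-- On the open where `f` lands in the `m`-th copy, `f` is `p ≫ ι_m`. -/
lemma restrict_eq (f : T ⟶ ∐ (cf S M)) (p : T ⟶ S)
    (hf : f ≫ Sigma.desc (fun _ : M => 𝟙 S) = p) (m : M) (U : T.Opens)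
    (hU : ∀ t ∈ U, idx f t = m) :
    U.ι ≫ f = (U.ι ≫ p) ≫ Sigma.ι (cf S M) m := by
  have hr : Set.range (U.ι ≫ f).base ⊆ Set.range (Sigma.ι (cf S M) m).base := by
    rintro _ ⟨t, rfl⟩
    have := (idx_eq_iff f (U.ι.base t) m).mp (hU _ t.2)
    simpa using this
  have h1 := IsOpenImmersion.lift_fac (Sigma.ι (cf S M) m) (U.ι ≫ f) hr
  have h2 : IsOpenImmersion.lift (Sigma.ι (cf S M) m) (U.ι ≫ f) hr = U.ι ≫ p := by
    have h3 : Sigma.ι (cf S M) m ≫ Sigma.desc (fun _ : M => 𝟙 S) = 𝟙 S :=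
      Sigma.ι_desc _ _
    calc IsOpenImmersion.lift (Sigma.ι (cf S M) m) (U.ι ≫ f) hr
        = IsOpenImmersion.lift (Sigma.ι (cf S M) m) (U.ι ≫ f) hr ≫
            (Sigma.ι (cf S M) m ≫ Sigma.desc (fun _ : M => 𝟙 S)) := by
          rw [h3]; exact (Category.comp_id _).symm
      _ = (U.ι ≫ f) ≫ Sigma.desc (fun _ : M => 𝟙 S) := by
          rw [← Category.assoc, h1]
      _ = U.ι ≫ p := by rw [Category.assoc, hf]
  rw [← h1, h2]

lemma ext_of_idx (f₁ f₂ : T ⟶ ∐ (cf S M)) (p : T ⟶ S)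
    (h₁ : f₁ ≫ Sigma.desc (fun _ : M => 𝟙 S) = p)
    (h₂ : f₂ ≫ Sigma.desc (fun _ : M => 𝟙 S) = p)
    (h : ∀ t, idx f₁ t = idx f₂ t) : f₁ = f₂ := by
  apply Scheme.hom_ext_of_forall
  intro x
  let U : T.Opens := f₁ ⁻¹ᵁ (Sigma.ι (cf S M) (idx f₁ x)).opensRange
  have hU : ∀ t ∈ U, idx f₁ t = idx f₁ x := fun t ht => (idx_eq_iff f₁ t _).mpr ht
  refine ⟨U, (idx_eq_iff f₁ x _).mp rfl, ?_⟩
  rw [restrict_eq f₁ p h₁ (idx f₁ x) U hU,
    restrict_eq f₂ p h₂ (idx f₁ x) U (fun t ht => (h t).symm.trans (hU t ht))]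

/-- the open fibre of a locally constant map. -/
def fib (φ : LocallyConstant T M) (m : M) : T.Opens :=
  ⟨φ ⁻¹' {m}, φ.isLocallyConstant.isOpen_fiber m⟩

lemma mem_fib (φ : LocallyConstant T M) (m : M) (t : T) : t ∈ fib φ m ↔ φ t = m := Iff.rfl

lemma isOpenCover_fib (φ : LocallyConstant T M) : TopologicalSpace.IsOpenCover (fib φ) := by
  rw [TopologicalSpace.IsOpenCover, eq_top_iff]
  intro t _
  rw [TopologicalSpace.Opens.mem_iSup]
  exact ⟨φ t, rfl⟩

/-- the cover of `T` by the fibres. -/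
noncomputable def fibCover (φ : LocallyConstant T M) : T.OpenCover :=
  T.openCoverOfIsOpenCover (fib φ) (isOpenCover_fib φ)

/-- The morphism associated with a locally constant map. -/
noncomputable def ofLC (φ : LocallyConstant T M) (p : T ⟶ S) : T ⟶ ∐ (cf S M) :=
  (fibCover φ).glueMorphisms (fun m => ((fib φ m).ι ≫ p) ≫ Sigma.ι (cf S M) m) (by
    intro m m'
    by_cases hm : m = m'
    · subst hm
      have := pullback.condition (f := (fibCover φ).f m) (g := (fibCover φ).f m)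
      simp only [fibCover, Scheme.openCoverOfIsOpenCover_f] at this ⊢
      simp only [← Category.assoc, this]
    · have : IsEmpty ↑(pullback ((fibCover φ).f m) ((fibCover φ).f m')) := by
        refine ⟨fun z => hm ?_⟩
        have hc := pullback.condition (f := (fibCover φ).f m) (g := (fibCover φ).f m')
        have h1 : φ ((pullback.fst ((fibCover φ).f m) ((fibCover φ).f m') ≫
            (fibCover φ).f m).base z) = m :=
          ((pullback.fst ((fibCover φ).f m) ((fibCover φ).f m')).base z).2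
        have h2 : φ ((pullback.snd ((fibCover φ).f m) ((fibCover φ).f m') ≫
            (fibCover φ).f m').base z) = m' :=
          ((pullback.snd ((fibCover φ).f m) ((fibCover φ).f m')).base z).2
        rw [hc] at h1
        exact h1.symm.trans h2
      exact (isInitialOfIsEmpty).hom_ext _ _)

lemma ι_ofLC (φ : LocallyConstant T M) (p : T ⟶ S) (m : M) :
    (fib φ m).ι ≫ ofLC φ p = ((fib φ m).ι ≫ p) ≫ Sigma.ι (cf S M) m :=
  (fibCover φ).ι_glueMorphisms _ _ m

lemma ofLC_desc (φ : LocallyConstant T M) (p : T ⟶ S) :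
    ofLC φ p ≫ Sigma.desc (fun _ : M => 𝟙 S) = p := by
  apply (fibCover φ).hom_ext
  intro m
  change (fib φ m).ι ≫ _ = (fib φ m).ι ≫ _
  rw [← Category.assoc, ι_ofLC, Category.assoc]
  have h3 : Sigma.ι (cf S M) m ≫ Sigma.desc (fun _ : M => 𝟙 S) = 𝟙 S :=
    Sigma.ι_desc _ _
  rw [h3, Category.comp_id]

lemma idx_ofLC (φ : LocallyConstant T M) (p : T ⟶ S) (t : T) :
    idx (ofLC φ p) t = φ t := by
  rw [idx_eq_iff]
  let t' : fib φ (φ t) := ⟨t, rfl⟩
  have : (ofLC φ p).base t = ((fib φ (φ t)).ι ≫ ofLC φ p).base t' := rfl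
  rw [this, ι_ofLC]
  exact ⟨((fib φ (φ t)).ι ≫ p).base t', rfl⟩

/-- The equivalence. -/
noncomputable def equiv (S : Scheme.{u}) (M : Type u) (T : Scheme.{u}) (p : T ⟶ S) :
    {f : T ⟶ ∐ (fun _ : M => S) // f ≫ Sigma.desc (fun _ : M => 𝟙 S) = p} ≃
        LocallyConstant T M where
  toFun f := ⟨idx f.1, isLocallyConstant_idx f.1⟩
  invFun φ := ⟨ofLC φ p, ofLC_desc φ p⟩
  left_inv f := by
    apply Subtype.ext
    exact ext_of_idx _ _ p (ofLC_desc _ p) f.2 (fun t => idx_ofLC _ p t)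
  right_inv φ := by
    ext t
    exact idx_ofLC φ p t

end Groth.Agent.H84.ConstScheme
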