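import Mathlib.LinearAlgebra.Projection
import Mathlib.LinearAlgebra.Basis.VectorSpace
import Mathlib.Algebra.CharZero.Defs
import Mathlib.Algebra.Group.Hom.Defs

/-!
# Dieudonné–Manin helper: a Maschke-type averaging argument for semilinear maps

If `F` is a bijective `τ`-semilinear endomorphism, `P` an `F`-stable subspace and `Q₀` a complement
of `P` stable under `F^H`, then `P` has an `F`-stable complement (characteristic zero).
-/

set_option autoImplicit false
set_option linter.unusedSectionVars false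

namespace Groth.Agent.H84

section Maschke

variable {K : Type*} [Field K] {τ : K →+* K} {N : Type*} [AddCommGroup N] [Module K N]

/-- conjugation `π ↦ F ∘ π ∘ F⁻¹` of a linear map by a bijective semilinear map. -/
noncomputable def conjLin (hτ : Function.Surjective τ) (F : N →ₛₗ[τ] N) (G : N → N)
    (hGF : ∀ x, G (F x) = x) (hFG : ∀ x, F (G x) = x) : (N →ₗ[K] N) →+ (N →ₗ[K] N) where
  toFun π :=
    { toFun := fun x => F (π (G x))
      map_add' := fun x y => by
        have hG : G (x + y) = G x + G y := by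
          have : F (G (x + y)) = F (G x + G y) := by rw [map_add, hFG, hFG, hFG]
          rw [← hGF (G (x + y)), this, hGF]
        rw [hG, map_add, map_add]
      map_smul' := fun c x => by
        obtain ⟨c', rfl⟩ := hτ c
        have hG : G (τ c' • x) = c' • G x := by
          have : F (G (τ c' • x)) = F (c' • G x) := by rw [map_smulₛₗ, hFG, hFG]
          rw [← hGF (G (τ c' • x)), this, hGF]
        rw [hG, map_smul, map_smulₛₗ, RingHom.id_apply] }
  map_zero' := by
    ext x
    simp
  map_add' π₁ π₂ := by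
    ext x
    simp

theorem conjLin_apply (hτ : Function.Surjective τ) (F : N →ₛₗ[τ] N) (G : N → N)
    (hGF : ∀ x, G (F x) = x) (hFG : ∀ x, F (G x) = x) (π : N →ₗ[K] N) (x : N) :
    conjLin hτ F G hGF hFG π x = F (π (G x)) := rfl

theorem conjLin_smul (hτ : Function.Surjective τ) (F : N →ₛₗ[τ] N) (G : N → N)
    (hGF : ∀ x, G (F x) = x) (hFG : ∀ x, F (G x) = x) (c : K) (π : N →ₗ[K] N) :
    conjLin hτ F G hGF hFG (c • π) = τ c • conjLin hτ F G hGF hFG π := by
  ext x
  rw [conjLin_apply, LinearMap.smul_apply, LinearMap.smul_apply, map_smulₛₗ, conjLin_apply]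

theorem conjLin_iterate_apply (hτ : Function.Surjective τ) (F : N →ₛₗ[τ] N) (G : N → N)
    (hGF : ∀ x, G (F x) = x) (hFG : ∀ x, F (G x) = x) (π : N →ₗ[K] N) (i : ℕ) (x : N) :
    ((⇑(conjLin hτ F G hGF hFG))^[i] π) x = F^[i] (π (G^[i] x)) := by
  induction i generalizing x with
  | zero => rfl
  | succ i ih =>
    rw [Function.iterate_succ_apply', conjLin_apply, ih, Function.iterate_succ_apply',
      Function.iterate_succ_apply]

theorem exists_stable_compl_of_iterate (hτ : Function.Surjective τ)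
    (F : N →ₛₗ[τ] N) (hbij : Function.Bijective F)
    (P Q₀ : Submodule K N) (hPQ : IsCompl P Q₀) (hP : ∀ x ∈ P, F x ∈ P)
    (hP' : ∀ x, F x ∈ P → x ∈ P) (H : ℕ) (hHK : (H : K) ≠ 0) (hQ₀ : ∀ x ∈ Q₀, F^[H] x ∈ Q₀) :
    ∃ Q : Submodule K N, (∀ x ∈ Q, F x ∈ Q) ∧ IsCompl P Q := by
  classical
  let E : N ≃ N := Equiv.ofBijective F hbij
  have hGF : ∀ x, E.symm (F x) = x := fun x => E.symm_apply_apply x
  have hFG : ∀ x, F (E.symm x) = x := fun x => E.apply_symm_apply x
  set C := conjLin hτ F E.symm hGF hFG with hC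
  let π₀ : N →ₗ[K] N := LinearMap.ofIsCompl hPQ P.subtype (0 : Q₀ →ₗ[K] N)
  have hπ₀P : ∀ x ∈ P, π₀ x = x := fun x hx => LinearMap.ofIsCompl_apply_left hPQ ⟨x, hx⟩
  have hπ₀Q : ∀ x ∈ Q₀, π₀ x = 0 := fun x hx => LinearMap.ofIsCompl_apply_right hPQ ⟨x, hx⟩
  have hdec : ∀ x : N, ∃ u ∈ P, ∃ v ∈ Q₀, u + v = x := by
    intro x
    have : x ∈ P ⊔ Q₀ := by rw [hPQ.sup_eq_top]; trivial
    exact Submodule.mem_sup.mp this
  have hπ₀mem : ∀ x, π₀ x ∈ P := by
    intro x
    obtain ⟨u, hu, v, hv, rfl⟩ := hdec x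
    rw [map_add, hπ₀P u hu, hπ₀Q v hv, add_zero]
    exact hu
  have hPiter : ∀ (i : ℕ), ∀ x ∈ P, F^[i] x ∈ P := by
    intro i
    induction i with
    | zero => intro x hx; exact hx
    | succ i ih =>
      intro x hx
      rw [Function.iterate_succ_apply']
      exact hP _ (ih x hx)
  have hGP : ∀ x ∈ P, E.symm x ∈ P := by
    intro x hx
    apply hP'
    rwa [hFG]
  have hGPiter : ∀ (i : ℕ), ∀ x ∈ P, E.symm^[i] x ∈ P := by
    intro i
    induction i with
    | zero => intro x hx; exact hx
    | succ i ih =>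
      intro x hx
      rw [Function.iterate_succ_apply']
      exact hGP _ (ih x hx)
  have hFGiter : ∀ (i : ℕ) (x : N), F^[i] (E.symm^[i] x) = x := fun i x =>
    (Function.LeftInverse.iterate (g := F) (f := E.symm) hFG i) x
  have hcomm : ∀ x, π₀ (F^[H] x) = F^[H] (π₀ x) := by
    intro x
    obtain ⟨u, hu, v, hv, rfl⟩ := hdec x
    rw [iterate_map_add, map_add, map_add, hπ₀P u hu, hπ₀Q v hv, add_zero,
      hπ₀P _ (hPiter H u hu), hπ₀Q _ (hQ₀ v hv), add_zero]
  have hCH : (⇑C)^[H] π₀ = π₀ := by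
    ext x
    rw [hC, conjLin_iterate_apply, ← hcomm, hFGiter]
  -- the average
  set S : N →ₗ[K] N := ∑ i ∈ Finset.range H, (⇑C)^[i] π₀ with hS
  have hCS : C S = S := by
    rw [hS, map_sum]
    have h1 : ∀ i, C ((⇑C)^[i] π₀) = (⇑C)^[i + 1] π₀ := fun i => by
      rw [Function.iterate_succ_apply']
    simp only [h1]
    have h2 := Finset.sum_range_succ' (fun i => (⇑C)^[i] π₀) H
    have h3 := Finset.sum_range_succ (fun i => (⇑C)^[i] π₀) H
    rw [h3, hCH] at h2
    simp only [Function.iterate_zero, id_eq] at h2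
    exact (add_right_cancel h2).symm
  set π : N →ₗ[K] N := (H : K)⁻¹ • S with hπ
  have hCπ : C π = π := by
    rw [hπ, hC, conjLin_smul, ← hC, hCS, map_inv₀, map_natCast]
  have hSapp : ∀ x, S x = ∑ i ∈ Finset.range H, F^[i] (π₀ (E.symm^[i] x)) := by
    intro x
    rw [hS, LinearMap.sum_apply]
    apply Finset.sum_congr rfl
    intro i _
    rw [hC, conjLin_iterate_apply]
  have hπmem : ∀ x, π x ∈ P := by
    intro x
    rw [hπ, LinearMap.smul_apply, hSapp]
    apply P.smul_mem
    apply P.sum_mem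
    intro i _
    exact hPiter i _ (hπ₀mem _)
  have hπP : ∀ x ∈ P, π x = x := by
    intro x hx
    rw [hπ, LinearMap.smul_apply, hSapp]
    have : ∀ i ∈ Finset.range H, F^[i] (π₀ (E.symm^[i] x)) = x := by
      intro i _
      rw [hπ₀P _ (hGPiter i x hx), hFGiter]
    rw [Finset.sum_congr rfl this, Finset.sum_const, Finset.card_range, ← Nat.cast_smul_eq_nsmul K,
      smul_smul, inv_mul_cancel₀ hHK, one_smul]
  refine ⟨LinearMap.ker π, ?_, ?_⟩
  · intro x hx
    rw [LinearMap.mem_ker] at hx ⊢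
    have h1 : π (F x) = C π (F x) := by rw [hCπ]
    rw [h1, hC, conjLin_apply, hGF, hx, map_zero]
  · have h1 := LinearMap.isCompl_of_proj (f := π.codRestrict P hπmem)
      (fun x => Subtype.ext (by rw [LinearMap.codRestrict_apply]; exact hπP x x.2))
    rwa [LinearMap.ker_codRestrict] at h1

end Maschke

section Coord

/-- Given a spanning set `B` and a subspace `P`, some subset of `B` spans a complement of `P`. -/
theorem exists_subset_isCompl_span {K V : Type*} [Field K] [AddCommGroup V] [Module K V]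
    (P : Submodule K V) (B : Set V) (hB : Submodule.span K B = ⊤) :
    ∃ T ⊆ B, IsCompl P (Submodule.span K T) := by
  obtain ⟨s, hsP, hspan, hsli⟩ := exists_linearIndependent K (P : Set V)
  rw [Submodule.span_eq] at hspan
  have hsli' : LinearIndepOn K id s := hsli
  obtain ⟨E, hEt, hsE, htE, hEli⟩ :=
    exists_linearIndepOn_id_extension hsli' (Set.subset_union_left : s ⊆ s ∪ B)
  refine ⟨E \ s, ?_, ?_⟩
  · intro x hx
    rcases hEt hx.1 with h | h
    · exact absurd h hx.2
    · exact h
  · have hE : s ∪ (E \ s) = E := Set.union_sdiff_cancel hsE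
    have hdj : Disjoint s (E \ s) := Set.disjoint_sdiff_right
    rw [← hE] at hEli
    have h3 := (linearIndepOn_id_union_iff hdj).mp hEli
    constructor
    · rw [← hspan]
      exact h3.2.2
    · rw [codisjoint_iff, ← hspan, ← Submodule.span_union, hE, eq_top_iff, ← hB]
      exact Submodule.span_le.mpr (fun x hx => htE (Or.inr hx))

end Coord

end Groth.Agent.H84
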