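import Groth.Agent.H84.DMEigen
import Groth.Agent.H84.DMMaschke

/-!
# Dieudonné–Manin helper: `F`-stable complements over an algebraically closed field
-/

set_option autoImplicit false
set_option linter.unusedSectionVars false

noncomputable section

open scoped Isocrystal Pointwise
open Groth.Agent.H85

universe u v

namespace Groth.Agent.H84

variable {p : ℕ} [Fact p.Prime] {k : Type u} [Field k] [CharP k p] [PerfectRing k p]

local notation "W" => WittVector p k
local notation "L" => FractionRing (WittVector p k)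

variable {N : Type v} [AddCommGroup N] [Module (WittVector p k) N]
  [Module (FractionRing (WittVector p k)) N]
  [IsScalarTower (WittVector p k) (FractionRing (WittVector p k)) N]

/-- vectors `y` with `F^H y = p^D y` for some `H > 0` and `D`. -/
def eigAll (G : N → N) : Set N :=
  {y | ∃ (H : ℕ) (D : ℤ), 0 < H ∧ G^[H] y = ((p : L) ^ D) • y}

theorem restrict_iterate {a : ℤ} (F : N →ₛₗ[Isoc.frob p k a] N) {S : Submodule L N}
    (hS : ∀ x ∈ S, F x ∈ S) (n : ℕ) (y : S) :
    (((⇑(F.restrict hS))^[n] y : S) : N) = F^[n] (y : N) := by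
  induction n with
  | zero => rfl
  | succ n ih =>
    rw [Function.iterate_succ_apply', Function.iterate_succ_apply', ← ih]
    rfl

theorem slopePart_stable_iso {a : ℤ} (F : N →ₛₗ[Isoc.frob p k a] N) (hF : Isoc.IsIsoc F) (μ : ℚ) :
    ∃ hP : ∀ x ∈ Isoc.slopePart F μ, F x ∈ Isoc.slopePart F μ,
      Isoc.IsIsoclinic (F.restrict hP) μ := by
  have := hF.finite
  have hG := IsSemi.of_semilinear F
  have hmem := sSup_stableIso_mem hG μ
  rw [← slopePart_eq F μ] at hmem
  exact ⟨hmem.1, (isIsoclinic_restrict_iff F _ hmem.1 μ).mpr hmem.2⟩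

theorem restrict_injective {a : ℤ} (F : N →ₛₗ[Isoc.frob p k a] N) (hinj : Function.Injective F)
    {S : Submodule L N} (hS : ∀ x ∈ S, F x ∈ S) : Function.Injective (F.restrict hS) := by
  intro x y hxy
  apply Subtype.ext
  apply hinj
  exact congrArg Subtype.val hxy

theorem slopePart_le_span_eigAll [IsAlgClosed k] {a : ℤ} (ha : a ≠ 0)
    (F : N →ₛₗ[Isoc.frob p k a] N) (hF : Isoc.IsIsoc F) (μ : ℚ) :
    Isoc.slopePart F μ ≤ Submodule.span L (eigAll (p := p) (k := k) (⇑F)) := by
  obtain ⟨hS, hiso⟩ := slopePart_stable_iso F hF μ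
  have hsp := span_eigen_eq_top ha (F.restrict hS) (restrict_injective F hF.bijective.1 hS) hiso
    μ.num μ.den μ.den_pos (by exact_mod_cast Rat.num_div_den μ)
  intro x hx
  have h1 : (⟨x, hx⟩ : Isoc.slopePart F μ) ∈
      Submodule.span L {y : Isoc.slopePart F μ |
        (⇑(F.restrict hS))^[μ.den] y = ((p : L) ^ μ.num) • y} := by
    rw [hsp]; trivial
  have h2 := Submodule.mem_map_of_mem (f := (Isoc.slopePart F μ).subtype) h1
  rw [Submodule.map_span] at h2
  refine Submodule.span_mono ?_ h2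
  rintro _ ⟨y, hy, rfl⟩
  refine ⟨μ.den, μ.num, μ.den_pos, ?_⟩
  have h3 := congrArg Subtype.val hy
  rw [restrict_iterate] at h3
  exact h3

theorem eig_mul {G : N → N} (hG : IsSemi (p := p) (k := k) G) {H : ℕ} {D : ℤ} {y : N}
    (h : G^[H] y = ((p : L) ^ D) • y) (m : ℕ) : G^[H * m] y = ((p : L) ^ (D * m)) • y := by
  induction m with
  | zero => simp
  | succ m ih =>
    rw [Nat.mul_succ, Function.iterate_add_apply, h, (hG.iterate _).map_pow_smul, ih, smul_smul,
      ← zpow_add₀ pL_ne_zero]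
    congr 2
    push_cast; ring

theorem exists_common_period {G : N → N} (hG : IsSemi (p := p) (k := k) G) {b : Set N}
    (hfin : b.Finite) (hb : b ⊆ eigAll (p := p) (k := k) G) :
    ∃ H : ℕ, 0 < H ∧ ∀ y ∈ b, ∃ D : ℤ, G^[H] y = ((p : L) ^ D) • y := by
  induction b, hfin using Set.Finite.induction_on with
  | empty => exact ⟨1, one_pos, fun y hy => absurd hy (Set.notMem_empty y)⟩
  | insert hy hfin ih =>
    rename_i y₀ s
    obtain ⟨H₁, h₁pos, h₁⟩ := ih (fun y hy => hb (Set.mem_insert_of_mem _ hy))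
    obtain ⟨H₀, D₀, h₀pos, h₀⟩ := hb (Set.mem_insert y₀ s)
    refine ⟨H₀ * H₁, Nat.mul_pos h₀pos h₁pos, ?_⟩
    intro y hy
    rcases hy with rfl | hy
    · exact ⟨D₀ * H₁, eig_mul hG h₀ H₁⟩
    · obtain ⟨D, hD⟩ := h₁ y hy
      refine ⟨D * H₀, ?_⟩
      rw [Nat.mul_comm]
      exact eig_mul hG hD H₀

theorem span_stable_of_eig {G : N → N} (hG : IsSemi (p := p) (k := k) G) {T : Set N}
    (hT : ∀ y ∈ T, ∃ D : ℤ, G y = ((p : L) ^ D) • y) :
    ∀ x ∈ Submodule.span L T, G x ∈ Submodule.span L T := by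
  obtain ⟨Tw, hadd, hsmul⟩ := hG
  have hG : IsSemi (p := p) (k := k) G := ⟨Tw, hadd, hsmul⟩
  intro x hx
  induction hx using Submodule.span_induction with
  | mem y hy =>
    obtain ⟨D, hD⟩ := hT y hy
    rw [hD]
    exact Submodule.smul_mem _ _ (Submodule.subset_span hy)
  | zero => rw [hG.map_zero]; exact Submodule.zero_mem _
  | add x y _ _ hx hy => rw [hadd]; exact Submodule.add_mem _ hx hy
  | smul c x _ hx => rw [hsmul]; exact Submodule.smul_mem _ _ hx

theorem frob_surjective (a : ℤ) : Function.Surjective (Isoc.frob p k a) := by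
  unfold Isoc.frob
  exact RingEquiv.surjective _

/-- Over an algebraically closed field and for `a ≠ 0`: if the slope parts span `N`, every
`F`-stable subspace has an `F`-stable complement. -/
theorem exists_stable_compl [IsAlgClosed k] {a : ℤ} (ha : a ≠ 0)
    (F : N →ₛₗ[Isoc.frob p k a] N) (hF : Isoc.IsIsoc F)
    (htop : ⨆ μ : ℚ, Isoc.slopePart F μ = ⊤)
    (P : Submodule L N) (hP : ∀ x ∈ P, F x ∈ P) :
    ∃ Q : Submodule L N, (∀ x ∈ Q, F x ∈ Q) ∧ IsCompl P Q := by
  have := hF.finite
  have hG := IsSemi.of_semilinear F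
  have hspan : Submodule.span L (eigAll (p := p) (k := k) (⇑F)) = ⊤ := by
    rw [eq_top_iff, ← htop]
    exact iSup_le (fun μ => slopePart_le_span_eigAll ha F hF μ)
  obtain ⟨b, hbsub, hbspan, hbli⟩ := exists_linearIndependent L (eigAll (p := p) (k := k) (⇑F))
  have hbfin : b.Finite := hbli.setFinite
  obtain ⟨H, hHpos, hH⟩ := exists_common_period hG hbfin hbsub
  obtain ⟨T, hTb, hcompl⟩ := exists_subset_isCompl_span P b (hbspan.trans hspan)
  have hQ₀ : ∀ x ∈ Submodule.span L T, F^[H] x ∈ Submodule.span L T :=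
    span_stable_of_eig (hG.iterate H) (fun y hy => hH y (hTb hy))
  have hHL : ((H : ℕ) : L) ≠ 0 := by
    have : CharZero L := fracWitt_charZero p k
    exact_mod_cast hHpos.ne'
  exact exists_stable_compl_of_iterate (frob_surjective a) F hF.bijective P _ hcompl hP
    (fun x hx => mem_of_apply_mem hG hF.bijective.1 P hP hx) H hHL hQ₀

end Groth.Agent.H84
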