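import Groth.Agent.H84.DMFrob
import Groth.Agent.H85.SlopePart

/-!
# Dieudonné–Manin helper: an isoclinic isocrystal over an algebraically closed field is
spanned by vectors `y` with `F^h y = p^d y`
-/

set_option autoImplicit false
set_option linter.unusedSectionVars false

noncomputable section

open scoped Isocrystal Pointwise
open Groth.Agent.H85

universe u v

namespace Groth.Agent.H84

variable {p : ℕ} [Fact p.Prime] {k : Type u} [Field k] [CharP k p] [PerfectRing k p]

local notation "W" => WittVector p k
local notation "L" => FractionRing (WittVector p k)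

variable {N : Type v} [AddCommGroup N] [Module (WittVector p k) N]
  [Module (FractionRing (WittVector p k)) N]
  [IsScalarTower (WittVector p k) (FractionRing (WittVector p k)) N]

theorem frob_W_smul {a : ℤ} (F : N →ₛₗ[Isoc.frob p k a] N) (w : W) (x : N) :
    F (w • x) = (WittVector.frobeniusEquiv p k ^ a) w • F x := by
  rw [← algebraMap_smul L w x, map_smulₛₗ, Isoc.frob_algebraMap, algebraMap_smul]

theorem frob_iterate_W_smul {a : ℤ} (F : N →ₛₗ[Isoc.frob p k a] N) (n : ℕ) (w : W) (x : N) :
    F^[n] (w • x) = (WittVector.frobeniusEquiv p k ^ (a * n)) w • F^[n] x := by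
  induction n generalizing w x with
  | zero => simp
  | succ n ih =>
    rw [Function.iterate_succ_apply', Function.iterate_succ_apply', ih, frob_W_smul,
      ← RingAut.mul_apply, ← zpow_add]
    have : a + a * (n : ℤ) = a * ((n + 1 : ℕ) : ℤ) := by push_cast; ring
    rw [this]

theorem img_finset_sup {G : N → N} (hG : IsSemi (p := p) (k := k) G) {ι : Type*} (S : Finset ι)
    (f : ι → Submodule W N) : img G (S.sup f) = S.sup (fun i => img G (f i)) := by
  classical
  induction S using Finset.induction_on with
  | empty => simp [img_bot hG]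
  | insert i S hi ih => rw [Finset.sup_insert, Finset.sup_insert, img_sup hG, ih]

/-- From a lattice stable under `G^s` to one stable under `G`. -/
theorem exists_lattice_img_eq {G : N → N} (hG : IsSemi (p := p) (k := k) G) {M : Submodule W N}
    (hM : M.IsLattice L) {s : ℕ} (hs : 0 < s) (h : img (G^[s]) M = M) :
    ∃ M' : Submodule W N, M'.IsLattice L ∧ img G M' = M' := by
  classical
  have h0 : img (G^[0]) M = M := by rw [Function.iterate_zero, img_id]
  refine ⟨(Finset.range s).sup (fun i => img (G^[i]) M), ⟨?_, ?_⟩, ?_⟩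
  · exact Submodule.fg_finset_sup _ _ (fun i _ => img_fg (hG.iterate i) hM.fg)
  · have hle : M ≤ (Finset.range s).sup (fun i => img (G^[i]) M) := by
      have := Finset.le_sup (f := fun i => img (G^[i]) M) (Finset.mem_range.mpr hs)
      rwa [h0] at this
    rw [eq_top_iff, ← hM.span_eq_top]
    exact Submodule.span_mono hle
  · rw [img_finset_sup hG]
    have hstep : ∀ i, img G (img (G^[i]) M) = img (G^[i + 1]) M := by
      intro i
      rw [← img_comp (hG.iterate i), ← Function.iterate_succ']
    simp only [hstep]
    have hA : ∀ i, i < s → img (G^[i]) M ≤ (Finset.range s).sup (fun i => img (G^[i]) M) :=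
      fun i hi => Finset.le_sup (f := fun i => img (G^[i]) M) (Finset.mem_range.mpr hi)
    have hB : ∀ i, i < s → img (G^[i + 1]) M ≤ (Finset.range s).sup (fun i => img (G^[i + 1]) M) :=
      fun i hi => Finset.le_sup (f := fun i => img (G^[i + 1]) M) (Finset.mem_range.mpr hi)
    apply le_antisymm
    · apply Finset.sup_le
      intro i hi
      rw [Finset.mem_range] at hi
      by_cases hi' : i + 1 < s
      · exact hA (i + 1) hi'
      · have h1 : i + 1 = s := by omega
        have h2 : img (G^[i + 1]) M = img (G^[0]) M := by rw [h1, h, h0]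
        rw [h2]
        exact hA 0 hs
    · apply Finset.sup_le
      intro i hi
      rw [Finset.mem_range] at hi
      rcases Nat.eq_zero_or_pos i with rfl | hpos
      · have h2 : img (G^[0]) M = img (G^[(s - 1) + 1]) M := by
          rw [h0, show s - 1 + 1 = s by omega, h]
        rw [h2]
        exact hB (s - 1) (by omega)
      · have h2 : img (G^[i]) M = img (G^[(i - 1) + 1]) M := by
          rw [show i - 1 + 1 = i by omega]
        rw [h2]
        exact hB (i - 1) (by omega)

/-- Over an algebraically closed field, an isoclinic `σ^a`-isocrystal (`a ≠ 0`) of slope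
`d / h` is spanned by vectors `y` with `F^h y = p^d y`. -/
theorem span_eigen_eq_top [IsAlgClosed k] {a : ℤ} (ha : a ≠ 0) (F : N →ₛₗ[Isoc.frob p k a] N)
    (hinj : Function.Injective F) {μ : ℚ} (hiso : Isoc.IsIsoclinic F μ) (d : ℤ) (h : ℕ) (hh : 0 < h)
    (hdh : (d : ℚ) / h = μ) :
    Submodule.span L {y : N | F^[h] y = ((p : L) ^ d) • y} = ⊤ := by
  classical
  have hG := IsSemi.of_semilinear F
  obtain ⟨M, hM, r, s, hs, hrs, e⟩ := hiso
  have e' : img (F^[s]) M = Isoc.pPow r M := e
  have hΨ : IsSemi (p := p) (k := k) (twistIter p k F (-d) h) := twistIter_isSemi hG (-d) h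
  have harith : (h : ℤ) * r = d * s := by
    have hs' : (s : ℚ) ≠ 0 := by exact_mod_cast hs.ne'
    have hh' : (h : ℚ) ≠ 0 := by exact_mod_cast hh.ne'
    have h1 : (r : ℚ) / s = (d : ℚ) / h := hrs.trans hdh.symm
    rw [div_eq_div_iff hs' hh'] at h1
    have h2 : ((r * h : ℤ) : ℚ) = ((d * s : ℤ) : ℚ) := by push_cast; exact h1
    have := Int.cast_injective h2
    linarith
  have hΨs : img ((twistIter p k F (-d) h)^[s]) M = M := by
    rw [twistIter_iterate hG, img_twistIter, Nat.mul_comm h s, iso_common hG e' h, pPow_pPow]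
    have : -d * (s : ℤ) + (h : ℤ) * r = 0 := by rw [harith]; ring
    rw [this, pPow_zero]
  obtain ⟨M', hM', hstab⟩ := exists_lattice_img_eq hΨ hM hs hΨs
  have : M'.IsLattice L := hM'
  have hmem : ∀ x : M', twistIter p k F (-d) h (x : N) ∈ M' := fun x => by
    have := apply_mem_img (twistIter p k F (-d) h) x.2
    rwa [hstab] at this
  let Φ : M' →+ M' :=
    { toFun := fun x => ⟨twistIter p k F (-d) h (x : N), hmem x⟩
      map_zero' := by
        apply Subtype.ext
        exact hΨ.map_zero
      map_add' := fun x y => by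
        apply Subtype.ext
        exact hΨ.map_add _ _ }
  have hΦapp : ∀ x : M', ((Φ x : M') : N) = ((p : L) ^ (-d)) • F^[h] (x : N) := fun x => rfl
  have hΦsemi : ∀ (w : W) (m : M'), Φ (w • m) = (WittVector.frobeniusEquiv p k ^ (a * h)) w • Φ m := by
    intro w m
    apply Subtype.ext
    rw [Submodule.coe_smul, hΦapp, hΦapp, Submodule.coe_smul, frob_iterate_W_smul, smul_comm]
  have hΦbij : Function.Bijective Φ := by
    constructor
    · intro x y hxy
      have h1 : twistIter p k F (-d) h (x : N) = twistIter p k F (-d) h (y : N) :=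
        congrArg Subtype.val hxy
      have h2 : F^[h] (x : N) = F^[h] (y : N) :=
        smul_right_injective N (zpow_ne_zero (-d) (pL_ne_zero (p := p) (k := k))) h1
      exact Subtype.ext (hinj.iterate h h2)
    · intro y
      have hy : (y : N) ∈ img (twistIter p k F (-d) h) M' := by rw [hstab]; exact y.2
      obtain ⟨x, hx, hxy⟩ := (mem_img hΨ).mp hy
      exact ⟨⟨x, hx⟩, Subtype.ext hxy⟩
  have hah : a * (h : ℤ) ≠ 0 := mul_ne_zero ha (by exact_mod_cast hh.ne')
  obtain ⟨b', hb'⟩ := exists_fixed_basis_zpow (Module.Free.chooseBasis W M') (a * h) hah Φ hΦsemi hΦbij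
  rw [eq_top_iff, ← (b'.extendOfIsLattice L).span_eq]
  apply Submodule.span_mono
  rintro _ ⟨i, rfl⟩
  rw [Module.Basis.extendOfIsLattice_apply]
  change F^[h] (b' i : N) = ((p : L) ^ d) • (b' i : N)
  have h1 : ((p : L) ^ (-d)) • F^[h] (b' i : N) = (b' i : N) := by
    rw [← hΦapp, hb' i]
  rw [← h1, smul_smul, ← zpow_add₀ pL_ne_zero, add_neg_cancel, zpow_zero, one_smul, h1]

end Groth.Agent.H84
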