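import Groth.Agent.H84.WittLift
import Groth.Prelude.Def_Isoc

/-!
# Dieudonné–Manin helper: fixed bases for `σ^c`-semilinear bijections, `c ≠ 0`
-/

set_option autoImplicit false
set_option linter.unusedSectionVars false
universe u v

namespace Groth.Agent.H84

open WittVector

section

variable {k : Type u} [Field k] {p : ℕ} [hp : Fact p.Prime] [CharP k p] [PerfectRing k p]

theorem ringAut_pow_apply (e : WittVector p k ≃+* WittVector p k) (n : ℕ) (w : WittVector p k) :
    (e ^ n) w = (⇑e)^[n] w := by
  induction n generalizing w with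
  | zero => rfl
  | succ n ih =>
    rw [pow_succ, RingAut.mul_apply, ih, Function.iterate_succ_apply]

theorem frobeniusEquiv_zpow_natCast_apply (n : ℕ) (w : WittVector p k) :
    (WittVector.frobeniusEquiv p k ^ (n : ℤ)) w =
      (⇑(WittVector.frobenius : WittVector p k →+* WittVector p k))^[n] w := by
  rw [zpow_natCast, ringAut_pow_apply]
  rfl

theorem ringAut_iterate_zpow (e : WittVector p k ≃+* WittVector p k) (a : ℤ) (n : ℕ)
    (w : WittVector p k) : (⇑(e ^ a))^[n] w = (e ^ (a * n)) w := by
  rw [← ringAut_pow_apply, zpow_mul, zpow_natCast]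

end

section

variable {k : Type u} [Field k] [IsAlgClosed k] {p : ℕ} [hp : Fact p.Prime] [CharP k p]
  [PerfectRing k p]
variable {M : Type v} [AddCommGroup M] [Module (WittVector p k) M]
variable {ι : Type v} [Fintype ι]

/-- A bijective additive map on a finite free `W(k)`-module which is semilinear for a non-zero
integral power of the Frobenius has a basis of fixed vectors (`k` algebraically closed). -/
theorem exists_fixed_basis_zpow [Module.Finite (WittVector p k) M]
    (b : Module.Basis ι (WittVector p k) M) (c : ℤ) (hc : c ≠ 0) (Φ : M →+ M)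
    (hΦ : ∀ (w : WittVector p k) (m : M), Φ (w • m) = (WittVector.frobeniusEquiv p k ^ c) w • Φ m)
    (hbij : Function.Bijective Φ) :
    ∃ b' : Module.Basis ι (WittVector p k) M, ∀ i, Φ (b' i) = b' i := by
  rcases lt_or_gt_of_ne hc with hneg | hpos
  · -- negative exponent: use the inverse map
    obtain ⟨ν, hν⟩ : ∃ ν : ℕ, c = -(ν : ℤ) := ⟨c.natAbs, by omega⟩
    have hν1 : 1 ≤ ν := by omega
    let Φe : M ≃+ M := AddEquiv.ofBijective Φ hbij
    have hΨ : ∀ (w : WittVector p k) (m : M), Φe.symm.toAddMonoidHom (w • m) =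
        ((⇑(WittVector.frobenius : WittVector p k →+* WittVector p k))^[ν] w) •
          Φe.symm.toAddMonoidHom m := by
      intro w m
      apply Φe.injective
      change Φe (Φe.symm (w • m)) = Φe (_ • Φe.symm m)
      rw [AddEquiv.apply_symm_apply]
      change w • m = Φ (_ • Φe.symm m)
      rw [hΦ, ← frobeniusEquiv_zpow_natCast_apply, hν, ← RingAut.mul_apply, ← zpow_add,
        neg_add_cancel, zpow_zero]
      change w • m = w • Φe (Φe.symm m)
      rw [AddEquiv.apply_symm_apply]
    obtain ⟨b', hb'⟩ := exists_fixed_basis b ν Φe.symm.toAddMonoidHom hΨ hν1 Φe.symm.bijective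
    refine ⟨b', fun i => ?_⟩
    have := hb' i
    change Φe.symm (b' i) = b' i at this
    have h2 := congrArg Φe this
    rw [AddEquiv.apply_symm_apply] at h2
    exact h2.symm
  · obtain ⟨ν, hν⟩ : ∃ ν : ℕ, c = (ν : ℤ) := ⟨c.natAbs, by omega⟩
    have hν1 : 1 ≤ ν := by omega
    have hΦ' : ∀ (w : WittVector p k) (m : M), Φ (w • m) =
        ((⇑(WittVector.frobenius : WittVector p k →+* WittVector p k))^[ν] w) • Φ m := by
      intro w m
      rw [hΦ, hν, frobeniusEquiv_zpow_natCast_apply]
    exact exists_fixed_basis b ν Φ hΦ' hν1 hbij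

end

end Groth.Agent.H84
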