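import Groth.Agent.H84.DMStd
import Groth.Agent.H85.Indep

/-!
# Dieudonné–Manin helper: Newton multiplicities of direct sums and of standard pieces
-/

set_option autoImplicit false
set_option linter.unusedSectionVars false

noncomputable section

open scoped Isocrystal Pointwise
open Groth.Agent.H85

universe u v

namespace Groth.Agent.H84

variable {p : ℕ} [Fact p.Prime] {k : Type u} [Field k] [CharP k p] [PerfectRing k p]

local notation "W" => WittVector p k
local notation "L" => FractionRing (WittVector p k)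

variable {N : Type v} [AddCommGroup N] [Module (WittVector p k) N]
  [Module (FractionRing (WittVector p k)) N]
  [IsScalarTower (WittVector p k) (FractionRing (WittVector p k)) N]

theorem eq_bot_of_isoInt_two {G : N → N} (hG : IsSemi (p := p) (k := k) G) {T : Submodule L N}
    {μ ν : ℚ} (h₁ : IsoInt (p := p) (k := k) G T μ) (h₂ : IsoInt (p := p) (k := k) G T ν)
    (hne : μ ≠ ν) : T = ⊥ := by
  rcases lt_or_gt_of_ne hne with h | h
  · exact eq_bot_of_isoInt_of_slopeGt hG h₁ (SlopeGt.of_isoInt h₂ h)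
  · exact eq_bot_of_isoInt_of_slopeGt hG h₂ (SlopeGt.of_isoInt h₁ h)

theorem projectionOnto_comm {a : ℤ} (F : N →ₛₗ[Isoc.frob p k a] N)
    {P Q : Submodule L N} (hPQ : IsCompl P Q) (hP : ∀ x ∈ P, F x ∈ P) (hQ : ∀ x ∈ Q, F x ∈ Q)
    (x : N) : P.projectionOnto Q hPQ (F x) = (F.restrict hP) (P.projectionOnto Q hPQ x) := by
  obtain ⟨u, v, rfl, -⟩ := Submodule.existsUnique_add_of_isCompl hPQ x
  have h1 : P.projectionOnto Q hPQ ((u : N) + v) = u := by
    rw [map_add, Submodule.projectionOnto_apply_left, Submodule.projectionOnto_apply_right, add_zero]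
  have h2 : P.projectionOnto Q hPQ (F ((u : N) + v)) = ⟨F u, hP _ u.2⟩ := by
    rw [map_add, map_add]
    have := Submodule.projectionOnto_apply_left hPQ ⟨F u, hP _ u.2⟩
    have h' := Submodule.projectionOnto_apply_right hPQ ⟨F v, hQ _ v.2⟩
    simp only at this h'
    rw [this, h', add_zero]
  rw [h1, h2]
  rfl

/-- Newton multiplicities are additive in `F`-stable direct sums. -/
theorem newtonMult_add {a : ℤ} (F : N →ₛₗ[Isoc.frob p k a] N) (hF : Isoc.IsIsoc F)
    {P Q : Submodule L N} (hPQ : IsCompl P Q) (hP : ∀ x ∈ P, F x ∈ P) (hQ : ∀ x ∈ Q, F x ∈ Q)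
    (μ : ℚ) :
    Isoc.newtonMult F μ = Isoc.newtonMult (F.restrict hP) μ + Isoc.newtonMult (F.restrict hQ) μ := by
  have := hF.finite
  have hG := IsSemi.of_semilinear F
  have hGP := IsSemi.of_semilinear (F.restrict hP)
  have hGQ := IsSemi.of_semilinear (F.restrict hQ)
  unfold Isoc.newtonMult
  rw [slopePart_eq F, slopePart_eq (F.restrict hP), slopePart_eq (F.restrict hQ)]
  have hS := sSup_stableIso_mem (p := p) (k := k) hG μ
  have hSP := sSup_stableIso_mem (p := p) (k := k) hGP μ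
  have hSQ := sSup_stableIso_mem (p := p) (k := k) hGQ μ
  set S := sSup (StableIso (p := p) (k := k) (⇑F) μ) with hSdef
  set SP := sSup (StableIso (p := p) (k := k) (⇑(F.restrict hP)) μ) with hSPdef
  set SQ := sSup (StableIso (p := p) (k := k) (⇑(F.restrict hQ)) μ) with hSQdef
  have hAP : SP.map P.subtype ≤ S :=
    le_sSup (StableIso.map P.subtype hGP hG (fun x => rfl) hSP)
  have hAQ : SQ.map Q.subtype ≤ S :=
    le_sSup (StableIso.map Q.subtype hGQ hG (fun x => rfl) hSQ)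
  have hBP : S.map (P.projectionOnto Q hPQ) ≤ SP :=
    le_sSup (StableIso.map (P.projectionOnto Q hPQ) hG hGP
      (projectionOnto_comm F hPQ hP hQ) hS)
  have hBQ : S.map (Q.projectionOnto P hPQ.symm) ≤ SQ :=
    le_sSup (StableIso.map (Q.projectionOnto P hPQ.symm) hG hGQ
      (projectionOnto_comm F hPQ.symm hQ hP) hS)
  have hSeq : S = SP.map P.subtype ⊔ SQ.map Q.subtype := by
    apply le_antisymm
    · intro x hx
      have h1 := Submodule.projection_add_projection_eq_self hPQ x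
      rw [← h1]
      apply Submodule.add_mem_sup
      · exact ⟨P.projectionOnto Q hPQ x, hBP ⟨x, hx, rfl⟩, rfl⟩
      · exact ⟨Q.projectionOnto P hPQ.symm x, hBQ ⟨x, hx, rfl⟩, rfl⟩
    · exact sup_le hAP hAQ
  have hdisj : SP.map P.subtype ⊓ SQ.map Q.subtype = ⊥ := by
    rw [eq_bot_iff]
    refine le_trans (inf_le_inf ?_ ?_) hPQ.inf_eq_bot.le
    · rintro _ ⟨y, -, rfl⟩
      exact y.2
    · rintro _ ⟨y, -, rfl⟩
      exact y.2
  have h1 := Submodule.finrank_sup_add_finrank_inf_eq (SP.map P.subtype) (SQ.map Q.subtype)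
  rw [hdisj, finrank_bot, add_zero, Submodule.finrank_map_subtype_eq,
    Submodule.finrank_map_subtype_eq, ← hSeq] at h1
  exact h1

/-- Newton multiplicities of (the image of) a standard isocrystal. -/
theorem newtonMult_range_stdMap {a : ℤ} (F : N →ₛₗ[Isoc.frob p k a] N) (hF : Isoc.IsIsoc F)
    {d : ℤ} {h : ℕ} (hh : 0 < h) {y : N} (hy : F^[h] y = ((p : L) ^ d) • y)
    (hinj : Function.Injective (stdMap (p := p) (k := k) (⇑F) h y))
    (hP : ∀ x ∈ LinearMap.range (stdMap (p := p) (k := k) (⇑F) h y),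
      F x ∈ LinearMap.range (stdMap (p := p) (k := k) (⇑F) h y)) (μ : ℚ) :
    Isoc.newtonMult (F.restrict hP) μ = if (d : ℚ) / h = μ then h else 0 := by
  have := hF.finite
  have hG := IsSemi.of_semilinear F
  have hG' := IsSemi.of_semilinear (F.restrict hP)
  have hstd := IsSemi.of_semilinear (Isoc.stdIsoc (Isoc.frob p k a) d h)
  have hmem : LinearMap.range (stdMap (p := p) (k := k) (⇑F) h y) ∈
      StableIso (p := p) (k := k) (⇑F) ((d : ℚ) / h) := by
    have h0 : (⊤ : Submodule L (Fin h → L)) ∈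
        StableIso (p := p) (k := k) (⇑(Isoc.stdIsoc (Isoc.frob p k a) d h)) ((d : ℚ) / h) :=
      ⟨fun _ _ => trivial, stdIsoc_isoInt_top a d h hh⟩
    have := StableIso.map (stdMap (p := p) (k := k) (⇑F) h y) hstd hG
      (fun x => stdMap_equivariant F hh hy x) h0
    rwa [Submodule.map_top] at this
  have htop' : IsoInt (p := p) (k := k) (⇑(F.restrict hP)) ⊤ ((d : ℚ) / h) :=
    (isoG_iff_isoInt_top _ _).mp ((isIsoclinic_restrict_iff F _ hP _).mpr hmem.2)
  unfold Isoc.newtonMult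
  rw [slopePart_eq (F.restrict hP)]
  split_ifs with hμ
  · have h1 : sSup (StableIso (p := p) (k := k) (⇑(F.restrict hP)) μ) = ⊤ := by
      rw [eq_top_iff]
      apply le_sSup
      rw [← hμ]
      exact ⟨fun _ _ => trivial, htop'⟩
    rw [h1, finrank_top, LinearMap.finrank_range_of_inj hinj, Module.finrank_fin_fun]
  · have hT := sSup_stableIso_mem (p := p) (k := k) hG' μ
    have hinj' : Function.Injective (F.restrict hP) := restrict_injective F hF.bijective.1 hP
    have h2 : IsoInt (p := p) (k := k) (⇑(F.restrict hP))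
        (sSup (StableIso (p := p) (k := k) (⇑(F.restrict hP)) μ)) ((d : ℚ) / h) :=
      IsoInt.of_stable_le hG' hinj' htop' le_top hT.1
    rw [eq_bot_of_isoInt_two hG' h2 hT.2 hμ, finrank_bot]

theorem restrict_isIsoc {a : ℤ} (F : N →ₛₗ[Isoc.frob p k a] N) (hF : Isoc.IsIsoc F)
    {Q : Submodule L N} (hQ : ∀ x ∈ Q, F x ∈ Q) : Isoc.IsIsoc (F.restrict hQ) := by
  have := hF.finite
  have hG := IsSemi.of_semilinear F
  refine ⟨inferInstance, restrict_injective F hF.bijective.1 hQ, ?_⟩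
  intro y
  obtain ⟨x, hx⟩ := hF.bijective.2 (y : N)
  have hxQ : x ∈ Q := mem_of_apply_mem hG hF.bijective.1 Q hQ (by rw [hx]; exact y.2)
  exact ⟨⟨x, hxQ⟩, Subtype.ext hx⟩

/-- gluing a standard piece and a decomposition of a complement -/
theorem glue {a : ℤ} (F : N →ₛₗ[Isoc.frob p k a] N)
    {P Q : Submodule L N} (hPQ : IsCompl P Q) (hP : ∀ x ∈ P, F x ∈ P) (hQ : ∀ x ∈ Q, F x ∈ Q)
    {d₀ : ℤ} {h₀ : ℕ} (e₁ : P ≃ₗ[L] (Fin h₀ → L))
    (he₁ : ∀ x : P, e₁ (F.restrict hP x) = Isoc.stdIsoc (Isoc.frob p k a) d₀ h₀ (e₁ x))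
    {t' : ℕ} (d' : Fin t' → ℤ) (h' : Fin t' → ℕ)
    (e' : Q ≃ₗ[L] ((i : Fin t') → (Fin (h' i) → L)))
    (he' : ∀ (x : Q) (i : Fin t'),
      e' (F.restrict hQ x) i = Isoc.stdIsoc (Isoc.frob p k a) (d' i) (h' i) (e' x i)) :
    ∃ e : N ≃ₗ[L] ((i : Fin (t' + 1)) → (Fin ((Fin.cons h₀ h' : Fin (t' + 1) → ℕ) i) → L)),
      ∀ (x : N) (i : Fin (t' + 1)), e (F x) i =
        Isoc.stdIsoc (Isoc.frob p k a) ((Fin.cons d₀ d' : Fin (t' + 1) → ℤ) i)
          ((Fin.cons h₀ h' : Fin (t' + 1) → ℕ) i) (e x i) := by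
  let A : N ≃ₗ[L] (P × Q) := (Submodule.prodEquivOfIsCompl P Q hPQ).symm
  let B : (P × Q) ≃ₗ[L] ((Fin h₀ → L) × ((i : Fin t') → (Fin (h' i) → L))) :=
    LinearEquiv.prodCongr e₁ e'
  let C := Fin.consLinearEquiv L
    (fun i : Fin (t' + 1) => Fin ((Fin.cons h₀ h' : Fin (t' + 1) → ℕ) i) → L)
  let e : N ≃ₗ[L] ((i : Fin (t' + 1)) → (Fin ((Fin.cons h₀ h' : Fin (t' + 1) → ℕ) i) → L)) :=
    A ≪≫ₗ (B ≪≫ₗ C)
  refine ⟨e, ?_⟩
  intro x i
  have hA : ∀ x, A x = (P.projectionOnto Q hPQ x, Q.projectionOnto P hPQ.symm x) := fun x =>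
    Submodule.prodEquivOfIsCompl_symm_apply hPQ x
  induction i using Fin.cases with
  | zero =>
    change e₁ (A (F x)).1 = Isoc.stdIsoc (Isoc.frob p k a) d₀ h₀ (e₁ (A x).1)
    rw [hA, hA]
    change e₁ (P.projectionOnto Q hPQ (F x)) = _
    rw [projectionOnto_comm F hPQ hP hQ, he₁]
  | succ i =>
    change e' (A (F x)).2 i = Isoc.stdIsoc (Isoc.frob p k a) (d' i) (h' i) (e' (A x).2 i)
    rw [hA, hA]
    change e' (Q.projectionOnto P hPQ.symm (F x)) i = _
    rw [projectionOnto_comm F hPQ.symm hQ hP, he']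

end Groth.Agent.H84
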