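import Groth.Agent.H84.DMCompl
import Groth.Agent.H85.StdIsoc
import Groth.Agent.H85.Decomp
import Groth.Agent.S17153

/-!
# Dieudonné–Manin helper: embedding a standard isocrystal
-/

set_option autoImplicit false
set_option linter.unusedSectionVars false

noncomputable section

open scoped Isocrystal Pointwise
open Groth.Agent.H85

universe u v

namespace Groth.Agent.H84

variable {p : ℕ} [Fact p.Prime] {k : Type u} [Field k] [CharP k p] [PerfectRing k p]

local notation "W" => WittVector p k
local notation "L" => FractionRing (WittVector p k)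

variable {N : Type v} [AddCommGroup N] [Module (WittVector p k) N]
  [Module (FractionRing (WittVector p k)) N]
  [IsScalarTower (WittVector p k) (FractionRing (WittVector p k)) N]

/-- the map `L^h → N`, `e_i ↦ G^i y`. -/
def stdMap (G : N → N) (h : ℕ) (y : N) : (Fin h → L) →ₗ[L] N :=
  Fintype.linearCombination L (fun i : Fin h => G^[i.val] y)

theorem stdMap_single (G : N → N) (h : ℕ) (y : N) (i : Fin h) :
    stdMap (p := p) (k := k) G h y (Pi.single i 1) = G^[i.val] y := by
  classical
  rw [stdMap, Fintype.linearCombination_apply_single, one_smul]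

theorem stdMap_equivariant {a : ℤ} (F : N →ₛₗ[Isoc.frob p k a] N) {d : ℤ} {h : ℕ} (hh : 0 < h)
    {y : N} (hy : F^[h] y = ((p : L) ^ d) • y) (x : Fin h → L) :
    stdMap (p := p) (k := k) (⇑F) h y (Isoc.stdIsoc (Isoc.frob p k a) d h x) =
      F (stdMap (p := p) (k := k) (⇑F) h y x) := by
  classical
  obtain ⟨h', rfl⟩ : ∃ h', h = h' + 1 := ⟨h - 1, by omega⟩
  have key : (stdMap (p := p) (k := k) (⇑F) (h' + 1) y).comp
      (Isoc.stdIsoc (Isoc.frob p k a) d (h' + 1)) =
      F.comp (stdMap (p := p) (k := k) (⇑F) (h' + 1) y) := by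
    apply (Pi.basisFun L (Fin (h' + 1))).ext
    intro j
    rw [Pi.basisFun_apply, LinearMap.comp_apply, LinearMap.comp_apply, stdMap_single]
    by_cases hj : j.val + 1 < h' + 1
    · have h1 := stdIsoc_single_of_lt (p := p) (k := k) a d h' j.val hj
      have h2 : (⟨j.val, by omega⟩ : Fin (h' + 1)) = j := Fin.ext rfl
      rw [h2] at h1
      rw [h1, stdMap_single, Function.iterate_succ_apply']
    · have hjl : j = Fin.last h' := Fin.ext (by simp [Fin.last]; omega)
      have h1 := stdIsoc_single_last (p := p) (k := k) a d h'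
      rw [hjl, h1, map_smul, stdMap_single]
      change ((p : L) ^ d) • y = F (F^[h'] y)
      rw [← hy, Function.iterate_succ_apply']
  exact LinearMap.congr_fun key x

theorem stdMap_injective {a : ℤ} (F : N →ₛₗ[Isoc.frob p k a] N) {d : ℤ} {h : ℕ} (hh : 0 < h)
    (hdh : Int.gcd d h = 1) {y : N} (hy : F^[h] y = ((p : L) ^ d) • y) (hy0 : y ≠ 0) :
    Function.Injective (stdMap (p := p) (k := k) (⇑F) h y) := by
  classical
  rw [← LinearMap.ker_eq_bot]
  have hst : ∀ x ∈ LinearMap.ker (stdMap (p := p) (k := k) (⇑F) h y),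
      Isoc.stdIsoc (Isoc.frob p k a) d h x ∈ LinearMap.ker (stdMap (p := p) (k := k) (⇑F) h y) := by
    intro x hx
    rw [LinearMap.mem_ker] at hx ⊢
    rw [stdMap_equivariant F hh hy, hx, map_zero]
  rcases Groth.Agent.S17153.result p k a d h hh hdh _ hst with h0 | h1
  · exact h0
  · exfalso
    apply hy0
    have : Pi.single (⟨0, hh⟩ : Fin h) (1 : L) ∈
        LinearMap.ker (stdMap (p := p) (k := k) (⇑F) h y) := by rw [h1]; trivial
    rw [LinearMap.mem_ker, stdMap_single] at this
    exact this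

/-- a non-zero isocrystal over an algebraically closed field contains a non-zero vector `y` with
`F^h y = p^d y`, `gcd(d, h) = 1`. -/
theorem exists_eigenvector [IsAlgClosed k] {a : ℤ} (ha : a ≠ 0)
    (F : N →ₛₗ[Isoc.frob p k a] N) (hF : Isoc.IsIsoc F) [Nontrivial N] :
    ∃ (d : ℤ) (h : ℕ) (y : N), 0 < h ∧ Int.gcd d h = 1 ∧ y ≠ 0 ∧ F^[h] y = ((p : L) ^ d) • y := by
  have htop := iSup_slopePart_eq_top a _ N F hF rfl
  obtain ⟨μ, hμ⟩ : ∃ μ : ℚ, Isoc.slopePart F μ ≠ ⊥ := by
    by_contra hcon
    push Not at hcon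
    have : (⨆ μ : ℚ, Isoc.slopePart F μ) = ⊥ := by
      rw [eq_bot_iff]
      exact iSup_le (fun μ => (hcon μ).le)
    rw [htop] at this
    exact top_ne_bot this
  obtain ⟨hS, hiso⟩ := slopePart_stable_iso F hF μ
  have hsp := span_eigen_eq_top ha (F.restrict hS) (restrict_injective F hF.bijective.1 hS) hiso
    μ.num μ.den μ.den_pos (by exact_mod_cast Rat.num_div_den μ)
  obtain ⟨y, hy, hy0⟩ : ∃ y : Isoc.slopePart F μ,
      (⇑(F.restrict hS))^[μ.den] y = ((p : L) ^ μ.num) • y ∧ y ≠ 0 := by
    by_contra hcon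
    push Not at hcon
    apply hμ
    rw [eq_bot_iff]
    intro x hx
    have h1 : (⟨x, hx⟩ : Isoc.slopePart F μ) ∈
        Submodule.span L {y : Isoc.slopePart F μ |
          (⇑(F.restrict hS))^[μ.den] y = ((p : L) ^ μ.num) • y} := by
      rw [hsp]; trivial
    have h2 : Submodule.span L {y : Isoc.slopePart F μ |
          (⇑(F.restrict hS))^[μ.den] y = ((p : L) ^ μ.num) • y} ≤ ⊥ := by
      rw [Submodule.span_le]
      intro y hy
      exact (Submodule.mem_bot L).mpr (hcon y hy)
    have h3 := (Submodule.mem_bot L).mp (h2 h1)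
    rw [Submodule.mem_bot]
    exact congrArg Subtype.val h3
  refine ⟨μ.num, μ.den, (y : N), μ.den_pos, ?_, fun h0 => hy0 (Subtype.ext h0), ?_⟩
  · have := μ.reduced
    rw [Nat.Coprime] at this
    rw [Int.gcd_def, Int.natAbs_natCast]
    exact this
  · have h3 := congrArg Subtype.val hy
    rw [restrict_iterate] at h3
    exact h3

end Groth.Agent.H84
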