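import Mathlib
import Groth.Agent.H84.ResClassInt

/-!
# Coresolutions of ℤ-indexed cochain complexes, bounded below in cohomology, by objects of a class

This is the dual of `exists_resolution_int`, obtained by passing to the opposite category.
-/

set_option autoImplicit false
set_option backward.isDefEq.respectTransparency false
set_option backward.isDefEq.respectTransparency.types false

namespace Groth.Agent.H84.ResClass

open CategoryTheory CategoryTheory.Limits Opposite

universe u v

variable {C : Type u} [Category.{v} C] [Abelian C]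

/-- The dual hypotheses. -/
structure CoHyp (K' K'' : ObjectProperty C) : Prop where
  sub : K'' ≤ K'
  h1 : ∀ ⦃A A' : C⦄ (u : A ⟶ A'), K' A → Mono u → ∃ (B : C) (v : A' ⟶ B), K'' B ∧ Mono (u ≫ v)
  h2 : ∀ ⦃A B : C⦄ (u : A ⟶ B), K' A → K' B → Mono u → K' (cokernel u)
  h3 : ∀ ⦃B B' : C⦄, K'' B → K'' B' → K'' (B ⨿ B')

variable {K' K'' : ObjectProperty C}

/-- The product in the opposite category is the coproduct. -/
noncomputable def unopProdIsoCoprod (B B' : Cᵒᵖ) : (B ⨯ B').unop ≅ B.unop ⨿ B'.unop where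
  hom := (prod.lift (coprod.inl : B.unop ⟶ B.unop ⨿ B'.unop).op
    (coprod.inr : B'.unop ⟶ B.unop ⨿ B'.unop).op).unop
  inv := coprod.desc (prod.fst : B ⨯ B' ⟶ B).unop (prod.snd : B ⨯ B' ⟶ B').unop
  hom_inv_id := by
    apply Quiver.Hom.op_inj
    apply Limits.prod.hom_ext
    · simp only [op_comp, Quiver.Hom.op_unop, Category.assoc, prod.lift_fst, op_id,
        Category.id_comp]
      rw [← op_comp, coprod.inl_desc, Quiver.Hom.op_unop]
    · simp only [op_comp, Quiver.Hom.op_unop, Category.assoc, prod.lift_snd, op_id,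
        Category.id_comp]
      rw [← op_comp, coprod.inr_desc, Quiver.Hom.op_unop]
  inv_hom_id := by
    apply Limits.coprod.hom_ext
    · rw [coprod.inl_desc_assoc, ← unop_comp, prod.lift_fst, Quiver.Hom.unop_op, Category.comp_id]
    · rw [coprod.inr_desc_assoc, ← unop_comp, prod.lift_snd, Quiver.Hom.unop_op, Category.comp_id]

theorem CoHyp.op [K'.IsClosedUnderIsomorphisms] [K''.IsClosedUnderIsomorphisms]
    (h : CoHyp K' K'') : Hyp K'.op K''.op where
  sub := fun X hX => h.sub _ hX
  h1 := fun A A' u hA' hu => by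
    obtain ⟨B, v, hB, hv⟩ := h.h1 u.unop hA' inferInstance
    refine ⟨Opposite.op B, v.op, hB, ?_⟩
    have e : v.op ≫ u = (u.unop ≫ v).op := by simp
    rw [e]
    infer_instance
  h2 := fun A B u hA hB hu => by
    have h2 := h.h2 u.unop hB hA inferInstance
    have h2' : K'.op (Opposite.op (cokernel u.unop)) := h2
    exact K'.op.prop_of_iso (cokernelUnopOp u) h2'
  h3 := fun B B' hB hB' => by
    have h3 : K'' (B.unop ⨿ B'.unop) := h.h3 hB hB'
    exact K''.prop_of_iso (unopProdIsoCoprod B B').symm h3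

theorem exists_coresolution_int [K'.IsClosedUnderIsomorphisms] [K''.IsClosedUnderIsomorphisms]
    (hyp : CoHyp K' K'') (K : CochainComplex C ℤ) (hK : ∀ i, K' (K.homology i)) (a : ℤ)
    (ha : ∀ i < a, IsZero (K.homology i)) :
    ∃ (L : CochainComplex C ℤ) (f : K ⟶ L),
      (∀ i, a ≤ i → K'' (L.X i)) ∧ (∀ i < a, IsZero (L.X i)) ∧ QuasiIso f := by
  let P : ChainComplex Cᵒᵖ ℤ := K.op
  have hP : ∀ i, K'.op (P.homology i) := fun i =>
    K'.op.prop_of_iso (K.homologyOp i).symm (hK i)
  have hd : ∀ i < a, IsZero (P.homology i) := fun i hi =>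
    IsZero.of_iso (ha i hi).op (K.homologyOp i)
  obtain ⟨Q, u, hQ, hQ0, hu⟩ := exists_resolution_int hyp.op P hP a hd
  let L : CochainComplex C ℤ := Q.unop
  let f : K ⟶ L := (HomologicalComplex.unopFunctor C (ComplexShape.down ℤ)).map u.op
  refine ⟨L, f, fun i hi => hQ i hi, fun i hi => (hQ0 i hi).unop, ?_⟩
  exact (HomologicalComplex.quasiIso_unopFunctor_map_iff u).mpr hu

end Groth.Agent.H84.ResClass
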