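import Mathlib
import Groth.Agent.H84.ResClassDual

/-!
# Injective resolutions with terms in a full exact abelian subcategory
-/

set_option autoImplicit false
set_option backward.isDefEq.respectTransparency false
set_option backward.isDefEq.respectTransparency.types false

namespace Groth.Agent.H84.InjResSerre

open CategoryTheory CategoryTheory.Limits Groth.Agent.H84.ResClass ZeroObject

universe u v w u' v' w'

variable {A' : Type u'} [Category.{v'} A'] [Abelian A']
  {A : Type u} [Category.{v} A] [Abelian A]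
  (ι : A' ⥤ A) [ι.Additive] [PreservesFiniteLimits ι] [PreservesFiniteColimits ι]
  [ι.Full] [ι.Faithful]

omit [ι.Faithful] [ι.Additive] [PreservesFiniteLimits ι] in
lemma essImage_cokernel {X Y : A} (f : X ⟶ Y) (hX : ι.essImage X) (hY : ι.essImage Y) :
    ι.essImage (cokernel f) := by
  obtain ⟨X', ⟨eX⟩⟩ := hX
  obtain ⟨Y', ⟨eY⟩⟩ := hY
  let g : X' ⟶ Y' := ι.preimage (eX.hom ≫ f ≫ eY.inv)
  have hg : ι.map g = eX.hom ≫ f ≫ eY.inv := ι.map_preimage _
  refine ⟨cokernel g, ⟨PreservesCokernel.iso ι g ≪≫ cokernel.mapIso (ι.map g) f eX eY ?_⟩⟩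
  rw [hg]; simp

/-- The class of injective objects in the essential image. -/
def Kinj : ObjectProperty A := fun X => ι.essImage X ∧ Injective X

instance : (Kinj ι).IsClosedUnderIsomorphisms where
  of_iso e h := ⟨Functor.essImage.ofIso e h.1, Injective.of_iso e h.2⟩

omit [ι.Faithful] in
theorem coHyp (hinj : ∀ X' : A', ∃ (Y' : A') (i : X' ⟶ Y'), Mono i ∧ Injective (ι.obj Y')) :
    CoHyp ι.essImage (Kinj ι) where
  sub := fun X hX => hX.1
  h1 := fun X Y u hX hu => by
    obtain ⟨X', ⟨e⟩⟩ := hX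
    obtain ⟨Y', i, hi, hY'⟩ := hinj X'
    have : Mono (e.inv ≫ ι.map i) := mono_comp _ _
    refine ⟨ι.obj Y', Injective.factorThru (e.inv ≫ ι.map i) u, ⟨ι.obj_mem_essImage Y', hY'⟩, ?_⟩
    rw [Injective.comp_factorThru]
    infer_instance
  h2 := fun X Y u hX hY _ => essImage_cokernel ι u hX hY
  h3 := fun B B' hB hB' => by
    obtain ⟨⟨X', ⟨e⟩⟩, hI⟩ := hB
    obtain ⟨⟨Y', ⟨e'⟩⟩, hI'⟩ := hB'
    refine ⟨⟨X' ⨿ Y', ⟨(PreservesColimitPair.iso ι X' Y').symm ≪≫ coprod.mapIso e e'⟩⟩, ?_⟩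
    exact Injective.of_iso (biprod.isoCoprod B B') inferInstance

omit [Abelian A'] [Abelian A] [PreservesFiniteLimits ι] [PreservesFiniteColimits ι] in
/-- A complex whose terms are in the essential image of a fully faithful functor lifts. -/
theorem exists_lift [Preadditive A'] [Preadditive A] [ι.Additive]
    (L : CochainComplex A ℤ) (hL : ∀ i, ι.essImage (L.X i)) :
    ∃ (I : CochainComplex A' ℤ) (e : ∀ i, ι.obj (I.X i) ≅ L.X i),
      ∀ i j, ι.map (I.d i j) = (e i).hom ≫ L.d i j ≫ (e j).inv := by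
  let X' : ℤ → A' := fun i => (hL i).witness
  let e : ∀ i, ι.obj (X' i) ≅ L.X i := fun i => (hL i).getIso
  let d' : ∀ i j, X' i ⟶ X' j := fun i j => ι.preimage ((e i).hom ≫ L.d i j ≫ (e j).inv)
  have hd' : ∀ i j, ι.map (d' i j) = (e i).hom ≫ L.d i j ≫ (e j).inv := fun i j =>
    ι.map_preimage _
  let I : CochainComplex A' ℤ :=
    { X := X'
      d := d'
      shape := fun i j hij => by
        apply ι.map_injective
        rw [hd', L.shape i j hij, ι.map_zero, zero_comp, comp_zero]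
      d_comp_d' := fun i j k _ _ => by
        apply ι.map_injective
        rw [ι.map_comp, hd', hd', ι.map_zero]
        simp }
  exact ⟨I, e, hd'⟩

theorem main [HasDerivedCategory.{w'} A'] [HasDerivedCategory.{w} A]
    (hinj : ∀ X' : A', ∃ (Y' : A') (i : X' ⟶ Y'), Mono i ∧ Injective (ι.obj Y'))
    (Z : DerivedCategory A) (a : ℤ) [Z.IsGE a]
    (hZ : ∀ i : ℤ, ι.essImage ((DerivedCategory.homologyFunctor A i).obj Z)) :
    ∃ (I : CochainComplex A' ℤ), I.IsStrictlyGE a ∧ (∀ n : ℤ, Injective (ι.obj (I.X n))) ∧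
      Nonempty (ι.mapDerivedCategory.obj (DerivedCategory.Q.obj I) ≅ Z) := by
  let K : CochainComplex A ℤ := DerivedCategory.Q.objPreimage Z
  let e₀ : DerivedCategory.Q.obj K ≅ Z := DerivedCategory.Q.objObjPreimageIso Z
  have hiso : ∀ i, K.homology i ≅ (DerivedCategory.homologyFunctor A i).obj Z := fun i =>
    ((DerivedCategory.homologyFunctorFactors A i).app K).symm ≪≫
      (DerivedCategory.homologyFunctor A i).mapIso e₀
  have hK : ∀ i, ι.essImage (K.homology i) := fun i =>
    Functor.essImage.ofIso (hiso i).symm (hZ i)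
  have ha : ∀ i < a, IsZero (K.homology i) := fun i hi =>
    IsZero.of_iso (Z.isZero_of_isGE a i hi) (hiso i)
  obtain ⟨L, f, hL, hL0, hf⟩ := exists_coresolution_int (coHyp ι hinj) K hK a ha
  have hL' : ∀ i, ι.essImage (L.X i) := fun i => by
    by_cases hi : a ≤ i
    · exact (hL i hi).1
    · exact ⟨(0 : A'), ⟨(ι.mapZeroObject).trans ((hL0 i (by omega)).isoZero).symm⟩⟩
  obtain ⟨I, e, hd⟩ := exists_lift ι L hL'
  refine ⟨I, ?_, ?_, ?_⟩
  · rw [CochainComplex.isStrictlyGE_iff]
    intro i hi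
    rw [IsZero.iff_id_eq_zero]
    apply ι.map_injective
    rw [ι.map_id, ι.map_zero]
    exact (IsZero.iff_id_eq_zero _).mp (IsZero.of_iso (hL0 i hi) (e i))
  · intro n
    by_cases hn : a ≤ n
    · exact Injective.of_iso (e n).symm (hL n hn).2
    · exact (IsZero.of_iso (hL0 n (by omega)) (e n)).injective
  · let φ : (ι.mapHomologicalComplex (ComplexShape.up ℤ)).obj I ≅ L :=
      HomologicalComplex.Hom.isoOfComponents e (fun i j _ => by
        rw [Functor.mapHomologicalComplex_obj_d, hd]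
        simp)
    exact ⟨(ι.mapDerivedCategoryFactors.app I) ≪≫ DerivedCategory.Q.mapIso φ ≪≫
      (asIso (DerivedCategory.Q.map f)).symm ≪≫ e₀⟩

end Groth.Agent.H84.InjResSerre
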