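import Mathlib
import Groth.Agent.H84.ResClassNat

/-!
# Resolutions by a class along an embedding of `down ℕ`, and the bounded above cochain case
-/

set_option autoImplicit false
set_option backward.isDefEq.respectTransparency false
set_option backward.isDefEq.respectTransparency.types false

namespace Groth.Agent.H84.ResClass

open CategoryTheory CategoryTheory.Limits

universe u v

variable {C : Type u} [Category.{v} C] [Abelian C]

variable {K' K'' : ObjectProperty C}

variable {ι' : Type*} {c' : ComplexShape ι'}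

/-- The homology of the canonical truncation in degree `m` is the homology of the complex in degree
`e.f m`. -/
noncomputable def truncHomologyIsoEmb (P : HomologicalComplex C c')
    (e : (ComplexShape.down ℕ).Embedding c') [e.IsTruncLE] (m : ℕ) :
    (scN (P.truncLE' e) m).leftHomology ≅ P.homology (e.f m) := by
  have hi : (ComplexShape.down ℕ).prev m = m + 1 := by simp
  have hk : (ComplexShape.down ℕ).next m = m - 1 := by cases m <;> simp
  have : QuasiIsoAt (P.ιTruncLE e) (e.f m) :=
    P.quasiIsoAt_ιTruncLE e (j := m) rfl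
  exact (scN (P.truncLE' e) m).leftHomologyIso ≪≫
    (ShortComplex.homologyMapIso ((P.truncLE' e).isoSc' (m + 1) m (m - 1) hi hk)).symm ≪≫
    ((P.truncLE' e).extendHomologyIso e (j := m) (j' := e.f m) rfl).symm ≪≫
    (HomologicalComplex.homologyMapIso (P.truncLEIso e) (e.f m)).symm ≪≫
    asIso (HomologicalComplex.homologyMap (P.ιTruncLE e) (e.f m))

theorem exists_resolution_emb [K'.IsClosedUnderIsomorphisms] [K''.IsClosedUnderIsomorphisms]
    (hyp : Hyp K' K'') (e : (ComplexShape.down ℕ).Embedding c') [e.IsTruncLE]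
    (P : HomologicalComplex C c') (hP : ∀ i, K' (P.homology i)) (hsupp : P.IsSupported e) :
    ∃ (Q : HomologicalComplex C c') (u : Q ⟶ P),
      (∀ n, K'' (Q.X (e.f n))) ∧ (∀ i, (∀ n, e.f n ≠ i) → IsZero (Q.X i)) ∧ QuasiIso u := by
  have hP₀ : ∀ m, K' ((scN (P.truncLE' e) m).leftHomology) := fun m =>
    K'.prop_of_iso (truncHomologyIsoEmb P e m).symm (hP (e.f m))
  obtain ⟨Q₀, ψ₀, hQ₀, hψ₀⟩ := exists_resolution_nat hyp (P.truncLE' e) hP₀
  have h1 : QuasiIso (P.ιTruncLE e) := (P.quasiIso_ιTruncLE_iff_isSupported e).mpr hsupp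
  have h2 : QuasiIso (HomologicalComplex.extendMap ψ₀ e) :=
    (HomologicalComplex.quasiIso_extendMap_iff ψ₀ e).mpr hψ₀
  refine ⟨Q₀.extend e, HomologicalComplex.extendMap ψ₀ e ≫ (P.truncLEIso e).inv ≫ P.ιTruncLE e,
    ?_, ?_, ?_⟩
  · intro n
    exact K''.prop_of_iso (Q₀.extendXIso e (i := n) rfl).symm (hQ₀ _)
  · intro i hi
    exact Q₀.isZero_extend_X e i hi
  · infer_instance

/-- Bounded above cochain complexes with cohomology in `K'` admit a resolution by objects
of `K''`. -/
theorem exists_resolution_cochain [K'.IsClosedUnderIsomorphisms] [K''.IsClosedUnderIsomorphisms]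
    (hyp : Hyp K' K'') (P : CochainComplex C ℤ) (hP : ∀ i, K' (P.homology i)) (b : ℤ)
    (hb : ∀ i, b < i → IsZero (P.homology i)) :
    ∃ (Q : CochainComplex C ℤ) (u : Q ⟶ P),
      (∀ i, i ≤ b → K'' (Q.X i)) ∧ (∀ i, b < i → IsZero (Q.X i)) ∧ QuasiIso u := by
  have hsupp : P.IsSupported (ComplexShape.embeddingUpIntLE b) := ⟨fun i' hi' => by
    rw [HomologicalComplex.exactAt_iff_isZero_homology]
    apply hb
    exact (ComplexShape.notMem_range_embeddingUpIntLE_iff b i').mp hi'⟩
  obtain ⟨Q, u, hQ, hQ0, hu⟩ :=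
    exists_resolution_emb hyp (ComplexShape.embeddingUpIntLE b) P hP hsupp
  refine ⟨Q, u, ?_, ?_, hu⟩
  · intro i hi
    have : (ComplexShape.embeddingUpIntLE b).f (b - i).toNat = i := by
      simp only [ComplexShape.embeddingUpIntLE_f]
      omega
    rw [← this]
    exact hQ _
  · intro i hi
    exact hQ0 i ((ComplexShape.notMem_range_embeddingUpIntLE_iff b i).mpr hi)

end Groth.Agent.H84.ResClass
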