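import Mathlib
import Groth.Agent.H84.ResClassEmb
import Groth.Agent.H84.InjResSerre

/-!
# `D⁻(A') ⥤ D⁻_{A'}(A)` for an exact fully faithful functor `ι : A' ⥤ A` with the lifting property
-/

set_option autoImplicit false
set_option backward.isDefEq.respectTransparency false
set_option backward.isDefEq.respectTransparency.types false

namespace Groth.Agent.H84.DMinusFF

open CategoryTheory CategoryTheory.Limits Groth.Agent.H84.ResClass ZeroObject

universe u v w u' v' w'

section General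

variable {C : Type u} [Category.{v} C] [Abelian C] [HasDerivedCategory.{w} C]

/-- If `Q.map g = 0` then `g` becomes null-homotopic after precomposition with a
quasi-isomorphism. -/
theorem exists_quasiIso_homotopy_zero {X Y : CochainComplex C ℤ} (g : X ⟶ Y)
    (hg : DerivedCategory.Q.map g = 0) :
    ∃ (X' : CochainComplex C ℤ) (s : X' ⟶ X), QuasiIso s ∧ Nonempty (Homotopy (s ≫ g) 0) := by
  have h1 : DerivedCategory.Qh.map ((HomotopyCategory.quotient C (ComplexShape.up ℤ)).map g) =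
      DerivedCategory.Qh.map
        (0 : (HomotopyCategory.quotient C (ComplexShape.up ℤ)).obj X ⟶
          (HomotopyCategory.quotient C (ComplexShape.up ℤ)).obj Y) := by
    rw [Functor.map_zero]
    have := DerivedCategory.quotientCompQhIso_hom_naturality g
    rw [hg, comp_zero] at this
    have h2 : IsIso ((DerivedCategory.quotientCompQhIso C).hom.app Y) := inferInstance
    exact (cancel_mono ((DerivedCategory.quotientCompQhIso C).hom.app Y)).mp
      (by rw [zero_comp]; exact this)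
  obtain ⟨X₀, s₀, hs₀, fac⟩ := (MorphismProperty.map_eq_iff_precomp DerivedCategory.Qh
    (HomotopyCategory.quasiIso C (ComplexShape.up ℤ)) _ _).mp h1
  obtain ⟨X', rfl⟩ := HomotopyCategory.quotient_obj_surjective X₀
  obtain ⟨s, rfl⟩ := (HomotopyCategory.quotient _ _).map_surjective s₀
  rw [HomotopyCategory.quotient_map_mem_quasiIso_iff] at hs₀
  rw [comp_zero, ← Functor.map_comp, HomotopyCategory.quotient_map_eq_zero_iff] at fac
  exact ⟨X', s, hs₀, fac⟩

end General

section Main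

variable {A' : Type u'} [Category.{v'} A'] [Abelian A']
  {A : Type u} [Category.{v} A] [Abelian A]
  (ι : A' ⥤ A) [ι.Additive] [PreservesFiniteLimits ι] [PreservesFiniteColimits ι]
  [ι.Full] [ι.Faithful]

omit [ι.Faithful] [ι.Additive] [PreservesFiniteColimits ι] in
lemma essImage_kernel {X Y : A} (f : X ⟶ Y) (hX : ι.essImage X) (hY : ι.essImage Y) :
    ι.essImage (kernel f) := by
  obtain ⟨X', ⟨eX⟩⟩ := hX
  obtain ⟨Y', ⟨eY⟩⟩ := hY
  let g : X' ⟶ Y' := ι.preimage (eX.hom ≫ f ≫ eY.inv)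
  have hg : ι.map g = eX.hom ≫ f ≫ eY.inv := ι.map_preimage _
  refine ⟨kernel g, ⟨PreservesKernel.iso ι g ≪≫ kernel.mapIso (ι.map g) f eX eY ?_⟩⟩
  rw [hg]; simp

/-- The lifting hypothesis. -/
def LiftHyp : Prop :=
  ∀ (X Y : A) (π : X ⟶ Y), Epi π → ι.essImage Y →
    ∃ (X' : A) (i : X' ⟶ X), Mono i ∧ ι.essImage X' ∧ Epi (i ≫ π)

omit [ι.Faithful] [ι.Additive] [PreservesFiniteColimits ι] in
theorem hyp (hlift : LiftHyp ι) : Hyp ι.essImage ι.essImage where
  sub := le_refl _
  h1 := fun X Y u hY hu => by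
    obtain ⟨X', i, _, hX', hi⟩ := hlift X Y u hu hY
    exact ⟨X', i, hX', hi⟩
  h2 := fun X Y u hX hY _ => essImage_kernel ι u hX hY
  h3 := fun B B' hB hB' => by
    obtain ⟨X', ⟨e⟩⟩ := hB
    obtain ⟨Y', ⟨e'⟩⟩ := hB'
    exact ⟨X' ⨯ Y', ⟨PreservesLimitPair.iso ι X' Y' ≪≫ prod.mapIso e e'⟩⟩

/-- The complex functor. -/
abbrev ιc : CochainComplex A' ℤ ⥤ CochainComplex A ℤ :=
  ι.mapHomologicalComplex (ComplexShape.up ℤ)

omit [ι.Full] [ι.Faithful] in
lemma essImage_homology (M' : CochainComplex A' ℤ) (i : ℤ) :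
    ι.essImage (((ιc ι).obj M').homology i) :=
  ⟨M'.homology i, ⟨((M'.sc i).mapHomologyIso ι).symm⟩⟩

omit [ι.Full] [ι.Faithful] in
lemma isZero_homology_map (M' : CochainComplex A' ℤ) (i : ℤ) (h : IsZero (M'.homology i)) :
    IsZero (((ιc ι).obj M').homology i) :=
  IsZero.of_iso (ι.map_isZero h) ((M'.sc i).mapHomologyIso ι)

omit [ι.Full] in
lemma quasiIso_of_map {K L : CochainComplex A' ℤ} (f : K ⟶ L) (h : QuasiIso ((ιc ι).map f)) :
    QuasiIso f :=
  (HomologicalComplex.quasiIso_map_iff_of_preservesHomology f ι).mp h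

omit [PreservesFiniteColimits ι] in
/-- Resolution inside `A'` of a complex of `A` with cohomology in the essential image. -/
theorem exists_res (hlift : LiftHyp ι) (X : CochainComplex A ℤ)
    (hX : ∀ i, ι.essImage (X.homology i)) (b : ℤ) (hb : ∀ i, b < i → IsZero (X.homology i)) :
    ∃ (R' : CochainComplex A' ℤ) (u : (ιc ι).obj R' ⟶ X), QuasiIso u ∧
      ∀ i, b < i → IsZero (R'.X i) := by
  obtain ⟨Q, u₀, hQ, hQ0, hu⟩ := exists_resolution_cochain (hyp ι hlift) X hX b hb
  have hQ' : ∀ i, ι.essImage (Q.X i) := fun i => by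
    by_cases hi : i ≤ b
    · exact hQ i hi
    · exact ⟨(0 : A'), ⟨(ι.mapZeroObject).trans ((hQ0 i (by omega)).isoZero).symm⟩⟩
  obtain ⟨I, e, hd⟩ := Groth.Agent.H84.InjResSerre.exists_lift ι Q hQ'
  let φ : (ιc ι).obj I ≅ Q :=
    HomologicalComplex.Hom.isoOfComponents e (fun i j _ => by
      rw [Functor.mapHomologicalComplex_obj_d, hd]
      simp)
  refine ⟨I, φ.hom ≫ u₀, inferInstance, ?_⟩
  intro i hi
  rw [IsZero.iff_id_eq_zero]
  apply ι.map_injective
  rw [ι.map_id, ι.map_zero]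
  exact (IsZero.iff_id_eq_zero _).mp (IsZero.of_iso (hQ0 i hi) (e i))

section Derived

variable [HasDerivedCategory.{w'} A'] [HasDerivedCategory.{w} A]

omit [ι.Full] [ι.Faithful] in
open DerivedCategory in
lemma map_Q_map {K L : CochainComplex A' ℤ} (f : K ⟶ L) :
    ι.mapDerivedCategory.map (Q.map f) =
      ι.mapDerivedCategoryFactors.hom.app K ≫ Q.map ((ιc ι).map f) ≫
        ι.mapDerivedCategoryFactors.inv.app L := by
  have := ι.mapDerivedCategoryFactors_hom_naturality f
  rw [← Category.assoc, ← this, Category.assoc, Iso.hom_inv_id_app]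
  exact (Category.comp_id _).symm

open DerivedCategory in
theorem full_aux (hlift : LiftHyp ι) (M' N' : CochainComplex A' ℤ) (b : ℤ)
    (hM : ∀ i, b < i → IsZero (M'.homology i))
    (ψ : Q.obj ((ιc ι).obj M') ⟶ Q.obj ((ιc ι).obj N')) :
    ∃ φ : Q.obj M' ⟶ Q.obj N', ι.mapDerivedCategory.map φ =
      ι.mapDerivedCategoryFactors.hom.app M' ≫ ψ ≫ ι.mapDerivedCategoryFactors.inv.app N' := by
  obtain ⟨X, s, hs, g, rfl⟩ := right_fac ψ
  have hs' : QuasiIso s := (isIso_Q_map_iff_quasiIso _ s).mp hs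
  have hiso : ∀ i, X.homology i ≅ ((ιc ι).obj M').homology i := fun i =>
    asIso (HomologicalComplex.homologyMap s i)
  have hX : ∀ i, ι.essImage (X.homology i) := fun i =>
    Functor.essImage.ofIso (hiso i).symm (essImage_homology ι M' i)
  have hb : ∀ i, b < i → IsZero (X.homology i) := fun i hi =>
    IsZero.of_iso (isZero_homology_map ι M' i (hM i hi)) (hiso i)
  obtain ⟨R', u, hu, -⟩ := exists_res ι hlift X hX b hb
  let s' : R' ⟶ M' := (ιc ι).preimage (u ≫ s)
  let g' : R' ⟶ N' := (ιc ι).preimage (u ≫ g)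
  have hs'1 : (ιc ι).map s' = u ≫ s := (ιc ι).map_preimage _
  have hg'1 : (ιc ι).map g' = u ≫ g := (ιc ι).map_preimage _
  have hqs' : QuasiIso s' := quasiIso_of_map ι s' (by rw [hs'1]; infer_instance)
  have key : ι.mapDerivedCategory.map (Q.map s') ≫
      (ι.mapDerivedCategoryFactors.hom.app M' ≫ (inv (Q.map s) ≫ Q.map g) ≫
        ι.mapDerivedCategoryFactors.inv.app N') = ι.mapDerivedCategory.map (Q.map g') := by
    rw [map_Q_map, map_Q_map, hs'1, hg'1]
    simp only [Category.assoc, Iso.inv_hom_id_app_assoc, Functor.map_comp,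
      IsIso.hom_inv_id_assoc]
  refine ⟨inv (Q.map s') ≫ Q.map g', ?_⟩
  rw [Functor.map_comp, ← key, ← Category.assoc, ← Functor.map_comp, IsIso.inv_hom_id,
    CategoryTheory.Functor.map_id, Category.id_comp]

open DerivedCategory in
theorem faithful_aux (hlift : LiftHyp ι) (M' N' : CochainComplex A' ℤ) (b : ℤ)
    (hM : ∀ i, b < i → IsZero (M'.homology i))
    (φ : Q.obj M' ⟶ Q.obj N') (hφ : ι.mapDerivedCategory.map φ = 0) : φ = 0 := by
  obtain ⟨X', s', hs', g', rfl⟩ := right_fac φ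
  have hqs' : QuasiIso s' := (isIso_Q_map_iff_quasiIso _ s').mp hs'
  have h1 : ι.mapDerivedCategory.map (Q.map g') = 0 := by
    have : ι.mapDerivedCategory.map (Q.map s') ≫
        ι.mapDerivedCategory.map (inv (Q.map s') ≫ Q.map g') = 0 := by
      rw [hφ, comp_zero]
    rwa [← Functor.map_comp, IsIso.hom_inv_id_assoc] at this
  have h2 : Q.map ((ιc ι).map g') = 0 := by
    rw [map_Q_map] at h1
    have h3 : ι.mapDerivedCategoryFactors.inv.app X' ≫
        (ι.mapDerivedCategoryFactors.hom.app X' ≫ Q.map ((ιc ι).map g') ≫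
          ι.mapDerivedCategoryFactors.inv.app N') ≫ ι.mapDerivedCategoryFactors.hom.app N' = 0 := by
      rw [h1, zero_comp, comp_zero]
    simpa using h3
  obtain ⟨Y, t, ht, ⟨H⟩⟩ := exists_quasiIso_homotopy_zero _ h2
  have hiso : ∀ i, Y.homology i ≅ ((ιc ι).obj M').homology i := fun i =>
    asIso (HomologicalComplex.homologyMap t i) ≪≫
      asIso (HomologicalComplex.homologyMap ((ιc ι).map s') i)
  have hY : ∀ i, ι.essImage (Y.homology i) := fun i =>
    Functor.essImage.ofIso (hiso i).symm (essImage_homology ι M' i)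
  have hb : ∀ i, b < i → IsZero (Y.homology i) := fun i hi =>
    IsZero.of_iso (isZero_homology_map ι M' i (hM i hi)) (hiso i)
  obtain ⟨R'', u, hu, -⟩ := exists_res ι hlift Y hY b hb
  let t' : R'' ⟶ X' := (ιc ι).preimage (u ≫ t)
  have ht'1 : (ιc ι).map t' = u ≫ t := (ιc ι).map_preimage _
  have hqt' : QuasiIso t' := quasiIso_of_map ι t' (by rw [ht'1]; infer_instance)
  have H' : Homotopy ((ιc ι).map (t' ≫ g')) ((ιc ι).map 0) := by
    rw [Functor.map_comp, ht'1, Functor.map_zero, Category.assoc]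
    exact (H.compLeft u).trans (Homotopy.ofEq comp_zero)
  have H'' : Homotopy (t' ≫ g') 0 := ι.preimageHomotopy H'
  have h4 : Q.map t' ≫ Q.map g' = 0 := by
    rw [← Functor.map_comp, Q_map_eq_of_homotopy _ H'', Functor.map_zero]
  have h5 : Q.map g' = 0 := by
    have : inv (Q.map t') ≫ Q.map t' ≫ Q.map g' = 0 := by rw [h4, comp_zero]
    simpa using this
  rw [h5, comp_zero]

open DerivedCategory in
lemma isZero_homology_objPreimage (M : DerivedCategory A') (b : ℤ) [M.IsLE b] (i : ℤ)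
    (hi : b < i) : IsZero ((Q.objPreimage M).homology i) :=
  IsZero.of_iso (M.isZero_of_isLE b i hi)
    (((homologyFunctorFactors A' i).app (Q.objPreimage M)).symm ≪≫
      (homologyFunctor A' i).mapIso (Q.objObjPreimageIso M))

open DerivedCategory in
theorem bijective_map (hlift : LiftHyp ι) (M N : DerivedCategory A') (b : ℤ) [M.IsLE b] :
    Function.Bijective (fun φ : M ⟶ N => ι.mapDerivedCategory.map φ) := by
  let M' := Q.objPreimage M
  let N' := Q.objPreimage N
  let eM : Q.obj M' ≅ M := Q.objObjPreimageIso M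
  let eN : Q.obj N' ≅ N := Q.objObjPreimageIso N
  have hM : ∀ i, b < i → IsZero (M'.homology i) := fun i hi =>
    isZero_homology_objPreimage M b i hi
  constructor
  · intro φ₁ φ₂ h
    have h' : ι.mapDerivedCategory.map φ₁ = ι.mapDerivedCategory.map φ₂ := h
    have h0 : ι.mapDerivedCategory.map (eM.hom ≫ (φ₁ - φ₂) ≫ eN.inv) = 0 := by
      rw [Functor.map_comp, Functor.map_comp, Functor.map_sub, h', sub_self, zero_comp,
        comp_zero]
    have h1 := faithful_aux ι hlift M' N' b hM _ h0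
    have h2 : φ₁ - φ₂ = 0 := by
      have : eM.inv ≫ (eM.hom ≫ (φ₁ - φ₂) ≫ eN.inv) ≫ eN.hom = 0 := by
        rw [h1, zero_comp, comp_zero]
      simpa using this
    exact sub_eq_zero.mp h2
  · intro ψ
    obtain ⟨φ', hφ'⟩ := full_aux ι hlift M' N' b hM
      (ι.mapDerivedCategoryFactors.inv.app M' ≫ ι.mapDerivedCategory.map eM.hom ≫ ψ ≫
        ι.mapDerivedCategory.map eN.inv ≫ ι.mapDerivedCategoryFactors.hom.app N')
    refine ⟨eM.inv ≫ φ' ≫ eN.hom, ?_⟩
    change ι.mapDerivedCategory.map (eM.inv ≫ φ' ≫ eN.hom) = ψ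
    have e1 : ι.mapDerivedCategory.map eM.inv ≫ ι.mapDerivedCategory.map eM.hom = 𝟙 _ := by
      rw [← Functor.map_comp, Iso.inv_hom_id, CategoryTheory.Functor.map_id]
    have e2 : ι.mapDerivedCategory.map eN.inv ≫ ι.mapDerivedCategory.map eN.hom = 𝟙 _ := by
      rw [← Functor.map_comp, Iso.inv_hom_id, CategoryTheory.Functor.map_id]
    have e3 : ι.mapDerivedCategoryFactors.hom.app M' ≫ ι.mapDerivedCategoryFactors.inv.app M' =
        𝟙 _ := Iso.hom_inv_id_app _ _
    have e4 : ι.mapDerivedCategoryFactors.hom.app N' ≫ ι.mapDerivedCategoryFactors.inv.app N' =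
        𝟙 _ := Iso.hom_inv_id_app _ _
    rw [Functor.map_comp, Functor.map_comp, hφ']
    simp only [Category.assoc]
    rw [reassoc_of% e3, reassoc_of% e4, reassoc_of% e1, e2]
    exact Category.comp_id _

open DerivedCategory in
theorem essSurj (hlift : LiftHyp ι) (K : DerivedCategory A) (b : ℤ) [K.IsLE b]
    (hK : ∀ n : ℤ, ι.essImage ((homologyFunctor A n).obj K)) :
    ∃ M : DerivedCategory A', M.IsLE b ∧ Nonempty (ι.mapDerivedCategory.obj M ≅ K) := by
  let K₀ : CochainComplex A ℤ := Q.objPreimage K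
  let e₀ : Q.obj K₀ ≅ K := Q.objObjPreimageIso K
  have hiso : ∀ i, K₀.homology i ≅ (homologyFunctor A i).obj K := fun i =>
    ((homologyFunctorFactors A i).app K₀).symm ≪≫ (homologyFunctor A i).mapIso e₀
  have hK₀ : ∀ i, ι.essImage (K₀.homology i) := fun i =>
    Functor.essImage.ofIso (hiso i).symm (hK i)
  have hb : ∀ i, b < i → IsZero (K₀.homology i) := fun i hi =>
    IsZero.of_iso (K.isZero_of_isLE b i hi) (hiso i)
  obtain ⟨R', u, hu, hR'⟩ := exists_res ι hlift K₀ hK₀ b hb
  have h1 : R'.IsStrictlyLE b := by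
    rw [CochainComplex.isStrictlyLE_iff]
    intro i hi
    exact hR' i hi
  refine ⟨Q.obj R', ?_, ⟨ι.mapDerivedCategoryFactors.app R' ≪≫ asIso (Q.map u) ≪≫ e₀⟩⟩
  rw [isLE_Q_obj_iff]
  infer_instance

end Derived

end Main

end Groth.Agent.H84.DMinusFF
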