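import Mathlib
import Groth.Agent.H84.DMinusFF

/-!
# `D⁻(P) ≃ D⁻_P(A)` for a Serre class with the lifting property
-/

set_option autoImplicit false
set_option backward.isDefEq.respectTransparency false
set_option backward.isDefEq.respectTransparency.types false

namespace Groth.Agent.H84.DMinusSerre

open CategoryTheory CategoryTheory.Limits Groth.Agent.H84.DMinusFF

universe u v w w'

variable {A : Type u} [Category.{v} A] [Abelian A]
  (P : ObjectProperty A) [P.IsClosedUnderIsomorphisms]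

omit [Abelian A] in
lemma essImage_ι_iff (X : A) : P.ι.essImage X ↔ P X :=
  ⟨fun ⟨Y, ⟨e⟩⟩ => P.prop_of_iso e Y.property, fun h => ⟨⟨X, h⟩, ⟨Iso.refl _⟩⟩⟩

theorem main [HasDerivedCategory.{w} A]
    [P.IsSerreClass] [P.IsClosedUnderKernels] [P.IsClosedUnderCokernels]
    [P.IsClosedUnderFiniteProducts] [HasDerivedCategory.{w'} P.FullSubcategory]
    [PreservesFiniteLimits P.ι] [PreservesFiniteColimits P.ι]
    (hlift : ∀ (X Y : A) (π : X ⟶ Y), Epi π → P Y →
      ∃ (X' : A) (i : X' ⟶ X), Mono i ∧ P X' ∧ Epi (i ≫ π)) :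
    (∀ (M N : DerivedCategory P.FullSubcategory) (b : ℤ), M.IsLE b → N.IsLE b →
      Function.Bijective (fun φ : M ⟶ N => P.ι.mapDerivedCategory.map φ)) ∧
    ∀ (K : DerivedCategory A) (b : ℤ), K.IsLE b →
      (∀ n : ℤ, P ((DerivedCategory.homologyFunctor A n).obj K)) →
      ∃ M : DerivedCategory P.FullSubcategory, M.IsLE b ∧
        Nonempty (P.ι.mapDerivedCategory.obj M ≅ K) := by
  have hl : LiftHyp P.ι := fun X Y π hπ hY => by
    obtain ⟨X', i, hi, hX', he⟩ := hlift X Y π hπ ((essImage_ι_iff P Y).mp hY)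
    exact ⟨X', i, hi, (essImage_ι_iff P X').mpr hX', he⟩
  refine ⟨fun M N b hM _ => bijective_map P.ι hl M N b, fun K b hK hKP => ?_⟩
  exact essSurj P.ι hl K b (fun n => (essImage_ι_iff P _).mpr (hKP n))

end Groth.Agent.H84.DMinusSerre
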