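import Mathlib
import Groth.Prelude.Def_Coh

/-!
# Frobenius-split proper schemes: the cokernel of Frobenius has no cohomology

Pure algebra / homological part (no dependence on the finiteness theorem).
-/

set_option autoImplicit false
set_option backward.isDefEq.respectTransparency false
set_option backward.isDefEq.respectTransparency.types false
universe u
open CategoryTheory Limits AlgebraicGeometry Opposite TopologicalSpace Abelian

namespace Groth.Agent.H84.FSplit

/-- an injective `p`-semilinear additive endomorphism of a finite-dimensional vector space over a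
perfect field of characteristic `p` is surjective -/
theorem surjective_of_semilinear_injective {k V : Type*} [Field k] (p : ℕ) [Fact p.Prime]
    [CharP k p] [PerfectField k] [AddCommGroup V] [Module k V] [Module.Finite k V] (Φ : V →+ V)
    (hΦ : ∀ (a : k) (x : V), Φ (a • x) = a ^ p • Φ x) (hinj : Function.Injective Φ) :
    Function.Surjective Φ := by
  classical
  let b := Module.finBasis k V
  have hli : LinearIndependent k (fun i => Φ (b i)) := by
    rw [Fintype.linearIndependent_iff]
    intro c hc i
    let d : Fin (Module.finrank k V) → k := fun j => (frobeniusEquiv k p).symm (c j)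
    have hd : ∀ j, (d j) ^ p = c j := fun j => frobeniusEquiv_symm_pow_p k p (c j)
    have h1 : Φ (∑ j, d j • b j) = 0 := by
      rw [map_sum]
      simp_rw [hΦ, hd]
      exact hc
    have h0 : ∑ j, d j • b j = 0 := hinj (h1.trans (map_zero Φ).symm)
    have hdi : d i = 0 := Fintype.linearIndependent_iff.1 b.linearIndependent d h0 i
    rw [← hd i, hdi, zero_pow (Fact.out : p.Prime).ne_zero]
  have hspan : Submodule.span k (Set.range fun i => Φ (b i)) = ⊤ :=
    hli.span_eq_top_of_card_eq_finrank' (by simp)
  intro v
  have hv : v ∈ Submodule.span k (Set.range fun i => Φ (b i)) := hspan ▸ Submodule.mem_top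
  obtain ⟨c, rfl⟩ := (Submodule.mem_span_range_iff_exists_fun k).1 hv
  refine ⟨∑ j, (frobeniusEquiv k p).symm (c j) • b j, ?_⟩
  rw [map_sum]
  simp_rw [hΦ, frobeniusEquiv_symm_pow_p]

section LES

variable {C : Type*} [Category C] [Abelian C] [HasExt C]

/-- if `f` is mono and acts surjectively on `Ext^n(T, -)` and injectively on `Ext^{n+1}(T, -)`,
then `Ext^n(T, coker f) = 0` -/
theorem ext_cokernel_eq_zero {T A : C} (f : A ⟶ A) [Mono f] (n : ℕ)
    (hsurj : ∀ y : Ext T A n, ∃ x : Ext T A n, x.comp (Ext.mk₀ f) (add_zero n) = y)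
    (hinj : ∀ x : Ext T A (n + 1), x.comp (Ext.mk₀ f) (add_zero (n + 1)) = 0 → x = 0)
    (z : Ext T (cokernel f) n) : z = 0 := by
  let S : ShortComplex C := ShortComplex.mk f (cokernel.π f) (cokernel.condition f)
  have hS : S.ShortExact :=
    { exact := ShortComplex.exact_cokernel f
      mono_f := inferInstanceAs (Mono f)
      epi_g := inferInstanceAs (Epi (cokernel.π f)) }
  have h1 : (z.comp hS.extClass rfl).comp (Ext.mk₀ S.f) (add_zero (n + 1)) = 0 := by
    rw [Ext.comp_assoc_of_third_deg_zero, hS.extClass_comp, Ext.comp_zero]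
  have h2 : z.comp hS.extClass rfl = 0 := hinj _ h1
  obtain ⟨x₂, hx₂⟩ := Ext.covariant_sequence_exact₃ T hS z rfl h2
  obtain ⟨x₁, hx₁⟩ := hsurj x₂
  rw [← hx₂, ← hx₁]
  change (x₁.comp (Ext.mk₀ S.f) (add_zero n)).comp (Ext.mk₀ S.g) (add_zero n) = 0
  rw [Ext.comp_assoc_of_third_deg_zero, Ext.mk₀_comp_mk₀, S.zero, Ext.mk₀_zero, Ext.comp_zero]

end LES

end Groth.Agent.H84.FSplit
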