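import Mathlib
import Groth.Agent.H84.FSplit
import Groth.Agent.S0002
import Groth.Agent.H6.HomShQC

/-!
# Frobenius-split proper schemes over a perfect field: `H^i(X, coker F) = 0`
-/

set_option autoImplicit false
set_option backward.isDefEq.respectTransparency false
set_option backward.isDefEq.respectTransparency.types false
universe u
open CategoryTheory Limits AlgebraicGeometry Opposite TopologicalSpace Abelian

namespace Groth.Agent.H84.FSplit

variable (p : ℕ) (X : Scheme.{u})

/-- the `p`-th power map intertwines multiplication by `r` and by `r ^ p` -/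
theorem smulAb_comp_frob
    (φ : Coh.toAb (Coh.structureModule X) ⟶ Coh.toAb (Coh.structureModule X))
    (hφ : ∀ (U : X.Opens) (t : Γ(X, U)), φ.hom.app (op U) t = t ^ p) (r : Coh.Γtop X) :
    Coh.smulAb (Coh.structureModule X) r ≫ φ =
      φ ≫ Coh.smulAb (Coh.structureModule X) (r ^ p) := by
  ext U t
  obtain ⟨U⟩ := U
  let t' : Γ(X, U) := t
  let r' : Γ(X, U) := Coh.resTop X (op U) r
  have h1 : φ.hom.app (op U) t' = t' ^ p := hφ U t'
  have h2 : φ.hom.app (op U) (r' * t') = (r' * t') ^ p := hφ U _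
  have e1 : (Coh.smulAb (Coh.structureModule X) r).hom.app (op U) t = (r' * t' : Γ(X, U)) := rfl
  let rp : Γ(X, U) := Coh.resTop X (op U) (r ^ p)
  have e3 : rp = r' ^ p := map_pow (Coh.resTop X (op U)) r p
  have e2 : (Coh.smulAb (Coh.structureModule X) (r ^ p)).hom.app (op U) (φ.hom.app (op U) t') =
      (rp * t' ^ p : Γ(X, U)) := by
    rw [h1]
    rfl
  change φ.hom.app (op U) ((Coh.smulAb (Coh.structureModule X) r).hom.app (op U) t) =
    (Coh.smulAb (Coh.structureModule X) (r ^ p)).hom.app (op U) (φ.hom.app (op U) t')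
  rw [e1, h2, e2, e3, mul_pow]

variable (k : Type u) [Field k] [X.Over (Spec (CommRingCat.of k))]

theorem H_map_frob_smul
    (φ : Coh.toAb (Coh.structureModule X) ⟶ Coh.toAb (Coh.structureModule X))
    (hφ : ∀ (U : X.Opens) (t : Γ(X, U)), φ.hom.app (op U) t = t ^ p) (n : ℕ) (a : k)
    (x : Coh.HH X (Coh.structureModule X) n) :
    Sheaf.H.map φ n (a • x) = a ^ p • Sheaf.H.map φ n x := by
  change Sheaf.H.map φ n (Sheaf.H.map (Coh.smulAb (Coh.structureModule X)
      (Coh.toGlobal (X ↘ Spec (CommRingCat.of k)) a)) n x) =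
    Sheaf.H.map (Coh.smulAb (Coh.structureModule X)
      (Coh.toGlobal (X ↘ Spec (CommRingCat.of k)) (a ^ p))) n (Sheaf.H.map φ n x)
  rw [← Sheaf.H.map_comp_apply, ← Sheaf.H.map_comp_apply, map_pow, smulAb_comp_frob p X φ hφ]

theorem subsingleton_H_cokernel_frob [Fact p.Prime] [CharP k p] [PerfectField k]
    [IsProper (X ↘ Spec (CommRingCat.of k))]
    (φ : Coh.toAb (Coh.structureModule X) ⟶ Coh.toAb (Coh.structureModule X))
    (hφ : ∀ (U : X.Opens) (t : Γ(X, U)), φ.hom.app (op U) t = t ^ p)
    (s : Coh.toAb (Coh.structureModule X) ⟶ Coh.toAb (Coh.structureModule X))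
    (hs : φ ≫ s = 𝟙 _) (i : ℕ) : Subsingleton (Sheaf.H (Limits.cokernel φ) i) := by
  have hfin : ∀ n, Module.Finite k (Coh.HH X (Coh.structureModule X) n) := fun n =>
    Groth.Agent.S0002.result k X _ (Groth.Agent.H6.HomSh.isCoh_structureModule X) n
  have hbij : ∀ n, Function.Bijective (Sheaf.H.map φ n) := by
    intro n
    have hinj : Function.Injective (Sheaf.H.map φ n) := by
      apply Function.LeftInverse.injective (g := Sheaf.H.map s n)
      intro x
      rw [← Sheaf.H.map_comp_apply, hs, Sheaf.H.map_id_apply]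
    haveI := hfin n
    exact ⟨hinj, surjective_of_semilinear_injective (k := k)
      (V := Coh.HH X (Coh.structureModule X) n) p (Sheaf.H.map φ n)
      (fun a x => H_map_frob_smul p X k φ hφ n a x) hinj⟩
  haveI : Mono φ := (SplitMono.mk s hs).mono
  refine subsingleton_of_forall_eq 0 (fun z => ?_)
  exact ext_cokernel_eq_zero φ i (fun y => (hbij i).2 y)
    (fun x hx => (hbij (i + 1)).1 (hx.trans (map_zero _).symm)) z

end Groth.Agent.H84.FSplit
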