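import Groth.Prelude.Def_FibCat2
import Groth.Prelude.Def_W4stkcategoriessitesFib
import Mathlib.CategoryTheory.Adjunction.Basic

set_option autoImplicit false
set_option backward.isDefEq.respectTransparency false
set_option backward.isDefEq.respectTransparency.types false

universe v u

open CategoryTheory CategoryTheory.Functor FibCat

namespace Groth.Agent.H84.FibFactor

section HomLift

variable {𝒮 : Type*} [Category 𝒮] {𝒳 : Type*} [Category 𝒳] (p : 𝒳 ⥤ 𝒮)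

theorem isHomLift_of_comp_id {R S : 𝒮} {a b c : 𝒳} (f : R ⟶ S) (φ : a ⟶ b) (ψ : b ⟶ c)
    [p.IsHomLift (𝟙 S) ψ] [p.IsHomLift f (φ ≫ ψ)] : p.IsHomLift f φ := by
  have ha : p.obj a = R := IsHomLift.domain_eq p f (φ ≫ ψ)
  have hb : p.obj b = S := IsHomLift.domain_eq p (𝟙 S) ψ
  have hc : p.obj c = S := IsHomLift.codomain_eq p (𝟙 S) ψ
  have h1 : p.map (φ ≫ ψ) = eqToHom ha ≫ f ≫ eqToHom hc.symm := IsHomLift.fac' p f (φ ≫ ψ)
  have h2 : p.map ψ = eqToHom hb ≫ 𝟙 S ≫ eqToHom hc.symm := IsHomLift.fac' p (𝟙 S) ψ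
  apply IsHomLift.of_fac' p f φ ha hb
  rw [p.map_comp, h2] at h1
  have h3 := congrArg (fun t => t ≫ eqToHom hc ≫ eqToHom hb.symm) h1
  simp only [Category.assoc, eqToHom_trans, eqToHom_refl, Category.comp_id, Category.id_comp,
    eqToHom_trans_assoc] at h3
  exact h3

theorem isHomLift_of_id_comp {R S : 𝒮} {a b c : 𝒳} (f : R ⟶ S) (φ : a ⟶ b) (ψ : b ⟶ c)
    [p.IsHomLift (𝟙 R) φ] [p.IsHomLift f (φ ≫ ψ)] : p.IsHomLift f ψ := by
  have ha : p.obj a = R := IsHomLift.domain_eq p (𝟙 R) φ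
  have hb : p.obj b = R := IsHomLift.codomain_eq p (𝟙 R) φ
  have hc : p.obj c = S := IsHomLift.codomain_eq p f (φ ≫ ψ)
  have h1 : p.map (φ ≫ ψ) = eqToHom ha ≫ f ≫ eqToHom hc.symm := IsHomLift.fac' p f (φ ≫ ψ)
  have h2 : p.map φ = eqToHom ha ≫ 𝟙 R ≫ eqToHom hb.symm := IsHomLift.fac' p (𝟙 R) φ
  apply IsHomLift.of_fac' p f ψ hb hc
  rw [p.map_comp, h2] at h1
  have h3 := congrArg (fun t => eqToHom hb ≫ eqToHom ha.symm ≫ t) h1
  simp only [Category.assoc, eqToHom_trans, eqToHom_refl, Category.comp_id, Category.id_comp,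
    eqToHom_trans_assoc] at h3
  exact h3

theorem isHomLift_id_of_eq {R R' : 𝒮} (e : R = R') {a b : 𝒳} (φ : a ⟶ b)
    [h : p.IsHomLift (𝟙 R) φ] : p.IsHomLift (𝟙 R') φ := by
  subst e
  exact h

end HomLift

section Construction

variable {C : Type u} [Category.{v} C] {𝒳 𝒴 : BasedCategory.{v, max u v} C} (F : 𝒳 ⥤ᵇ 𝒴)

/-- Objects of the factorization category: triples `(x, y, f : y ⟶ F x)` with `f` over an
identity. -/
structure Obj where
  /-- the object of `𝒳` -/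
  x : 𝒳.obj
  /-- the object of `𝒴` -/
  y : 𝒴.obj
  /-- the structure morphism -/
  f : y ⟶ F.obj x
  /-- the structure morphism lies over the identity -/
  hf : 𝒴.p.IsHomLift (𝟙 (𝒳.p.obj x)) f

attribute [instance] Obj.hf

variable {F}

/-- Morphisms of the factorization category. -/
@[ext]
structure Hom (A B : Obj F) where
  /-- the `𝒳`-component -/
  a : A.x ⟶ B.x
  /-- the `𝒴`-component -/
  b : A.y ⟶ B.y
  /-- compatibility -/
  w : b ≫ B.f = A.f ≫ F.map a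

instance : Category.{v} (Obj F) where
  Hom A B := Hom A B
  id A := ⟨𝟙 _, 𝟙 _, by simp⟩
  comp m n := ⟨m.a ≫ n.a, m.b ≫ n.b, by
    rw [Category.assoc, n.w, ← Category.assoc, m.w, Category.assoc, Functor.map_comp]⟩
  id_comp m := by apply Hom.ext <;> simp
  comp_id m := by apply Hom.ext <;> simp
  assoc m n k := by apply Hom.ext <;> simp

@[simp] theorem id_a (A : Obj F) : (𝟙 A : A ⟶ A).a = 𝟙 A.x := rfl
@[simp] theorem id_b (A : Obj F) : (𝟙 A : A ⟶ A).b = 𝟙 A.y := rfl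
@[simp] theorem comp_a {A B D : Obj F} (m : A ⟶ B) (n : B ⟶ D) : (m ≫ n).a = m.a ≫ n.a := rfl
@[simp] theorem comp_b {A B D : Obj F} (m : A ⟶ B) (n : B ⟶ D) : (m ≫ n).b = m.b ≫ n.b := rfl

theorem hom_ext {A B : Obj F} (m n : A ⟶ B) (ha : m.a = n.a) (hb : m.b = n.b) : m = n :=
  Hom.ext ha hb

variable (F)

/-- The projection to `𝒳`. -/
@[simps]
def W : Obj F ⥤ 𝒳.obj where
  obj A := A.x
  map m := m.a

/-- The projection to `𝒴`. -/
@[simps]
def V : Obj F ⥤ 𝒴.obj where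
  obj A := A.y
  map m := m.b

/-- The inclusion of `𝒳`. -/
@[simps]
def U : 𝒳.obj ⥤ Obj F where
  obj x := ⟨x, F.obj x, 𝟙 _, inferInstance⟩
  map a := ⟨a, F.map a, by simp⟩

/-- The factorization category as a based category. -/
abbrev X' : BasedCategory.{v, max u v} C where
  obj := Obj F
  p := W F ⋙ 𝒳.p

variable {F}

/-- If the `𝒳`-component lies over `f` then so does the `𝒴`-component. -/
theorem isHomLift_b {A B : Obj F} (m : A ⟶ B) {R S : C} (f : R ⟶ S)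
    [h : 𝒳.p.IsHomLift f m.a] : 𝒴.p.IsHomLift f m.b := by
  obtain rfl : 𝒳.p.obj A.x = R := IsHomLift.domain_eq 𝒳.p f m.a
  obtain rfl : 𝒳.p.obj B.x = S := IsHomLift.codomain_eq 𝒳.p f m.a
  have : 𝒴.p.IsHomLift f (m.b ≫ B.f) := by
    rw [m.w]
    infer_instance
  exact isHomLift_of_comp_id 𝒴.p f m.b B.f

/-- If the `𝒴`-component lies over `f` then so does the `𝒳`-component. -/
theorem isHomLift_a {A B : Obj F} (m : A ⟶ B) {R S : C} (f : R ⟶ S)
    [h : 𝒴.p.IsHomLift f m.b] : 𝒳.p.IsHomLift f m.a := by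
  have hR : 𝒳.p.obj A.x = R :=
    (IsHomLift.domain_eq 𝒴.p (𝟙 (𝒳.p.obj A.x)) A.f).symm.trans (IsHomLift.domain_eq 𝒴.p f m.b)
  have hS : 𝒳.p.obj B.x = S :=
    (IsHomLift.domain_eq 𝒴.p (𝟙 (𝒳.p.obj B.x)) B.f).symm.trans (IsHomLift.codomain_eq 𝒴.p f m.b)
  subst hR hS
  have : 𝒴.p.IsHomLift f (A.f ≫ F.map m.a) := by
    rw [← m.w]
    infer_instance
  have : 𝒴.p.IsHomLift f (F.map m.a) := isHomLift_of_id_comp 𝒴.p f A.f (F.map m.a)
  exact F.isHomLift_map f m.a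

theorem isHomLift_p'_iff {A B : Obj F} (m : A ⟶ B) {R S : C} (f : R ⟶ S) :
    (X' F).p.IsHomLift f m ↔ 𝒳.p.IsHomLift f m.a := by
  constructor
  · intro h
    exact IsHomLift.of_fac' 𝒳.p f m.a (IsHomLift.domain_eq (X' F).p f m)
      (IsHomLift.codomain_eq (X' F).p f m) (IsHomLift.fac' (X' F).p f m)
  · intro h
    exact IsHomLift.of_fac' (X' F).p f m (IsHomLift.domain_eq 𝒳.p f m.a)
      (IsHomLift.codomain_eq 𝒳.p f m.a) (IsHomLift.fac' 𝒳.p f m.a)

variable (F)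

/-- `w : 𝒳' ⥤ᵇ 𝒳`. -/
def w : X' F ⥤ᵇ 𝒳 where
  toFunctor := W F
  w := rfl

/-- `u : 𝒳 ⥤ᵇ 𝒳'`. -/
def u : 𝒳 ⥤ᵇ X' F where
  toFunctor := U F
  w := rfl

/-- `v : 𝒳' ⥤ᵇ 𝒴`. -/
def v : X' F ⥤ᵇ 𝒴 where
  toFunctor := V F
  w := by
    refine Functor.ext (fun A => ?_) (fun A B m => ?_)
    · exact (IsHomLift.domain_eq 𝒴.p (𝟙 (𝒳.p.obj A.x)) A.f)
    · have : 𝒴.p.IsHomLift (𝒳.p.map m.a) m.b := isHomLift_b m (𝒳.p.map m.a)
      exact IsHomLift.fac' 𝒴.p (𝒳.p.map m.a) m.b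

theorem basedFunctor_ext {𝒜 ℬ : BasedCategory.{v, max u v} C} {G H : 𝒜 ⥤ᵇ ℬ}
    (h : G.toFunctor = H.toFunctor) : G = H := by
  obtain ⟨G0, gw⟩ := G
  obtain ⟨H0, hw⟩ := H
  simp only at h
  subst h
  rfl

theorem u_comp_v : BasedFunctor.comp (u F) (v F) = F := by
  apply basedFunctor_ext
  exact Functor.ext (fun x => rfl) (fun x y a => by
    simp only [eqToHom_refl, Category.comp_id, Category.id_comp]
    rfl)

instance : (U F).Faithful where
  map_injective {x y} a a' h := by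
    have := congrArg Hom.a h
    exact this

instance : (U F).Full where
  map_surjective {x y} m := by
    refine ⟨m.a, ?_⟩
    apply hom_ext
    · rfl
    · exact ((Category.comp_id m.b).symm.trans
        (m.w.trans (Category.id_comp (F.map m.a)))).symm

/-- The adjunction `w ⊣ u`. -/
def adj : W F ⊣ U F :=
  Adjunction.mkOfHomEquiv
    { homEquiv := fun A x =>
        { toFun := fun a => ⟨a, A.f ≫ F.map a, by
            change (A.f ≫ F.map a) ≫ 𝟙 (F.obj x) = A.f ≫ F.map a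
            rw [Category.comp_id]⟩
          invFun := fun m => m.a
          left_inv := fun a => rfl
          right_inv := fun m => by
            apply hom_ext
            · rfl
            · exact ((Category.comp_id m.b).symm.trans m.w).symm }
      homEquiv_naturality_left_symm := fun m a => rfl
      homEquiv_naturality_right := fun a a' => by
        apply hom_ext
        · rfl
        · simp }

end Construction

section Cartesian

variable {C : Type u} [Category.{v} C] {𝒳 𝒴 : BasedCategory.{v, max u v} C} {F : 𝒳 ⥤ᵇ 𝒴}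
  (hF : PreservesStronglyCartesian F)

include hF in
/-- A morphism both of whose components are strongly cartesian is strongly cartesian. -/
theorem isStronglyCartesian_of_components {A B : Obj F} (m : A ⟶ B) {R S : C} (h : R ⟶ S)
    (ha : 𝒳.p.IsStronglyCartesian h m.a) (hb : 𝒴.p.IsStronglyCartesian h m.b) :
    (X' F).p.IsStronglyCartesian h m := by
  obtain rfl : 𝒳.p.obj A.x = R := IsHomLift.domain_eq 𝒳.p h m.a
  obtain rfl : 𝒳.p.obj B.x = S := IsHomLift.codomain_eq 𝒳.p h m.a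
  have hFa : 𝒴.p.IsStronglyCartesian h (F.map m.a) := hF h m.a ha
  have hlift : (X' F).p.IsHomLift h m := (isHomLift_p'_iff m h).mpr inferInstance
  refine { toIsHomLift := hlift, universal_property' := ?_ }
  intro A' g m' hm'
  have h1 : 𝒳.p.IsHomLift (g ≫ h) m'.a := (isHomLift_p'_iff m' (g ≫ h)).mp hm'
  have h2 : 𝒴.p.IsHomLift (g ≫ h) m'.b := isHomLift_b m' (g ≫ h)
  have hα : IsStronglyCartesian.map 𝒳.p h m.a (f' := g ≫ h) rfl m'.a ≫ m.a = m'.a :=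
    IsStronglyCartesian.fac 𝒳.p h m.a rfl m'.a
  have hβ : IsStronglyCartesian.map 𝒴.p h m.b (f' := g ≫ h) rfl m'.b ≫ m.b = m'.b :=
    IsStronglyCartesian.fac 𝒴.p h m.b rfl m'.b
  have hαl : 𝒳.p.IsHomLift g (IsStronglyCartesian.map 𝒳.p h m.a (f' := g ≫ h) rfl m'.a) :=
    inferInstance
  have hβl : 𝒴.p.IsHomLift g (IsStronglyCartesian.map 𝒴.p h m.b (f' := g ≫ h) rfl m'.b) :=
    inferInstance
  generalize IsStronglyCartesian.map 𝒳.p h m.a (f' := g ≫ h) rfl m'.a = α at hα hαl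
  generalize IsStronglyCartesian.map 𝒴.p h m.b (f' := g ≫ h) rfl m'.b = β at hβ hβl
  have hw : β ≫ A.f = A'.f ≫ F.map α := by
    have l1 : 𝒴.p.IsHomLift g (β ≫ A.f) := inferInstance
    have l0 : 𝒴.p.IsHomLift (𝟙 ((X' F).p.obj A')) A'.f := A'.hf
    have l2 : 𝒴.p.IsHomLift g (A'.f ≫ F.map α) := inferInstance
    apply IsStronglyCartesian.ext 𝒴.p h (F.map m.a) g
    rw [Category.assoc, ← m.w, ← Category.assoc, hβ, Category.assoc, ← F.map_comp, hα, m'.w]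
  refine ⟨⟨α, β, hw⟩, ⟨(isHomLift_p'_iff _ g).mpr hαl, hom_ext _ _ hα hβ⟩, ?_⟩
  rintro n ⟨hn1, hn2⟩
  have hna : 𝒳.p.IsHomLift g n.a := (isHomLift_p'_iff n g).mp hn1
  have hnb : 𝒴.p.IsHomLift g n.b := isHomLift_b n g
  apply hom_ext
  · have e1 : n.a ≫ m.a = m'.a := congrArg Hom.a hn2
    have e2 : α ≫ m.a = n.a ≫ m.a := hα.trans e1.symm
    exact (IsStronglyCartesian.ext 𝒳.p h m.a g e2).symm
  · have e1 : n.b ≫ m.b = m'.b := congrArg Hom.b hn2
    have e2 : β ≫ m.b = n.b ≫ m.b := hβ.trans e1.symm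
    exact (IsStronglyCartesian.ext 𝒴.p h m.b g e2).symm

variable [𝒳.p.IsFibered] [𝒴.p.IsFibered]

include hF in
/-- Existence of lifts with strongly cartesian components. -/
theorem exists_lift (B : Obj F) {R : C} (h : R ⟶ 𝒳.p.obj B.x) :
    ∃ (A : Obj F) (m : A ⟶ B),
      𝒳.p.IsStronglyCartesian h m.a ∧ 𝒴.p.IsStronglyCartesian h m.b := by
  have hy : 𝒴.p.obj B.y = 𝒳.p.obj B.x := IsHomLift.domain_eq 𝒴.p (𝟙 _) B.f
  have hχ : 𝒳.p.IsStronglyCartesian h
      (IsPreFibered.pullbackMap (p := 𝒳.p) (rfl : 𝒳.p.obj B.x = _) h) := inferInstance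
  have hψ : 𝒴.p.IsStronglyCartesian h (IsPreFibered.pullbackMap (p := 𝒴.p) hy h) := inferInstance
  have hx' : 𝒳.p.obj (IsPreFibered.pullbackObj (p := 𝒳.p) (rfl : 𝒳.p.obj B.x = _) h) = R :=
    IsPreFibered.pullbackObj_proj _ _
  generalize IsPreFibered.pullbackMap (p := 𝒳.p) (rfl : 𝒳.p.obj B.x = _) h = χ at hχ
  generalize IsPreFibered.pullbackObj (p := 𝒳.p) (rfl : 𝒳.p.obj B.x = _) h = x' at χ hx'
  generalize IsPreFibered.pullbackMap (p := 𝒴.p) hy h = ψ at hψ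
  generalize IsPreFibered.pullbackObj (p := 𝒴.p) hy h = y' at ψ
  have hFχ : 𝒴.p.IsStronglyCartesian h (F.map χ) := hF h χ hχ
  have l1 : 𝒴.p.IsHomLift h (ψ ≫ B.f) := inferInstance
  have hf' : IsStronglyCartesian.map 𝒴.p h (F.map χ) (Category.id_comp h).symm (ψ ≫ B.f) ≫
      F.map χ = ψ ≫ B.f := IsStronglyCartesian.fac 𝒴.p h (F.map χ) _ _
  have lf' : 𝒴.p.IsHomLift (𝟙 R)
      (IsStronglyCartesian.map 𝒴.p h (F.map χ) (Category.id_comp h).symm (ψ ≫ B.f)) :=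
    inferInstance
  generalize IsStronglyCartesian.map 𝒴.p h (F.map χ) (Category.id_comp h).symm (ψ ≫ B.f) = f'
    at hf' lf'
  have lf'' : 𝒴.p.IsHomLift (𝟙 (𝒳.p.obj x')) f' := isHomLift_id_of_eq 𝒴.p hx'.symm f'
  exact ⟨⟨x', y', f', lf''⟩, ⟨χ, ψ, hf'.symm⟩, hχ, hψ⟩

include hF in
theorem isFibered_p' : (X' F).p.IsFibered := by
  apply IsFibered.of_exists_isStronglyCartesian
  intro B R h
  obtain ⟨A, m, ha, hb⟩ := exists_lift hF B h
  exact ⟨A, m, isStronglyCartesian_of_components hF m h ha hb⟩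

include hF in
theorem preserves_u : PreservesStronglyCartesian (u F) := by
  intro R S h a b φ hφ
  exact isStronglyCartesian_of_components hF ((U F).map φ) h hφ (hF h φ hφ)

theorem isStronglyCartesian_of_eq {𝒮 : Type*} [Category 𝒮] {𝒵 : Type*} [Category 𝒵] (p : 𝒵 ⥤ 𝒮)
    {R S : 𝒮} {f f' : R ⟶ S} (e : f = f') {a b : 𝒵} (φ : a ⟶ b)
    (h : p.IsStronglyCartesian f φ) : p.IsStronglyCartesian f' φ := by
  subst e
  exact h

include hF in
theorem components_of_isStronglyCartesian {A B : Obj F} (m : A ⟶ B) {R S : C} (h : R ⟶ S)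
    (hm : (X' F).p.IsStronglyCartesian h m) :
    𝒳.p.IsStronglyCartesian h m.a ∧ 𝒴.p.IsStronglyCartesian h m.b := by
  obtain rfl : 𝒳.p.obj B.x = S := IsHomLift.codomain_eq (X' F).p h m
  obtain ⟨A₀, m₀, ha, hb⟩ := exists_lift hF B h
  have hm₀ := isStronglyCartesian_of_components hF m₀ h ha hb
  have hh : h = (Iso.refl R).hom ≫ h := by simp
  let θ := IsStronglyCartesian.domainIsoOfBaseIso (X' F).p hh m₀ m
  have hθ : θ.hom ≫ m₀ = m := IsStronglyCartesian.fac (X' F).p h m₀ hh m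
  have lθ : (X' F).p.IsHomLift (𝟙 R) θ.hom :=
    IsStronglyCartesian.map_isHomLift (X' F).p h m₀ hh m
  have lθa : 𝒳.p.IsHomLift (𝟙 R) θ.hom.a := (isHomLift_p'_iff θ.hom (𝟙 R)).mp lθ
  have lθb : 𝒴.p.IsHomLift (𝟙 R) θ.hom.b := isHomLift_b θ.hom (𝟙 R)
  have ia : IsIso θ.hom.a := inferInstanceAs (IsIso ((W F).map θ.hom))
  have ib : IsIso θ.hom.b := inferInstanceAs (IsIso ((V F).map θ.hom))
  have sa : 𝒳.p.IsStronglyCartesian (𝟙 R) θ.hom.a := IsStronglyCartesian.of_isIso 𝒳.p (𝟙 R) _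
  have sb : 𝒴.p.IsStronglyCartesian (𝟙 R) θ.hom.b := IsStronglyCartesian.of_isIso 𝒴.p (𝟙 R) _
  constructor
  · have e : m.a = θ.hom.a ≫ m₀.a := by rw [← hθ]; rfl
    rw [e]
    exact isStronglyCartesian_of_eq 𝒳.p (Category.id_comp h) _ inferInstance
  · have e : m.b = θ.hom.b ≫ m₀.b := by rw [← hθ]; rfl
    rw [e]
    exact isStronglyCartesian_of_eq 𝒴.p (Category.id_comp h) _ inferInstance

include hF in
theorem preserves_v : PreservesStronglyCartesian (v F) := by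
  intro R S h A B m hm
  exact (components_of_isStronglyCartesian hF m h hm).2

include hF in
theorem preserves_w : PreservesStronglyCartesian (w F) := by
  intro R S h A B m hm
  exact (components_of_isStronglyCartesian hF m h hm).1

include hF in
theorem isFibered_V : (V F).IsFibered := by
  apply IsFibered.of_exists_isStronglyCartesian
  intro B y₁ b
  have hy : 𝒴.p.obj B.y = 𝒳.p.obj B.x := IsHomLift.domain_eq 𝒴.p (𝟙 _) B.f
  -- the base morphism
  let h : 𝒴.p.obj y₁ ⟶ 𝒳.p.obj B.x := 𝒴.p.map b ≫ eqToHom hy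
  have lb : 𝒴.p.IsHomLift h b := inferInstance
  have hχ : 𝒳.p.IsStronglyCartesian h
      (IsPreFibered.pullbackMap (p := 𝒳.p) (rfl : 𝒳.p.obj B.x = _) h) := inferInstance
  have hx' : 𝒳.p.obj (IsPreFibered.pullbackObj (p := 𝒳.p) (rfl : 𝒳.p.obj B.x = _) h) =
      𝒴.p.obj y₁ := IsPreFibered.pullbackObj_proj _ _
  generalize IsPreFibered.pullbackMap (p := 𝒳.p) (rfl : 𝒳.p.obj B.x = _) h = χ at hχ
  generalize IsPreFibered.pullbackObj (p := 𝒳.p) (rfl : 𝒳.p.obj B.x = _) h = x' at χ hx'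
  have hFχ : 𝒴.p.IsStronglyCartesian h (F.map χ) := hF h χ hχ
  have l1 : 𝒴.p.IsHomLift h (b ≫ B.f) := inferInstance
  have hf' : IsStronglyCartesian.map 𝒴.p h (F.map χ) (Category.id_comp h).symm (b ≫ B.f) ≫
      F.map χ = b ≫ B.f := IsStronglyCartesian.fac 𝒴.p h (F.map χ) _ _
  have lf' : 𝒴.p.IsHomLift (𝟙 (𝒴.p.obj y₁))
      (IsStronglyCartesian.map 𝒴.p h (F.map χ) (Category.id_comp h).symm (b ≫ B.f)) :=
    inferInstance
  generalize IsStronglyCartesian.map 𝒴.p h (F.map χ) (Category.id_comp h).symm (b ≫ B.f) = f₁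
    at hf' lf'
  have lf'' : 𝒴.p.IsHomLift (𝟙 (𝒳.p.obj x')) f₁ := isHomLift_id_of_eq 𝒴.p hx'.symm f₁
  let A : Obj F := ⟨x', y₁, f₁, lf''⟩
  let m : A ⟶ B := ⟨χ, b, hf'.symm⟩
  refine ⟨A, m, ?_⟩
  have lm : (V F).IsHomLift b m := IsHomLift.map (V F) m
  refine { toIsHomLift := lm, universal_property' := ?_ }
  intro A₂ g m' hm'
  -- `m'.b = g ≫ b`
  have hb' : m'.b = g ≫ b := by
    have := IsHomLift.fac (V F) (g ≫ b) m'
    simpa using this.symm
  -- the base morphism for `A₂`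
  have hy₂ : 𝒳.p.obj A₂.x = 𝒴.p.obj A₂.y := (IsHomLift.domain_eq 𝒴.p (𝟙 _) A₂.f).symm
  let k : 𝒳.p.obj A₂.x ⟶ 𝒴.p.obj y₁ := eqToHom hy₂ ≫ 𝒴.p.map g
  have lg : 𝒴.p.IsHomLift k g := inferInstance
  have lmb : 𝒴.p.IsHomLift (k ≫ h) m'.b := by
    rw [hb']
    infer_instance
  have lma : 𝒳.p.IsHomLift (k ≫ h) m'.a := isHomLift_a m' (k ≫ h)
  have hα : IsStronglyCartesian.map 𝒳.p h χ (f' := k ≫ h) rfl m'.a ≫ χ = m'.a :=
    IsStronglyCartesian.fac 𝒳.p h χ rfl m'.a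
  have hαl : 𝒳.p.IsHomLift k (IsStronglyCartesian.map 𝒳.p h χ (f' := k ≫ h) rfl m'.a) :=
    inferInstance
  generalize IsStronglyCartesian.map 𝒳.p h χ (f' := k ≫ h) rfl m'.a = α at hα hαl
  have hw : g ≫ f₁ = A₂.f ≫ F.map α := by
    have l2 : 𝒴.p.IsHomLift k (g ≫ f₁) := inferInstance
    have l3 : 𝒴.p.IsHomLift k (A₂.f ≫ F.map α) := inferInstance
    apply IsStronglyCartesian.ext 𝒴.p h (F.map χ) k
    rw [Category.assoc, hf', ← Category.assoc, ← hb', Category.assoc, ← F.map_comp, hα, m'.w]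
  let n : A₂ ⟶ A := ⟨α, g, hw⟩
  refine ⟨n, ⟨IsHomLift.map (V F) n, hom_ext _ _ hα hb'.symm⟩, ?_⟩
  rintro n' ⟨hn1, hn2⟩
  have hn'b : n'.b = g := by
    have := IsHomLift.fac (V F) g n'
    simpa using this.symm
  have ln'b : 𝒴.p.IsHomLift k n'.b := by rw [hn'b]; exact lg
  have ln'a : 𝒳.p.IsHomLift k n'.a := isHomLift_a n' k
  apply hom_ext
  · have e1 : n'.a ≫ χ = m'.a := congrArg Hom.a hn2
    have e2 : α ≫ χ = n'.a ≫ χ := hα.trans e1.symm
    exact (IsStronglyCartesian.ext 𝒳.p h χ k e2).symm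
  · exact hn'b

end Cartesian

end Groth.Agent.H84.FibFactor
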