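import Groth.Prelude.Def_StGerb

set_option autoImplicit false
open CategoryTheory
universe v₃ u₃ v₂ u₂ v u

namespace Groth.Agent.H84

section Basic

variable {C : Type u} [Category.{v} C] {S : Type u₂} [Category.{v₂} S] (p : S ⥤ C)

/-- In a category fibred in groupoids, a morphism lying over `f` is strongly cartesian over `f`. -/
theorem isSC_of_fibGrpd (h : FibCat.IsFibGrpd p) {R T : C} (f : R ⟶ T)
    {a b : S} (φ : a ⟶ b) [hφ : p.IsHomLift f φ] : p.IsStronglyCartesian f φ := by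
  obtain ⟨⟩ := hφ
  exact h.isStronglyCartesian φ

/-- Lifting through a morphism in a category fibred in groupoids. -/
theorem exists_factor_of_fibGrpd (h : FibCat.IsFibGrpd p) {R R' T : C} (f : R ⟶ T) (g : R' ⟶ R)
    (f' : R' ⟶ T) (hf' : f' = g ≫ f) {a b a' : S} (φ : a ⟶ b) [p.IsHomLift f φ]
    (φ' : a' ⟶ b) [p.IsHomLift f' φ'] :
    ∃ χ : a' ⟶ a, p.IsHomLift g χ ∧ χ ≫ φ = φ' := by
  have := isSC_of_fibGrpd p h f φ
  exact ⟨Functor.IsStronglyCartesian.map p f φ hf' φ', inferInstance,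
    Functor.IsStronglyCartesian.fac p f φ hf' φ'⟩

/-- In a category fibred in groupoids, a morphism lying over an isomorphism is an isomorphism. -/
theorem isIso_of_fibGrpd (h : FibCat.IsFibGrpd p) {R T : C} (f : R ⟶ T) [IsIso f]
    {a b : S} (φ : a ⟶ b) [hφ : p.IsHomLift f φ] : IsIso φ := by
  have := isSC_of_fibGrpd p h f φ
  exact Functor.IsStronglyCartesian.isIso_of_base_isIso p f φ

/-- Existence of lifts with a propositional base object. -/
theorem exists_lift_free (h : FibCat.IsFibGrpd p) {x : S} {U V : C} (hx : p.obj x = U) (f : V ⟶ U) :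
    ∃ (y : S) (φ : y ⟶ x), p.IsHomLift f φ := by
  subst hx
  exact h.exists_lift f

end Basic

section Cover

variable {C : Type u} [Category.{v} C] (J : GrothendieckTopology C)

/-- A property of arrows into `U` which holds locally on a covering sieve holds on a covering
sieve. -/
theorem exists_cover_of_local {U : C} (P : ∀ ⦃V : C⦄, (V ⟶ U) → Prop) (R : Sieve U) (hR : R ∈ J U)
    (h : ∀ ⦃V : C⦄ (f : V ⟶ U), R f → ∃ R' ∈ J V, ∀ ⦃W : C⦄ (g : W ⟶ V), R' g → P (g ≫ f)) :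
    ∃ R'' ∈ J U, ∀ ⦃W : C⦄ (k : W ⟶ U), R'' k → P k := by
  classical
  choose R' hR' hP using h
  refine ⟨Sieve.bind R (fun V f hf => R' f hf), J.bind_covering hR (fun V f hf => hR' f hf), ?_⟩
  rintro W k ⟨V, g, f, hf, hg, rfl⟩
  exact hP f hf g hg

end Cover

section Gerbe

variable {C : Type u} [Category.{v} C] (J : GrothendieckTopology C)
  {𝒳 : BasedCategory.{v₂, u₂} C} {𝒴 : BasedCategory.{v₃, u₃} C}

/-- `LocSurjObj` with a free base object. -/
theorem locSurjObj_free {F : 𝒳 ⥤ᵇ 𝒴} (h : Gerb.LocSurjObj J F) {U : C} (y : 𝒴.obj)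
    (hy : 𝒴.p.obj y = U) :
    ∃ R ∈ J U, ∀ ⦃V : C⦄ (f : V ⟶ U), R f →
      ∃ (x : 𝒳.obj) (g : F.obj x ⟶ y), 𝒴.p.IsHomLift f g := by
  subst hy
  exact h y

/-- `LocSurjHom` with a free base object. -/
theorem locSurjHom_free {F : 𝒳 ⥤ᵇ 𝒴} (h : Gerb.LocSurjHom J F) {U : C} (x x' : 𝒳.obj)
    (b : F.obj x ⟶ F.obj x') (hb : 𝒴.p.IsHomLift (𝟙 U) b) :
    ∃ R ∈ J U, ∀ ⦃V : C⦄ (f : V ⟶ U), R f →
      ∃ (x₀ : 𝒳.obj) (φ : x₀ ⟶ x) (ψ : x₀ ⟶ x'),
        𝒳.p.IsHomLift f φ ∧ 𝒳.p.IsHomLift f ψ ∧ F.map φ ≫ b = F.map ψ := by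
  have hU : 𝒳.p.obj x = U := (F.w_obj x).symm.trans (IsHomLift.domain_eq 𝒴.p (𝟙 U) b)
  subst hU
  exact h x x' b hb

end Gerbe

end Groth.Agent.H84
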