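import Groth.Agent.H84.GerbeAux

set_option autoImplicit false
open CategoryTheory
universe v₅ u₅ v₄ u₄ v₃ u₃ v₂ u₂ v u

namespace Groth.Agent.H84

variable {C : Type u} [Category.{v} C] (J : GrothendieckTopology C)

section Comp

variable {𝒳 : BasedCategory.{v₂, u₂} C} {𝒴 : BasedCategory.{v₃, u₃} C}
  {𝒵 : BasedCategory.{v₄, u₄} C}

/-- Composition of gerbes (universe polymorphic form). -/
theorem isGerbeOver_comp (fX : FibCat.IsFibGrpd 𝒳.p) (fY : FibCat.IsFibGrpd 𝒴.p)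
    (F : 𝒳 ⥤ᵇ 𝒴) (G : 𝒴 ⥤ᵇ 𝒵)
    (hF : Gerb.IsGerbeOver J F) (hG : Gerb.IsGerbeOver J G) :
    Gerb.IsGerbeOver J (BasedFunctor.comp F G) := by
  refine ⟨?_, ?_⟩
  · intro z
    obtain ⟨R, hR, hRz⟩ := hG.1 z
    refine exists_cover_of_local J
      (fun V k => ∃ (x : 𝒳.obj) (g : (BasedFunctor.comp F G).obj x ⟶ z), 𝒵.p.IsHomLift k g) R hR ?_
    intro V f hf
    obtain ⟨y, g, hg⟩ := hRz f hf
    have hy : 𝒴.p.obj y = V := (G.w_obj y).symm.trans (IsHomLift.domain_eq 𝒵.p f g)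
    obtain ⟨R', hR', hRy⟩ := locSurjObj_free J hF.1 y hy
    refine ⟨R', hR', ?_⟩
    intro W k hk
    obtain ⟨x, γ, hγ⟩ := hRy k hk
    have h1 : 𝒵.p.IsHomLift k (G.map γ) := inferInstance
    have h2 : 𝒵.p.IsHomLift f g := hg
    have h3 : 𝒵.p.IsHomLift (k ≫ f) (G.map γ ≫ g) := inferInstance
    exact ⟨x, G.map γ ≫ g, h3⟩
  · intro x x' b hb
    let b' : G.obj (F.obj x) ⟶ G.obj (F.obj x') := b
    have hb' : 𝒵.p.IsHomLift (𝟙 (𝒳.p.obj x)) b' := hb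
    obtain ⟨R, hR, hRb⟩ := locSurjHom_free J hG.2 (F.obj x) (F.obj x') b' hb'
    refine exists_cover_of_local J
      (fun V k => ∃ (x₀ : 𝒳.obj) (φ : x₀ ⟶ x) (ψ : x₀ ⟶ x'),
        𝒳.p.IsHomLift k φ ∧ 𝒳.p.IsHomLift k ψ ∧
          (BasedFunctor.comp F G).map φ ≫ b = (BasedFunctor.comp F G).map ψ) R hR ?_
    intro V f hf
    obtain ⟨y₀, φ, ψ, hφ, hψ, hφψ⟩ := hRb f hf
    obtain ⟨xa, α, hα⟩ := fX.exists_lift (x := x) f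
    have hx' : 𝒳.p.obj x' = 𝒳.p.obj x := by
      have h1 := IsHomLift.codomain_eq 𝒵.p (𝟙 (𝒳.p.obj x)) b
      have h2 : 𝒵.p.obj (G.obj (F.obj x')) = 𝒳.p.obj x' :=
        (G.w_obj (F.obj x')).trans (F.w_obj x')
      exact h2.symm.trans h1
    obtain ⟨xb, β, hβ⟩ := exists_lift_free 𝒳.p fX hx' f
    have hFα : 𝒴.p.IsHomLift f (F.map α) := inferInstance
    have hFβ : 𝒴.p.IsHomLift f (F.map β) := inferInstance
    obtain ⟨χ, hχ, hχφ⟩ := exists_factor_of_fibGrpd 𝒴.p fY f (𝟙 V) f (by simp) φ (F.map α)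
    have hχψ : 𝒴.p.IsHomLift f (χ ≫ ψ) := inferInstance
    obtain ⟨c, hc, hcβ⟩ := exists_factor_of_fibGrpd 𝒴.p fY f (𝟙 V) f (by simp) (F.map β) (χ ≫ ψ)
    obtain ⟨R₂, hR₂, hRc⟩ := locSurjHom_free J hF.2 xa xb c hc
    refine ⟨R₂, hR₂, ?_⟩
    intro W k hk
    obtain ⟨x₂, φ₂, ψ₂, hφ₂, hψ₂, h₂⟩ := hRc k hk
    refine ⟨x₂, φ₂ ≫ α, ψ₂ ≫ β, inferInstance, inferInstance, ?_⟩
    change G.map (F.map (φ₂ ≫ α)) ≫ b' = G.map (F.map (ψ₂ ≫ β))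
    rw [F.map_comp, F.map_comp, ← h₂, Category.assoc, hcβ, ← hχφ]
    simp only [Functor.map_comp, Category.assoc]
    rw [hφψ]

end Comp

section Equiv

variable {𝒳 : BasedCategory.{v₂, u₂} C} {𝒴 : BasedCategory.{v₃, u₃} C}
  {𝒵 : BasedCategory.{v₄, u₄} C}

/-- An equivalence over `C` has a fully faithful underlying functor, and every object of the
target is isomorphic over the identity to an image. -/
theorem equivOver_props {E : 𝒳 ⥤ᵇ 𝒴} (hE : FibCat.IsEquivOver E) :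
    E.toFunctor.Full ∧ E.toFunctor.Faithful ∧
      ∀ y : 𝒴.obj, ∃ (x : 𝒳.obj) (ε : E.obj x ⟶ y), 𝒴.p.IsHomLift (𝟙 (𝒴.p.obj y)) ε := by
  obtain ⟨G, ⟨η⟩, ⟨ε⟩⟩ := hE
  let unitIso : E.toFunctor ⋙ G.toFunctor ≅ 𝟭 𝒳.obj := (BasedNatTrans.forgetful _ _).mapIso η
  let counitIso : G.toFunctor ⋙ E.toFunctor ≅ 𝟭 𝒴.obj := (BasedNatTrans.forgetful _ _).mapIso ε
  let e : 𝒳.obj ≌ 𝒴.obj := CategoryTheory.Equivalence.mk E.toFunctor G.toFunctor unitIso.symm counitIso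
  have hEq : E.toFunctor.IsEquivalence := inferInstanceAs (e.functor.IsEquivalence)
  refine ⟨inferInstance, inferInstance, fun y => ⟨G.obj y, counitIso.hom.app y, ?_⟩⟩
  exact ε.hom.isHomLift' y

/-- Precomposing a gerbe with an equivalence over `C` gives a gerbe. -/
theorem isGerbeOver_equiv_comp (E : 𝒳 ⥤ᵇ 𝒴) (hE : FibCat.IsEquivOver E) (H : 𝒴 ⥤ᵇ 𝒵)
    (hH : Gerb.IsGerbeOver J H) : Gerb.IsGerbeOver J (BasedFunctor.comp E H) := by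
  obtain ⟨hfull, hfaith, hess⟩ := equivOver_props hE
  refine ⟨?_, ?_⟩
  · intro z
    obtain ⟨R, hR, hRz⟩ := hH.1 z
    refine ⟨R, hR, fun V f hf => ?_⟩
    obtain ⟨y, g, hg⟩ := hRz f hf
    obtain ⟨x, ε, hε⟩ := hess y
    have hy : 𝒴.p.obj y = V := (H.w_obj y).symm.trans (IsHomLift.domain_eq 𝒵.p f g)
    have hε' : 𝒴.p.IsHomLift (𝟙 V) ε := by subst hy; exact hε
    have h1 : 𝒵.p.IsHomLift (𝟙 V) (H.map ε) := inferInstance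
    have h2 : 𝒵.p.IsHomLift f g := hg
    have h3 : 𝒵.p.IsHomLift f (H.map ε ≫ g) := inferInstance
    exact ⟨x, H.map ε ≫ g, h3⟩
  · intro x x' b hb
    let b' : H.obj (E.obj x) ⟶ H.obj (E.obj x') := b
    have hb' : 𝒵.p.IsHomLift (𝟙 (𝒳.p.obj x)) b' := hb
    obtain ⟨R, hR, hRb⟩ := locSurjHom_free J hH.2 (E.obj x) (E.obj x') b' hb'
    refine ⟨R, hR, fun V f hf => ?_⟩
    obtain ⟨y₀, φ, ψ, hφ, hψ, hφψ⟩ := hRb f hf
    obtain ⟨x₀, ε, hε⟩ := hess y₀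
    have hy : 𝒴.p.obj y₀ = V := IsHomLift.domain_eq 𝒴.p f φ
    have hε' : 𝒴.p.IsHomLift (𝟙 V) ε := by subst hy; exact hε
    obtain ⟨φ', hφ'⟩ := E.toFunctor.map_surjective (ε ≫ φ)
    obtain ⟨ψ', hψ'⟩ := E.toFunctor.map_surjective (ε ≫ ψ)
    have h1 : 𝒴.p.IsHomLift f (ε ≫ φ) := inferInstance
    have h2 : 𝒴.p.IsHomLift f (ε ≫ ψ) := inferInstance
    have h3 : 𝒳.p.IsHomLift f φ' := by
      rw [← BasedFunctor.isHomLift_iff E]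
      rw [hφ']; exact h1
    have h4 : 𝒳.p.IsHomLift f ψ' := by
      rw [← BasedFunctor.isHomLift_iff E]
      rw [hψ']; exact h2
    refine ⟨x₀, φ', ψ', h3, h4, ?_⟩
    change H.map (E.toFunctor.map φ') ≫ b' = H.map (E.toFunctor.map ψ')
    rw [hφ', hψ', H.map_comp, H.map_comp, Category.assoc, hφψ]

end Equiv

section Fp

variable {𝒳 : BasedCategory.{v₂, u₂} C} {𝒴 : BasedCategory.{v₃, u₃} C}
  {𝒴' : BasedCategory.{v₄, u₄} C}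

/-- Base change of a gerbe: the first projection of `𝒴' ×_𝒴 𝒳` is a gerbe over `𝒴'`. -/
theorem isGerbeOver_fpFst (fY' : FibCat.IsFibGrpd 𝒴'.p) (fY : FibCat.IsFibGrpd 𝒴.p)
    (F : 𝒳 ⥤ᵇ 𝒴) (G : 𝒴' ⥤ᵇ 𝒴) (hF : Gerb.IsGerbeOver J F) :
    Gerb.IsGerbeOver J (FibCat.fpFst G F) := by
  refine ⟨?_, ?_⟩
  · intro y'
    obtain ⟨R, hR, hRy⟩ := locSurjObj_free J hF.1 (G.obj y') (G.w_obj y')
    refine ⟨R, hR, fun V f hf => ?_⟩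
    obtain ⟨x, g, hg⟩ := hRy f hf
    obtain ⟨y'f, lam, hlam⟩ := fY'.exists_lift (x := y') f
    have h1 : 𝒴.p.IsHomLift f (G.map lam) := inferInstance
    obtain ⟨θ, hθ, hθg⟩ := exists_factor_of_fibGrpd 𝒴.p fY f (𝟙 V) f (by simp) (G.map lam) g
    have hiso : IsIso θ := isIso_of_fibGrpd 𝒴.p fY (𝟙 V) θ
    have hV : 𝒴'.p.obj y'f = V := IsHomLift.domain_eq 𝒴'.p f lam
    have hinv : 𝒴.p.IsHomLift (𝟙 V) (inv θ) := inferInstance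
    have hprop : 𝒴.p.IsHomLift (𝟙 (𝒴'.p.obj y'f)) (asIso θ).symm.hom := by
      subst hV; exact hinv
    let ξ : (FibCat.fp G F).obj := ⟨⟨y'f, x, (asIso θ).symm⟩, hprop⟩
    exact ⟨ξ, lam, hlam⟩
  · intro ξ ξ' b hb
    obtain ⟨U, hU⟩ : ∃ U : C, U = 𝒴'.p.obj ξ.obj.fst := ⟨_, rfl⟩
    let b' : ξ.obj.fst ⟶ ξ'.obj.fst := b
    have hb' : 𝒴'.p.IsHomLift (𝟙 U) b' := by rw [hU]; exact hb
    have hU' : 𝒴'.p.obj ξ'.obj.fst = U := IsHomLift.codomain_eq 𝒴'.p (𝟙 U) b'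
    have hi₁ : 𝒴.p.IsHomLift (𝟙 U) ξ.obj.iso.hom := by rw [hU]; exact ξ.property
    have hi₁' : 𝒴.p.IsHomLift (𝟙 U) ξ.obj.iso.inv := IsHomLift.lift_id_inv 𝒴.p U ξ.obj.iso
    have hi₂ : 𝒴.p.IsHomLift (𝟙 U) ξ'.obj.iso.hom := by
      have := ξ'.property
      change 𝒴.p.IsHomLift (𝟙 (𝒴'.p.obj ξ'.obj.fst)) ξ'.obj.iso.hom at this
      rw [hU'] at this
      exact this
    have hGb : 𝒴.p.IsHomLift (𝟙 U) (G.map b') := inferInstance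
    let β : F.obj ξ.obj.snd ⟶ F.obj ξ'.obj.snd := ξ.obj.iso.inv ≫ G.map b' ≫ ξ'.obj.iso.hom
    have hβ : 𝒴.p.IsHomLift (𝟙 U) β := inferInstance
    obtain ⟨R, hR, hRβ⟩ := locSurjHom_free J hF.2 ξ.obj.snd ξ'.obj.snd β hβ
    subst hU
    refine ⟨R, hR, fun V (f : V ⟶ 𝒴'.p.obj ξ.obj.fst) hf => ?_⟩
    obtain ⟨x₀, φ, ψ, hφ, hψ, hφψ⟩ := hRβ f hf
    obtain ⟨y'₀, lam, hlam⟩ := fY'.exists_lift (x := ξ.obj.fst) f
    have h1 : 𝒴.p.IsHomLift f (G.map lam) := inferInstance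
    have h2 : 𝒴.p.IsHomLift f (G.map lam ≫ ξ.obj.iso.hom) := inferInstance
    have h3 : 𝒴.p.IsHomLift f (F.map φ) := inferInstance
    obtain ⟨i₀, hi₀, hi₀φ⟩ := exists_factor_of_fibGrpd 𝒴.p fY f (𝟙 V) f (by simp) (F.map φ)
      (G.map lam ≫ ξ.obj.iso.hom)
    have hiso : IsIso i₀ := isIso_of_fibGrpd 𝒴.p fY (𝟙 V) i₀
    have hV : 𝒴'.p.obj y'₀ = V := IsHomLift.domain_eq 𝒴'.p f lam
    have hprop : 𝒴.p.IsHomLift (𝟙 (𝒴'.p.obj y'₀)) (asIso i₀).hom := by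
      subst hV; exact hi₀
    let ξ₀ : (FibCat.fp G F).obj := ⟨⟨y'₀, x₀, asIso i₀⟩, hprop⟩
    let Φ : ξ₀ ⟶ ξ := ObjectProperty.homMk ⟨lam, φ, hi₀φ.symm⟩
    have w' : G.map (lam ≫ b') ≫ ξ'.obj.iso.hom = (asIso i₀).hom ≫ F.map ψ := by
      change _ = i₀ ≫ F.map ψ
      rw [← hφψ, ← Category.assoc, hi₀φ]
      simp [β]
    let Ψ : ξ₀ ⟶ ξ' := ObjectProperty.homMk ⟨lam ≫ b', ψ, w'⟩
    have hc1 := IsHomLift.codomain_eq 𝒴'.p f lam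
    have hf1 := IsHomLift.fac 𝒴'.p f lam
    have hΦ : (FibCat.fp G F).p.IsHomLift f Φ :=
      IsHomLift.of_fac (FibCat.fp G F).p f Φ hV hc1 hf1
    have h4 : 𝒴'.p.IsHomLift f (lam ≫ b') := inferInstance
    have hc2 := IsHomLift.codomain_eq 𝒴'.p f (lam ≫ b')
    have hf2 := IsHomLift.fac 𝒴'.p f (lam ≫ b')
    have hΨ : (FibCat.fp G F).p.IsHomLift f Ψ :=
      IsHomLift.of_fac (FibCat.fp G F).p f Ψ hV hc2 hf2
    exact ⟨ξ₀, Φ, Ψ, hΦ, hΨ, rfl⟩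

end Fp

end Groth.Agent.H84
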