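import Groth.Agent.H84.GerbeGlue
import Mathlib.CategoryTheory.Sites.Sheaf
import Mathlib.Algebra.Category.Grp.Limits

set_option autoImplicit false
open CategoryTheory CategoryTheory.Limits Opposite
universe v u

namespace Groth.Agent.H84.GerbeBand

open Groth.Agent.H32 Groth.Agent.H64 Groth.Agent.H84.GerbeGlue

variable {C : Type u} [Category.{v} C] (𝒮 : BasedCategory.{v, max u v} C)

section presheaf

theorem autO_mul_hom {x : 𝒮.obj} (α β : Gerb.AutO x) : (α * β).hom.1 = β.hom.1 ≫ α.hom.1 := rfl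

theorem autO_one_hom {x : 𝒮.obj} : (1 : Gerb.AutO x).hom.1 = 𝟙 x := rfl

theorem autO_inv_hom {x : 𝒮.obj} (α : Gerb.AutO x) : (α⁻¹).hom.1 = α.inv.1 := rfl

theorem autO_hom_inv {x : 𝒮.obj} (α : Gerb.AutO x) : α.hom.1 ≫ α.inv.1 = 𝟙 x :=
  congrArg Subtype.val α.hom_inv_id

theorem autO_inv_hom' {x : 𝒮.obj} (α : Gerb.AutO x) : α.inv.1 ≫ α.hom.1 = 𝟙 x :=
  congrArg Subtype.val α.inv_hom_id

theorem autO_ext {x : 𝒮.obj} {α β : Gerb.AutO x} (h : α.hom.1 = β.hom.1) : α = β := by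
  apply Aut.ext
  apply Functor.Fiber.hom_ext
  exact h

/-- The group of families of automorphisms over identities of all objects equipped with a map
to `U`, natural along all morphisms: sections over `U` of the band of `𝒮`. -/
def centSub (U : C) : Subgroup (∀ x : 𝒮.obj, (𝒮.p.obj x ⟶ U) → Gerb.AutO x) where
  carrier := {a | ∀ ⦃x' x : 𝒮.obj⦄ (φ : x' ⟶ x) (f : 𝒮.p.obj x ⟶ U),
    (a x' (𝒮.p.map φ ≫ f)).hom.1 ≫ φ = φ ≫ (a x f).hom.1}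
  mul_mem' := by
    intro a b ha hb x' x φ f
    change ((a x' (𝒮.p.map φ ≫ f)) * (b x' (𝒮.p.map φ ≫ f))).hom.1 ≫ φ =
      φ ≫ ((a x f) * (b x f)).hom.1
    rw [autO_mul_hom, autO_mul_hom, Category.assoc, ha φ f, ← Category.assoc, hb φ f,
      Category.assoc]
  one_mem' := by
    intro x' x φ f
    change (1 : Gerb.AutO x').hom.1 ≫ φ = φ ≫ (1 : Gerb.AutO x).hom.1
    rw [autO_one_hom, autO_one_hom, Category.id_comp, Category.comp_id]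
  inv_mem' := by
    intro a ha x' x φ f
    change ((a x' (𝒮.p.map φ ≫ f))⁻¹).hom.1 ≫ φ = φ ≫ ((a x f)⁻¹).hom.1
    rw [autO_inv_hom, autO_inv_hom]
    have h := ha φ f
    calc (a x' (𝒮.p.map φ ≫ f)).inv.1 ≫ φ
        = (a x' (𝒮.p.map φ ≫ f)).inv.1 ≫ φ ≫ (a x f).hom.1 ≫ (a x f).inv.1 := by
          rw [autO_hom_inv, Category.comp_id]
      _ = (a x' (𝒮.p.map φ ≫ f)).inv.1 ≫ ((a x' (𝒮.p.map φ ≫ f)).hom.1 ≫ φ) ≫ (a x f).inv.1 := by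
          rw [h, Category.assoc]
      _ = φ ≫ (a x f).inv.1 := by
          rw [Category.assoc, ← Category.assoc, autO_inv_hom', Category.id_comp]

variable {𝒮}

theorem centSub_nat {U : C} (a : centSub 𝒮 U) ⦃x' x : 𝒮.obj⦄ (φ : x' ⟶ x) (f : 𝒮.p.obj x ⟶ U) :
    (a.1 x' (𝒮.p.map φ ≫ f)).hom.1 ≫ φ = φ ≫ (a.1 x f).hom.1 := a.2 φ f

theorem centSub_ext {U : C} {a b : centSub 𝒮 U}
    (h : ∀ (x : 𝒮.obj) (f : 𝒮.p.obj x ⟶ U), (a.1 x f).hom.1 = (b.1 x f).hom.1) : a = b := by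
  apply Subtype.ext
  funext x f
  exact autO_ext 𝒮 (h x f)

/-- restriction of sections of the band -/
def res {U V : C} (g : V ⟶ U) : centSub 𝒮 U →* centSub 𝒮 V where
  toFun a := ⟨fun x f => a.1 x (f ≫ g), by
    intro x' x φ f
    have := a.2 φ (f ≫ g)
    rw [← Category.assoc] at this
    exact this⟩
  map_one' := rfl
  map_mul' _ _ := rfl

@[simp] theorem res_apply {U V : C} (g : V ⟶ U) (a : centSub 𝒮 U) (x : 𝒮.obj)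
    (f : 𝒮.p.obj x ⟶ V) : ((res g a).1 x f) = a.1 x (f ≫ g) := rfl

variable (𝒮)

/-- the band of `𝒮` as a presheaf of groups -/
def bandPsh : Cᵒᵖ ⥤ GrpCat.{max u v} where
  obj U := GrpCat.of (centSub 𝒮 U.unop)
  map {U V} g := GrpCat.ofHom (res g.unop)
  map_id U := by
    apply GrpCat.hom_ext
    apply MonoidHom.ext
    intro a
    apply centSub_ext
    intro x f
    change (a.1 x (f ≫ 𝟙 _)).hom.1 = (a.1 x f).hom.1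
    rw [Category.comp_id]
  map_comp {U V W} g h := by
    apply GrpCat.hom_ext
    apply MonoidHom.ext
    intro a
    apply centSub_ext
    intro x f
    change (a.1 x (f ≫ (h.unop ≫ g.unop))).hom.1 = (a.1 x ((f ≫ h.unop) ≫ g.unop)).hom.1
    rw [Category.assoc]

variable {𝒮}

/-- evaluation of a section of the band at an object -/
def ev (x : 𝒮.obj) : centSub 𝒮 (𝒮.p.obj x) →* Gerb.AutO x where
  toFun a := a.1 x (𝟙 _)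
  map_one' := rfl
  map_mul' _ _ := rfl

end presheaf

section lifts

variable {𝒮}

theorem map_eq_of_lift {a b : 𝒮.obj} {f : 𝒮.p.obj a ⟶ 𝒮.p.obj b} {φ : a ⟶ b}
    (h : 𝒮.p.IsHomLift f φ) : 𝒮.p.map φ = f := by
  have := IsHomLift.fac 𝒮.p f φ
  simpa using this.symm

theorem lift_map_comp {V Z : C} {y t z : 𝒮.obj} {h : V ⟶ 𝒮.p.obj y} {ψ : t ⟶ y}
    (hψ : 𝒮.p.IsHomLift h ψ) {g : 𝒮.p.obj y ⟶ Z} {c : t ⟶ z}
    (hc : 𝒮.p.IsHomLift (h ≫ g) c) : 𝒮.p.IsHomLift (𝒮.p.map ψ ≫ g) c := by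
  have hV : 𝒮.p.obj t = V := lift_domain_eq 𝒮.p hψ
  subst hV
  rw [map_eq_of_lift hψ]
  exact hc

theorem sieve_mem_of_lift {U V : C} {y t : 𝒮.obj} {h : V ⟶ 𝒮.p.obj y} {ψ : t ⟶ y}
    (hψ : 𝒮.p.IsHomLift h ψ) (R : Sieve U) (f : 𝒮.p.obj y ⟶ U) (hh : R (h ≫ f)) :
    R (𝒮.p.map ψ ≫ f) := by
  have hV : 𝒮.p.obj t = V := lift_domain_eq 𝒮.p hψ
  subst hV
  rw [map_eq_of_lift hψ]
  exact hh

end lifts

section gerbe

variable {𝒮}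

/-- pullback of an endomorphism over the identity along a morphism -/
theorem exists_pull (hfg : FibCat.IsFibGrpd 𝒮.p) {x : 𝒮.obj} (α : x ⟶ x)
    (hα : 𝒮.p.IsHomLift (𝟙 (𝒮.p.obj x)) α) {s : 𝒮.obj} (c : s ⟶ x) :
    ∃ P : s ⟶ s, 𝒮.p.IsHomLift (𝟙 (𝒮.p.obj s)) P ∧ P ≫ c = c ≫ α :=
  cart_lift_id 𝒮.p (cart_of_fibGrpd 𝒮.p hfg (lift_map 𝒮.p c)) (c ≫ α)
    (lift_comp_id_right 𝒮.p (lift_map 𝒮.p c) hα)

theorem comm_hom (hfg : FibCat.IsFibGrpd 𝒮.p)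
    (hcomm : ∀ (x : 𝒮.obj) (α β : Gerb.AutO x), α * β = β * α) {y : 𝒮.obj} (β γ : y ⟶ y)
    (hβ : 𝒮.p.IsHomLift (𝟙 (𝒮.p.obj y)) β) (hγ : 𝒮.p.IsHomLift (𝟙 (𝒮.p.obj y)) γ) :
    β ≫ γ = γ ≫ β := by
  obtain ⟨b, hb⟩ := exists_autO hfg β hβ
  obtain ⟨c, hc⟩ := exists_autO hfg γ hγ
  have h2 : (b * c).hom.1 = (c * b).hom.1 := congrArg (fun t => t.hom.1) (hcomm y b c)
  rw [autO_mul_hom, autO_mul_hom, hb, hc] at h2
  exact h2.symm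

/-- Pullbacks of a central automorphism are compatible with all morphisms between the
pullbacks. -/
theorem pull_compat (hfg : FibCat.IsFibGrpd 𝒮.p)
    (hcomm : ∀ (x : 𝒮.obj) (α β : Gerb.AutO x), α * β = β * α) {x : 𝒮.obj} (α : x ⟶ x)
    {s s' : 𝒮.obj} (c : s ⟶ x) (c' : s' ⟶ x) (k : s' ⟶ s) {V : C} (g : V ⟶ 𝒮.p.obj x)
    (hc' : 𝒮.p.IsHomLift g c') (hkc : 𝒮.p.IsHomLift g (k ≫ c)) (P : s ⟶ s) (P' : s' ⟶ s')
    (hP : 𝒮.p.IsHomLift (𝟙 (𝒮.p.obj s)) P) (hP' : 𝒮.p.IsHomLift (𝟙 (𝒮.p.obj s')) P')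
    (hPc : P ≫ c = c ≫ α) (hPc' : P' ≫ c' = c' ≫ α) : P' ≫ k = k ≫ P := by
  have hsc' : 𝒮.p.IsStronglyCartesian g c' := cart_of_fibGrpd 𝒮.p hfg hc'
  obtain ⟨β, hβ, hβfac⟩ := cart_lift_id 𝒮.p hsc' (k ≫ c) hkc
  have hV : V = 𝒮.p.obj s' := (lift_domain_eq 𝒮.p hc').symm
  have hβ' : 𝒮.p.IsHomLift (𝟙 (𝒮.p.obj s')) β := lift_id_congr 𝒮.p hβ hV
  have hcm : β ≫ P' = P' ≫ β := comm_hom hfg hcomm β P' hβ' hP'
  have hsc : 𝒮.p.IsStronglyCartesian (𝒮.p.map c) c := cart_of_fibGrpd 𝒮.p hfg (lift_map 𝒮.p c)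
  apply cart_ext 𝒮.p hsc (𝒮.p.map k) (lift_comp_id_left 𝒮.p hP' (lift_map 𝒮.p k))
    (lift_comp_id_right 𝒮.p (lift_map 𝒮.p k) hP)
  calc (P' ≫ k) ≫ c = P' ≫ β ≫ c' := by rw [Category.assoc, hβfac]
    _ = β ≫ P' ≫ c' := by rw [← Category.assoc, ← hcm, Category.assoc]
    _ = β ≫ c' ≫ α := by rw [hPc']
    _ = k ≫ c ≫ α := by rw [← Category.assoc, hβfac, Category.assoc]
    _ = (k ≫ P) ≫ c := by rw [← hPc, Category.assoc]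

/-- The sieve of arrows `h` into the object under `y` over which `y` becomes a pullback of `x`,
compatibly with `f`. -/
def relSieve (hfg : FibCat.IsFibGrpd 𝒮.p) (x y : 𝒮.obj) (f : 𝒮.p.obj y ⟶ 𝒮.p.obj x) :
    Sieve (𝒮.p.obj y) where
  arrows V h := ∃ (s : 𝒮.obj) (ψ : s ⟶ y) (c : s ⟶ x),
    𝒮.p.IsHomLift h ψ ∧ 𝒮.p.IsHomLift (h ≫ f) c
  downward_closed := by
    rintro V W h ⟨s, ψ, c, hψ, hc⟩ k
    obtain ⟨s₁, e, he⟩ := exists_lift_free 𝒮.p hfg (lift_domain_eq 𝒮.p hψ) k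
    exact ⟨s₁, e ≫ ψ, e ≫ c, lift_comp 𝒮.p he hψ,
      lift_of_eq 𝒮.p (lift_comp 𝒮.p he hc) (Category.assoc _ _ _).symm⟩

theorem relSieve_mem (J : GrothendieckTopology C) (h𝒮 : Gerb.IsGerbe J 𝒮) (x y : 𝒮.obj)
    (f : 𝒮.p.obj y ⟶ 𝒮.p.obj x) : relSieve h𝒮.1.1 x y f ∈ J (𝒮.p.obj y) := by
  obtain ⟨xy, e, he⟩ := h𝒮.1.1.exists_lift f
  have hxy : 𝒮.p.obj xy = 𝒮.p.obj y := lift_domain_eq 𝒮.p he
  have hb : (FibCat.selfOver C).p.IsHomLift (𝟙 (𝒮.p.obj y))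
      (eqToHom hxy.symm : (FibCat.toSelf 𝒮).obj y ⟶ (FibCat.toSelf 𝒮).obj xy) :=
    lift_eqToHom _ _ rfl
  obtain ⟨R, hR, hloc⟩ := locSurjHom_free J h𝒮.2.2 y xy _ hb
  refine J.superset_covering ?_ hR
  intro V h hh
  obtain ⟨s, a, b, ha, hb', -⟩ := hloc h hh
  exact ⟨s, a, b ≫ e, ha, lift_comp 𝒮.p hb' he⟩

end gerbe

section central

variable {𝒮} (J : GrothendieckTopology C)

/-- Extension of an automorphism of `x` to a family of automorphisms of all objects over the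
object under `x`, characterised on pullbacks of `x`. -/
theorem central_ext (h𝒮 : Gerb.IsGerbe J 𝒮)
    (hcomm : ∀ (x : 𝒮.obj) (α β : Gerb.AutO x), α * β = β * α) (x : 𝒮.obj) (α : x ⟶ x)
    (hα : 𝒮.p.IsHomLift (𝟙 (𝒮.p.obj x)) α) :
    ∃ a : ∀ (y : 𝒮.obj), (𝒮.p.obj y ⟶ 𝒮.p.obj x) → (y ⟶ y),
      (∀ y f, 𝒮.p.IsHomLift (𝟙 (𝒮.p.obj y)) (a y f)) ∧
      (∀ (y : 𝒮.obj) (f : 𝒮.p.obj y ⟶ 𝒮.p.obj x) (s : 𝒮.obj) (ψ : s ⟶ y) (c : s ⟶ x) (P : s ⟶ s),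
        𝒮.p.IsHomLift (𝒮.p.map ψ ≫ f) c → 𝒮.p.IsHomLift (𝟙 (𝒮.p.obj s)) P → P ≫ c = c ≫ α →
        ψ ≫ a y f = P ≫ ψ) := by
  have hfg : FibCat.IsFibGrpd 𝒮.p := h𝒮.1.1
  have hP₀ : ∀ (s : 𝒮.obj) (c : s ⟶ x), ∃ P : s ⟶ s,
      𝒮.p.IsHomLift (𝟙 (𝒮.p.obj s)) P ∧ P ≫ c = c ≫ α := fun s c => exists_pull hfg α hα c
  choose P₀ hP₀l hP₀fac using hP₀
  have hmain : ∀ (y : 𝒮.obj) (f : 𝒮.p.obj y ⟶ 𝒮.p.obj x), ∃ a : y ⟶ y,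
      𝒮.p.IsHomLift (𝟙 (𝒮.p.obj y)) a ∧
      ∀ (s : 𝒮.obj) (ψ : s ⟶ y) (c : s ⟶ x) (P : s ⟶ s),
        𝒮.p.IsHomLift (𝒮.p.map ψ ≫ f) c → 𝒮.p.IsHomLift (𝟙 (𝒮.p.obj s)) P → P ≫ c = c ≫ α →
        ψ ≫ a = P ≫ ψ := by
    intro y f
    have hR : relSieve hfg x y f ∈ J (𝒮.p.obj y) := relSieve_mem J h𝒮 x y f
    have hfull : (Stk.resSieve (relSieve hfg x y f) 𝒮).Full := by
      have : (Stk.resSieve (relSieve hfg x y f) 𝒮).IsEquivalence := h𝒮.1.2 _ hR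
      infer_instance
    have htriv : ∀ ⦃V : C⦄ (h : V ⟶ 𝒮.p.obj y), relSieve hfg x y f h →
        ∃ (s : 𝒮.obj) (ψ : s ⟶ y) (c : s ⟶ x),
          𝒮.p.IsHomLift h ψ ∧ 𝒮.p.IsHomLift (h ≫ f) c := fun V h hh => hh
    choose S₀ Ψ₀ C₀ hΨ₀ hC₀ using htriv
    have hθ : ∀ ⦃V : C⦄ (h : V ⟶ 𝒮.p.obj y) (hh : relSieve hfg x y f h) (t : 𝒮.obj)
        (ψ : t ⟶ y), 𝒮.p.IsHomLift h ψ →
        ∃ θ : t ⟶ S₀ h hh, 𝒮.p.IsHomLift (𝟙 V) θ ∧ θ ≫ Ψ₀ h hh = ψ := by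
      intro V h hh t ψ hψ
      exact cart_lift_id 𝒮.p (cart_of_fibGrpd 𝒮.p hfg (hΨ₀ h hh)) ψ hψ
    choose Θ hΘl hΘfac using hθ
    have hΘC : ∀ ⦃V : C⦄ (h : V ⟶ 𝒮.p.obj y) (hh : relSieve hfg x y f h) (t : 𝒮.obj)
        (ψ : t ⟶ y) (hψ : 𝒮.p.IsHomLift h ψ),
        𝒮.p.IsHomLift (h ≫ f) (Θ h hh t ψ hψ ≫ C₀ h hh) := fun V h hh t ψ hψ =>
      lift_comp_id_left 𝒮.p (hΘl h hh t ψ hψ) (hC₀ h hh)
    obtain ⟨a, ha, hafac⟩ := glue_hom hfg (relSieve hfg x y f) hfull (t := y) (t' := y) rfl rfl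
      (fun V h hh t ψ hψ => P₀ t (Θ h hh t ψ hψ ≫ C₀ h hh) ≫ ψ)
      (fun V h hh t ψ hψ => lift_comp_id_left 𝒮.p
        (lift_id_congr 𝒮.p (hP₀l t _) (lift_domain_eq 𝒮.p hψ)) hψ)
      (fun V V' h hh h' hh' u hu t t' ψ hψ ψ' hψ' k hk hfac => by
        have hkc : 𝒮.p.IsHomLift (h' ≫ f) (k ≫ Θ h hh t ψ hψ ≫ C₀ h hh) := by
          have := lift_comp 𝒮.p hk (hΘC h hh t ψ hψ)
          rw [← Category.assoc, hu] at this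
          exact this
        have := pull_compat hfg hcomm α (Θ h hh t ψ hψ ≫ C₀ h hh) (Θ h' hh' t' ψ' hψ' ≫ C₀ h' hh')
          k (h' ≫ f) (hΘC h' hh' t' ψ' hψ') hkc _ _ (hP₀l _ _) (hP₀l _ _) (hP₀fac _ _)
          (hP₀fac _ _)
        exact (congrArg (P₀ t' (Θ h' hh' t' ψ' hψ' ≫ C₀ h' hh') ≫ ·) hfac.symm).trans
          ((Category.assoc _ _ _).symm.trans ((congrArg (· ≫ ψ) this).trans
            (Category.assoc _ _ _))))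
    refine ⟨a, ha, ?_⟩
    intro s ψ c P hc hP hPc
    have hh : relSieve hfg x y f (𝒮.p.map ψ) := ⟨s, ψ, c, lift_map 𝒮.p ψ, hc⟩
    rw [hafac (𝒮.p.map ψ) hh s ψ (lift_map 𝒮.p ψ)]
    have hkc : 𝒮.p.IsHomLift (𝒮.p.map ψ ≫ f) (𝟙 s ≫ c) := by
      rw [Category.id_comp]; exact hc
    have := pull_compat hfg hcomm α c (Θ _ hh s ψ (lift_map 𝒮.p ψ) ≫ C₀ _ hh) (𝟙 s)
      (𝒮.p.map ψ ≫ f) (hΘC _ hh s ψ (lift_map 𝒮.p ψ)) hkc P _ hP (hP₀l _ _) hPc (hP₀fac _ _)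
    rw [Category.comp_id, Category.id_comp] at this
    rw [this]
  choose a ha hachar using hmain
  exact ⟨a, ha, hachar⟩

/-- Naturality of a family characterised as in `central_ext`. -/
theorem central_nat (h𝒮 : Gerb.IsGerbe J 𝒮) (x : 𝒮.obj) (α : x ⟶ x)
    (hα : 𝒮.p.IsHomLift (𝟙 (𝒮.p.obj x)) α)
    (a : ∀ (y : 𝒮.obj), (𝒮.p.obj y ⟶ 𝒮.p.obj x) → (y ⟶ y))
    (ha : ∀ y f, 𝒮.p.IsHomLift (𝟙 (𝒮.p.obj y)) (a y f))
    (hachar : ∀ (y : 𝒮.obj) (f : 𝒮.p.obj y ⟶ 𝒮.p.obj x) (s : 𝒮.obj) (ψ : s ⟶ y) (c : s ⟶ x)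
      (P : s ⟶ s), 𝒮.p.IsHomLift (𝒮.p.map ψ ≫ f) c → 𝒮.p.IsHomLift (𝟙 (𝒮.p.obj s)) P →
      P ≫ c = c ≫ α → ψ ≫ a y f = P ≫ ψ)
    {y' y : 𝒮.obj} (φ : y' ⟶ y) (f : 𝒮.p.obj y ⟶ 𝒮.p.obj x) :
    a y' (𝒮.p.map φ ≫ f) ≫ φ = φ ≫ a y f := by
  have hfg : FibCat.IsFibGrpd 𝒮.p := h𝒮.1.1
  have hφ : 𝒮.p.IsStronglyCartesian (𝒮.p.map φ) φ := cart_of_fibGrpd 𝒮.p hfg (lift_map 𝒮.p φ)
  obtain ⟨δ, hδ, hδfac⟩ := cart_lift_id 𝒮.p hφ (φ ≫ a y f)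
    (lift_comp_id_right 𝒮.p (lift_map 𝒮.p φ) (ha y f))
  have hR : relSieve hfg x y' (𝒮.p.map φ ≫ f) ∈ J (𝒮.p.obj y') := relSieve_mem J h𝒮 x y' _
  have hfaith : (Stk.resSieve (relSieve hfg x y' (𝒮.p.map φ ≫ f)) 𝒮).Faithful := by
    have : (Stk.resSieve (relSieve hfg x y' (𝒮.p.map φ ≫ f)) 𝒮).IsEquivalence := h𝒮.1.2 _ hR
    infer_instance
  have key : a y' (𝒮.p.map φ ≫ f) = δ := by
    apply hom_ext_of_restr_faithful hfg _ hfaith rfl rfl _ _ (ha y' _) hδ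
    rintro V h ⟨s, ψ₀, c₀, hψ₀, hc₀⟩ t ψ hψ
    obtain ⟨θ, hθ, hθfac⟩ := cart_lift_id 𝒮.p (cart_of_fibGrpd 𝒮.p hfg hψ₀) ψ hψ
    have hc : 𝒮.p.IsHomLift (h ≫ 𝒮.p.map φ ≫ f) (θ ≫ c₀) := lift_comp_id_left 𝒮.p hθ hc₀
    have hc' : 𝒮.p.IsHomLift (𝒮.p.map ψ ≫ 𝒮.p.map φ ≫ f) (θ ≫ c₀) := lift_map_comp hψ hc
    obtain ⟨P, hP, hPc⟩ := exists_pull hfg α hα (θ ≫ c₀)
    have e1 := hachar y' (𝒮.p.map φ ≫ f) t ψ (θ ≫ c₀) P hc' hP hPc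
    have hc'' : 𝒮.p.IsHomLift (𝒮.p.map (ψ ≫ φ) ≫ f) (θ ≫ c₀) := by
      rw [Functor.map_comp, Category.assoc]; exact hc'
    have e2 := hachar y f t (ψ ≫ φ) (θ ≫ c₀) P hc'' hP hPc
    rw [e1]
    have hPV : 𝒮.p.IsHomLift (𝟙 V) P := lift_id_congr 𝒮.p hP (lift_domain_eq 𝒮.p hψ)
    apply cart_ext 𝒮.p hφ h (lift_comp_id_left 𝒮.p hPV hψ) (lift_comp_id_right 𝒮.p hψ hδ)
    rw [Category.assoc, Category.assoc, hδfac, ← Category.assoc ψ, e2]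
  rw [key, hδfac]

end central

section evBij

variable {𝒮} (J : GrothendieckTopology C)

theorem ev_injective (h𝒮 : Gerb.IsGerbe J 𝒮) (x : 𝒮.obj) :
    Function.Injective (ev (𝒮 := 𝒮) x) := by
  rw [injective_iff_map_eq_one]
  intro a ha
  have hfg : FibCat.IsFibGrpd 𝒮.p := h𝒮.1.1
  have hax : (a.1 x (𝟙 _)).hom.1 = 𝟙 x := congrArg (fun t => t.hom.1) ha
  apply centSub_ext
  intro y f
  change (a.1 y f).hom.1 = 𝟙 y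
  have hR : relSieve hfg x y f ∈ J (𝒮.p.obj y) := relSieve_mem J h𝒮 x y f
  have hfaith : (Stk.resSieve (relSieve hfg x y f) 𝒮).Faithful := by
    have : (Stk.resSieve (relSieve hfg x y f) 𝒮).IsEquivalence := h𝒮.1.2 _ hR
    infer_instance
  apply hom_ext_of_restr_faithful hfg _ hfaith rfl rfl _ _ (a.1 y f).hom.2
    (lift_id_of_obj 𝒮.p rfl)
  rintro V h ⟨s, ψ₀, c₀, hψ₀, hc₀⟩ t ψ hψ
  obtain ⟨θ, hθ, hθfac⟩ := cart_lift_id 𝒮.p (cart_of_fibGrpd 𝒮.p hfg hψ₀) ψ hψ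
  have hc : 𝒮.p.IsHomLift (h ≫ f) (θ ≫ c₀) := lift_comp_id_left 𝒮.p hθ hc₀
  have hc' : 𝒮.p.IsHomLift (𝒮.p.map ψ ≫ f) (θ ≫ c₀) := lift_map_comp hψ hc
  have hpc : 𝒮.p.map (θ ≫ c₀) = 𝒮.p.map ψ ≫ f := map_eq_of_lift hc'
  have n1 := centSub_nat a ψ f
  have n2 := centSub_nat a (θ ≫ c₀) (𝟙 _)
  rw [Category.comp_id, hpc, hax, Category.comp_id] at n2
  have h1 : (a.1 t (𝒮.p.map ψ ≫ f)).hom.1 = 𝟙 t := by
    apply cart_ext 𝒮.p (cart_of_fibGrpd 𝒮.p hfg (lift_map 𝒮.p (θ ≫ c₀))) (𝟙 _)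
      (a.1 t _).hom.2 (lift_id_of_obj 𝒮.p rfl)
    rw [n2, Category.id_comp]
  rw [← n1, h1, Category.id_comp, Category.comp_id]

theorem ev_surjective (h𝒮 : Gerb.IsGerbe J 𝒮)
    (hcomm : ∀ (x : 𝒮.obj) (α β : Gerb.AutO x), α * β = β * α) (x : 𝒮.obj) :
    Function.Surjective (ev (𝒮 := 𝒮) x) := by
  intro α
  have hfg : FibCat.IsFibGrpd 𝒮.p := h𝒮.1.1
  obtain ⟨a, ha, hachar⟩ := central_ext J h𝒮 hcomm x α.hom.1 α.hom.2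
  have hnat := @central_nat _ _ _ J h𝒮 x α.hom.1 α.hom.2 a ha hachar
  have hA : ∀ (y : 𝒮.obj) (f : 𝒮.p.obj y ⟶ 𝒮.p.obj x), ∃ A : Gerb.AutO y, A.hom.1 = a y f :=
    fun y f => exists_autO hfg (a y f) (ha y f)
  choose A hA using hA
  refine ⟨⟨A, ?_⟩, ?_⟩
  · intro y' y φ f
    rw [hA, hA]
    exact hnat φ f
  · apply autO_ext
    change (A x (𝟙 _)).hom.1 = α.hom.1
    rw [hA]
    have hid : 𝒮.p.IsHomLift (𝒮.p.map (𝟙 x) ≫ 𝟙 _) (𝟙 x) := by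
      rw [𝒮.p.map_id, Category.comp_id]
      exact lift_id_of_obj 𝒮.p rfl
    have := hachar x (𝟙 _) x (𝟙 x) (𝟙 x) α.hom.1 hid α.hom.2
      (by rw [Category.comp_id, Category.id_comp])
    rw [Category.id_comp, Category.comp_id] at this
    exact this

end evBij

section sheaf

variable {𝒮} (J : GrothendieckTopology C)

theorem res_separated (h𝒮 : Stk.IsStack J 𝒮) {U : C} (R : Sieve U) (hR : R ∈ J U)
    (a b : centSub 𝒮 U) (hab : ∀ ⦃V : C⦄ (g : V ⟶ U), R g → res g a = res g b) : a = b := by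
  have hfg : FibCat.IsFibGrpd 𝒮.p := h𝒮.1
  apply centSub_ext
  intro y f
  have hR' : R.pullback f ∈ J (𝒮.p.obj y) := J.pullback_stable f hR
  have hfaith : (Stk.resSieve (R.pullback f) 𝒮).Faithful := by
    have : (Stk.resSieve (R.pullback f) 𝒮).IsEquivalence := h𝒮.2 _ hR'
    infer_instance
  apply hom_ext_of_restr_faithful hfg _ hfaith rfl rfl _ _ (a.1 y f).hom.2 (b.1 y f).hom.2
  intro V h hh t ψ hψ
  have hmem : R (𝒮.p.map ψ ≫ f) := sieve_mem_of_lift hψ R f hh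
  have n1 := centSub_nat a ψ f
  have n2 := centSub_nat b ψ f
  have e : a.1 t (𝒮.p.map ψ ≫ f) = b.1 t (𝒮.p.map ψ ≫ f) := by
    have := congrArg (fun c => c.1 t (𝟙 _)) (hab _ hmem)
    simpa using this
  rw [← n1, ← n2, e]

theorem res_glue (h𝒮 : Stk.IsStack J 𝒮) {U : C} (R : Sieve U) (hR : R ∈ J U)
    (s : ∀ ⦃V : C⦄ (g : V ⟶ U), R g → centSub 𝒮 V)
    (hs : ∀ ⦃V W : C⦄ (g : V ⟶ U) (k : W ⟶ V) (hg : R g),
      s (k ≫ g) (R.downward_closed hg k) = res k (s g hg)) :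
    ∃ a : centSub 𝒮 U, ∀ ⦃V : C⦄ (g : V ⟶ U) (hg : R g), res g a = s g hg := by
  have hfg : FibCat.IsFibGrpd 𝒮.p := h𝒮.1
  have scongr : ∀ {V : C} {g₁ g₂ : V ⟶ U} (_ : g₁ = g₂) (h₁ : R g₁) (h₂ : R g₂),
      s g₁ h₁ = s g₂ h₂ := by
    intro V g₁ g₂ e h₁ h₂
    subst e
    rfl
  have hmain : ∀ (y : 𝒮.obj) (f : 𝒮.p.obj y ⟶ U), ∃ A : y ⟶ y,
      𝒮.p.IsHomLift (𝟙 (𝒮.p.obj y)) A ∧
      ∀ (t : 𝒮.obj) (ψ : t ⟶ y) (hg : R (𝒮.p.map ψ ≫ f)),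
        ψ ≫ A = ((s _ hg).1 t (𝟙 _)).hom.1 ≫ ψ := by
    intro y f
    have hR' : R.pullback f ∈ J (𝒮.p.obj y) := J.pullback_stable f hR
    have hfull : (Stk.resSieve (R.pullback f) 𝒮).Full := by
      have : (Stk.resSieve (R.pullback f) 𝒮).IsEquivalence := h𝒮.2 _ hR'
      infer_instance
    obtain ⟨A, hA, hAfac⟩ := glue_hom hfg (R.pullback f) hfull (t := y) (t' := y) rfl rfl
      (fun V h hh t ψ hψ =>
        ((s (𝒮.p.map ψ ≫ f) (sieve_mem_of_lift hψ R f hh)).1 t (𝟙 _)).hom.1 ≫ ψ)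
      (fun V h hh t ψ hψ => lift_comp_id_left 𝒮.p
        (lift_id_congr 𝒮.p ((s _ (sieve_mem_of_lift hψ R f hh)).1 t (𝟙 _)).hom.2
          (lift_domain_eq 𝒮.p hψ)) hψ)
      (fun V V' h hh h' hh' u hu t t' ψ hψ ψ' hψ' k hk hfac => by
        subst hfac
        have hg : R (𝒮.p.map ψ ≫ f) := sieve_mem_of_lift hψ R f hh
        have e1 : 𝒮.p.map (k ≫ ψ) ≫ f = 𝒮.p.map k ≫ (𝒮.p.map ψ ≫ f) := by
          rw [Functor.map_comp, Category.assoc]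
        have e2 : s (𝒮.p.map (k ≫ ψ) ≫ f) (sieve_mem_of_lift hψ' R f hh') =
            res (𝒮.p.map k) (s _ hg) :=
          (scongr e1 _ (R.downward_closed hg _)).trans (hs _ _ hg)
        have n := centSub_nat (s _ hg) k (𝟙 _)
        have e3 : (res (𝒮.p.map k) (s _ hg)).1 t' (𝟙 _) = (s _ hg).1 t' (𝒮.p.map k ≫ 𝟙 _) := by
          rw [res_apply, Category.id_comp, Category.comp_id]
        change ((s (𝒮.p.map (k ≫ ψ) ≫ f) (sieve_mem_of_lift hψ' R f hh')).1 t' (𝟙 _)).hom.1 ≫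
            k ≫ ψ = k ≫ ((s (𝒮.p.map ψ ≫ f) hg).1 t (𝟙 _)).hom.1 ≫ ψ
        rw [e2, e3, ← Category.assoc, n, Category.assoc])
    refine ⟨A, hA, fun t ψ hg => ?_⟩
    exact hAfac (𝒮.p.map ψ) hg t ψ (lift_map 𝒮.p ψ)
  choose A hA hAchar using hmain
  have hAut : ∀ (y : 𝒮.obj) (f : 𝒮.p.obj y ⟶ U), ∃ α : Gerb.AutO y, α.hom.1 = A y f :=
    fun y f => exists_autO hfg _ (hA y f)
  choose α hα using hAut
  have hnat : ∀ ⦃y' y : 𝒮.obj⦄ (φ : y' ⟶ y) (f : 𝒮.p.obj y ⟶ U),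
      A y' (𝒮.p.map φ ≫ f) ≫ φ = φ ≫ A y f := by
    intro y' y φ f
    have hφ : 𝒮.p.IsStronglyCartesian (𝒮.p.map φ) φ :=
      cart_of_fibGrpd 𝒮.p hfg (lift_map 𝒮.p φ)
    obtain ⟨δ, hδ, hδfac⟩ := cart_lift_id 𝒮.p hφ (φ ≫ A y f)
      (lift_comp_id_right 𝒮.p (lift_map 𝒮.p φ) (hA y f))
    have hR'' : R.pullback (𝒮.p.map φ ≫ f) ∈ J (𝒮.p.obj y') := J.pullback_stable _ hR
    have hfaith : (Stk.resSieve (R.pullback (𝒮.p.map φ ≫ f)) 𝒮).Faithful := by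
      have : (Stk.resSieve (R.pullback (𝒮.p.map φ ≫ f)) 𝒮).IsEquivalence := h𝒮.2 _ hR''
      infer_instance
    have key : A y' (𝒮.p.map φ ≫ f) = δ := by
      apply hom_ext_of_restr_faithful hfg _ hfaith rfl rfl _ _ (hA y' _) hδ
      intro V h hh t ψ hψ
      have hg : R (𝒮.p.map ψ ≫ (𝒮.p.map φ ≫ f)) := sieve_mem_of_lift hψ R _ hh
      have e1 := hAchar y' (𝒮.p.map φ ≫ f) t ψ hg
      have e0 : 𝒮.p.map (ψ ≫ φ) ≫ f = 𝒮.p.map ψ ≫ (𝒮.p.map φ ≫ f) := by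
        rw [Functor.map_comp, Category.assoc]
      have hg' : R (𝒮.p.map (ψ ≫ φ) ≫ f) := by rw [e0]; exact hg
      have e2 := hAchar y f t (ψ ≫ φ) hg'
      have e3 : s _ hg' = s _ hg := scongr e0 _ _
      rw [e3] at e2
      rw [e1]
      have hSV : 𝒮.p.IsHomLift (𝟙 V) ((s _ hg).1 t (𝟙 _)).hom.1 :=
        lift_id_congr 𝒮.p ((s _ hg).1 t (𝟙 _)).hom.2 (lift_domain_eq 𝒮.p hψ)
      apply cart_ext 𝒮.p hφ h (lift_comp_id_left 𝒮.p hSV hψ) (lift_comp_id_right 𝒮.p hψ hδ)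
      rw [Category.assoc, Category.assoc, hδfac, ← Category.assoc ψ, e2]
    rw [key, hδfac]
  refine ⟨⟨α, fun y' y φ f => by rw [hα, hα]; exact hnat φ f⟩, ?_⟩
  intro V g hg
  apply centSub_ext
  intro y f
  change (α y (f ≫ g)).hom.1 = ((s g hg).1 y f).hom.1
  rw [hα]
  have e0 : 𝒮.p.map (𝟙 y) ≫ (f ≫ g) = f ≫ g := by rw [𝒮.p.map_id, Category.id_comp]
  have hg1 : R (𝒮.p.map (𝟙 y) ≫ (f ≫ g)) := by rw [e0]; exact R.downward_closed hg f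
  have e1 := hAchar y (f ≫ g) y (𝟙 y) hg1
  rw [Category.id_comp, Category.comp_id] at e1
  rw [e1]
  have e2 : s _ hg1 = res f (s g hg) :=
    (scongr e0 hg1 (R.downward_closed hg f)).trans (hs g f hg)
  rw [e2, res_apply, Category.id_comp]

theorem bandPsh_isSheaf (h𝒮 : Stk.IsStack J 𝒮) : Presheaf.IsSheaf J (bandPsh 𝒮) := by
  rw [Presheaf.isSheaf_iff_isSheaf_forget J (bandPsh 𝒮) (forget GrpCat),
    isSheaf_iff_isSheaf_of_type]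
  intro U R hR
  rw [← Presieve.isSeparatedFor_and_exists_isAmalgamation_iff_isSheafFor]
  constructor
  · intro x t₁ t₂ h₁ h₂
    apply res_separated J h𝒮 R hR t₁ t₂
    intro V g hg
    exact (h₁ g hg).trans (h₂ g hg).symm
  · intro x hx
    rw [Presieve.compatible_iff_sieveCompatible] at hx
    obtain ⟨a, ha⟩ := res_glue J h𝒮 R hR (fun V g hg => x g hg) (fun V W g k hg => hx g k hg)
    exact ⟨a, fun V g hg => ha g hg⟩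

end sheaf

section main

variable {𝒮} (J : GrothendieckTopology C)

/-- The band of an abelian gerbe as a sheaf of groups. -/
def bandSheaf (h𝒮 : Stk.IsStack J 𝒮) : Sheaf J GrpCat.{max u v} :=
  ⟨bandPsh 𝒮, bandPsh_isSheaf J h𝒮⟩

theorem centSub_comm (hcomm : ∀ (x : 𝒮.obj) (α β : Gerb.AutO x), α * β = β * α) (U : C)
    (a b : centSub 𝒮 U) : a * b = b * a := by
  apply Subtype.ext
  funext y f
  exact hcomm y _ _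

/-- The canonical banding of an abelian gerbe by its band. -/
noncomputable def banding (h𝒮 : Gerb.IsGerbe J 𝒮)
    (hcomm : ∀ (x : 𝒮.obj) (α β : Gerb.AutO x), α * β = β * α) :
    Gerb.Banding 𝒮 (bandPsh 𝒮) where
  iso x := MulEquiv.ofBijective (ev (𝒮 := 𝒮) x)
    ⟨ev_injective J h𝒮 x, ev_surjective J h𝒮 hcomm x⟩
  natural {x' x} φ a := by
    change ((a : centSub 𝒮 (𝒮.p.obj x)).1 x' (𝟙 _ ≫ 𝒮.p.map φ)).hom.1 ≫ φ =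
      φ ≫ ((a : centSub 𝒮 (𝒮.p.obj x)).1 x (𝟙 _)).hom.1
    have := centSub_nat (a : centSub 𝒮 (𝒮.p.obj x)) φ (𝟙 _)
    rw [Category.comp_id] at this
    rw [Category.id_comp]
    exact this

theorem exists_sheaf_banding (h𝒮 : Gerb.IsGerbe J 𝒮)
    (hcomm : ∀ (x : 𝒮.obj) (α β : Gerb.AutO x), α * β = β * α) :
    ∃ G : Sheaf J GrpCat.{max u v}, (∀ (U : C) (a b : G.obj.obj (op U)), a * b = b * a) ∧
      Nonempty (Gerb.Banding 𝒮 G.obj) :=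
  ⟨bandSheaf J h𝒮.1, fun U a b => centSub_comm hcomm U a b, ⟨banding J h𝒮 hcomm⟩⟩

end main

end Groth.Agent.H84.GerbeBand
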