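import Groth.Agent.H84.GerbeGlue

set_option autoImplicit false
open CategoryTheory CategoryTheory.Limits
universe v₃ u₃ v₂ u₂ v u

namespace Groth.Agent.H84.GerbeEquiv

open Groth.Agent.H32 Groth.Agent.H64 Groth.Agent.H84.GerbeGlue

variable {C : Type u} [Category.{v} C] (J : GrothendieckTopology C)
  {𝒳 : BasedCategory.{v₂, u₂} C} {𝒴 : BasedCategory.{v₃, u₃} C}

theorem map_lift₂ (φ : 𝒳 ⥤ᵇ 𝒴) {R S : C} {a b : 𝒳.obj} {f : R ⟶ S} {c : a ⟶ b}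
    (h : 𝒳.p.IsHomLift f c) : 𝒴.p.IsHomLift f (φ.map c) := inferInstance

/-- The sieve of arrows over which `x₁` and `x₂` become isomorphic pullbacks of `s`. -/
def trivSieve2 (h𝒳 : FibCat.IsFibGrpd 𝒳.p) (s x₁ x₂ : 𝒳.obj) : Sieve (𝒳.p.obj x₁) where
  arrows V f := ∃ (x₀ : 𝒳.obj) (c₁ : x₀ ⟶ x₁) (c₁' : x₀ ⟶ x₂) (_ : x₀ ⟶ s),
    𝒳.p.IsHomLift f c₁ ∧ 𝒳.p.IsHomLift f c₁'
  downward_closed := by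
    rintro V W f ⟨x₀, c₁, c₁', c₂, hc₁, hc₁'⟩ k
    obtain ⟨x₁', e, he⟩ := exists_lift_free 𝒳.p h𝒳 (lift_domain_eq 𝒳.p hc₁) k
    exact ⟨x₁', e ≫ c₁, e ≫ c₁', e ≫ c₂, lift_comp 𝒳.p he hc₁, lift_comp 𝒳.p he hc₁'⟩

theorem trivSieve2_mem (h𝒳 : Gerb.IsGerbe J 𝒳) (s x₁ x₂ : 𝒳.obj) (hT : IsTerminal (𝒳.p.obj s))
    (h12 : 𝒳.p.obj x₂ = 𝒳.p.obj x₁) : trivSieve2 h𝒳.1.1 s x₁ x₂ ∈ J (𝒳.p.obj x₁) := by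
  obtain ⟨xU, e, he⟩ := h𝒳.1.1.exists_lift (hT.from (𝒳.p.obj x₁))
  have hxU : 𝒳.p.obj xU = 𝒳.p.obj x₁ := lift_domain_eq 𝒳.p he
  have hb₁ : (FibCat.selfOver C).p.IsHomLift (𝟙 (𝒳.p.obj x₁))
      (eqToHom hxU.symm : (FibCat.toSelf 𝒳).obj x₁ ⟶ (FibCat.toSelf 𝒳).obj xU) :=
    lift_eqToHom _ _ rfl
  have hb₂ : (FibCat.selfOver C).p.IsHomLift (𝟙 (𝒳.p.obj x₁))
      (eqToHom (h12.trans hxU.symm) : (FibCat.toSelf 𝒳).obj x₂ ⟶ (FibCat.toSelf 𝒳).obj xU) :=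
    lift_eqToHom _ _ h12
  obtain ⟨R₁, hR₁, hloc₁⟩ := locSurjHom_free J h𝒳.2.2 x₁ xU _ hb₁
  obtain ⟨R₂, hR₂, hloc₂⟩ := locSurjHom_free J h𝒳.2.2 x₂ xU _ hb₂
  refine J.superset_covering ?_ (J.intersection_covering hR₁ hR₂)
  rintro V f ⟨hf₁, hf₂⟩
  obtain ⟨y₁, a₁, b₁, ha₁, hb₁', -⟩ := hloc₁ f hf₁
  obtain ⟨y₂, a₂, b₂, ha₂, hb₂', -⟩ := hloc₂ f hf₂
  obtain ⟨δ, hδ, hδfac⟩ := cart_lift_id 𝒳.p (cart_of_fibGrpd 𝒳.p h𝒳.1.1 hb₂') b₁ hb₁'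
  exact ⟨y₁, a₁, δ ≫ a₂, b₁ ≫ e, ha₁, lift_comp_id_left 𝒳.p hδ ha₂⟩

/-- Injectivity on automorphism groups of pullbacks of `s` gives injectivity on morphisms over
an identity. -/
theorem map_injective_over_id (h𝒳 : Gerb.IsGerbe J 𝒳) (h𝒴 : FibCat.IsFibGrpd 𝒴.p)
    (φ : 𝒳 ⥤ᵇ 𝒴) (s : 𝒳.obj) (hT : IsTerminal (𝒳.p.obj s))
    (hφ : ∀ (x : 𝒳.obj) (_ : x ⟶ s), Function.Injective (Gerb.autMap φ x))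
    {x₁ x₂ : 𝒳.obj} (a b : x₁ ⟶ x₂) (ha : 𝒳.p.IsHomLift (𝟙 (𝒳.p.obj x₁)) a)
    (hb : 𝒳.p.IsHomLift (𝟙 (𝒳.p.obj x₁)) b) (hab : φ.map a = φ.map b) : a = b := by
  have hfg : FibCat.IsFibGrpd 𝒳.p := h𝒳.1.1
  have hR : trivSieve hfg s x₁ ∈ J (𝒳.p.obj x₁) := trivSieve_mem J h𝒳 s x₁ hT
  have hfaith : (Stk.resSieve (trivSieve hfg s x₁) 𝒳).Faithful := by
    have : (Stk.resSieve (trivSieve hfg s x₁) 𝒳).IsEquivalence := h𝒳.1.2 _ hR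
    infer_instance
  have hx₂ : 𝒳.p.obj x₂ = 𝒳.p.obj x₁ := lift_codomain_eq 𝒳.p ha
  apply hom_ext_of_restr_faithful hfg _ hfaith rfl hx₂ a b ha hb
  rintro V f ⟨x₀, c₁, c₂, hc₁⟩ t ψ hψ
  obtain ⟨θ, hθ, hθfac⟩ := cart_lift_id 𝒳.p (cart_of_fibGrpd 𝒳.p hfg hc₁) ψ hψ
  have hca : 𝒳.p.IsHomLift f (c₁ ≫ a) := lift_comp_id_right 𝒳.p hc₁ ha
  have hcb : 𝒳.p.IsHomLift f (c₁ ≫ b) := lift_comp_id_right 𝒳.p hc₁ hb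
  obtain ⟨α₀, hα₀, hα₀fac⟩ := cart_lift_id 𝒳.p (cart_of_fibGrpd 𝒳.p hfg hcb) (c₁ ≫ a) hca
  have hV : V = 𝒳.p.obj x₀ := (lift_domain_eq 𝒳.p hc₁).symm
  obtain ⟨α, hα⟩ := exists_autO hfg α₀ (lift_id_congr 𝒳.p hα₀ hV)
  have hφα : φ.map α₀ = 𝟙 (φ.obj x₀) := by
    apply cart_ext 𝒴.p (cart_of_fibGrpd 𝒴.p h𝒴 (map_lift₂ φ hcb)) (𝟙 V) (map_lift₂ φ hα₀)
      (lift_id_of_obj 𝒴.p ((φ.w_obj x₀).trans hV.symm))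
    rw [Category.id_comp]
    calc φ.map α₀ ≫ φ.map (c₁ ≫ b) = φ.map (α₀ ≫ c₁ ≫ b) := (φ.toFunctor.map_comp _ _).symm
      _ = φ.map c₁ ≫ φ.map a := by rw [hα₀fac]; exact φ.toFunctor.map_comp _ _
      _ = φ.map c₁ ≫ φ.map b := by rw [hab]
      _ = φ.map (c₁ ≫ b) := (φ.toFunctor.map_comp _ _).symm
  have hα1 : α = 1 := by
    apply hφ x₀ c₂
    rw [map_one]
    apply Aut.ext
    apply Functor.Fiber.hom_ext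
    change φ.map α.hom.1 = 𝟙 (φ.obj x₀)
    rw [hα, hφα]
  have hα₀1 : α₀ = 𝟙 x₀ := by
    rw [← hα, hα1]
    rfl
  have hc : c₁ ≫ a = c₁ ≫ b := by rw [← hα₀fac, hα₀1, Category.id_comp]
  rw [← hθfac, Category.assoc, Category.assoc, hc]

theorem faithful_of_autMap_injective (h𝒳 : Gerb.IsGerbe J 𝒳) (h𝒴 : FibCat.IsFibGrpd 𝒴.p)
    (φ : 𝒳 ⥤ᵇ 𝒴) (s : 𝒳.obj) (hT : IsTerminal (𝒳.p.obj s))
    (hφ : ∀ (x : 𝒳.obj) (_ : x ⟶ s), Function.Injective (Gerb.autMap φ x)) :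
    φ.toFunctor.Faithful := by
  apply faithful_of_fiberFunctor_faithful φ h𝒳.1.1 h𝒴
  intro U
  refine ⟨fun {X Y} a b hab => ?_⟩
  apply Functor.Fiber.hom_ext
  have hab' : φ.map a.1 = φ.map b.1 := congrArg Subtype.val hab
  exact map_injective_over_id J h𝒳 h𝒴 φ s hT hφ a.1 b.1 (lift_id_congr 𝒳.p a.2 X.2.symm)
    (lift_id_congr 𝒳.p b.2 X.2.symm) hab'

/-- Bijectivity on automorphism groups of pullbacks of `s` gives surjectivity on morphisms over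
an identity. -/
theorem exists_preimage_over_id (h𝒳 : Gerb.IsGerbe J 𝒳) (h𝒴 : Stk.IsStack J 𝒴)
    (φ : 𝒳 ⥤ᵇ 𝒴) (s : 𝒳.obj) (hT : IsTerminal (𝒳.p.obj s))
    (hφ : ∀ (x : 𝒳.obj) (_ : x ⟶ s), Function.Bijective (Gerb.autMap φ x))
    {x₁ x₂ : 𝒳.obj} (b : φ.obj x₁ ⟶ φ.obj x₂) (hb : 𝒴.p.IsHomLift (𝟙 (𝒳.p.obj x₁)) b) :
    ∃ a : x₁ ⟶ x₂, 𝒳.p.IsHomLift (𝟙 (𝒳.p.obj x₁)) a ∧ φ.map a = b := by
  have hfg : FibCat.IsFibGrpd 𝒳.p := h𝒳.1.1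
  have hfaithφ : φ.toFunctor.Faithful :=
    faithful_of_autMap_injective J h𝒳 h𝒴.1 φ s hT (fun x c => (hφ x c).1)
  have h12 : 𝒳.p.obj x₂ = 𝒳.p.obj x₁ := (φ.w_obj x₂).symm.trans (lift_codomain_eq 𝒴.p hb)
  have hR : trivSieve2 hfg s x₁ x₂ ∈ J (𝒳.p.obj x₁) := trivSieve2_mem J h𝒳 s x₁ x₂ hT h12
  have hfull : (Stk.resSieve (trivSieve2 hfg s x₁ x₂) 𝒳).Full := by
    have : (Stk.resSieve (trivSieve2 hfg s x₁ x₂) 𝒳).IsEquivalence := h𝒳.1.2 _ hR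
    infer_instance
  have hfaith : (Stk.resSieve (trivSieve2 hfg s x₁ x₂) 𝒴).Faithful := by
    have : (Stk.resSieve (trivSieve2 hfg s x₁ x₂) 𝒴).IsEquivalence := h𝒴.2 _ hR
    infer_instance
  -- local preimages
  have hm : ∀ ⦃V : C⦄ (f : V ⟶ 𝒳.p.obj x₁), trivSieve2 hfg s x₁ x₂ f → ∀ (t : 𝒳.obj)
      (ψ : t ⟶ x₁), 𝒳.p.IsHomLift f ψ →
      ∃ m : t ⟶ x₂, 𝒳.p.IsHomLift f m ∧ φ.map m = φ.map ψ ≫ b := by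
    rintro V f ⟨x₀, c₁, c₁', c₂, hc₁, hc₁'⟩ t ψ hψ
    obtain ⟨θ, hθ, hθfac⟩ := cart_lift_id 𝒳.p (cart_of_fibGrpd 𝒳.p hfg hc₁) ψ hψ
    have hV : V = 𝒳.p.obj x₀ := (lift_domain_eq 𝒳.p hc₁).symm
    have hVφ : V = 𝒴.p.obj (φ.obj x₀) := hV.trans (φ.w_obj x₀).symm
    have h1 : 𝒴.p.IsHomLift f (φ.map c₁ ≫ b) := lift_comp_id_right 𝒴.p (map_lift₂ φ hc₁) hb
    obtain ⟨β₀, hβ₀, hβ₀fac⟩ :=
      cart_lift_id 𝒴.p (cart_of_fibGrpd 𝒴.p h𝒴.1 (map_lift₂ φ hc₁')) (φ.map c₁ ≫ b) h1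
    obtain ⟨β, hβ⟩ := exists_autO h𝒴.1 β₀ (lift_id_congr 𝒴.p hβ₀ hVφ)
    obtain ⟨α, hα⟩ := (hφ x₀ c₂).2 β
    have hα' : φ.map α.hom.1 = β₀ := by
      rw [← hβ, ← hα]
      rfl
    have hαl : 𝒳.p.IsHomLift (𝟙 V) α.hom.1 := lift_id_congr 𝒳.p α.hom.2 hV.symm
    refine ⟨θ ≫ α.hom.1 ≫ c₁', lift_comp_id_left 𝒳.p hθ (lift_comp_id_left 𝒳.p hαl hc₁'), ?_⟩
    calc φ.map (θ ≫ α.hom.1 ≫ c₁') = φ.map θ ≫ φ.map α.hom.1 ≫ φ.map c₁' := by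
          rw [φ.toFunctor.map_comp, φ.toFunctor.map_comp]
      _ = φ.map θ ≫ φ.map c₁ ≫ b := by rw [hα', hβ₀fac]
      _ = φ.map ψ ≫ b := by
          rw [← hθfac, φ.toFunctor.map_comp, Category.assoc]
  choose m hml hmfac using hm
  obtain ⟨a, ha, hafac⟩ := glue_hom hfg (trivSieve2 hfg s x₁ x₂) hfull (t := x₁) (t' := x₂)
    rfl h12 m hml
    (fun V V' f hf f' hf' u hu t t' ψ hψ ψ' hψ' h hh hfac => by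
      apply φ.toFunctor.map_injective
      have e1 := hmfac f' hf' t' ψ' hψ'
      have e2 := hmfac f hf t ψ hψ
      have e3 : φ.map (h ≫ m f hf t ψ hψ) = φ.map h ≫ φ.map (m f hf t ψ hψ) :=
        φ.toFunctor.map_comp _ _
      have e4 : φ.map (h ≫ ψ) = φ.map h ≫ φ.map ψ := φ.toFunctor.map_comp _ _
      change φ.map (m f' hf' t' ψ' hψ') = φ.map (h ≫ m f hf t ψ hψ)
      rw [e1, e3, e2, ← hfac, e4, Category.assoc])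
  refine ⟨a, ha, ?_⟩
  apply hom_ext_of_restr_faithful h𝒴.1 _ hfaith (φ.w_obj x₁) ((φ.w_obj x₂).trans h12) _ _
    (map_lift₂ φ ha) hb
  intro V f hf t' ψ' hψ'
  obtain ⟨x₀, c₁, c₁', c₂, hc₁, hc₁'⟩ := id hf
  obtain ⟨θ', hθ', hθfac'⟩ :=
    cart_lift_id 𝒴.p (cart_of_fibGrpd 𝒴.p h𝒴.1 (map_lift₂ φ hc₁)) ψ' hψ'
  have e1 := hafac f hf x₀ c₁ hc₁
  have e2 := hmfac f hf x₀ c₁ hc₁
  have e3 : φ.map (c₁ ≫ a) = φ.map c₁ ≫ φ.map a := φ.toFunctor.map_comp _ _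
  rw [← e1, e3] at e2
  rw [← hθfac', Category.assoc, Category.assoc, e2]

theorem full_of_autMap_bijective (h𝒳 : Gerb.IsGerbe J 𝒳) (h𝒴 : Stk.IsStack J 𝒴)
    (φ : 𝒳 ⥤ᵇ 𝒴) (s : 𝒳.obj) (hT : IsTerminal (𝒳.p.obj s))
    (hφ : ∀ (x : 𝒳.obj) (_ : x ⟶ s), Function.Bijective (Gerb.autMap φ x)) :
    φ.toFunctor.Full := by
  apply full_of_fiberFunctor_full φ h𝒳.1.1 h𝒴.1
  intro U
  refine ⟨fun {X Y} ψ => ?_⟩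
  obtain ⟨a, ha, hafac⟩ := exists_preimage_over_id J h𝒳 h𝒴 φ s hT hφ (x₁ := X.1) (x₂ := Y.1) ψ.1
    (lift_id_congr 𝒴.p ψ.2 X.2.symm)
  refine ⟨⟨a, lift_id_congr 𝒳.p ha X.2⟩, ?_⟩
  apply Functor.Fiber.hom_ext
  exact hafac

/-- A morphism of gerbes inducing bijections on the automorphism groups of all pullbacks of an
object over a terminal object of the base is an equivalence. -/
theorem isEquivOver_of_autMap_bijective (h𝒳 : Gerb.IsGerbe J 𝒳) (h𝒴 : Gerb.IsGerbe J 𝒴)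
    (φ : 𝒳 ⥤ᵇ 𝒴) (s : 𝒳.obj) (hT : IsTerminal (𝒳.p.obj s))
    (hφ : ∀ (x : 𝒳.obj) (_ : x ⟶ s), Function.Bijective (Gerb.autMap φ x)) :
    FibCat.IsEquivOver φ := by
  have : φ.toFunctor.Faithful :=
    faithful_of_autMap_injective J h𝒳 h𝒴.1.1 φ s hT (fun x c => (hφ x c).1)
  have : φ.toFunctor.Full := full_of_autMap_bijective J h𝒳 h𝒴.1 φ s hT hφ
  refine (isEquivOver_iff_locally_essSurj φ J h𝒳.1 h𝒴.1).mpr ?_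
  intro z
  obtain ⟨sU, e, he⟩ := h𝒳.1.1.exists_lift (hT.from (𝒴.p.obj z))
  have hsU : 𝒳.p.obj sU = 𝒴.p.obj z := lift_domain_eq 𝒳.p he
  have hφsU : 𝒴.p.obj (φ.obj sU) = 𝒴.p.obj z := (φ.w_obj sU).trans hsU
  have hb : (FibCat.selfOver C).p.IsHomLift (𝟙 (𝒴.p.obj z))
      (eqToHom hφsU.symm : (FibCat.toSelf 𝒴).obj z ⟶ (FibCat.toSelf 𝒴).obj (φ.obj sU)) :=
    lift_eqToHom _ _ rfl
  obtain ⟨R, hR, hloc⟩ := locSurjHom_free J h𝒴.2.2 z (φ.obj sU) _ hb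
  refine ⟨R, hR, ?_⟩
  intro V f hf
  obtain ⟨z₀, a, b, ha, hb', -⟩ := hloc f hf
  obtain ⟨x₀, e', he'⟩ := exists_lift_free 𝒳.p h𝒳.1.1 hsU f
  obtain ⟨δ, hδ, hδfac⟩ :=
    cart_lift_id 𝒴.p (cart_of_fibGrpd 𝒴.p h𝒴.1.1 hb') (φ.map e') (map_lift₂ φ he')
  exact ⟨x₀, δ ≫ a, lift_comp_id_left 𝒴.p hδ ha⟩

end Groth.Agent.H84.GerbeEquiv
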