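import Groth.Agent.H64.Stk.Glue
import Groth.Agent.H84.GerbeAux
import Groth.Prelude.Def_StGerb2

set_option autoImplicit false
open CategoryTheory CategoryTheory.Limits
universe v₃ u₃ v₂ u₂ v u

namespace Groth.Agent.H84.GerbeGlue

open Groth.Agent.H32 Groth.Agent.H64

variable {C : Type u} [Category.{v} C]

section glue

variable {𝒯 : BasedCategory.{v₂, u₂} C}

/-- Concrete form of "morphisms glue": a compatible family of morphisms `s ⟶ t'` indexed by the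
morphisms `ψ : s ⟶ t` lying over arrows of a sieve for which restriction is full comes from a
morphism `t ⟶ t'` over the identity. -/
theorem glue_hom (h𝒯 : FibCat.IsFibGrpd 𝒯.p) {U : C} (R : Sieve U)
    (hR : (Stk.resSieve R 𝒯).Full) {t t' : 𝒯.obj} (ht : 𝒯.p.obj t = U) (ht' : 𝒯.p.obj t' = U)
    (m : ∀ ⦃V : C⦄ (f : V ⟶ U), R f → ∀ (s : 𝒯.obj) (ψ : s ⟶ t), 𝒯.p.IsHomLift f ψ → (s ⟶ t'))
    (hm : ∀ ⦃V : C⦄ (f : V ⟶ U) (hf : R f) (s : 𝒯.obj) (ψ : s ⟶ t) (hψ : 𝒯.p.IsHomLift f ψ),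
      𝒯.p.IsHomLift f (m f hf s ψ hψ))
    (hcompat : ∀ ⦃V V' : C⦄ (f : V ⟶ U) (hf : R f) (f' : V' ⟶ U) (hf' : R f') (u : V' ⟶ V)
      (_ : u ≫ f = f') (s s' : 𝒯.obj)
      (ψ : s ⟶ t) (hψ : 𝒯.p.IsHomLift f ψ) (ψ' : s' ⟶ t) (hψ' : 𝒯.p.IsHomLift f' ψ')
      (h : s' ⟶ s), 𝒯.p.IsHomLift u h → h ≫ ψ = ψ' → m f' hf' s' ψ' hψ' = h ≫ m f hf s ψ hψ) :
    ∃ a : t ⟶ t', 𝒯.p.IsHomLift (𝟙 U) a ∧
      ∀ ⦃V : C⦄ (f : V ⟶ U) (hf : R f) (s : 𝒯.obj) (ψ : s ⟶ t) (hψ : 𝒯.p.IsHomLift f ψ),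
        ψ ≫ a = m f hf s ψ hψ := by
  have hfib : 𝒯.p.IsFibered := isFibered_of_fibGrpd _ h𝒯
  let T : Over U := ovT U
  have hp : ∀ Y : Over U, 𝒯.p.IsHomLift Y.hom (yonedaProj t ht Y) := fun Y =>
    (yonedaProj_isStronglyCartesian t ht Y).toIsHomLift
  have hs' : ∀ Y : Over U, 𝒯.p.IsStronglyCartesian Y.hom (yonedaProj t' ht' Y) := fun Y =>
    yonedaProj_isStronglyCartesian t' ht' Y
  -- components of the 2-morphism on the sieve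
  have hγ : ∀ r : (Stk.sieveCat R).obj,
      ∃ χ : (yonedaFunctor t ht).obj r.obj ⟶ (yonedaFunctor t' ht').obj r.obj,
        𝒯.p.IsHomLift (𝟙 r.obj.left) χ ∧ χ ≫ yonedaProj t' ht' r.obj =
          m r.obj.hom r.property _ (yonedaProj t ht r.obj) (hp r.obj) := fun r =>
    cart_lift_id 𝒯.p (hs' r.obj) _ (hm r.obj.hom r.property _ _ (hp r.obj))
  choose γapp hγl hγfac using hγ
  have hγnat : ∀ {r' r : (Stk.sieveCat R).obj} (k : r' ⟶ r),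
      (yonedaFunctor t ht).map k.hom ≫ γapp r = γapp r' ≫ (yonedaFunctor t' ht').map k.hom := by
    intro r' r k
    have h1 : 𝒯.p.IsHomLift k.hom.left ((yonedaFunctor t ht).map k.hom) :=
      yonedaFunctor_map_isHomLift t ht k.hom
    have h5 : 𝒯.p.IsHomLift k.hom.left ((yonedaFunctor t' ht').map k.hom) :=
      yonedaFunctor_map_isHomLift t' ht' k.hom
    have hL : 𝒯.p.IsHomLift k.hom.left ((yonedaFunctor t ht).map k.hom ≫ γapp r) :=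
      lift_comp_id_right 𝒯.p h1 (hγl r)
    have hR' : 𝒯.p.IsHomLift k.hom.left (γapp r' ≫ (yonedaFunctor t' ht').map k.hom) :=
      lift_comp_id_left 𝒯.p (hγl r') h5
    apply cart_ext 𝒯.p (hs' r.obj) k.hom.left hL hR'
    rw [Category.assoc, hγfac r, Category.assoc, yonedaFunctor_map_fac t' ht' k.hom, hγfac r']
    exact (hcompat r.obj.hom r.property r'.obj.hom r'.property k.hom.left (Over.w k.hom) _ _
      (yonedaProj t ht r.obj)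
      (hp r.obj) (yonedaProj t ht r'.obj) (hp r'.obj) ((yonedaFunctor t ht).map k.hom) h1
      (yonedaFunctor_map_fac t ht k.hom)).symm
  let γ : BasedFunctor.comp (Stk.sieveIncl R) (yonedaBased t ht) ⟶
      BasedFunctor.comp (Stk.sieveIncl R) (yonedaBased t' ht') :=
    mkB γapp (fun k => hγnat k) hγl
  obtain ⟨α, hα⟩ := (restr_full_iff _ _).mp hR _ _ γ
  -- the glued morphism
  have hpT : 𝒯.p.IsHomLift (𝟙 U) (yonedaProj t ht T) := hp T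
  have hpT' : 𝒯.p.IsHomLift (𝟙 U) (yonedaProj t' ht' T) := (hs' T).toIsHomLift
  have iT : IsIso (yonedaProj t ht T) := isIso_of_lift_id 𝒯.p h𝒯 hpT
  have hinv : 𝒯.p.IsHomLift (𝟙 U) (inv (yonedaProj t ht T)) := lift_inv_of_isIso 𝒯.p _ hpT
  have hαT : 𝒯.p.IsHomLift (𝟙 U) (bapp α T) := bapp_isHomLift α T
  refine ⟨inv (yonedaProj t ht T) ≫ bapp α T ≫ yonedaProj t' ht' T,
    lift_id_comp_id 𝒯.p hinv (lift_id_comp_id 𝒯.p hαT hpT'), ?_⟩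
  intro V f hf s ψ hψ
  let r : (Stk.sieveCat R).obj := ⟨Over.mk f, hf⟩
  -- factor ψ through the chosen pullback
  have hsr : 𝒯.p.IsStronglyCartesian f (yonedaProj t ht r.obj) :=
    yonedaProj_isStronglyCartesian t ht r.obj
  obtain ⟨θ, hθ, hθfac⟩ := cart_lift_id 𝒯.p hsr ψ hψ
  -- naturality against the terminal object
  have hnat : (yonedaFunctor t ht).map (ovTo r.obj) ≫ bapp α T =
      bapp α r.obj ≫ (yonedaFunctor t' ht').map (ovTo r.obj) := bapp_naturality α (ovTo r.obj)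
  have h1 : (yonedaFunctor t ht).map (ovTo r.obj) ≫ yonedaProj t ht T = yonedaProj t ht r.obj :=
    yonedaFunctor_map_fac t ht (ovTo r.obj)
  have h2 : (yonedaFunctor t' ht').map (ovTo r.obj) ≫ yonedaProj t' ht' T =
      yonedaProj t' ht' r.obj := yonedaFunctor_map_fac t' ht' (ovTo r.obj)
  have e1 : yonedaProj t ht r.obj ≫ inv (yonedaProj t ht T) =
      (yonedaFunctor t ht).map (ovTo r.obj) := by
    rw [← h1, Category.assoc, IsIso.hom_inv_id, Category.comp_id]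
  have hαr : bapp α r.obj = γapp r := hα r
  have hkey : yonedaProj t ht r.obj ≫ inv (yonedaProj t ht T) ≫ bapp α T ≫ yonedaProj t' ht' T =
      γapp r ≫ yonedaProj t' ht' r.obj :=
    (Category.assoc _ _ _).symm.trans <|
      (congrArg (· ≫ bapp α T ≫ yonedaProj t' ht' T) e1).trans <|
      (Category.assoc _ _ _).symm.trans <|
      (congrArg (· ≫ yonedaProj t' ht' T) hnat).trans <|
      (Category.assoc _ _ _).trans <|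
      (congrArg (bapp α r.obj ≫ ·) h2).trans <|
      congrArg (· ≫ yonedaProj t' ht' r.obj) hαr
  have hfin := hcompat f hf f hf (𝟙 V) (Category.id_comp f) _ s (yonedaProj t ht r.obj) (hp r.obj)
    ψ hψ θ hθ hθfac
  exact (congrArg (· ≫ inv (yonedaProj t ht T) ≫ bapp α T ≫ yonedaProj t' ht' T) hθfac.symm).trans <|
    (Category.assoc _ _ _).trans <|
    (congrArg (θ ≫ ·) (hkey.trans (hγfac r))).trans hfin.symm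

end glue

section triv

variable (J : GrothendieckTopology C) {𝒳 : BasedCategory.{v₂, u₂} C}

/-- An endomorphism over the identity in a category fibred in groupoids is an element of `AutO`. -/
theorem exists_autO (h𝒳 : FibCat.IsFibGrpd 𝒳.p) {x' : 𝒳.obj} (β : x' ⟶ x')
    (hβ : 𝒳.p.IsHomLift (𝟙 (𝒳.p.obj x')) β) : ∃ α : Gerb.AutO x', α.hom.1 = β := by
  have : IsIso β := isIso_of_lift_id 𝒳.p h𝒳 hβ
  have hinv : 𝒳.p.IsHomLift (𝟙 (𝒳.p.obj x')) (inv β) := lift_inv_of_isIso 𝒳.p β hβ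
  refine ⟨⟨⟨β, hβ⟩, ⟨inv β, hinv⟩, ?_, ?_⟩, rfl⟩
  · apply Functor.Fiber.hom_ext; exact IsIso.hom_inv_id β
  · apply Functor.Fiber.hom_ext; exact IsIso.inv_hom_id β

/-- The sieve of arrows `f` into the object under `y` over which `y` becomes a pullback of `x`. -/
def trivSieve (h𝒳 : FibCat.IsFibGrpd 𝒳.p) (x y : 𝒳.obj) : Sieve (𝒳.p.obj y) where
  arrows V f := ∃ (x₀ : 𝒳.obj) (c₁ : x₀ ⟶ y) (_ : x₀ ⟶ x), 𝒳.p.IsHomLift f c₁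
  downward_closed := by
    rintro V W f ⟨x₀, c₁, c₂, hc₁⟩ k
    obtain ⟨x₁, e, he⟩ := exists_lift_free 𝒳.p h𝒳 (lift_domain_eq 𝒳.p hc₁) k
    exact ⟨x₁, e ≫ c₁, e ≫ c₂, lift_comp 𝒳.p he hc₁⟩

theorem trivSieve_mem (h𝒳 : Gerb.IsGerbe J 𝒳) (x y : 𝒳.obj) (hT : IsTerminal (𝒳.p.obj x)) :
    trivSieve h𝒳.1.1 x y ∈ J (𝒳.p.obj y) := by
  obtain ⟨xU, e, he⟩ := h𝒳.1.1.exists_lift (hT.from (𝒳.p.obj y))
  have hxU : 𝒳.p.obj xU = 𝒳.p.obj y := lift_domain_eq 𝒳.p he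
  have hb : (FibCat.selfOver C).p.IsHomLift (𝟙 (𝒳.p.obj y))
      (eqToHom hxU.symm : (FibCat.toSelf 𝒳).obj y ⟶ (FibCat.toSelf 𝒳).obj xU) :=
    lift_eqToHom _ _ rfl
  obtain ⟨R, hR, hloc⟩ := locSurjHom_free J h𝒳.2.2 y xU _ hb
  refine J.superset_covering ?_ hR
  intro V f hf
  obtain ⟨x₀, a, b, ha, -, -⟩ := hloc f hf
  exact ⟨x₀, a, b ≫ e, ha⟩

end triv

section conj

variable {𝒳 : BasedCategory.{v₂, u₂} C}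

/-- The pullbacks of `g` are compatible with all morphisms between pullbacks of `x`, as soon as
conjugation by `g` after `φ` is trivial on automorphisms. -/
theorem conj_compat (h𝒳 : FibCat.IsFibGrpd 𝒳.p) (φ : 𝒳 ⥤ᵇ 𝒳) (x : 𝒳.obj)
    (hT : IsTerminal (𝒳.p.obj x)) (g : φ.obj x ⟶ x)
    (hconj : ∀ (x' : 𝒳.obj) (c : x' ⟶ x) (g' : φ.obj x' ⟶ x'),
      𝒳.p.IsHomLift (𝟙 (𝒳.p.obj x')) g' →
      φ.map c ≫ g = g' ≫ c → ∀ α : Gerb.AutO x', φ.map α.hom.1 ≫ g' = g' ≫ α.hom.1)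
    {x₀ x₀' : 𝒳.obj} (c₂ : x₀ ⟶ x) (c₂' : x₀' ⟶ x) (G : φ.obj x₀ ⟶ x₀) (G' : φ.obj x₀' ⟶ x₀')
    (hG : 𝒳.p.IsHomLift (𝟙 (𝒳.p.obj x₀)) G) (hG' : 𝒳.p.IsHomLift (𝟙 (𝒳.p.obj x₀')) G')
    (hGc : G ≫ c₂ = φ.map c₂ ≫ g) (hGc' : G' ≫ c₂' = φ.map c₂' ≫ g) (k : x₀' ⟶ x₀) :
    G' ≫ k = φ.map k ≫ G := by
  have hc₂ : 𝒳.p.IsStronglyCartesian (𝒳.p.map c₂) c₂ := cart_of_fibGrpd 𝒳.p h𝒳 (lift_map 𝒳.p c₂)
  have hc₂' : 𝒳.p.IsStronglyCartesian (𝒳.p.map c₂') c₂' :=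
    cart_of_fibGrpd 𝒳.p h𝒳 (lift_map 𝒳.p c₂')
  have hkc : 𝒳.p.IsHomLift (𝒳.p.map c₂') (k ≫ c₂) :=
    lift_of_eq 𝒳.p (lift_map 𝒳.p (k ≫ c₂)) (hT.hom_ext _ _)
  obtain ⟨β, hβ, hβfac⟩ := cart_lift_id 𝒳.p hc₂' (k ≫ c₂) hkc
  obtain ⟨α, hα⟩ := exists_autO h𝒳 β hβ
  have h1 := hconj x₀' c₂' G' hG' hGc'.symm α
  rw [hα] at h1
  have hφk : 𝒳.p.IsHomLift (𝒳.p.map k) (φ.map k) := by
    have := lift_map 𝒳.p k
    infer_instance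
  apply cart_ext 𝒳.p hc₂ (𝒳.p.map k) (lift_comp_id_left 𝒳.p hG' (lift_map 𝒳.p k))
    (lift_comp_id_right 𝒳.p hφk hG)
  calc (G' ≫ k) ≫ c₂ = G' ≫ β ≫ c₂' := by rw [Category.assoc, hβfac]
    _ = (φ.map β ≫ G') ≫ c₂' := by rw [h1, Category.assoc]
    _ = φ.map (β ≫ c₂') ≫ g := by
        rw [Category.assoc, hGc', ← Category.assoc]
        congr 1
        exact (φ.toFunctor.map_comp _ _).symm
    _ = (φ.map k ≫ φ.map c₂) ≫ g := by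
        rw [hβfac]
        congr 1
        exact φ.toFunctor.map_comp _ _
    _ = (φ.map k ≫ G) ≫ c₂ := by rw [Category.assoc, Category.assoc, hGc]

end conj

section main

variable (J : GrothendieckTopology C) {𝒳 : BasedCategory.{v₂, u₂} C}

theorem map_lift (φ : 𝒳 ⥤ᵇ 𝒳) {R S : C} {a b : 𝒳.obj} {f : R ⟶ S} {c : a ⟶ b}
    (h : 𝒳.p.IsHomLift f c) : 𝒳.p.IsHomLift f (φ.map c) := inferInstance

/-- The local candidates for `ρ` do not depend on the trivialization. -/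
theorem triv_compat (h𝒳 : FibCat.IsFibGrpd 𝒳.p) (φ : 𝒳 ⥤ᵇ 𝒳) (x : 𝒳.obj)
    (hT : IsTerminal (𝒳.p.obj x)) (g : φ.obj x ⟶ x)
    (hconj : ∀ (x' : 𝒳.obj) (c : x' ⟶ x) (g' : φ.obj x' ⟶ x'),
      𝒳.p.IsHomLift (𝟙 (𝒳.p.obj x')) g' →
      φ.map c ≫ g = g' ≫ c → ∀ α : Gerb.AutO x', φ.map α.hom.1 ≫ g' = g' ≫ α.hom.1)
    {y : 𝒳.obj} {U V V' : C} (f : V ⟶ U) (f' : V' ⟶ U) (u : V' ⟶ V) (hu : u ≫ f = f')
    {x₀ x₀' : 𝒳.obj} (c₁ : x₀ ⟶ y) (c₂ : x₀ ⟶ x) (c₁' : x₀' ⟶ y) (c₂' : x₀' ⟶ x)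
    (hc₁ : 𝒳.p.IsHomLift f c₁) (hc₁' : 𝒳.p.IsHomLift f' c₁')
    (G : φ.obj x₀ ⟶ x₀) (G' : φ.obj x₀' ⟶ x₀')
    (hG : 𝒳.p.IsHomLift (𝟙 (𝒳.p.obj x₀)) G) (hG' : 𝒳.p.IsHomLift (𝟙 (𝒳.p.obj x₀')) G')
    (hGc : G ≫ c₂ = φ.map c₂ ≫ g) (hGc' : G' ≫ c₂' = φ.map c₂' ≫ g)
    {s s' : 𝒳.obj} (ψ : s ⟶ φ.obj y) (ψ' : s' ⟶ φ.obj y) (h : s' ⟶ s)
    (hh : 𝒳.p.IsHomLift u h) (hψ : h ≫ ψ = ψ')
    (θ : s ⟶ φ.obj x₀) (hθ : 𝒳.p.IsHomLift (𝟙 V) θ) (hθfac : θ ≫ φ.map c₁ = ψ)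
    (θ' : s' ⟶ φ.obj x₀') (hθ' : 𝒳.p.IsHomLift (𝟙 V') θ') (hθfac' : θ' ≫ φ.map c₁' = ψ') :
    θ' ≫ G' ≫ c₁' = h ≫ θ ≫ G ≫ c₁ := by
  have hsc : 𝒳.p.IsStronglyCartesian f c₁ := cart_of_fibGrpd 𝒳.p h𝒳 hc₁
  obtain ⟨k, hk, hkfac⟩ := cart_lift 𝒳.p hsc u f' hu.symm c₁' hc₁'
  have hscφ : 𝒳.p.IsStronglyCartesian f (φ.map c₁) := cart_of_fibGrpd 𝒳.p h𝒳 (map_lift φ hc₁)
  have e : θ' ≫ φ.map k = h ≫ θ := by
    apply cart_ext 𝒳.p hscφ u (lift_comp_id_left 𝒳.p hθ' (map_lift φ hk))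
      (lift_comp_id_right 𝒳.p hh hθ)
    calc (θ' ≫ φ.map k) ≫ φ.map c₁ = θ' ≫ φ.map (k ≫ c₁) := by
          rw [Category.assoc]
          congr 1
          exact (φ.toFunctor.map_comp _ _).symm
      _ = ψ' := by rw [hkfac, hθfac']
      _ = (h ≫ θ) ≫ φ.map c₁ := by rw [Category.assoc, hθfac, hψ]
  have star := conj_compat h𝒳 φ x hT g hconj c₂ c₂' G G' hG hG' hGc hGc' k
  calc θ' ≫ G' ≫ c₁' = θ' ≫ (G' ≫ k) ≫ c₁ := by rw [← hkfac, Category.assoc]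
    _ = (θ' ≫ φ.map k) ≫ G ≫ c₁ := by rw [star, Category.assoc, Category.assoc]
    _ = h ≫ θ ≫ G ≫ c₁ := by rw [e, Category.assoc]

/-- Fibrewise triviality of an endofunctor of a gerbe which is trivial on the automorphism sheaf
of an object over a terminal object of the base. -/
theorem fiberwise_iso_id (h𝒳 : Gerb.IsGerbe J 𝒳) (φ : 𝒳 ⥤ᵇ 𝒳) (x : 𝒳.obj)
    (hT : IsTerminal (𝒳.p.obj x)) (g : φ.obj x ⟶ x) (hg : 𝒳.p.IsHomLift (𝟙 (𝒳.p.obj x)) g)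
    (hconj : ∀ (x' : 𝒳.obj) (c : x' ⟶ x) (g' : φ.obj x' ⟶ x'),
      𝒳.p.IsHomLift (𝟙 (𝒳.p.obj x')) g' →
      φ.map c ≫ g = g' ≫ c → ∀ α : Gerb.AutO x', φ.map α.hom.1 ≫ g' = g' ≫ α.hom.1) :
    ∃ ρ : ∀ y : 𝒳.obj, φ.obj y ⟶ y,
      (∀ y, IsIso (ρ y) ∧ 𝒳.p.IsHomLift (𝟙 (𝒳.p.obj y)) (ρ y)) ∧
      (∀ (y y' : 𝒳.obj) (f : y ⟶ y'), 𝒳.p.IsHomLift (𝟙 (𝒳.p.obj y)) f →
        φ.map f ≫ ρ y' = ρ y ≫ f) := by
  have hfg : FibCat.IsFibGrpd 𝒳.p := h𝒳.1.1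
  -- pullbacks of `g`
  have hG : ∀ (x₀ : 𝒳.obj) (c₂ : x₀ ⟶ x), ∃ G : φ.obj x₀ ⟶ x₀,
      𝒳.p.IsHomLift (𝟙 (𝒳.p.obj x₀)) G ∧ G ≫ c₂ = φ.map c₂ ≫ g := by
    intro x₀ c₂
    have hc₂ : 𝒳.p.IsStronglyCartesian (𝒳.p.map c₂) c₂ :=
      cart_of_fibGrpd 𝒳.p hfg (lift_map 𝒳.p c₂)
    exact cart_lift_id 𝒳.p hc₂ _ (lift_comp_id_right 𝒳.p (map_lift φ (lift_map 𝒳.p c₂)) hg)
  choose G hGl hGfac using hG
  have hmain : ∀ y : 𝒳.obj, ∃ ρ : φ.obj y ⟶ y, 𝒳.p.IsHomLift (𝟙 (𝒳.p.obj y)) ρ ∧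
      ∀ (x₀ : 𝒳.obj) (c₁ : x₀ ⟶ y) (c₂ : x₀ ⟶ x), φ.map c₁ ≫ ρ = G x₀ c₂ ≫ c₁ := by
    intro y
    have hR : trivSieve hfg x y ∈ J (𝒳.p.obj y) := trivSieve_mem J h𝒳 x y hT
    have hfull : (Stk.resSieve (trivSieve hfg x y) 𝒳).Full := by
      have : (Stk.resSieve (trivSieve hfg x y) 𝒳).IsEquivalence := h𝒳.1.2 _ hR
      infer_instance
    have htriv : ∀ ⦃V : C⦄ (f : V ⟶ 𝒳.p.obj y), trivSieve hfg x y f →
        ∃ (x₀ : 𝒳.obj) (c₁ : x₀ ⟶ y) (_ : x₀ ⟶ x), 𝒳.p.IsHomLift f c₁ := fun V f hf => hf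
    choose X₀ C₁ C₂ hC₁ using htriv
    have hθ : ∀ ⦃V : C⦄ (f : V ⟶ 𝒳.p.obj y) (hf : trivSieve hfg x y f) (s : 𝒳.obj)
        (ψ : s ⟶ φ.obj y), 𝒳.p.IsHomLift f ψ →
        ∃ θ : s ⟶ φ.obj (X₀ f hf), 𝒳.p.IsHomLift (𝟙 V) θ ∧ θ ≫ φ.map (C₁ f hf) = ψ := by
      intro V f hf s ψ hψ
      exact cart_lift_id 𝒳.p (cart_of_fibGrpd 𝒳.p hfg (map_lift φ (hC₁ f hf))) ψ hψ
    choose Θ hΘl hΘfac using hθ
    have hGV : ∀ ⦃V : C⦄ (f : V ⟶ 𝒳.p.obj y) (hf : trivSieve hfg x y f),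
        𝒳.p.IsHomLift (𝟙 V) (G _ (C₂ f hf)) := fun V f hf =>
      lift_id_congr 𝒳.p (hGl _ (C₂ f hf)) (lift_domain_eq 𝒳.p (hC₁ f hf))
    obtain ⟨ρ, hρ, hρfac⟩ := glue_hom hfg (trivSieve hfg x y) hfull (t := φ.obj y) (t' := y)
      (φ.w_obj y) rfl
      (fun V f hf s ψ hψ => Θ f hf s ψ hψ ≫ G _ (C₂ f hf) ≫ C₁ f hf)
      (fun V f hf s ψ hψ => lift_comp_id_left 𝒳.p (hΘl f hf s ψ hψ)
        (lift_comp_id_left 𝒳.p (hGV f hf) (hC₁ f hf)))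
      (fun V V' f hf f' hf' u hu s s' ψ hψ ψ' hψ' h hh hfac =>
        triv_compat hfg φ x hT g hconj f f' u hu (C₁ f hf) (C₂ f hf) (C₁ f' hf') (C₂ f' hf')
          (hC₁ f hf) (hC₁ f' hf') _ _ (hGl _ _) (hGl _ _) (hGfac _ _) (hGfac _ _) ψ ψ' h hh hfac
          (Θ f hf s ψ hψ) (hΘl f hf s ψ hψ) (hΘfac f hf s ψ hψ)
          (Θ f' hf' s' ψ' hψ') (hΘl f' hf' s' ψ' hψ') (hΘfac f' hf' s' ψ' hψ'))
    refine ⟨ρ, hρ, ?_⟩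
    intro x₀ c₁ c₂
    have hf : trivSieve hfg x y (𝒳.p.map c₁) := ⟨x₀, c₁, c₂, lift_map 𝒳.p c₁⟩
    have hφc₁ : 𝒳.p.IsHomLift (𝒳.p.map c₁) (φ.map c₁) := map_lift φ (lift_map 𝒳.p c₁)
    rw [hρfac (𝒳.p.map c₁) hf (φ.obj x₀) (φ.map c₁) hφc₁]
    have hid : 𝒳.p.IsHomLift (𝟙 (𝒳.p.obj x₀)) (𝟙 (φ.obj x₀)) := lift_id_of_obj 𝒳.p (φ.w_obj x₀)
    have := triv_compat hfg φ x hT g hconj (𝒳.p.map c₁) (𝒳.p.map c₁) (𝟙 _) (Category.id_comp _)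
      c₁ c₂ (C₁ _ hf) (C₂ _ hf) (lift_map 𝒳.p c₁) (hC₁ _ hf) (G x₀ c₂) (G _ (C₂ _ hf))
      (hGl _ _) (hGl _ _) (hGfac _ _) (hGfac _ _) (φ.map c₁) (φ.map c₁) (𝟙 _) hid
      (Category.id_comp _) (𝟙 _) hid (Category.id_comp _)
      (Θ _ hf _ _ hφc₁) (hΘl _ hf _ _ hφc₁) (hΘfac _ hf _ _ hφc₁)
    simpa using this
  choose ρ hρ hρchar using hmain
  refine ⟨ρ, fun y => ⟨isIso_of_lift_id 𝒳.p hfg (hρ y), hρ y⟩, ?_⟩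
  intro y y' f₀ hf₀
  have hy' : 𝒳.p.obj y' = 𝒳.p.obj y := lift_codomain_eq 𝒳.p hf₀
  have hR : trivSieve hfg x y ∈ J (𝒳.p.obj y) := trivSieve_mem J h𝒳 x y hT
  have hfaith : (Stk.resSieve (trivSieve hfg x y) 𝒳).Faithful := by
    have : (Stk.resSieve (trivSieve hfg x y) 𝒳).IsEquivalence := h𝒳.1.2 _ hR
    infer_instance
  apply hom_ext_of_restr_faithful hfg (trivSieve hfg x y) hfaith (t := φ.obj y) (t' := y')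
    (φ.w_obj y) hy' _ _
    (lift_id_comp_id 𝒳.p (map_lift φ hf₀) (lift_id_congr 𝒳.p (hρ y') hy'))
    (lift_id_comp_id 𝒳.p (hρ y) hf₀)
  rintro V f ⟨x₀, c₁, c₂, hc₁⟩ s ψ hψ
  obtain ⟨θ, hθ, hθfac⟩ :=
    cart_lift_id 𝒳.p (cart_of_fibGrpd 𝒳.p hfg (map_lift φ hc₁)) ψ hψ
  have e1 := hρchar y' x₀ (c₁ ≫ f₀) c₂
  have e2 := hρchar y x₀ c₁ c₂
  have e3 : φ.map (c₁ ≫ f₀) = φ.map c₁ ≫ φ.map f₀ := φ.toFunctor.map_comp _ _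
  rw [e3, Category.assoc] at e1
  rw [← hθfac, Category.assoc, Category.assoc, e1, ← Category.assoc (φ.map c₁), e2, Category.assoc]

end main

end Groth.Agent.H84.GerbeGlue
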