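import Groth.Agent.H84.StkOverStk
import Groth.Agent.H84.GerbeDesc
import Groth.Agent.H64.Stk.EquivOver

/-!
# A gerbe over a stack is a gerbe over the site of the stack

If `G : 𝒳 ⥤ᵇ 𝒴` makes `𝒳` a gerbe over `𝒴` (for `J`) and its underlying functor is fibred in
groupoids, then the structure functor of `𝒳` as a category over `𝒴` makes it a gerbe over the site
`𝒴` with the inherited topology.
-/

set_option autoImplicit false
set_option backward.isDefEq.respectTransparency false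
set_option backward.isDefEq.respectTransparency.types false
open CategoryTheory CategoryTheory.Limits
universe v₃ u₃ v₂ u₂ v u

namespace Groth.Agent.H84.GerbeOverStk

open Groth.Agent.H32 Groth.Agent.H64 Groth.Agent.H84.StkConcrete Groth.Agent.H84.StkObjSieve
  Groth.Agent.H84.StkOverStk

variable {C : Type u} [Category.{v} C] (J : GrothendieckTopology C)
  {𝒳 : BasedCategory.{v₂, u₂} C} {𝒴 : BasedCategory.{v₃, u₃} C} (G : 𝒳 ⥤ᵇ 𝒴)

/-- the sieve on an object of `𝒴` of the morphisms whose image lies in a covering sieve is covering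
for the inherited topology -/
theorem objSieve_mem (h𝒴 : FibCat.IsFibGrpd 𝒴.p) {U : C} (R : Sieve U) (hR : R ∈ J U)
    {y : 𝒴.obj} (hy : 𝒴.p.obj y = U) :
    objSieve (𝒯 := 𝒴) R hy ∈ 𝒴.p.restrictedTopology J y := by
  subst hy
  apply Functor.mem_restrictedTopology_of_functorPushforward_mem
  refine J.superset_covering ?_ hR
  intro V f hf
  obtain ⟨y', g, hg⟩ := h𝒴.exists_lift (x := y) f
  have hd : 𝒴.p.obj y' = V := lift_domain_eq 𝒴.p hg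
  refine ⟨y', g, eqToHom hd.symm, objSieve_of_lift (𝒯 := 𝒴) R rfl hf hg, ?_⟩
  have := IsHomLift.fac 𝒴.p f g
  rw [this]
  simp

variable (h𝒴 : FibCat.IsFibGrpd 𝒴.p) (hG : FibCat.IsFibGrpd G.toFunctor)
include h𝒴 hG

theorem locSurjObj_toSelf (h : Gerb.LocSurjObj J G) :
    Gerb.LocSurjObj (𝒴.p.restrictedTopology J) (FibCat.toSelf (Z G)) := by
  intro y
  obtain ⟨R, hR, hRy⟩ := h y
  refine ⟨objSieve (𝒯 := 𝒴) R rfl, objSieve_mem J h𝒴 R hR rfl, fun y' g hg => ?_⟩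
  have hg' : R (𝒴.p.map g ≫ eqToHom rfl) := hg
  obtain ⟨x, g₀, hg₀⟩ := hRy _ hg'
  have hsg₀ : 𝒴.p.IsStronglyCartesian (𝒴.p.map g ≫ eqToHom rfl) g₀ := cart_of_fibGrpd 𝒴.p h𝒴 hg₀
  obtain ⟨θ, -, -⟩ := cart_lift_id 𝒴.p hsg₀ g (lift_map_comp_eqToHom 𝒴.p g rfl)
  obtain ⟨x', θ', hθ'⟩ := hG.exists_lift (x := x) θ
  have hx' : G.obj x' = y' := lift_domain_eq G.toFunctor hθ'
  refine ⟨x', eqToHom hx' ≫ g, ?_⟩
  exact IsHomLift.of_fac (𝟭 𝒴.obj) g (eqToHom hx' ≫ g) hx' rfl (by simp)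

theorem locSurjHom_toSelf (h : Gerb.LocSurjHom J G) :
    Gerb.LocSurjHom (𝒴.p.restrictedTopology J) (FibCat.toSelf (Z G)) := by
  intro x x' b hb
  -- `b` is the transport along an equality of objects
  have hb₀ : (𝟭 𝒴.obj).IsHomLift (𝟙 (G.obj x)) (show G.obj x ⟶ G.obj x' from b) := hb
  have hxx' : G.obj x' = G.obj x :=
    IsHomLift.codomain_eq (𝟭 𝒴.obj) (𝟙 (G.obj x)) (show G.obj x ⟶ G.obj x' from b)
  have hbeq : b = eqToHom hxx'.symm := by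
    have := IsHomLift.fac' (𝟭 𝒴.obj) (𝟙 (G.obj x)) (show G.obj x ⟶ G.obj x' from b)
    simpa using this
  have hU : 𝒴.p.obj (G.obj x) = 𝒳.p.obj x := G.w_obj x
  have hb' : 𝒴.p.IsHomLift (𝟙 (𝒳.p.obj x)) (show G.obj x ⟶ G.obj x' from b) := by
    rw [hbeq]
    exact lift_eqToHom 𝒴.p hxx'.symm hU
  obtain ⟨R, hR, hRx⟩ := h x x' b hb'
  refine ⟨objSieve (𝒯 := 𝒴) R hU, objSieve_mem J h𝒴 R hR hU, fun y' g hg => ?_⟩
  have hg' : R (𝒴.p.map g ≫ eqToHom hU) := hg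
  obtain ⟨x₀, φ, ψ, hφ, hψ, hφψ⟩ := hRx _ hg'
  have hGφ : 𝒴.p.IsHomLift (𝒴.p.map g ≫ eqToHom hU) (G.map φ) :=
    (BasedFunctor.isHomLift_iff G _ φ).mpr hφ
  have hsGφ : 𝒴.p.IsStronglyCartesian (𝒴.p.map g ≫ eqToHom hU) (G.map φ) :=
    cart_of_fibGrpd 𝒴.p h𝒴 hGφ
  obtain ⟨θ, -, hθ⟩ := cart_lift_id 𝒴.p hsGφ g (lift_map_comp_eqToHom 𝒴.p g hU)
  obtain ⟨x₁, θ', hθ'⟩ := hG.exists_lift (x := x₀) θ
  have h1 : G.toFunctor.IsHomLift (θ ≫ G.map φ) (θ' ≫ φ) :=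
    lift_comp G.toFunctor hθ' (lift_map G.toFunctor φ)
  have h2 : G.toFunctor.IsHomLift (θ ≫ G.map ψ) (θ' ≫ ψ) :=
    lift_comp G.toFunctor hθ' (lift_map G.toFunctor ψ)
  have hφψ' : G.map φ ≫ eqToHom hxx'.symm = G.map ψ := hbeq ▸ hφψ
  refine ⟨x₁, θ' ≫ φ, θ' ≫ ψ, hθ ▸ h1, ?_, ?_⟩
  · have h3 : θ ≫ G.map ψ = g ≫ eqToHom hxx'.symm := by
      rw [← hφψ', ← Category.assoc, hθ]
    rw [h3] at h2
    exact (IsHomLift.lift_comp_eqToHom_iff G.toFunctor g (θ' ≫ ψ) hxx'.symm).mp h2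
  · show G.map (θ' ≫ φ) ≫ b = G.map (θ' ≫ ψ)
    rw [G.map_comp, G.map_comp, Category.assoc, hφψ]

/-- a gerbe over a stack through a functor fibred in groupoids is a gerbe over the site of the
stack -/
theorem isGerbeOver_toSelf (h : Gerb.IsGerbeOver J G) :
    Gerb.IsGerbeOver (𝒴.p.restrictedTopology J) (FibCat.toSelf (Z G)) :=
  ⟨locSurjObj_toSelf J G h𝒴 hG h.1, locSurjHom_toSelf J G h𝒴 hG h.2⟩

end Groth.Agent.H84.GerbeOverStk
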