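import Groth.Agent.H84.GerbeEquiv

set_option autoImplicit false
open CategoryTheory CategoryTheory.Limits
universe v₃ u₃ v₂ u₂ v u

namespace Groth.Agent.H84.GerbeQInv

open Groth.Agent.H32 Groth.Agent.H64 Groth.Agent.H84.GerbeGlue Groth.Agent.H84.GerbeEquiv

variable {C : Type u} [Category.{v} C] (J : GrothendieckTopology C)
  {𝒳 : BasedCategory.{v₂, u₂} C} {𝒴 : BasedCategory.{v₃, u₃} C}

/-- If `ψ ∘ φ` is trivial on the automorphism sheaf of `x` and `φ` is surjective on automorphism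
groups along `x`, then `φ ∘ ψ` is fibrewise isomorphic to the identity. -/
theorem fiberwise_qinv (h𝒳 : Gerb.IsGerbe J 𝒳) (h𝒴 : Gerb.IsGerbe J 𝒴)
    (φ : 𝒳 ⥤ᵇ 𝒴) (ψ : 𝒴 ⥤ᵇ 𝒳) (x : 𝒳.obj) (hT : IsTerminal (𝒳.p.obj x))
    (hφ : ∀ (x' : 𝒳.obj) (_ : x' ⟶ x), Function.Surjective (Gerb.autMap φ x'))
    (g : ψ.obj (φ.obj x) ⟶ x) (hg : 𝒳.p.IsHomLift (𝟙 (𝒳.p.obj x)) g)
    (hconj : ∀ (x' : 𝒳.obj) (c : x' ⟶ x) (g' : ψ.obj (φ.obj x') ⟶ x'),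
      𝒳.p.IsHomLift (𝟙 (𝒳.p.obj x')) g' →
      ψ.map (φ.map c) ≫ g = g' ≫ c →
      ∀ α : Gerb.AutO x', ψ.map (φ.map α.hom.1) ≫ g' = g' ≫ α.hom.1) :
    ∃ σ : ∀ z : 𝒴.obj, φ.obj (ψ.obj z) ⟶ z,
      (∀ z, IsIso (σ z) ∧ 𝒴.p.IsHomLift (𝟙 (𝒴.p.obj z)) (σ z)) ∧
      (∀ (z z' : 𝒴.obj) (f : z ⟶ z'), 𝒴.p.IsHomLift (𝟙 (𝒴.p.obj z)) f →
        φ.map (ψ.map f) ≫ σ z' = σ z ≫ f) := by
  obtain ⟨ρ, hρ, hρnat⟩ := fiberwise_iso_id J h𝒳 (BasedFunctor.comp φ ψ) x hT g hg hconj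
  have hρnat' : ∀ (y y' : 𝒳.obj) (f : y ⟶ y'), 𝒳.p.IsHomLift (𝟙 (𝒳.p.obj y)) f →
      ψ.map (φ.map f) ≫ ρ y' = ρ y ≫ f := hρnat
  -- `φ` is bijective on automorphism groups along `x`
  have hbij : ∀ (x' : 𝒳.obj) (_ : x' ⟶ x), Function.Bijective (Gerb.autMap φ x') := by
    intro x' c
    refine ⟨?_, hφ x' c⟩
    intro α β hαβ
    have h1 : φ.map α.hom.1 = φ.map β.hom.1 := congrArg (fun γ => γ.hom.1) hαβ
    have hα := hρnat' x' x' α.hom.1 α.hom.2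
    have hβ := hρnat' x' x' β.hom.1 β.hom.2
    have := (hρ x').1
    apply Aut.ext
    apply Functor.Fiber.hom_ext
    change α.hom.1 = β.hom.1
    rw [← cancel_epi (ρ x'), ← hα, ← hβ, h1]
  obtain ⟨G, -, ⟨ε⟩⟩ := isEquivOver_of_autMap_bijective J h𝒳 h𝒴 φ x hT hbij
  have hEx : ∀ z : 𝒴.obj, ∃ E : φ.obj (G.obj z) ⟶ z, E = bapp ε.hom z := fun z => ⟨_, rfl⟩
  choose E hEdef using hEx
  have hE : ∀ z, 𝒴.p.IsHomLift (𝟙 (𝒴.p.obj z)) (E z) := fun z => by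
    rw [hEdef]; exact bapp_isHomLift ε.hom z
  have hEnat : ∀ {z z' : 𝒴.obj} (f : z ⟶ z'), φ.map (G.map f) ≫ E z' = E z ≫ f := fun f => by
    rw [hEdef, hEdef]; exact bapp_naturality ε.hom f
  have hEiso : ∀ z, IsIso (E z) := fun z => isIso_of_lift_id 𝒴.p h𝒴.1.1 (hE z)
  have hψE : ∀ z, 𝒳.p.IsHomLift (𝟙 (𝒴.p.obj z)) (ψ.map (E z)) := fun z => map_lift₂ ψ (hE z)
  have hψEiso : ∀ z, IsIso (ψ.map (E z)) := fun z => isIso_of_lift_id 𝒳.p h𝒳.1.1 (hψE z)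
  have hτl : ∀ z, 𝒳.p.IsHomLift (𝟙 (𝒴.p.obj z)) (inv (ψ.map (E z)) ≫ ρ (G.obj z)) := fun z =>
    lift_id_comp_id 𝒳.p (lift_inv_of_isIso 𝒳.p _ (hψE z))
      (lift_id_congr 𝒳.p (hρ (G.obj z)).2 (G.w_obj z))
  have hσl : ∀ z, 𝒴.p.IsHomLift (𝟙 (𝒴.p.obj z))
      (φ.map (inv (ψ.map (E z)) ≫ ρ (G.obj z)) ≫ E z) := fun z =>
    lift_id_comp_id 𝒴.p (map_lift₂ φ (hτl z)) (hE z)
  refine ⟨fun z => φ.map (inv (ψ.map (E z)) ≫ ρ (G.obj z)) ≫ E z,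
    fun z => ⟨isIso_of_lift_id 𝒴.p h𝒴.1.1 (hσl z), hσl z⟩, ?_⟩
  intro z z' f hf
  have hGf : 𝒳.p.IsHomLift (𝟙 (𝒳.p.obj (G.obj z))) (G.map f) :=
    lift_id_congr 𝒳.p (map_lift₂ G hf) (G.w_obj z).symm
  have n1 := hρnat' (G.obj z) (G.obj z') (G.map f) hGf
  have n2 : φ.map (G.map f) ≫ E z' = E z ≫ f := hEnat f
  have n3 : ψ.map (φ.map (G.map f)) ≫ ψ.map (E z') = ψ.map (E z) ≫ ψ.map f := by
    have e1 : ψ.map (φ.map (G.map f) ≫ E z') = ψ.map (φ.map (G.map f)) ≫ ψ.map (E z') :=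
      ψ.toFunctor.map_comp _ _
    have e2 : ψ.map (E z ≫ f) = ψ.map (E z) ≫ ψ.map f := ψ.toFunctor.map_comp _ _
    rw [← e1, n2, e2]
  have n4 : ψ.map f ≫ inv (ψ.map (E z')) = inv (ψ.map (E z)) ≫ ψ.map (φ.map (G.map f)) := by
    rw [IsIso.eq_inv_comp, ← Category.assoc, ← n3, Category.assoc, IsIso.hom_inv_id,
      Category.comp_id]
  have n5 : ψ.map f ≫ (inv (ψ.map (E z')) ≫ ρ (G.obj z')) =
      (inv (ψ.map (E z)) ≫ ρ (G.obj z)) ≫ G.map f := by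
    rw [← Category.assoc, n4, Category.assoc, Category.assoc, n1]
    rfl
  have e3 : φ.map (ψ.map f) ≫ φ.map (inv (ψ.map (E z')) ≫ ρ (G.obj z')) =
      φ.map (ψ.map f ≫ (inv (ψ.map (E z')) ≫ ρ (G.obj z'))) := (φ.toFunctor.map_comp _ _).symm
  have e4 : φ.map ((inv (ψ.map (E z)) ≫ ρ (G.obj z)) ≫ G.map f) =
      φ.map (inv (ψ.map (E z)) ≫ ρ (G.obj z)) ≫ φ.map (G.map f) := φ.toFunctor.map_comp _ _
  change φ.map (ψ.map f) ≫ φ.map (inv (ψ.map (E z')) ≫ ρ (G.obj z')) ≫ E z' =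
    (φ.map (inv (ψ.map (E z)) ≫ ρ (G.obj z)) ≫ E z) ≫ f
  rw [← Category.assoc, e3, n5, e4, Category.assoc, n2, Category.assoc]

end Groth.Agent.H84.GerbeQInv
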