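import Groth.Agent.H84.IndCofDiv

/-!
# H84 — descending chains of cofinite-type subobjects stabilise (abstract version)
-/

set_option backward.isDefEq.respectTransparency false
set_option backward.isDefEq.respectTransparency.types false

namespace Groth.Agent.H84.IndCof

open CategoryTheory Limits

universe v u

variable {𝒜 : Type u} [Category.{v} 𝒜] [Abelian 𝒜]

section Lemmas

variable {A : 𝒜}

/-- Transfer an inclusion `kS ≤ k'S` from the object `S` to subobjects of `A`. -/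
lemma img_nsmul_le_of_mul_le (S : Subobject A) (k k' : ℕ)
    (e : mul (S : 𝒜) k ≤ mul (S : 𝒜) k') : img (k • 𝟙 A) S ≤ img (k' • 𝟙 A) S := by
  rw [le_iff_forall_factors]
  intro Z b hb
  obtain ⟨Z1, π1, _, a, ha, e1⟩ := (img_nsmul_factors_iff _ _ b).1 hb
  obtain ⟨Z2, π2, _, c, hc⟩ := (mul_factors_iff k' _).1
    (Subobject.factors_of_le _ e (mul_factors_nsmul k (S.factorThru a ha)))
  refine (img_nsmul_factors_iff _ _ b).2 ⟨Z2, π2 ≫ π1, inferInstance, c ≫ S.arrow,
    S.factors_comp_arrow c, ?_⟩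
  rw [Category.assoc, e1, ← S.factorThru_arrow a ha, ← Preadditive.nsmul_comp,
    ← Category.assoc, hc, Preadditive.nsmul_comp]

lemma img_nsmul_eq_of_mul_eq (S : Subobject A) (k k' : ℕ)
    (e : mul (S : 𝒜) k = mul (S : 𝒜) k') : img (k • 𝟙 A) S = img (k' • 𝟙 A) S :=
  le_antisymm (img_nsmul_le_of_mul_le S k k' e.le) (img_nsmul_le_of_mul_le S k' k e.ge)

/-- Relative `p`-power torsion. -/
lemma le_of_forall_inf_tor_pow_le (p : ℕ)
    (htp : ∀ (B : 𝒜) (S : Subobject B), (∀ j : ℕ, tor B (p ^ j) ≤ S) → S = ⊤)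
    (S T : Subobject A) (hST : ∀ j : ℕ, S ⊓ tor A (p ^ j) ≤ T) : S ≤ T := by
  have h1 : pre S.arrow T = ⊤ := by
    apply htp
    intro j
    rw [le_iff_forall_factors]
    intro Z a ha
    rw [tor_factors_iff] at ha
    rw [pre_factors_iff]
    apply Subobject.factors_of_le _ (hST j)
    rw [Subobject.inf_factors]
    refine ⟨S.factors_comp_arrow a, ?_⟩
    rw [tor_factors_iff, ← Preadditive.nsmul_comp, ha, zero_comp]
  rw [le_iff_forall_factors]
  intro Z a ha
  have h2 : (pre S.arrow T).Factors (S.factorThru a ha) := by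
    rw [h1]; exact Subobject.top_factors _
  rwa [pre_factors_iff, S.factorThru_arrow] at h2

/-- A `p`-divisible subobject `D'` of a `p`-primary `D` containing `D[p]` is all of `D`. -/
lemma le_of_divisible_of_tor_le (p : ℕ)
    (htp : ∀ (B : 𝒜) (S : Subobject B), (∀ j : ℕ, tor B (p ^ j) ≤ S) → S = ⊤)
    (D D' : Subobject A) (hD' : D' ≤ img (p • 𝟙 A) D') (hle : D' ≤ D)
    (htor : D ⊓ tor A p ≤ D') : D ≤ D' := by
  apply le_of_forall_inf_tor_pow_le p htp
  intro j
  induction j with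
  | zero =>
    rw [le_iff_forall_factors]
    intro Z a ha
    rw [Subobject.inf_factors, tor_factors_iff, pow_zero, one_smul] at ha
    rw [ha.2]; exact Subobject.factors_zero
  | succ j ih =>
    rw [le_iff_forall_factors]
    intro Z a ha
    rw [Subobject.inf_factors, tor_factors_iff] at ha
    obtain ⟨haD, ha0⟩ := ha
    have h1 : D'.Factors (p • a) := by
      apply Subobject.factors_of_le _ ih
      rw [Subobject.inf_factors, tor_factors_iff, smul_smul, ← pow_succ]
      exact ⟨factors_nsmul D p a haD, ha0⟩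
    obtain ⟨Z1, π1, _, a'', ha'', e⟩ := (img_nsmul_factors_iff _ _ _).1
      (Subobject.factors_of_le _ hD' h1)
    apply factors_of_epi_comp D' π1
    have h2 : D'.Factors (π1 ≫ a - a'') := by
      apply Subobject.factors_of_le _ htor
      rw [Subobject.inf_factors, tor_factors_iff]
      refine ⟨factors_sub D _ _ (Subobject.factors_of_factors_right π1 haD)
        (Subobject.factors_of_le _ hle ha''), ?_⟩
      rw [smul_sub, ← e, Preadditive.comp_nsmul, sub_self]
    have h3 : π1 ≫ a = (π1 ≫ a - a'') + a'' := by abel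
    rw [h3]
    exact Subobject.factors_add _ _ h2 ha''

end Lemmas

namespace SmallClass

variable (h : SmallClass 𝒜)

/-- **Descending chains of cofinite-type subobjects of a cofinite-type object stabilise.** -/
theorem chain_stabilizes (p : ℕ) (hp : p.Prime)
    (htp : ∀ (B : 𝒜) (S : Subobject B), (∀ j : ℕ, tor B (p ^ j) ≤ S) → S = ⊤)
    (A : 𝒜) (hA : ∀ n : ℕ, h.P (kernel ((p ^ n) • 𝟙 A))) (S : ℕ → Subobject A) (hS : Antitone S)
    (hcof : ∀ m n : ℕ, h.P (kernel ((p ^ n) • 𝟙 (S m : 𝒜)))) :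
    ∃ N : ℕ, ∀ m : ℕ, N ≤ m → S m = S N := by
  have hAcof : h.Cof (powSet p) A := (cof_powSet_iff h p).2 hA
  have hScof : ∀ m, h.Cof (powSet p) (S m : 𝒜) := fun m => (cof_powSet_iff h p).2 (hcof m)
  -- Step 1: stabilisation indices and divisible parts
  have hex : ∀ m, ∃ N, ∀ n, N ≤ n → img ((p ^ n) • 𝟙 A) (S m) = img ((p ^ N) • 𝟙 A) (S m) := by
    intro m
    obtain ⟨N, hN⟩ := h.mul_pow_stationary (S m : 𝒜) p hp (hcof m)
    exact ⟨N, fun n hn => img_nsmul_eq_of_mul_eq (S m) _ _ (hN n hn)⟩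
  choose Nm hNm using hex
  set D : ℕ → Subobject A := fun m => img ((p ^ (Nm m)) • 𝟙 A) (S m) with hD
  have hD1 : ∀ m n, Nm m ≤ n → img ((p ^ n) • 𝟙 A) (S m) = D m := fun m n hn => hNm m n hn
  have hD2 : Antitone D := by
    intro m m' hmm'
    rw [← hD1 m (max (Nm m) (Nm m')) (le_max_left _ _),
      ← hD1 m' (max (Nm m) (Nm m')) (le_max_right _ _)]
    exact img_mono _ (hS hmm')
  have hD3 : ∀ m, D m ≤ S m := fun m => img_nsmul_le_self _ _
  have hD4 : ∀ m, D m ≤ img (p • 𝟙 A) (D m) := by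
    intro m
    rw [hD, img_nsmul_img_nsmul, ← pow_succ']
    exact (hD1 m _ (by omega)).ge
  have hD5 : ∀ m, h.P ((D m ⊓ tor A p : Subobject A) : 𝒜) := by
    intro m
    have : h.Cof (powSet p) (D m : 𝒜) :=
      h.Cof_of_epi_mono (powSet p) (powSet_pow_mem p)
        (factorThruImageSubobject ((S m).arrow ≫ ((p ^ (Nm m)) • 𝟙 A))) (D m).arrow (hScof m) hAcof
    rw [P_inf_tor_iff]
    exact this p ⟨1, by simp⟩
  -- Step 2: the `p`-torsion of the divisible parts stabilises
  obtain ⟨m₀, hm₀⟩ := h.dcc (tor A p) ((h.P_tor p).2 (by simpa using hA 1))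
    (fun m => D m ⊓ tor A p) (fun m m' hmm' => inf_le_inf_right _ (hD2 hmm'))
    (fun m => inf_le_right) hD5
  -- Step 3: the divisible parts stabilise
  have hDm : ∀ m, m₀ ≤ m → D m = D m₀ := by
    intro m hm
    refine le_antisymm (hD2 hm) ?_
    apply le_of_divisible_of_tor_le p htp (D m₀) (D m) (hD4 m) (hD2 hm)
    rw [← hm₀ m hm]
    exact inf_le_left
  -- Step 4: pass to the quotient of `S m₀` by its divisible part
  set B : 𝒜 := (S m₀ : 𝒜) with hB
  set N := Nm m₀ with hN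
  have hX : h.P (cokernel ((p ^ N) • 𝟙 B)) :=
    h.P_cokernel_nsmul_of_cof (powSet p) (powSet_pow_mem p) (hScof m₀) _ ⟨N, rfl⟩
  let q : B ⟶ cokernel ((p ^ N) • 𝟙 B) := cokernel.π _
  let v : ∀ i : ℕ, (S (m₀ + i) : 𝒜) ⟶ cokernel ((p ^ N) • 𝟙 B) := fun i =>
    Subobject.ofLE _ _ (hS (Nat.le_add_right m₀ i)) ≫ q
  have hv : ∀ i, ((p ^ (Nm (m₀ + i))) • 𝟙 (S (m₀ + i) : 𝒜)) ≫ v i = 0 := by
    intro i
    have h1 : (D m₀).Factors
        (((p ^ (Nm (m₀ + i))) • 𝟙 (S (m₀ + i) : 𝒜)) ≫ (S (m₀ + i)).arrow) := by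
      rw [← hDm (m₀ + i) (by omega)]
      have := img_factors_of_factors ((p ^ (Nm (m₀ + i))) • 𝟙 A) (S (m₀ + i))
        (S (m₀ + i)).arrow (Subobject.factors_self _)
      simpa using this
    obtain ⟨Z1, π1, _, s, hs, e⟩ := (img_nsmul_factors_iff _ _ _).1 h1
    have h2 : π1 ≫ ((p ^ (Nm (m₀ + i))) • 𝟙 (S (m₀ + i) : 𝒜)) ≫
        Subobject.ofLE _ _ (hS (Nat.le_add_right m₀ i)) =
        (S m₀).factorThru s hs ≫ ((p ^ N) • 𝟙 B) := by
      rw [← cancel_mono (S m₀).arrow]
      simp only [Category.assoc, Subobject.ofLE_arrow]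
      rw [e, ← Category.assoc, comp_nsmul_id, Preadditive.nsmul_comp, Subobject.factorThru_arrow]
    rw [← cancel_epi π1, comp_zero]
    simp only [v]
    rw [← Category.assoc, ← Category.assoc, Category.assoc π1, h2, Category.assoc,
      cokernel.condition, comp_zero]
  set R : ℕ → Subobject (cokernel ((p ^ N) • 𝟙 B)) := fun i => imageSubobject (v i) with hR
  have hR1 : Antitone R := by
    apply antitone_nat_of_succ_le
    intro i
    have : v (i + 1) = Subobject.ofLE _ _ (hS (show m₀ + i ≤ m₀ + (i + 1) by omega)) ≫ v i := by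
      simp only [v]
      rw [← Category.assoc, Subobject.ofLE_comp_ofLE]
    simp only [hR]
    rw [this]
    exact imageSubobject_comp_le _ _
  have hR2 : ∀ i, h.P (R i : 𝒜) := by
    intro i
    have h0 : ((p ^ (Nm (m₀ + i))) • 𝟙 (S (m₀ + i) : 𝒜)) ≫ factorThruImageSubobject (v i) = 0 := by
      rw [← cancel_mono (imageSubobject (v i)).arrow, Category.assoc, imageSubobject_arrow_comp,
        zero_comp, hv i]
    let e := cokernel.desc _ (factorThruImageSubobject (v i)) h0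
    have he : cokernel.π _ ≫ e = factorThruImageSubobject (v i) := cokernel.π_desc _ _ _
    have : Epi e := by
      have : Epi (cokernel.π ((p ^ (Nm (m₀ + i))) • 𝟙 (S (m₀ + i) : 𝒜)) ≫ e) := by
        rw [he]; infer_instance
      exact epi_of_epi (cokernel.π _) e
    exact h.of_epi_mono e (R i).arrow
      (h.P_cokernel_nsmul_of_cof (powSet p) (powSet_pow_mem p) (hScof (m₀ + i)) _ ⟨_, rfl⟩) hX
  obtain ⟨i₁, hi₁⟩ := h.dcc (⊤ : Subobject (cokernel ((p ^ N) • 𝟙 B)))
    (h.of_iso (asIso (⊤ : Subobject (cokernel ((p ^ N) • 𝟙 B))).arrow).symm hX) R hR1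
    (fun _ => le_top) hR2
  -- Step 5: correspondence
  refine ⟨m₀ + i₁, fun m hm => le_antisymm (hS hm) ?_⟩
  obtain ⟨i, rfl⟩ : ∃ i, m = m₀ + i := ⟨m - m₀, by omega⟩
  have hii : i₁ ≤ i := by omega
  rw [le_iff_forall_factors]
  intro Z a ha
  set a₁ := (S (m₀ + i₁)).factorThru a ha with ha₁
  have h1 : (R i).Factors (a₁ ≫ v i₁) := by
    rw [hi₁ i hii]
    exact imageSubobject_factors_comp_self _ _
  obtain ⟨Z1, π1, _, c, hc⟩ := (imageSubobject_factors_iff _ _).1 h1
  -- the difference lies in `ker q = p^N B`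
  let d : Z1 ⟶ B := π1 ≫ a₁ ≫ Subobject.ofLE _ _ (hS (Nat.le_add_right m₀ i₁)) -
    c ≫ Subobject.ofLE _ _ (hS (Nat.le_add_right m₀ i))
  have hd : d ≫ q = 0 := by
    simp only [d, Preadditive.sub_comp, Category.assoc]
    rw [sub_eq_zero]
    exact hc
  obtain ⟨Z2, π2, _, b, hb⟩ :=
    (CokernelCofork.IsColimit.comp_π_eq_zero_iff_up_to_refinements
      (cokernelIsCokernel ((p ^ N) • 𝟙 B)) d).1 hd
  have hdA : d ≫ (S m₀).arrow = π1 ≫ a - c ≫ (S (m₀ + i)).arrow := by
    simp only [d, Preadditive.sub_comp, Category.assoc, Subobject.ofLE_arrow]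
    rw [ha₁, Subobject.factorThru_arrow]
  have h2 : (S (m₀ + i)).Factors (π2 ≫ d ≫ (S m₀).arrow) := by
    apply Subobject.factors_of_le _ (hD3 (m₀ + i))
    rw [hDm (m₀ + i) (by omega)]
    refine (img_nsmul_factors_iff _ _ _).2 ⟨Z2, 𝟙 _, inferInstance, b ≫ (S m₀).arrow,
      Subobject.factors_comp_arrow _, ?_⟩
    rw [Category.id_comp, ← Category.assoc, hb, comp_nsmul_id, Preadditive.nsmul_comp]
  apply factors_of_epi_comp _ (π2 ≫ π1)
  have h3 : (π2 ≫ π1) ≫ a = π2 ≫ d ≫ (S m₀).arrow + π2 ≫ c ≫ (S (m₀ + i)).arrow := by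
    rw [hdA, Preadditive.comp_sub, Category.assoc, sub_add_cancel]
  rw [h3]
  refine Subobject.factors_add _ _ h2 ?_
  rw [← Category.assoc]
  exact Subobject.factors_comp_arrow _

end SmallClass

end Groth.Agent.H84.IndCof
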