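import Groth.Agent.H84.IndCofKer

/-!
# H84 — divisible parts of objects of cofinite type (abstract version)

* translation lemmas between a subobject `S ≤ A` viewed as an object and subobjects of `A`;
* stabilisation of `p^n A`;
* properties of the divisible part `p^N A`.
-/

set_option backward.isDefEq.respectTransparency false
set_option backward.isDefEq.respectTransparency.types false

namespace Groth.Agent.H84.IndCof

open CategoryTheory Limits

universe v u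

variable {𝒜 : Type u} [Category.{v} 𝒜] [Abelian 𝒜]

section Translate

variable {A : 𝒜}

omit [Abelian 𝒜] in
lemma mk_factors_iff' {X Z : 𝒜} (m : X ⟶ A) [Mono m] (a : Z ⟶ A) :
    (Subobject.mk m).Factors a ↔ ∃ a' : Z ⟶ X, a' ≫ m = a := by
  rw [Subobject.mk_factors_iff]
  rfl

lemma mk_kernel_nsmul_eq (S : Subobject A) (k : ℕ) :
    Subobject.mk (kernel.ι (k • 𝟙 (S : 𝒜)) ≫ S.arrow) = S ⊓ tor A k := by
  apply le_antisymm <;> rw [le_iff_forall_factors] <;> intro Z a ha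
  · obtain ⟨a', rfl⟩ := (mk_factors_iff' _ a).1 ha
    rw [Subobject.inf_factors]
    refine ⟨?_, ?_⟩
    · rw [← Category.assoc]; exact S.factors_comp_arrow _
    · rw [tor_factors_iff, ← comp_nsmul_id, Category.assoc, Category.assoc, comp_nsmul_id,
        show k • S.arrow = (k • 𝟙 (S : 𝒜)) ≫ S.arrow by simp, kernel.condition_assoc, zero_comp,
        comp_zero]
  · rw [Subobject.inf_factors] at ha
    obtain ⟨h1, h2⟩ := ha
    rw [tor_factors_iff] at h2
    have h3 : S.factorThru a h1 ≫ (k • 𝟙 (S : 𝒜)) = 0 := by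
      rw [← cancel_mono S.arrow, zero_comp, comp_nsmul_id, Preadditive.nsmul_comp,
        S.factorThru_arrow, h2]
    exact (mk_factors_iff' _ a).2 ⟨kernel.lift _ _ h3, by
      rw [← Category.assoc, kernel.lift_ι, S.factorThru_arrow]⟩

/-- `S[k]` as an object is the underlying object of `S ⊓ A[k]`. -/
noncomputable def kernelNsmulIso (S : Subobject A) (k : ℕ) :
    kernel (k • 𝟙 (S : 𝒜)) ≅ ((S ⊓ tor A k : Subobject A) : 𝒜) :=
  (Subobject.underlyingIso _).symm ≪≫ Subobject.isoOfEq _ _ (mk_kernel_nsmul_eq S k)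

/-- `k` is an epimorphism on `S` iff `S ≤ kS`. -/
lemma epi_nsmul_iff (S : Subobject A) (k : ℕ) :
    Epi (k • 𝟙 (S : 𝒜)) ↔ S ≤ img (k • 𝟙 A) S := by
  constructor
  · intro hepi
    rw [le_iff_forall_factors]
    intro Z a ha
    obtain ⟨Z', π, hπ, b, hb⟩ :=
      surjective_up_to_refinements_of_epi (k • 𝟙 (S : 𝒜)) (S.factorThru a ha)
    refine (img_factors_iff _ S a).2 ⟨Z', π, hπ, b ≫ S.arrow, S.factors_comp_arrow b, ?_⟩
    rw [← S.factorThru_arrow a ha, ← Category.assoc, hb]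
    simp
  · intro hle
    rw [epi_iff_surjective_up_to_refinements]
    intro Z z
    obtain ⟨Z', π, hπ, s, hs, e⟩ := (img_factors_iff _ S _).1
      (Subobject.factors_of_le _ hle (S.factors_comp_arrow z))
    refine ⟨Z', π, hπ, S.factorThru s hs, ?_⟩
    rw [← cancel_mono S.arrow, Category.assoc, e, Category.assoc, comp_nsmul_id,
      Preadditive.nsmul_comp, Category.id_comp, Preadditive.comp_nsmul, S.factorThru_arrow]

lemma img_nsmul_factors_iff (S : Subobject A) (k : ℕ) {Z : 𝒜} (b : Z ⟶ A) :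
    (img (k • 𝟙 A) S).Factors b ↔
      ∃ (Z' : 𝒜) (π : Z' ⟶ Z) (_ : Epi π) (a : Z' ⟶ A), S.Factors a ∧ π ≫ b = k • a := by
  rw [img_factors_iff]
  simp only [comp_nsmul_id]

lemma img_nsmul_mul (k m : ℕ) : img (k • 𝟙 A) (mul A m) = mul A (k * m) := by
  apply le_antisymm <;> rw [le_iff_forall_factors] <;> intro Z b hb
  · obtain ⟨Z1, π1, _, a, ha, e⟩ := (img_nsmul_factors_iff _ _ b).1 hb
    obtain ⟨Z2, π2, _, c, hc⟩ := (mul_factors_iff m a).1 ha
    refine (mul_factors_iff _ b).2 ⟨Z2, π2 ≫ π1, inferInstance, c, ?_⟩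
    rw [Category.assoc, e, Preadditive.comp_nsmul, hc, smul_smul]
  · obtain ⟨Z1, π1, _, c, hc⟩ := (mul_factors_iff _ b).1 hb
    refine (img_nsmul_factors_iff _ _ b).2 ⟨Z1, π1, inferInstance, m • c,
      mul_factors_nsmul m c, ?_⟩
    rw [hc, smul_smul]

lemma mul_eq_img_top (k : ℕ) : mul A k = img (k • 𝟙 A) ⊤ := (img_top _).symm

lemma img_nsmul_le_self (S : Subobject A) (k : ℕ) : img (k • 𝟙 A) S ≤ S := by
  rw [le_iff_forall_factors]
  intro Z b hb
  obtain ⟨Z1, π1, _, a, ha, e⟩ := (img_nsmul_factors_iff _ _ b).1 hb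
  apply factors_of_epi_comp S π1
  rw [e]
  exact factors_nsmul S k a ha

lemma img_nsmul_img_nsmul (S : Subobject A) (k m : ℕ) :
    img (k • 𝟙 A) (img (m • 𝟙 A) S) = img ((k * m) • 𝟙 A) S := by
  apply le_antisymm <;> rw [le_iff_forall_factors] <;> intro Z b hb
  · obtain ⟨Z1, π1, _, a, ha, e⟩ := (img_nsmul_factors_iff _ _ b).1 hb
    obtain ⟨Z2, π2, _, c, hc, e2⟩ := (img_nsmul_factors_iff _ _ a).1 ha
    refine (img_nsmul_factors_iff _ _ b).2 ⟨Z2, π2 ≫ π1, inferInstance, c, hc, ?_⟩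
    rw [Category.assoc, e, Preadditive.comp_nsmul, e2, smul_smul]
  · obtain ⟨Z1, π1, _, c, hc, e⟩ := (img_nsmul_factors_iff _ _ b).1 hb
    refine (img_nsmul_factors_iff _ _ b).2 ⟨Z1, π1, inferInstance, m • c, ?_, ?_⟩
    · exact (img_nsmul_factors_iff _ _ _).2 ⟨Z1, 𝟙 _, inferInstance, c, hc, by simp⟩
    · rw [e, smul_smul]

end Translate

namespace SmallClass

variable (h : SmallClass 𝒜)

include h in
/-- Relative torsion: a subobject is the union of its torsion parts. -/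
lemma le_of_forall_inf_tor_le {A : 𝒜} (S T : Subobject A)
    (hST : ∀ k, 0 < k → S ⊓ tor A k ≤ T) : S ≤ T := by
  have h1 : pre S.arrow T = ⊤ := by
    apply h.tors
    intro k hk
    rw [le_iff_forall_factors]
    intro Z a ha
    rw [tor_factors_iff] at ha
    rw [pre_factors_iff]
    apply Subobject.factors_of_le _ (hST k hk)
    rw [Subobject.inf_factors]
    refine ⟨S.factors_comp_arrow a, ?_⟩
    rw [tor_factors_iff, ← Preadditive.nsmul_comp, ha, zero_comp]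
  rw [le_iff_forall_factors]
  intro Z a ha
  have h2 : (pre S.arrow T).Factors (S.factorThru a ha) := by
    rw [h1]; exact Subobject.top_factors _
  rwa [pre_factors_iff, S.factorThru_arrow] at h2

lemma P_inf_tor_iff {A : 𝒜} (S : Subobject A) (k : ℕ) :
    h.P ((S ⊓ tor A k : Subobject A) : 𝒜) ↔ h.P (kernel (k • 𝟙 (S : 𝒜))) :=
  ⟨fun hh => h.of_iso (kernelNsmulIso S k).symm hh, fun hh => h.of_iso (kernelNsmulIso S k) hh⟩

end SmallClass

section Stab

variable (A : 𝒜) (p : ℕ)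

/-- Inductive step for the stabilisation of `p^n A`. -/
lemma mul_factors_of_chain_stationary (j₀ : ℕ)
    (hst : ∀ j, j₀ ≤ j → chain A p j = chain A p j₀) (n : ℕ) (hn : j₀ ≤ n) (j : ℕ) :
    ∀ {Z : 𝒜} (a : Z ⟶ A), (p ^ (n + j)) • a = 0 → (mul A (p ^ (n + 1))).Factors ((p ^ n) • a) := by
  induction j with
  | zero =>
    intro Z a ha
    rw [add_zero] at ha
    rw [ha]; exact Subobject.factors_zero
  | succ j ih =>
    intro Z a ha
    have h1 : (chain A p (n + j)).Factors ((p ^ (n + j)) • a) :=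
      (chain_factors_iff A p (n + j) _).2 ⟨Z, 𝟙 Z, inferInstance, a, ha, by simp⟩
    rw [hst (n + j) (by omega), ← hst (n + j + 1) (by omega)] at h1
    obtain ⟨Z', π, hπ, b, hb, e⟩ := (chain_factors_iff A p (n + j + 1) _).1 h1
    apply factors_of_epi_comp _ π
    have h2 : (p ^ (n + j)) • (π ≫ a - p • b) = 0 := by
      rw [smul_sub, smul_smul, ← pow_succ, ← e, Preadditive.comp_nsmul, sub_self]
    have h3 := ih (π ≫ a - p • b) h2
    have h4 : π ≫ ((p ^ n) • a) = (p ^ n) • (π ≫ a - p • b) + (p ^ (n + 1)) • b := by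
      rw [smul_sub, smul_smul, ← pow_succ, sub_add_cancel, Preadditive.comp_nsmul]
    rw [h4]
    exact Subobject.factors_add _ _ h3 (mul_factors_nsmul _ b)

lemma tor_le_pre_mul_of_chain_stationary (hp : p.Prime) (j₀ : ℕ)
    (hst : ∀ j, j₀ ≤ j → chain A p j = chain A p j₀) (n : ℕ) (hn : j₀ ≤ n) (k : ℕ) (hk : 0 < k) :
    tor A k ≤ pre ((p ^ n) • 𝟙 A) (mul A (p ^ (n + 1))) := by
  obtain ⟨e, k', hk', rfl⟩ := Nat.exists_eq_pow_mul_and_not_dvd hk.ne' p hp.ne_one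
  have hcop : Nat.Coprime (p ^ e) k' :=
    Nat.Coprime.pow_left e ((Nat.Prime.coprime_iff_not_dvd hp).2 hk')
  refine (tor_mul_le_of_coprime hcop).trans (sup_le ?_ ?_)
  · rw [le_iff_forall_factors]
    intro Z a ha
    rw [tor_factors_iff] at ha
    rw [pre_factors_iff, comp_nsmul_id]
    apply mul_factors_of_chain_stationary A p j₀ hst n hn e a
    rw [pow_add, mul_smul, ha, smul_zero]
  · have hcop' : Nat.Coprime k' (p ^ (n + 1)) :=
      (Nat.Coprime.pow_left (n + 1) ((Nat.Prime.coprime_iff_not_dvd hp).2 hk')).symm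
    rw [le_iff_forall_factors]
    intro Z a ha
    rw [pre_factors_iff, comp_nsmul_id]
    exact factors_nsmul _ _ _ (Subobject.factors_of_le _ (tor_le_mul_of_coprime hcop') ha)

end Stab

namespace SmallClass

variable (h : SmallClass 𝒜)

/-- **Stabilisation of `p^n A`** for `A` with all `A[p^j]` small. -/
theorem mul_pow_stationary (A : 𝒜) (p : ℕ) (hp : p.Prime)
    (hA : ∀ j, h.P (kernel ((p ^ j) • 𝟙 A))) :
    ∃ N, ∀ n, N ≤ n → mul A (p ^ n) = mul A (p ^ N) := by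
  have hA' : ∀ j, h.P (tor A (p ^ j) : 𝒜) := fun j => (h.P_tor _).2 (hA j)
  obtain ⟨j₀, hst⟩ := h.dcc (tor A p) (by simpa using hA' 1) (chain A p) (chain_antitone A p)
    (chain_le_tor A p) (h.P_chain A p hA')
  refine ⟨j₀, fun n hn => ?_⟩
  induction n, hn using Nat.le_induction with
  | base => rfl
  | succ n hn ih =>
    refine le_antisymm ((mul_le_mul_of_dvd (pow_dvd_pow p (by omega))).trans ih.le) ?_
    rw [← ih, mul_eq_img_top (p ^ n), img_le_iff]
    exact (h.tors A _ (fun k hk =>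
      tor_le_pre_mul_of_chain_stationary A p hp j₀ hst n hn k hk)).ge


/-- The set of powers of `p`. -/
abbrev powSet (p : ℕ) : Set ℕ := Set.range (fun n : ℕ => p ^ n)

lemma powSet_pow_mem (p : ℕ) : ∀ k ∈ powSet p, ∀ j : ℕ, k ^ j ∈ powSet p := by
  rintro _ ⟨n, rfl⟩ j
  exact ⟨n * j, by simp [pow_mul]⟩

lemma cof_powSet_iff {A : 𝒜} (p : ℕ) :
    h.Cof (powSet p) A ↔ ∀ n : ℕ, h.P (kernel ((p ^ n) • 𝟙 A)) :=
  ⟨fun hh n => hh _ ⟨n, rfl⟩, fun hh k hk => by obtain ⟨n, rfl⟩ := hk; exact hh n⟩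

/-- The divisible part `p^N A` is of cofinite type. -/
lemma cof_mul {A : 𝒜} (M : Set ℕ) (hM : ∀ k ∈ M, ∀ j : ℕ, k ^ j ∈ M) (hA : h.Cof M A) (m : ℕ) :
    h.Cof M (mul A m : 𝒜) :=
  h.Cof_of_epi_mono M hM (factorThruImageSubobject (m • 𝟙 A)) (mul A m).arrow hA hA

lemma epi_nsmul_mul_of_eq {A : 𝒜} (k m : ℕ) (hkm : mul A (k * m) = mul A m) :
    Epi (k • 𝟙 ((mul A m : Subobject A) : 𝒜)) := by
  rw [epi_nsmul_iff, img_nsmul_mul, hkm]

lemma le_img_pow_of_epi {A : 𝒜} (D : Subobject A) (p : ℕ) (hD : Epi (p • 𝟙 (D : 𝒜))) (j : ℕ) :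
    D ≤ img ((p ^ j) • 𝟙 A) D := by
  rw [epi_nsmul_iff] at hD
  induction j with
  | zero =>
    rw [le_iff_forall_factors]
    intro Z a ha
    exact (img_nsmul_factors_iff _ _ a).2 ⟨Z, 𝟙 Z, inferInstance, a, ha, by simp⟩
  | succ j ih =>
    rw [pow_succ', ← img_nsmul_img_nsmul]
    exact hD.trans (img_mono _ ih)

lemma le_mul_pow_of_epi {A : 𝒜} (D : Subobject A) (p : ℕ) (hD : Epi (p • 𝟙 (D : 𝒜))) (j : ℕ) :
    D ≤ mul A (p ^ j) := by
  rw [mul_eq_img_top]
  exact (le_img_pow_of_epi D p hD j).trans (img_mono _ le_top)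

lemma mul_arrow_comp_eq_zero {A Q : 𝒜} (q : A ⟶ Q) (m k : ℕ) (hk : k • 𝟙 Q = 0)
    (hm : mul A m ≤ mul A k) : (mul A m).arrow ≫ q = 0 := by
  obtain ⟨Z', π, hπ, b, hb⟩ := (mul_factors_iff k (mul A m).arrow).1
    (Subobject.factors_of_le _ hm (Subobject.factors_self _))
  rw [← cancel_epi π, comp_zero, ← Category.assoc, hb, Preadditive.nsmul_comp, ← comp_nsmul_id,
    hk, comp_zero]

/-- **Properties of the divisible part** `p^N A`. -/
theorem divisiblePart_properties (p : ℕ) (hkill : ∀ Q : 𝒜, h.P Q → ∃ k : ℕ, (p ^ k) • 𝟙 Q = 0)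
    (A : 𝒜) (hA : ∀ n : ℕ, h.P (kernel ((p ^ n) • 𝟙 A))) (N : ℕ)
    (hN : ∀ n : ℕ, N ≤ n → mul A (p ^ n) = mul A (p ^ N)) :
    (∀ n : ℕ, h.P (kernel ((p ^ n) • 𝟙 ((mul A (p ^ N) : Subobject A) : 𝒜)))) ∧
      Epi (p • 𝟙 ((mul A (p ^ N) : Subobject A) : 𝒜)) ∧
      (∀ D : Subobject A, Epi (p • 𝟙 (D : 𝒜)) → D ≤ mul A (p ^ N)) ∧
      (∀ (Q : 𝒜) (q : A ⟶ Q), h.P Q → (mul A (p ^ N)).arrow ≫ q = 0) := by
  refine ⟨?_, ?_, ?_, ?_⟩
  · exact (cof_powSet_iff h p).1
      (h.cof_mul (powSet p) (powSet_pow_mem p) ((cof_powSet_iff h p).2 hA) _)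
  · apply epi_nsmul_mul_of_eq
    rw [← pow_succ']
    exact hN _ (by omega)
  · intro D hD
    exact le_mul_pow_of_epi D p hD N
  · intro Q q hQ
    obtain ⟨k, hk⟩ := hkill Q hQ
    apply mul_arrow_comp_eq_zero q _ _ hk
    by_cases hkN : N ≤ k
    · rw [hN k hkN]
    · exact mul_le_mul_of_dvd (pow_dvd_pow p (by omega))

end SmallClass

end Groth.Agent.H84.IndCof
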