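import Groth.Agent.H84.IndCofDiv

/-!
# H84 — divisible subobjects of torsion objects of cofinite type (abstract version)
-/

set_option backward.isDefEq.respectTransparency false
set_option backward.isDefEq.respectTransparency.types false

namespace Groth.Agent.H84.IndCof

open CategoryTheory Limits

universe v u

variable {𝒜 : Type u} [Category.{v} 𝒜] [Abelian 𝒜]

/-- The set of positive integers. -/
abbrev posSet : Set ℕ := {n : ℕ | 0 < n}

lemma posSet_pow_mem : ∀ k ∈ posSet, ∀ j : ℕ, k ^ j ∈ posSet :=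
  fun _ hk j => Set.mem_ofPred.2 (pow_pos (Set.mem_ofPred.1 hk) j)

section Lemmas

variable {A : 𝒜}

/-- A subobject is divisible if multiplication by every positive integer is an epimorphism. -/
def Dv (B' : Subobject A) : Prop := ∀ k : ℕ, 0 < k → Epi (k • 𝟙 (B' : 𝒜))

lemma Dv.le_mul {B' : Subobject A} (hB : Dv B') (k : ℕ) (hk : 0 < k) : B' ≤ mul A k := by
  rw [mul_eq_img_top]
  exact ((epi_nsmul_iff B' k).1 (hB k hk)).trans (img_mono _ le_top)

lemma epi_nsmul_iff_top_le (k : ℕ) : Epi (k • 𝟙 A) ↔ ⊤ ≤ mul A k := by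
  rw [epi_iff_surjective_up_to_refinements, le_iff_forall_factors]
  constructor
  · intro hh Z a _
    obtain ⟨Z', π, hπ, b, hb⟩ := hh a
    exact (mul_factors_iff k a).2 ⟨Z', π, hπ, b, by rw [hb, comp_nsmul_id]⟩
  · intro hh Z a
    obtain ⟨Z', π, hπ, b, hb⟩ := (mul_factors_iff k a).1 (hh a (Subobject.top_factors a))
    exact ⟨Z', π, hπ, b, by rw [hb, comp_nsmul_id]⟩

/-- If `M` kills `A / B'` then `MA ≤ B'`. -/
lemma mul_le_of_nsmul_cokernel_eq_zero (B' : Subobject A) (M : ℕ)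
    (hM : M • 𝟙 (cokernel B'.arrow) = 0) : mul A M ≤ B' := by
  rw [le_iff_forall_factors]
  intro Z a ha
  obtain ⟨Z', π, hπ, b, hb⟩ := (mul_factors_iff M a).1 ha
  apply factors_of_epi_comp B' π
  rw [hb]
  have h0 : (M • b) ≫ cokernel.π B'.arrow = 0 := by
    rw [Preadditive.nsmul_comp, ← comp_nsmul_id, hM, comp_zero]
  exact factors_of_eq B' _ (Abelian.monoLift B'.arrow _ h0) (Abelian.monoLift_comp _ _ _)

lemma mul_eq_of_dv (B' : Subobject A) (hB : Dv B') (M : ℕ) (hM : M • 𝟙 (cokernel B'.arrow) = 0)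
    (m' : ℕ) (hm' : 0 < m') (hdvd : M ∣ m') : mul A m' = B' :=
  le_antisymm ((mul_le_mul_of_dvd hdvd).trans (mul_le_of_nsmul_cokernel_eq_zero B' M hM))
    (hB.le_mul m' hm')

/-- `A[n] ∩ mA`, written as an image. -/
noncomputable def torMul (A : 𝒜) (n m : ℕ) : Subobject A := img (m • 𝟙 A) (tor A (m * n))

lemma torMul_factors_iff (n m : ℕ) {Z : 𝒜} (a : Z ⟶ A) :
    (torMul A n m).Factors a ↔
      ∃ (Z' : 𝒜) (π : Z' ⟶ Z) (_ : Epi π) (b : Z' ⟶ A), (m * n) • b = 0 ∧ π ≫ a = m • b := by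
  rw [torMul, img_nsmul_factors_iff]
  simp only [tor_factors_iff]

lemma torMul_le_tor (n m : ℕ) : torMul A n m ≤ tor A n := by
  rw [le_iff_forall_factors]
  intro Z a ha
  obtain ⟨Z', π, hπ, b, hb, e⟩ := (torMul_factors_iff n m a).1 ha
  apply factors_of_epi_comp _ π
  rw [tor_factors_iff, e, smul_smul, mul_comm n m, hb]

lemma torMul_le_mul (n m : ℕ) : torMul A n m ≤ mul A m := by
  rw [le_iff_forall_factors]
  intro Z a ha
  obtain ⟨Z', π, hπ, b, hb, e⟩ := (torMul_factors_iff n m a).1 ha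
  exact (mul_factors_iff m a).2 ⟨Z', π, hπ, b, e⟩

lemma tor_inf_mul_le_torMul (n m : ℕ) : tor A n ⊓ mul A m ≤ torMul A n m := by
  rw [le_iff_forall_factors]
  intro Z a ha
  rw [Subobject.inf_factors, tor_factors_iff] at ha
  obtain ⟨Z', π, hπ, b, hb⟩ := (mul_factors_iff m a).1 ha.2
  refine (torMul_factors_iff n m a).2 ⟨Z', π, hπ, b, ?_, hb⟩
  rw [mul_comm, mul_smul, ← hb, ← Preadditive.comp_nsmul, ha.1, comp_zero]

lemma torMul_anti (n : ℕ) {m m' : ℕ} (hdvd : m ∣ m') : torMul A n m' ≤ torMul A n m :=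
  (le_inf (torMul_le_tor n m') ((torMul_le_mul n m').trans (mul_le_mul_of_dvd hdvd))).trans
    (tor_inf_mul_le_torMul n m)

end Lemmas

namespace SmallClass

variable (h : SmallClass 𝒜)

lemma P_cokernel_mul_arrow {A : 𝒜} (hA : h.Cof posSet A) (m : ℕ) (hm : 0 < m) :
    h.P (cokernel (mul A m).arrow) := by
  have h1 : h.P (cokernel (m • 𝟙 A)) :=
    h.P_cokernel_nsmul_of_cof posSet posSet_pow_mem hA m hm
  exact h.of_iso (cokernelIsoOfEq (imageSubobject_arrow_comp (m • 𝟙 A)).symm ≪≫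
    cokernelEpiComp (factorThruImageSubobject (m • 𝟙 A)) (imageSubobject (m • 𝟙 A)).arrow) h1

lemma P_torMul {A : 𝒜} (hA : h.Cof posSet A) (n m : ℕ) (hn : 0 < n) (hm : 0 < m) :
    h.P (torMul A n m : 𝒜) := by
  refine h.imageSubobject_of_factors _ (tor A n) ?_ ((h.P_tor _).2 (hA _ (Nat.mul_pos hm hn)))
    ((h.P_tor _).2 (hA _ hn))
  rw [tor_factors_iff, comp_nsmul_id, smul_smul, mul_comm n m]
  have := kernelSubobject_arrow_comp ((m * n) • 𝟙 A)
  rwa [comp_nsmul_id] at this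

/-- **Divisibly ML ⟺ divisible subobject with small quotient ⟺ almost all primes epi.** -/
theorem divisiblyML_iff (hkill : ∀ Q : 𝒜, h.P Q → ∃ M : ℕ, 0 < M ∧ M • 𝟙 Q = 0)
    (A : 𝒜) (hA : h.Cof posSet A) :
    ((∀ n : ℕ, 0 < n → ∃ m : ℕ, 0 < m ∧ n ∣ m ∧ ∀ m' : ℕ, 0 < m' → m ∣ m' →
        mul A (m' / n) = mul A (m / n)) ↔
      ∃ B' : Subobject A, Dv B' ∧ h.P (cokernel B'.arrow)) ∧
    ((∃ B' : Subobject A, Dv B' ∧ h.P (cokernel B'.arrow)) ↔
      {p : ℕ | p.Prime ∧ ¬ Epi (p • 𝟙 A)}.Finite) := by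
  have key : ∀ B' : Subobject A, Dv B' → h.P (cokernel B'.arrow) →
      ∃ M : ℕ, 0 < M ∧ ∀ m' : ℕ, 0 < m' → M ∣ m' → mul A m' = B' := by
    intro B' hB hQ
    obtain ⟨M, hM, hM0⟩ := hkill _ hQ
    exact ⟨M, hM, fun m' hm' hd => mul_eq_of_dv B' hB M hM0 m' hm' hd⟩
  refine ⟨⟨?_, ?_⟩, ⟨?_, ?_⟩⟩
  · intro hML
    obtain ⟨m, hm, -, hm'⟩ := hML 1 Nat.one_pos
    refine ⟨mul A m, fun k hk => ?_, h.P_cokernel_mul_arrow hA m hm⟩
    apply epi_nsmul_mul_of_eq
    have := hm' (k * m) (Nat.mul_pos hk hm) (dvd_mul_left m k)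
    simpa using this
  · rintro ⟨B', hB, hQ⟩ n hn
    obtain ⟨M, hM, hM'⟩ := key B' hB hQ
    refine ⟨n * M, Nat.mul_pos hn hM, dvd_mul_right n M, fun m' hm' hd => ?_⟩
    obtain ⟨c, rfl⟩ := hd
    have hc : 0 < c := Nat.pos_of_ne_zero (by rintro rfl; simp at hm')
    rw [Nat.mul_div_cancel_left M hn, mul_assoc, Nat.mul_div_cancel_left _ hn,
      hM' (M * c) (Nat.mul_pos hM hc) (dvd_mul_right M c), hM' M hM dvd_rfl]
  · rintro ⟨B', hB, hQ⟩
    obtain ⟨M, hM, hM'⟩ := key B' hB hQ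
    apply Set.Finite.subset (Nat.divisors M).finite_toSet
    rintro p ⟨hp, hnepi⟩
    simp only [Finset.mem_coe, Nat.mem_divisors]
    refine ⟨?_, hM.ne'⟩
    by_contra hpM
    apply hnepi
    rw [epi_nsmul_iff_top_le, le_iff_forall_factors]
    intro Z a _
    have hcop : Nat.Coprime p M := (Nat.Prime.coprime_iff_not_dvd hp).2 hpM
    obtain ⟨u, w, e⟩ := exists_bezout hcop a
    rw [e]
    refine Subobject.factors_add _ _ (factors_zsmul _ _ _ (mul_factors_nsmul p a))
      (factors_zsmul _ _ _ ?_)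
    have h1 : (mul A M).Factors (M • a) := mul_factors_nsmul M a
    rw [hM' M hM dvd_rfl, ← hM' (M * p) (Nat.mul_pos hM hp.pos) (dvd_mul_right M p)] at h1
    exact Subobject.factors_of_le _ (mul_le_mul_of_dvd (dvd_mul_left p M)) h1
  · intro hfin
    have hex : ∀ q : ℕ, ∃ N : ℕ, q.Prime → ∀ n, N ≤ n → mul A (q ^ n) = mul A (q ^ N) := by
      intro q
      by_cases hq : q.Prime
      · obtain ⟨N, hN⟩ := h.mul_pow_stationary A q hq (fun j => hA _ (pow_pos hq.pos j))
        exact ⟨N, fun _ => hN⟩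
      · exact ⟨0, fun hq' => (hq hq').elim⟩
    choose Nq hNq using hex
    set F := hfin.toFinset with hF
    set M := ∏ q ∈ F, q ^ (Nq q) with hMdef
    have hFprime : ∀ q ∈ F, q.Prime := fun q hq => ((Set.Finite.mem_toFinset hfin).1 hq).1
    have hMpos : 0 < M := Finset.prod_pos (fun q hq => pow_pos (hFprime q hq).pos _)
    have hprime : ∀ q : ℕ, q.Prime → mul A M ≤ mul A (q * M) := by
      intro q hq
      by_cases hqF : q ∈ F
      · have hM1 : M = (∏ r ∈ F.erase q, r ^ (Nq r)) * q ^ (Nq q) := by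
          rw [hMdef, ← Finset.mul_prod_erase F _ hqF, mul_comm]
        have hM2 : q * M = (∏ r ∈ F.erase q, r ^ (Nq r)) * q ^ (Nq q + 1) := by
          rw [hM1]; ring
        rw [hM2, ← img_nsmul_mul, hNq q hq (Nq q + 1) (by omega), img_nsmul_mul, ← hM1]
      · have hepi : Epi (q • 𝟙 A) := by
          by_contra hne
          exact hqF ((Set.Finite.mem_toFinset hfin).2 ⟨hq, hne⟩)
        rw [epi_nsmul_iff_top_le] at hepi
        rw [mul_comm q M, ← img_nsmul_mul, mul_eq_img_top M]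
        exact img_mono _ hepi
    have hall : ∀ k : ℕ, 0 < k → mul A M ≤ mul A (k * M) := by
      intro k
      induction k using Nat.recOnMul with
      | zero => intro hk; omega
      | one => intro _; rw [one_mul]
      | prime q hq => intro _; exact hprime q hq
      | mul a b iha ihb =>
        intro hab
        have ha : 0 < a := Nat.pos_of_ne_zero (by rintro rfl; simp at hab)
        have hb : 0 < b := Nat.pos_of_ne_zero (by rintro rfl; simp at hab)
        refine (iha ha).trans ?_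
        rw [← img_nsmul_mul, mul_assoc, ← img_nsmul_mul a (b * M)]
        exact img_mono _ (ihb hb)
    refine ⟨mul A M, fun k hk => ?_, h.P_cokernel_mul_arrow hA M hMpos⟩
    apply epi_nsmul_mul_of_eq
    exact le_antisymm (mul_le_mul_of_dvd (dvd_mul_left M k)) (hall k hk)


/-- **Existence of the largest divisible subobject**, of cofinite type with quotient of cofinite
type. -/
theorem exists_largest_divisible (A : 𝒜)
    (hsup : ∀ E : ℕ → Subobject A, ∃ D : Subobject A,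
      (∀ n, E n ≤ D) ∧ ∀ T : Subobject A, (∀ n, E n ≤ T) → D ≤ T)
    (hA : h.Cof posSet A) :
    ∃ D : Subobject A, Dv D ∧ (∀ D' : Subobject A, Dv D' → D' ≤ D) ∧
      h.Cof posSet (D : 𝒜) ∧ h.Cof posSet (cokernel D.arrow) := by
  have hex : ∀ n : ℕ, ∃ j₁ : ℕ, 0 < n → ∀ j, j₁ ≤ j →
      torMul A n j.factorial = torMul A n j₁.factorial := by
    intro n
    by_cases hn : 0 < n
    · obtain ⟨j₁, hj₁⟩ := h.dcc (tor A n) ((h.P_tor _).2 (hA n hn))
        (fun j => torMul A n j.factorial)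
        (fun j j' hjj' => torMul_anti n (Nat.factorial_dvd_factorial hjj'))
        (fun j => torMul_le_tor n _)
        (fun j => h.P_torMul hA n _ hn (Nat.factorial_pos j))
      exact ⟨j₁, fun _ => hj₁⟩
    · exact ⟨0, fun hn' => (hn hn').elim⟩
  choose J hJ using hex
  set E : ℕ → Subobject A := fun n => torMul A n (J n).factorial with hE
  have hE1 : ∀ n, 0 < n → ∀ m, 0 < m → E n ≤ torMul A n m := by
    intro n hn m hm
    have h1 : E n = torMul A n (max m (J n)).factorial :=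
      (hJ n hn _ (le_max_right _ _)).symm
    rw [h1]
    exact torMul_anti n (Nat.dvd_factorial hm (le_max_left _ _))
  obtain ⟨D, hD1, hD2⟩ := hsup (fun n => E (n + 1))
  have hDE : ∀ n, 0 < n → E n ≤ D := by
    intro n hn
    obtain ⟨n', rfl⟩ : ∃ n', n = n' + 1 := ⟨n - 1, by omega⟩
    exact hD1 n'
  have hDmul : ∀ m, 0 < m → D ≤ mul A m := fun m hm =>
    hD2 _ (fun n => (hE1 (n + 1) (by omega) m hm).trans (torMul_le_mul _ _))
  have hDtor : ∀ n, 0 < n → D ⊓ tor A n = E n := by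
    intro n hn
    refine le_antisymm ?_ (le_inf (hDE n hn) (torMul_le_tor n _))
    refine le_trans ?_ (tor_inf_mul_le_torMul n (J n).factorial)
    exact le_inf inf_le_right (inf_le_left.trans (hDmul _ (Nat.factorial_pos _)))
  have hEk : ∀ n, 0 < n → ∀ k, 0 < k → E n ≤ img (k • 𝟙 A) (E (k * n)) := by
    intro n hn k hk
    rw [le_iff_forall_factors]
    intro Z a ha
    obtain ⟨Z', π, hπ, b, hb, e⟩ := (torMul_factors_iff n (k * (J (k * n)).factorial) a).1
      (Subobject.factors_of_le _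
        (hE1 n hn (k * (J (k * n)).factorial) (Nat.mul_pos hk (Nat.factorial_pos _))) ha)
    refine (img_nsmul_factors_iff _ _ a).2 ⟨Z', π, hπ, (J (k * n)).factorial • b, ?_, ?_⟩
    · refine (torMul_factors_iff (k * n) (J (k * n)).factorial _).2
        ⟨Z', 𝟙 _, inferInstance, b, ?_, by simp⟩
      rw [← hb]
      congr 1
      ring
    · rw [e, mul_smul]
  have hDv : Dv D := by
    intro k hk
    rw [epi_nsmul_iff]
    apply hD2
    intro n
    exact (hEk (n + 1) (by omega) k hk).trans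
      (img_mono _ (hDE _ (Nat.mul_pos hk (by omega))))
  have hDcof : h.Cof posSet (D : 𝒜) := by
    intro n hn
    rw [← P_inf_tor_iff]
    exact h.of_eq (hDtor n hn).symm (h.P_torMul hA n _ hn (Nat.factorial_pos _))
  refine ⟨D, hDv, ?_, hDcof, h.Cof_cokernel_of_mono posSet posSet_pow_mem D.arrow hDcof hA⟩
  intro D' hD'
  apply h.le_of_forall_inf_tor_le
  intro k hk
  refine le_trans ?_ (hDE k hk)
  refine le_trans ?_ (tor_inf_mul_le_torMul k (J k).factorial)
  exact le_inf inf_le_right (inf_le_left.trans (hD'.le_mul _ (Nat.factorial_pos _)))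

end SmallClass

end Groth.Agent.H84.IndCof
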