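import Mathlib

/-!
# H84 — element calculus for subobjects in an abelian category

Generalised elements `a : Z ⟶ A`, membership `S.Factors a`, refinements by epimorphisms.
Torsion subobjects `tor A k = A[k]` and multiples `mul A k = kA`.
-/

set_option backward.isDefEq.respectTransparency false
set_option backward.isDefEq.respectTransparency.types false

namespace Groth.Agent.H84.IndCof

open CategoryTheory Limits

universe v u
variable {𝒜 : Type u} [Category.{v} 𝒜] [Abelian 𝒜]

section Elem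

variable {A B : 𝒜}

omit [Abelian 𝒜] in
lemma factors_of_eq {Z : 𝒜} (S : Subobject A) (a : Z ⟶ A) (b : Z ⟶ (S : 𝒜))
    (h : b ≫ S.arrow = a) : S.Factors a := h ▸ S.factors_comp_arrow b

lemma factors_of_epi_comp {Z Z' : 𝒜} (S : Subobject A) (π : Z' ⟶ Z) [Epi π] (a : Z ⟶ A)
    (h : S.Factors (π ≫ a)) : S.Factors a := by
  have := strongEpi_of_epi π
  have sq : CommSq (S.factorThru _ h) π S.arrow a := ⟨S.factorThru_arrow _ h⟩
  exact factors_of_eq S a sq.lift sq.fac_right

lemma factors_epi_comp_iff {Z Z' : 𝒜} (S : Subobject A) (π : Z' ⟶ Z) [Epi π] (a : Z ⟶ A) :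
    S.Factors (π ≫ a) ↔ S.Factors a :=
  ⟨factors_of_epi_comp S π a, fun h => Subobject.factors_of_factors_right π h⟩

omit [Abelian 𝒜] in
lemma le_iff_forall_factors (S T : Subobject A) :
    S ≤ T ↔ ∀ ⦃Z : 𝒜⦄ (a : Z ⟶ A), S.Factors a → T.Factors a :=
  ⟨fun h _ a ha => Subobject.factors_of_le a h ha,
    fun h => Subobject.le_of_factors (h _ S.factors_self)⟩

lemma factors_neg {Z : 𝒜} (S : Subobject A) (a : Z ⟶ A) (h : S.Factors a) : S.Factors (-a) := by
  refine factors_of_eq S _ (-(S.factorThru a h)) ?_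
  simp

lemma factors_sub {Z : 𝒜} (S : Subobject A) (a b : Z ⟶ A) (ha : S.Factors a)
    (hb : S.Factors b) : S.Factors (a - b) := by
  rw [sub_eq_add_neg]
  exact Subobject.factors_add _ _ ha (factors_neg S b hb)

lemma factors_nsmul {Z : 𝒜} (S : Subobject A) (k : ℕ) (a : Z ⟶ A) (h : S.Factors a) :
    S.Factors (k • a) := by
  refine factors_of_eq S _ (k • (S.factorThru a h)) ?_
  simp

lemma factors_zsmul {Z : 𝒜} (S : Subobject A) (k : ℤ) (a : Z ⟶ A) (h : S.Factors a) :
    S.Factors (k • a) := by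
  refine factors_of_eq S _ (k • (S.factorThru a h)) ?_
  simp

lemma imageSubobject_factors_iff (f : A ⟶ B) {Z : 𝒜} (b : Z ⟶ B) :
    (imageSubobject f).Factors b ↔
      ∃ (Z' : 𝒜) (π : Z' ⟶ Z) (_ : Epi π) (a : Z' ⟶ A), π ≫ b = a ≫ f := by
  constructor
  · intro h
    obtain ⟨Z', π, hπ, x, hx⟩ := surjective_up_to_refinements_of_epi
      (factorThruImageSubobject f) ((imageSubobject f).factorThru b h)
    refine ⟨Z', π, hπ, x, ?_⟩
    rw [← (imageSubobject f).factorThru_arrow b h, ← Category.assoc, hx, Category.assoc,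
      imageSubobject_arrow_comp]
  · rintro ⟨Z', π, hπ, a, h⟩
    apply factors_of_epi_comp _ π
    rw [h]
    exact imageSubobject_factors_comp_self f a

/-- The image of a subobject under a morphism. -/
noncomputable def img (f : A ⟶ B) (S : Subobject A) : Subobject B :=
  imageSubobject (S.arrow ≫ f)

lemma img_factors_iff (f : A ⟶ B) (S : Subobject A) {Z : 𝒜} (b : Z ⟶ B) :
    (img f S).Factors b ↔
      ∃ (Z' : 𝒜) (π : Z' ⟶ Z) (_ : Epi π) (a : Z' ⟶ A), S.Factors a ∧ π ≫ b = a ≫ f := by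
  rw [img, imageSubobject_factors_iff]
  constructor
  · rintro ⟨Z', π, hπ, x, hx⟩
    exact ⟨Z', π, hπ, x ≫ S.arrow, S.factors_comp_arrow x, by rw [hx, Category.assoc]⟩
  · rintro ⟨Z', π, hπ, a, ha, h⟩
    exact ⟨Z', π, hπ, S.factorThru a ha, by rw [h, ← Category.assoc, S.factorThru_arrow]⟩

lemma img_factors_of_factors (f : A ⟶ B) (S : Subobject A) {Z : 𝒜} (a : Z ⟶ A)
    (ha : S.Factors a) : (img f S).Factors (a ≫ f) :=
  (img_factors_iff f S _).2 ⟨Z, 𝟙 Z, inferInstance, a, ha, by simp⟩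

lemma img_mono (f : A ⟶ B) {S T : Subobject A} (h : S ≤ T) : img f S ≤ img f T := by
  rw [le_iff_forall_factors]
  intro Z b hb
  obtain ⟨Z', π, hπ, a, ha, e⟩ := (img_factors_iff f S b).1 hb
  exact (img_factors_iff f T b).2 ⟨Z', π, hπ, a, Subobject.factors_of_le a h ha, e⟩

lemma img_top (f : A ⟶ B) : img f ⊤ = imageSubobject f := by
  apply le_antisymm
  · rw [le_iff_forall_factors]
    intro Z b hb
    obtain ⟨Z', π, hπ, a, -, e⟩ := (img_factors_iff f ⊤ b).1 hb
    exact (imageSubobject_factors_iff f b).2 ⟨Z', π, hπ, a, e⟩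
  · rw [le_iff_forall_factors]
    intro Z b hb
    obtain ⟨Z', π, hπ, a, e⟩ := (imageSubobject_factors_iff f b).1 hb
    exact (img_factors_iff f ⊤ b).2 ⟨Z', π, hπ, a, Subobject.top_factors a, e⟩

/-- The preimage of a subobject under a morphism. -/
noncomputable def pre (f : A ⟶ B) (T : Subobject B) : Subobject A :=
  (Subobject.pullback f).obj T

lemma pre_factors_iff (f : A ⟶ B) (T : Subobject B) {Z : 𝒜} (a : Z ⟶ A) :
    (pre f T).Factors a ↔ T.Factors (a ≫ f) :=
  pullback_factors_iff f T a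

lemma img_le_iff (f : A ⟶ B) (S : Subobject A) (T : Subobject B) :
    img f S ≤ T ↔ S ≤ pre f T := by
  simp only [le_iff_forall_factors, pre_factors_iff]
  constructor
  · intro h Z a ha
    exact h _ (img_factors_of_factors f S a ha)
  · intro h Z b hb
    obtain ⟨Z', π, hπ, a, ha, e⟩ := (img_factors_iff f S b).1 hb
    apply factors_of_epi_comp T π
    rw [e]
    exact h a ha

lemma sup_factors_iff (S T : Subobject A) {Z : 𝒜} (a : Z ⟶ A) :
    (S ⊔ T).Factors a ↔
      ∃ (Z' : 𝒜) (π : Z' ⟶ Z) (_ : Epi π) (s t : Z' ⟶ A),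
        S.Factors s ∧ T.Factors t ∧ π ≫ a = s + t := by
  constructor
  · intro h
    have hle : S ⊔ T ≤ imageSubobject (biprod.desc S.arrow T.arrow) := by
      apply sup_le
      · apply Subobject.le_of_factors
        exact (imageSubobject_factors_iff _ _).2 ⟨_, 𝟙 _, inferInstance, biprod.inl, by simp⟩
      · apply Subobject.le_of_factors
        exact (imageSubobject_factors_iff _ _).2 ⟨_, 𝟙 _, inferInstance, biprod.inr, by simp⟩
    obtain ⟨Z', π, hπ, x, hx⟩ :=
      (imageSubobject_factors_iff _ a).1 (Subobject.factors_of_le a hle h)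
    refine ⟨Z', π, hπ, (x ≫ biprod.fst) ≫ S.arrow, (x ≫ biprod.snd) ≫ T.arrow,
      S.factors_comp_arrow _, T.factors_comp_arrow _, ?_⟩
    rw [hx, biprod.desc_eq, Preadditive.comp_add]
    simp
  · rintro ⟨Z', π, hπ, s, t, hs, ht, e⟩
    apply factors_of_epi_comp _ π
    rw [e]
    exact Subobject.factors_add _ _ (Subobject.sup_factors_of_factors_left hs)
      (Subobject.sup_factors_of_factors_right ht)

end Elem

section TorMul

variable (A : 𝒜)

/-- The `k`-torsion subobject `A[k]`. -/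
noncomputable def tor (k : ℕ) : Subobject A := kernelSubobject (k • 𝟙 A)

/-- The subobject `kA`. -/
noncomputable def mul (k : ℕ) : Subobject A := imageSubobject (k • 𝟙 A)

variable {A}

@[simp] lemma comp_nsmul_id {Z : 𝒜} (a : Z ⟶ A) (k : ℕ) : a ≫ (k • 𝟙 A) = k • a := by
  rw [Preadditive.comp_nsmul, Category.comp_id]

lemma tor_factors_iff (k : ℕ) {Z : 𝒜} (a : Z ⟶ A) : (tor A k).Factors a ↔ k • a = 0 := by
  rw [tor, kernelSubobject_factors_iff, comp_nsmul_id]

lemma mul_factors_iff (k : ℕ) {Z : 𝒜} (a : Z ⟶ A) :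
    (mul A k).Factors a ↔
      ∃ (Z' : 𝒜) (π : Z' ⟶ Z) (_ : Epi π) (b : Z' ⟶ A), π ≫ a = k • b := by
  rw [mul, imageSubobject_factors_iff]
  simp only [comp_nsmul_id]

lemma mul_factors_nsmul (k : ℕ) {Z : 𝒜} (b : Z ⟶ A) : (mul A k).Factors (k • b) :=
  (mul_factors_iff k _).2 ⟨Z, 𝟙 Z, inferInstance, b, by simp⟩

lemma tor_le_tor_of_dvd {a b : ℕ} (h : a ∣ b) : tor A a ≤ tor A b := by
  rw [le_iff_forall_factors]
  intro Z x hx
  rw [tor_factors_iff] at hx ⊢
  obtain ⟨c, rfl⟩ := h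
  rw [mul_comm, mul_smul, hx, smul_zero]

lemma mul_le_mul_of_dvd {a b : ℕ} (h : a ∣ b) : mul A b ≤ mul A a := by
  rw [le_iff_forall_factors]
  intro Z x hx
  obtain ⟨Z', π, hπ, y, hy⟩ := (mul_factors_iff _ _).1 hx
  obtain ⟨c, rfl⟩ := h
  exact (mul_factors_iff _ _).2 ⟨Z', π, hπ, c • y, by rw [hy, mul_smul]⟩

/-- Bezout: for coprime `a b`, the identity is an integer combination. -/
lemma exists_bezout {a b : ℕ} (h : Nat.Coprime a b) {Z : 𝒜} (x : Z ⟶ A) :
    ∃ u w : ℤ, x = u • (a • x) + w • (b • x) := by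
  have h1 : IsCoprime (a : ℤ) (b : ℤ) := Nat.isCoprime_iff_coprime.2 h
  obtain ⟨u, w, huw⟩ := h1
  refine ⟨u, w, ?_⟩
  rw [← natCast_zsmul x a, ← natCast_zsmul x b, smul_smul, smul_smul, ← add_smul, huw, one_smul]

lemma tor_mul_le_of_coprime {a b : ℕ} (h : Nat.Coprime a b) :
    tor A (a * b) ≤ tor A a ⊔ tor A b := by
  rw [le_iff_forall_factors]
  intro Z x hx
  rw [tor_factors_iff] at hx
  obtain ⟨u, w, e⟩ := exists_bezout h x
  rw [sup_factors_iff]
  refine ⟨Z, 𝟙 Z, inferInstance, w • (b • x), u • (a • x), ?_, ?_, ?_⟩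
  · apply factors_zsmul
    rw [tor_factors_iff, smul_smul, hx]
  · apply factors_zsmul
    rw [tor_factors_iff, smul_smul, mul_comm, hx]
  · rw [Category.id_comp, add_comm]; exact e

lemma tor_le_mul_of_coprime {k n : ℕ} (h : Nat.Coprime k n) : tor A k ≤ mul A n := by
  rw [le_iff_forall_factors]
  intro Z x hx
  rw [tor_factors_iff] at hx
  obtain ⟨u, w, e⟩ := exists_bezout h x
  rw [hx, smul_zero, zero_add] at e
  have e' : x = n • (w • x) := by rw [smul_comm]; exact e
  have := mul_factors_nsmul (A := A) n (w • x)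
  rwa [← e'] at this

end TorMul

end Groth.Agent.H84.IndCof
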