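import Groth.Agent.H84.IndCofElem

/-!
# H84 — abstract "small class" in an abelian category and `A / nA` is small

`SmallClass 𝒜`: a class of objects closed under isomorphisms, kernels and cokernels, satisfying
the descending chain condition on small subobjects of small subobjects, in a torsion category.
Main result `SmallClass.P_cokernel_nsmul`: if `A[n^j]` is small for all `j` then `A / nA` is small.
-/

set_option backward.isDefEq.respectTransparency false
set_option backward.isDefEq.respectTransparency.types false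

namespace Groth.Agent.H84.IndCof

open CategoryTheory Limits

universe v u

/-- A class of "small" objects of an abelian category. -/
structure SmallClass (𝒜 : Type u) [Category.{v} 𝒜] [Abelian 𝒜] where
  /-- the class -/
  P : 𝒜 → Prop
  of_iso : ∀ {X Y : 𝒜}, (X ≅ Y) → P X → P Y
  ker : ∀ {X Y : 𝒜} (f : X ⟶ Y), P X → P Y → P (kernel f)
  coker : ∀ {X Y : 𝒜} (f : X ⟶ Y), P X → P Y → P (cokernel f)
  dcc : ∀ {A : 𝒜} (X : Subobject A), P (X : 𝒜) → ∀ S : ℕ → Subobject A, Antitone S →
    (∀ j, S j ≤ X) → (∀ j, P (S j : 𝒜)) → ∃ N, ∀ j, N ≤ j → S j = S N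
  tors : ∀ (A : 𝒜) (S : Subobject A), (∀ k, 0 < k → tor A k ≤ S) → S = ⊤

variable {𝒜 : Type u} [Category.{v} 𝒜] [Abelian 𝒜]

namespace SmallClass

variable (h : SmallClass 𝒜)

lemma of_eq {A : 𝒜} {S T : Subobject A} (e : S = T) (hS : h.P (S : 𝒜)) : h.P (T : 𝒜) :=
  h.of_iso (Subobject.isoOfEq _ _ e) hS

/-- The middle object of an epi-mono factorisation between small objects is small. -/
lemma of_epi_mono {X I Y : 𝒜} (e : X ⟶ I) (m : I ⟶ Y) [Epi e] [Mono m] (hX : h.P X)
    (hY : h.P Y) : h.P I := by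
  have := strongEpi_of_epi e
  have h1 : h.P (Abelian.image (e ≫ m)) := h.ker _ hY (h.coker _ hX hY)
  exact h.of_iso (Abelian.imageIsoImage _ ≪≫ (image.isoStrongEpiMono e m rfl).symm) h1

/-- The image of a morphism from a small object which factors through a small subobject is
small. -/
lemma imageSubobject_of_factors {X A : 𝒜} (g : X ⟶ A) (U : Subobject A) (hg : U.Factors g)
    (hX : h.P X) (hU : h.P (U : 𝒜)) : h.P (imageSubobject g : 𝒜) := by
  have hle : imageSubobject g ≤ U := by
    rw [le_iff_forall_factors]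
    intro Z b hb
    obtain ⟨Z', π, hπ, a, e⟩ := (imageSubobject_factors_iff g b).1 hb
    apply factors_of_epi_comp U π
    rw [e]
    exact Subobject.factors_of_factors_right a hg
  exact h.of_epi_mono (factorThruImageSubobject g) (Subobject.ofLE _ _ hle) hX hU

/-- If `U + im f = ⊤` then `coker f` is the cokernel of `f⁻¹ U ⟶ U`. -/
lemma P_cokernel_of_cover {A B : 𝒜} (f : A ⟶ B) (U : Subobject B)
    (hU : U ⊔ imageSubobject f = ⊤) (PU : h.P (U : 𝒜)) (PW : h.P (pre f U : 𝒜)) :
    h.P (cokernel f) := by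
  have hfac : U.Factors ((pre f U).arrow ≫ f) := by
    rw [← pre_factors_iff]; exact Subobject.factors_self _
  let u : (pre f U : 𝒜) ⟶ (U : 𝒜) := U.factorThru _ hfac
  have hu : u ≫ U.arrow = (pre f U).arrow ≫ f := U.factorThru_arrow _ hfac
  let v : cokernel u ⟶ cokernel f := cokernel.desc u (U.arrow ≫ cokernel.π f) (by
    rw [← Category.assoc, hu, Category.assoc, cokernel.condition, comp_zero])
  have hv : cokernel.π u ≫ v = U.arrow ≫ cokernel.π f := cokernel.π_desc _ _ _
  have hmono : Mono v := by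
    apply Preadditive.mono_of_cancel_zero
    intro Z z hz
    obtain ⟨Z1, π1, _, b, hb⟩ := surjective_up_to_refinements_of_epi (cokernel.π u) z
    have h0 : (b ≫ U.arrow) ≫ cokernel.π f = 0 := by
      rw [Category.assoc, ← hv, ← Category.assoc, ← hb, Category.assoc, hz, comp_zero]
    obtain ⟨Z2, π2, _, a, ha⟩ :=
      (CokernelCofork.IsColimit.comp_π_eq_zero_iff_up_to_refinements
        (cokernelIsCokernel f) (b ≫ U.arrow)).1 h0
    have ha' : (pre f U).Factors a := by
      rw [pre_factors_iff, ← ha, ← Category.assoc]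
      exact Subobject.factors_comp_arrow _
    have e1 : π2 ≫ b = (pre f U).factorThru a ha' ≫ u := by
      rw [← cancel_mono U.arrow]
      simp only [Category.assoc, hu]
      rw [← Category.assoc _ (pre f U).arrow, Subobject.factorThru_arrow, ha]
    rw [← cancel_epi π1, ← cancel_epi π2, comp_zero, comp_zero, hb, ← Category.assoc, e1,
      Category.assoc, cokernel.condition, comp_zero]
  have hepi : Epi v := by
    have : Epi (U.arrow ≫ cokernel.π f) := by
      rw [epi_iff_surjective_up_to_refinements]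
      intro Z c
      obtain ⟨Z1, π1, _, b, hb⟩ := surjective_up_to_refinements_of_epi (cokernel.π f) c
      have hb' : (U ⊔ imageSubobject f).Factors b := by rw [hU]; exact Subobject.top_factors b
      obtain ⟨Z2, π2, _, s, t, hs, ht, e⟩ := (sup_factors_iff _ _ b).1 hb'
      obtain ⟨Z3, π3, _, a, ha⟩ := (imageSubobject_factors_iff f t).1 ht
      refine ⟨Z3, π3 ≫ π2 ≫ π1, inferInstance, π3 ≫ U.factorThru s hs, ?_⟩
      simp only [Category.assoc]
      rw [hb, ← Category.assoc π2, e, Preadditive.add_comp, Preadditive.comp_add,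
        ← Category.assoc π3 t, ha, Category.assoc, cokernel.condition, comp_zero, add_zero,
        ← Category.assoc (U.factorThru s hs), Subobject.factorThru_arrow]
    rw [← hv] at this
    exact epi_of_epi (cokernel.π u) v
  have : IsIso v := isIso_of_mono_of_epi v
  exact h.of_iso (asIso v) (h.coker u PW PU)

end SmallClass

section Chain

variable (A : 𝒜) (n : ℕ)

/-- The chain `n^j A[n^(j+1)] = A[n] ∩ n^j A`. -/
noncomputable def chain (j : ℕ) : Subobject A := img ((n ^ j) • 𝟙 A) (tor A (n ^ (j + 1)))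

lemma chain_factors_iff (j : ℕ) {Z : 𝒜} (b : Z ⟶ A) :
    (chain A n j).Factors b ↔
      ∃ (Z' : 𝒜) (π : Z' ⟶ Z) (_ : Epi π) (a : Z' ⟶ A),
        (n ^ (j + 1)) • a = 0 ∧ π ≫ b = (n ^ j) • a := by
  rw [chain, img_factors_iff]
  simp only [tor_factors_iff, comp_nsmul_id]

lemma chain_le_tor (j : ℕ) : chain A n j ≤ tor A n := by
  rw [le_iff_forall_factors]
  intro Z b hb
  obtain ⟨Z', π, hπ, a, ha, e⟩ := (chain_factors_iff A n j b).1 hb
  apply factors_of_epi_comp _ π
  rw [tor_factors_iff, e, smul_smul, ← pow_succ', ha]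

lemma chain_antitone : Antitone (chain A n) := by
  apply antitone_nat_of_succ_le
  intro j
  rw [le_iff_forall_factors]
  intro Z b hb
  obtain ⟨Z', π, hπ, a, ha, e⟩ := (chain_factors_iff A n (j + 1) b).1 hb
  refine (chain_factors_iff A n j b).2 ⟨Z', π, hπ, n • a, ?_, ?_⟩
  · rw [smul_smul, ← pow_succ, ha]
  · rw [e, smul_smul, ← pow_succ]

/-- Key step: if the chain is stationary at `j` then `A[n^(j+1)] ⊆ A[n^j] + nA`. -/
lemma tor_succ_le_of_chain_eq (j : ℕ) (hj : chain A n j = chain A n (j + 1)) :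
    tor A (n ^ (j + 1)) ≤ tor A (n ^ j) ⊔ mul A n := by
  rw [le_iff_forall_factors]
  intro Z a ha
  rw [tor_factors_iff] at ha
  have h1 : (chain A n j).Factors ((n ^ j) • a) :=
    (chain_factors_iff A n j _).2 ⟨Z, 𝟙 Z, inferInstance, a, ha, by simp⟩
  rw [hj] at h1
  obtain ⟨Z', π, hπ, b, hb, e⟩ := (chain_factors_iff A n (j + 1) _).1 h1
  apply factors_of_epi_comp _ π
  rw [sup_factors_iff]
  refine ⟨Z', 𝟙 Z', inferInstance, π ≫ a - n • b, n • b, ?_, mul_factors_nsmul n b, by simp⟩
  rw [tor_factors_iff, smul_sub, smul_smul, ← pow_succ, ← e, Preadditive.comp_nsmul, sub_self]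

end Chain

namespace SmallClass

variable (h : SmallClass 𝒜)

lemma P_chain (A : 𝒜) (n : ℕ) (hA : ∀ j, h.P (tor A (n ^ j) : 𝒜)) (j : ℕ) :
    h.P (chain A n j : 𝒜) := by
  refine h.imageSubobject_of_factors _ (tor A n) ?_ (hA (j + 1)) (by simpa using hA 1)
  rw [tor_factors_iff, comp_nsmul_id, smul_smul, ← pow_succ']
  have := kernelSubobject_arrow_comp ((n ^ (j + 1)) • 𝟙 A)
  rwa [comp_nsmul_id] at this

/-- All torsion is contained in `A[n^j₀] + nA` once the chain is stationary from `j₀` on. -/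
lemma tor_le_of_chain_stationary (A : 𝒜) (n : ℕ) (j₀ : ℕ)
    (hst : ∀ j, j₀ ≤ j → chain A n j = chain A n j₀) (k : ℕ) (hk : 0 < k) :
    tor A k ≤ tor A (n ^ j₀) ⊔ mul A n := by
  have hpow : ∀ j, tor A (n ^ j) ≤ tor A (n ^ j₀) ⊔ mul A n := by
    intro j
    induction j with
    | zero =>
      exact (tor_le_tor_of_dvd (by simp)).trans le_sup_left
    | succ j ih =>
      by_cases hj : j₀ ≤ j
      · refine (tor_succ_le_of_chain_eq A n j ?_).trans (sup_le ih le_sup_right)
        rw [hst j hj, hst (j + 1) (by omega)]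
      · exact (tor_le_tor_of_dvd (pow_dvd_pow n (by omega))).trans le_sup_left
  induction k using Nat.recOnPosPrimePosCoprime with
  | prime_pow q e hq he =>
    by_cases hqn : q ∣ n
    · exact (tor_le_tor_of_dvd (pow_dvd_pow_of_dvd hqn e)).trans (hpow e)
    · have : Nat.Coprime (q ^ e) n := Nat.Coprime.pow_left e ((Nat.Prime.coprime_iff_not_dvd hq).2 hqn)
      exact (tor_le_mul_of_coprime this).trans le_sup_right
  | zero => omega
  | one => exact (tor_le_tor_of_dvd (one_dvd _)).trans (hpow 0)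
  | coprime a b ha hb hab iha ihb =>
    exact (tor_mul_le_of_coprime hab).trans (sup_le (iha (by omega)) (ihb (by omega)))

/-- **`A / nA` is small** as soon as all `A[n^j]` are small. -/
theorem P_cokernel_nsmul (A : 𝒜) (n : ℕ) (hA : ∀ j, h.P (tor A (n ^ j) : 𝒜)) :
    h.P (cokernel (n • 𝟙 A)) := by
  obtain ⟨j₀, hst⟩ := h.dcc (tor A n) (by simpa using hA 1) (chain A n) (chain_antitone A n)
    (chain_le_tor A n) (h.P_chain A n hA)
  have htop : tor A (n ^ j₀) ⊔ imageSubobject (n • 𝟙 A) = ⊤ :=
    h.tors A _ (fun k hk => tor_le_of_chain_stationary A n j₀ hst k hk)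
  refine h.P_cokernel_of_cover (n • 𝟙 A) (tor A (n ^ j₀)) htop (hA j₀) ?_
  have e : pre (n • 𝟙 A) (tor A (n ^ j₀)) = tor A (n ^ (j₀ + 1)) := by
    apply le_antisymm <;> rw [le_iff_forall_factors] <;> intro Z a ha
    · rw [pre_factors_iff, tor_factors_iff, comp_nsmul_id, smul_smul, ← pow_succ] at ha
      rwa [tor_factors_iff]
    · rw [tor_factors_iff] at ha
      rwa [pre_factors_iff, tor_factors_iff, comp_nsmul_id, smul_smul, ← pow_succ]
  exact h.of_eq e.symm (hA (j₀ + 1))

end SmallClass

end Groth.Agent.H84.IndCof
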