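import Groth.Agent.H84.IndCofG1

/-!
# H84 — the small class of (objects isomorphic to) objects of `C` inside `Ind C`
-/

set_option backward.isDefEq.respectTransparency false
set_option backward.isDefEq.respectTransparency.types false

namespace Groth.Agent.H84.IndCof

open CategoryTheory Limits

universe v u v' u'

section EssImage

variable {C : Type u} [Category.{v} C] [Abelian C] {D : Type u'} [Category.{v'} D] [Abelian D]
  (F : C ⥤ D) [F.Full] [F.Faithful] [PreservesFiniteLimits F] [PreservesFiniteColimits F]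

omit [F.Faithful] [PreservesFiniteColimits F] in
lemma essImage_kernel {X Y : D} (f : X ⟶ Y) (hX : F.essImage X) (hY : F.essImage Y) :
    F.essImage (kernel f) := by
  obtain ⟨X', ⟨eX⟩⟩ := hX
  obtain ⟨Y', ⟨eY⟩⟩ := hY
  let g : X' ⟶ Y' := F.preimage (eX.hom ≫ f ≫ eY.inv)
  have hg : F.map g = eX.hom ≫ f ≫ eY.inv := F.map_preimage _
  refine ⟨kernel g, ⟨PreservesKernel.iso F g ≪≫ kernel.mapIso (F.map g) f eX eY ?_⟩⟩
  rw [hg]; simp

omit [F.Faithful] in
lemma essImage_cokernel {X Y : D} (f : X ⟶ Y) (hX : F.essImage X) (hY : F.essImage Y) :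
    F.essImage (cokernel f) := by
  obtain ⟨X', ⟨eX⟩⟩ := hX
  obtain ⟨Y', ⟨eY⟩⟩ := hY
  let g : X' ⟶ Y' := F.preimage (eX.hom ≫ f ≫ eY.inv)
  have hg : F.map g = eX.hom ≫ f ≫ eY.inv := F.map_preimage _
  refine ⟨cokernel g, ⟨PreservesCokernel.iso F g ≪≫ cokernel.mapIso (F.map g) f eX eY ?_⟩⟩
  rw [hg]; simp

omit [Abelian D] [PreservesFiniteColimits F] in
/-- Descending chain condition for subobjects in the essential image. -/
lemma essImage_dcc (hart : ∀ X : C, IsArtinianObject X) {A : D} (X : Subobject A)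
    (hX : F.essImage (X : D)) (S : ℕ → Subobject A) (hS : Antitone S) (hSX : ∀ j, S j ≤ X)
    (hP : ∀ j, F.essImage (S j : D)) : ∃ N, ∀ j, N ≤ j → S j = S N := by
  obtain ⟨T, ⟨e⟩⟩ := hX
  choose T' e' using fun j => hP j
  have e' : ∀ j, F.obj (T' j) ≅ (S j : D) := fun j => Classical.choice (e' j)
  let g : ∀ j, T' j ⟶ T := fun j =>
    F.preimage ((e' j).hom ≫ Subobject.ofLE _ _ (hSX j) ≫ e.inv)
  have hg : ∀ j, F.map (g j) = (e' j).hom ≫ Subobject.ofLE _ _ (hSX j) ≫ e.inv :=
    fun j => F.map_preimage _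
  have hmono : ∀ j, Mono (g j) := by
    intro j
    have : Mono (F.map (g j)) := by rw [hg]; infer_instance
    exact F.mono_of_mono_map this
  let S' : ℕ → Subobject T := fun j => Subobject.mk (g j)
  have hS' : ∀ i j, S j ≤ S i → S' j ≤ S' i := by
    intro i j hij
    refine Subobject.mk_le_mk_of_comm
      (F.preimage ((e' j).hom ≫ Subobject.ofLE _ _ hij ≫ (e' i).inv)) ?_
    apply F.map_injective
    rw [F.map_comp, F.map_preimage, hg, hg]
    simp
  have := hart T
  obtain ⟨N, hN⟩ := antitone_chain_condition_of_isArtinianObject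
    (⟨fun j => OrderDual.toDual (S' j), fun i j hij => hS' i j (hS hij)⟩ : ℕ →o (Subobject T)ᵒᵈ)
  refine ⟨N, fun j hj => le_antisymm (hS hj) ?_⟩
  have h1 : S' N ≤ S' j := le_of_eq (congrArg OrderDual.ofDual (hN j hj))
  let k : T' N ⟶ T' j := Subobject.ofMkLEMk _ _ h1
  have hk : k ≫ g j = g N := Subobject.ofMkLEMk_comp h1
  refine Subobject.le_of_comm ((e' N).inv ≫ F.map k ≫ (e' j).hom) ?_
  have h2 : F.map k ≫ F.map (g j) = F.map (g N) := by rw [← F.map_comp, hk]
  rw [hg, hg] at h2
  have h3 : F.map k ≫ (e' j).hom ≫ Subobject.ofLE _ _ (hSX j) =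
      (e' N).hom ≫ Subobject.ofLE _ _ (hSX N) := by
    have := h2 =≫ e.hom
    simpa using this
  have h4 := h3 =≫ X.arrow
  simp only [Category.assoc, Subobject.ofLE_arrow] at h4
  rw [Category.assoc, Category.assoc, h4, Iso.inv_hom_id_assoc]

end EssImage

section Ind

variable {C : Type v} [SmallCategory C] [Abelian C]

instance : (Ind.yoneda (C := C)).Additive :=
  Functor.additive_of_preserves_binary_products _

/-- Every ind-object of a torsion category is the union of its torsion subobjects. -/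
lemma tors_ind (htor : ∀ X : C, ∃ n : ℕ, 0 < n ∧ n • 𝟙 X = 0) (A : Ind C) (S : Subobject A)
    (hS : ∀ k, 0 < k → tor A k ≤ S) : S = ⊤ := by
  let e := Ind.colimitPresentationCompYoneda A
  let c : ∀ i, Ind.yoneda.obj (A.presentation.F.obj i) ⟶ A := fun i =>
    colimit.ι (A.presentation.F ⋙ Ind.yoneda) i ≫ e.hom
  have hc : ∀ i, S.Factors (c i) := by
    intro i
    obtain ⟨k, hk, hk0⟩ := htor (A.presentation.F.obj i)
    apply Subobject.factors_of_le _ (hS k hk)
    rw [tor_factors_iff]
    have : k • 𝟙 (Ind.yoneda.obj (A.presentation.F.obj i)) = 0 := by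
      rw [← Ind.yoneda.map_id, ← Functor.map_nsmul, hk0, Functor.map_zero]
    rw [← Category.id_comp (c i), ← Preadditive.nsmul_comp, this, zero_comp]
  let cc : Cocone (A.presentation.F ⋙ Ind.yoneda) :=
    { pt := (S : Ind C)
      ι :=
        { app := fun i => S.factorThru (c i) (hc i)
          naturality := by
            intro i j f
            rw [← cancel_mono S.arrow]
            simp only [Functor.const_obj_obj, Functor.const_obj_map, Category.comp_id,
              Category.assoc, Subobject.factorThru_arrow, c]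
            rw [← Category.assoc, colimit.w] } }
  let d : colimit (A.presentation.F ⋙ Ind.yoneda) ⟶ (S : Ind C) := colimit.desc _ cc
  have hd : d ≫ S.arrow = e.hom := by
    apply colimit.hom_ext
    intro i
    simp [d, c, cc]
  have : IsSplitEpi S.arrow := ⟨⟨e.inv ≫ d, by rw [Category.assoc, hd, e.inv_hom_id]⟩⟩
  have : IsIso S.arrow := isIso_of_mono_of_isSplitEpi _
  exact Subobject.eq_top_of_isIso_arrow S

/-- The small class of objects of `Ind C` isomorphic to objects of `C`. -/
noncomputable def smallClassInd (hart : ∀ X : C, IsArtinianObject X)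
    (htor : ∀ X : C, ∃ n : ℕ, 0 < n ∧ n • 𝟙 X = 0) : SmallClass (Ind C) where
  P := (Ind.yoneda (C := C)).essImage
  of_iso e hX := Functor.essImage.ofIso e hX
  ker f hX hY := essImage_kernel Ind.yoneda f hX hY
  coker f hX hY := essImage_cokernel Ind.yoneda f hX hY
  dcc X hX S hS hSX hP := essImage_dcc Ind.yoneda hart X hX S hS hSX hP
  tors A S hS := tors_ind htor A S hS

end Ind

end Groth.Agent.H84.IndCof
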