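import Groth.Agent.H84.IndCofG1

/-!
# H84 — kernels and cokernels of maps between objects of cofinite type

Abstract version over a `SmallClass`.  `Cof h M A` says `A[k]` is small for all `k ∈ M`.
-/

set_option backward.isDefEq.respectTransparency false
set_option backward.isDefEq.respectTransparency.types false

namespace Groth.Agent.H84.IndCof

open CategoryTheory Limits

universe v u

variable {𝒜 : Type u} [Category.{v} 𝒜] [Abelian 𝒜]

section Tools

/-- `ker g₁ ∩ ker g₂` computed in two ways. -/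
noncomputable def kernelSwap {A W₁ W₂ : 𝒜} (g₁ : A ⟶ W₁) (g₂ : A ⟶ W₂) :
    kernel (kernel.ι g₁ ≫ g₂) ≅ kernel (kernel.ι g₂ ≫ g₁) where
  hom := kernel.lift _ (kernel.lift g₂ (kernel.ι _ ≫ kernel.ι g₁)
    (by rw [Category.assoc, kernel.condition])) (by
      rw [← Category.assoc, kernel.lift_ι, Category.assoc, kernel.condition, comp_zero])
  inv := kernel.lift _ (kernel.lift g₁ (kernel.ι _ ≫ kernel.ι g₂)
    (by rw [Category.assoc, kernel.condition])) (by
      rw [← Category.assoc, kernel.lift_ι, Category.assoc, kernel.condition, comp_zero])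
  hom_inv_id := by
    rw [← cancel_mono (kernel.ι _), ← cancel_mono (kernel.ι g₁)]
    simp
  inv_hom_id := by
    rw [← cancel_mono (kernel.ι _), ← cancel_mono (kernel.ι g₂)]
    simp

/-- For a mono `m : X ⟶ A`, `X[k] = ker (X ⟶ A ⟶ A)`. -/
noncomputable def kernelNsmulMono {X A : 𝒜} (m : X ⟶ A) [Mono m] (k : ℕ) :
    kernel (k • 𝟙 X) ≅ kernel (m ≫ (k • 𝟙 A)) :=
  (kernelCompMono (k • 𝟙 X) m).symm ≪≫ kernelIsoOfEq (by simp)

/-- For `π` epi, `ker g = ker (π ≫ g) / ker π`. -/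
lemma isIso_cokernel_desc_kernel {B Q R : 𝒜} (π : B ⟶ Q) [Epi π] (g : Q ⟶ R) :
    IsIso (cokernel.desc (kernel.lift (π ≫ g) (kernel.ι π) (by simp))
      (kernel.lift g (kernel.ι (π ≫ g) ≫ π) (by simp)) (by
        rw [← cancel_mono (kernel.ι g)]; simp)) := by
  set i : kernel π ⟶ kernel (π ≫ g) := kernel.lift (π ≫ g) (kernel.ι π) (by simp) with hi
  set q : kernel (π ≫ g) ⟶ kernel g := kernel.lift g (kernel.ι (π ≫ g) ≫ π) (by simp) with hq
  have hiι : i ≫ kernel.ι (π ≫ g) = kernel.ι π := kernel.lift_ι _ _ _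
  have hqι : q ≫ kernel.ι g = kernel.ι (π ≫ g) ≫ π := kernel.lift_ι _ _ _
  have hiq : i ≫ q = 0 := by rw [← cancel_mono (kernel.ι g)]; simp [hi, hq]
  have hmono : Mono (cokernel.desc i q hiq) := by
    apply Preadditive.mono_of_cancel_zero
    intro Z z hz
    obtain ⟨Z1, π1, _, b, hb⟩ := surjective_up_to_refinements_of_epi (cokernel.π i) z
    have h0 : b ≫ q = 0 := by
      have : b ≫ cokernel.π i ≫ cokernel.desc i q hiq = 0 := by
        rw [← Category.assoc, ← hb, Category.assoc, hz, comp_zero]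
      rwa [cokernel.π_desc] at this
    have h1 : (b ≫ kernel.ι (π ≫ g)) ≫ π = 0 := by
      rw [Category.assoc, ← hqι, ← Category.assoc, h0, zero_comp]
    have h2 : b = kernel.lift π _ h1 ≫ i := by
      rw [← cancel_mono (kernel.ι (π ≫ g)), Category.assoc, hiι, kernel.lift_ι]
    rw [← cancel_epi π1, comp_zero, hb, h2, Category.assoc, cokernel.condition, comp_zero]
  have hepi : Epi (cokernel.desc i q hiq) := by
    have : Epi q := by
      rw [epi_iff_surjective_up_to_refinements]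
      intro Z z
      obtain ⟨Z1, π1, _, b, hb⟩ := surjective_up_to_refinements_of_epi π (z ≫ kernel.ι g)
      have h1 : b ≫ π ≫ g = 0 := by
        rw [← Category.assoc, ← hb, Category.assoc, Category.assoc, kernel.condition, comp_zero,
          comp_zero]
      refine ⟨Z1, π1, inferInstance, kernel.lift (π ≫ g) b h1, ?_⟩
      rw [← cancel_mono (kernel.ι g), Category.assoc, Category.assoc, hqι, ← Category.assoc
        (kernel.lift (π ≫ g) b h1), kernel.lift_ι, hb]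
    have h3 : cokernel.π i ≫ cokernel.desc i q hiq = q := cokernel.π_desc _ _ _
    rw [← h3] at this
    exact epi_of_epi (cokernel.π i) _
  exact isIso_of_mono_of_epi _

/-- For `π` epi, `ker g = ker (π ≫ g) / ker π`. -/
noncomputable def cokernelKernelIso {B Q R : 𝒜} (π : B ⟶ Q) [Epi π] (g : Q ⟶ R) :
    cokernel (kernel.lift (π ≫ g) (kernel.ι π) (by simp)) ≅ kernel g :=
  @asIso _ _ _ _ _ (isIso_cokernel_desc_kernel π g)

/-- If `k • 𝟙 Y` factors through `i : X ⟶ Y` then `coker i = coker (X/kX ⟶ Y/kY)`. -/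
noncomputable def cokernelIsoOfFactor {X Y : 𝒜} (i : X ⟶ Y) (k : ℕ) (t : Y ⟶ X)
    (ht : t ≫ i = k • 𝟙 Y) :
    cokernel i ≅ cokernel (cokernel.map (k • 𝟙 X) (k • 𝟙 Y) i i
      (by simp)) where
  hom := cokernel.desc i (cokernel.π (k • 𝟙 Y) ≫ cokernel.π _) (by
    have := cokernel.π_desc (k • 𝟙 X) (i ≫ cokernel.π (k • 𝟙 Y))
      (by rw [← Category.assoc, ← (show i ≫ (k • 𝟙 Y) = (k • 𝟙 X) ≫ i by
        simp), Category.assoc, cokernel.condition, comp_zero])
    rw [← Category.assoc, ← this, Category.assoc]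
    erw [cokernel.condition]
    rw [comp_zero])
  inv := cokernel.desc _ (cokernel.desc (k • 𝟙 Y) (cokernel.π i)
    (by rw [← ht, Category.assoc, cokernel.condition, comp_zero])) (by
      rw [← cancel_epi (cokernel.π (k • 𝟙 X))]
      simp)
  hom_inv_id := by
    apply coequalizer.hom_ext
    simp
  inv_hom_id := by
    apply coequalizer.hom_ext
    rw [← cancel_epi (cokernel.π (k • 𝟙 Y))]
    simp

end Tools

namespace SmallClass

variable (h : SmallClass 𝒜)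

/-- `A[k]` is small for all `k ∈ M`. -/
def Cof (M : Set ℕ) (A : 𝒜) : Prop := ∀ k ∈ M, h.P (kernel (k • 𝟙 A))

variable {h}

lemma Cof.of_iso {M : Set ℕ} {A B : 𝒜} (e : A ≅ B) (hA : h.Cof M A) : h.Cof M B := by
  intro k hk
  refine h.of_iso (kernel.mapIso (k • 𝟙 A) (k • 𝟙 B) e e ?_) (hA k hk)
  simp

variable (h)

/-- Key lemma: for an epi `π : B ⟶ Q`, if `K = ker π` and `B' = ker (π ≫ k)` have small
`K / kK`, `B' / k B'` then `Q[k]` is small. -/
lemma P_kernel_nsmul_of_epi {B Q : 𝒜} (π : B ⟶ Q) [Epi π] (k : ℕ)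
    (h1 : h.P (cokernel (k • 𝟙 (kernel π))))
    (h2 : h.P (cokernel (k • 𝟙 (kernel (π ≫ (k • 𝟙 Q)))))) :
    h.P (kernel (k • 𝟙 Q)) := by
  refine h.of_iso (cokernelKernelIso π (k • 𝟙 Q)) ?_
  set i : kernel π ⟶ kernel (π ≫ (k • 𝟙 Q)) :=
    kernel.lift (π ≫ (k • 𝟙 Q)) (kernel.ι π) (by simp) with hi
  have hiι : i ≫ kernel.ι (π ≫ (k • 𝟙 Q)) = kernel.ι π := kernel.lift_ι _ _ _
  have h0 : ((k • 𝟙 (kernel (π ≫ (k • 𝟙 Q)))) ≫ kernel.ι (π ≫ (k • 𝟙 Q))) ≫ π = 0 := by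
    simp only [Preadditive.nsmul_comp, Category.id_comp]
    rw [← comp_nsmul_id (kernel.ι (π ≫ (k • 𝟙 Q)) ≫ π) k, Category.assoc, kernel.condition]
  let t : kernel (π ≫ (k • 𝟙 Q)) ⟶ kernel π := kernel.lift π _ h0
  have ht : t ≫ i = k • 𝟙 _ := by
    rw [← cancel_mono (kernel.ι (π ≫ (k • 𝟙 Q))), Category.assoc, hiι, kernel.lift_ι]
  exact h.of_iso (cokernelIsoOfFactor i k t ht).symm (h.coker _ h1 h2)


lemma P_tor {A : 𝒜} (k : ℕ) : h.P (tor A k : 𝒜) ↔ h.P (kernel (k • 𝟙 A)) :=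
  ⟨fun hh => h.of_iso (kernelSubobjectIso _) hh, fun hh => h.of_iso (kernelSubobjectIso _).symm hh⟩

/-- The kernel of a morphism from a small object that factors through a small subobject. -/
lemma P_kernel_of_factors {X Y B : 𝒜} (g : X ⟶ B) (g' : X ⟶ Y) (m : Y ⟶ B) [Mono m]
    (e : g' ≫ m = g) (hX : h.P X) (hY : h.P Y) : h.P (kernel g) :=
  h.of_iso ((kernelCompMono g' m).symm ≪≫ kernelIsoOfEq e) (h.ker g' hX hY)

/-- `(ker f)[k]` is small if `A[k]`, `B[k]` are. -/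
lemma P_kernel_nsmul_kernel {A B : 𝒜} (f : A ⟶ B) (k : ℕ) (hA : h.P (kernel (k • 𝟙 A)))
    (hB : h.P (kernel (k • 𝟙 B))) : h.P (kernel (k • 𝟙 (kernel f))) := by
  refine h.of_iso ((kernelNsmulMono (kernel.ι f) k ≪≫ kernelSwap f (k • 𝟙 A)).symm) ?_
  refine h.P_kernel_of_factors (kernel.ι (k • 𝟙 A) ≫ f)
    (kernel.lift (k • 𝟙 B) (kernel.ι (k • 𝟙 A) ≫ f) ?_) (kernel.ι (k • 𝟙 B))
    (kernel.lift_ι _ _ _) hA hB
  rw [Category.assoc, comp_nsmul_id, show k • f = (k • 𝟙 A) ≫ f by simp, ← Category.assoc,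
    kernel.condition, zero_comp]

lemma Cof_kernel (M : Set ℕ) {A B : 𝒜} (f : A ⟶ B) (hA : h.Cof M A) (hB : h.Cof M B) :
    h.Cof M (kernel f) :=
  fun k hk => h.P_kernel_nsmul_kernel f k (hA k hk) (hB k hk)

/-- `A / kA` is small for `k ∈ M`, for `A` of cofinite type. -/
lemma P_cokernel_nsmul_of_cof (M : Set ℕ) (hM : ∀ k ∈ M, ∀ j : ℕ, k ^ j ∈ M) {A : 𝒜}
    (hA : h.Cof M A) (k : ℕ) (hk : k ∈ M) : h.P (cokernel (k • 𝟙 A)) :=
  h.P_cokernel_nsmul A k (fun j => (h.P_tor _).2 (hA _ (hM k hk j)))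

/-- The middle object of an epi-mono factorisation of a map between objects of cofinite type
is of cofinite type. -/
lemma Cof_of_epi_mono (M : Set ℕ) (hM : ∀ k ∈ M, ∀ j : ℕ, k ^ j ∈ M) {A I B : 𝒜} (e : A ⟶ I)
    (m : I ⟶ B) [Epi e] [Mono m] (hA : h.Cof M A) (hB : h.Cof M B) : h.Cof M I := by
  intro k hk
  apply h.P_kernel_nsmul_of_epi e k
  · apply h.P_cokernel_nsmul_of_cof M hM _ k hk
    exact (h.Cof_kernel M (e ≫ m) hA hB).of_iso (kernelCompMono e m)
  · apply h.P_cokernel_nsmul_of_cof M hM _ k hk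
    refine (h.Cof_kernel M ((e ≫ m) ≫ (k • 𝟙 B)) hA hB).of_iso
      (kernelIsoOfEq ?_ ≪≫ kernelCompMono (e ≫ (k • 𝟙 I)) m)
    simp

/-- `B[j] / I[j] ⟶ B / I` is a monomorphism. -/
lemma mono_cokernel_desc_tor {I B : 𝒜} (m : I ⟶ B) [Mono m] (j : ℕ) :
    Mono (cokernel.desc (kernel.map (j • 𝟙 I) (j • 𝟙 B) m m (by simp))
      (kernel.ι (j • 𝟙 B) ≫ cokernel.π m) (by
        rw [← Category.assoc, kernel.lift_ι, Category.assoc, cokernel.condition, comp_zero])) := by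
  set mj := kernel.map (j • 𝟙 I) (j • 𝟙 B) m m (by simp) with hmj
  have hmjι : mj ≫ kernel.ι (j • 𝟙 B) = kernel.ι (j • 𝟙 I) ≫ m := kernel.lift_ι _ _ _
  apply Preadditive.mono_of_cancel_zero
  intro Z z hz
  obtain ⟨Z1, π1, _, b, hb⟩ := surjective_up_to_refinements_of_epi (cokernel.π mj) z
  have h0 : (b ≫ kernel.ι (j • 𝟙 B)) ≫ cokernel.π m = 0 := by
    have : b ≫ cokernel.π mj ≫ cokernel.desc mj (kernel.ι (j • 𝟙 B) ≫ cokernel.π m) (by
        rw [← Category.assoc, hmjι, Category.assoc, cokernel.condition, comp_zero]) = 0 := by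
      rw [← Category.assoc, ← hb, Category.assoc, hz, comp_zero]
    rwa [cokernel.π_desc, ← Category.assoc] at this
  obtain ⟨Z2, π2, _, c, hc⟩ :=
    (CokernelCofork.IsColimit.comp_π_eq_zero_iff_up_to_refinements
      (cokernelIsCokernel m) (b ≫ kernel.ι (j • 𝟙 B))).1 h0
  have hc0 : c ≫ (j • 𝟙 I) = 0 := by
    rw [← cancel_mono m, zero_comp, Category.assoc,
      show (j • 𝟙 I) ≫ m = m ≫ (j • 𝟙 B) by simp, ← Category.assoc, ← hc, Category.assoc,
      Category.assoc, kernel.condition, comp_zero, comp_zero]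
  have h1 : π2 ≫ b = kernel.lift (j • 𝟙 I) c hc0 ≫ mj := by
    rw [← cancel_mono (kernel.ι (j • 𝟙 B)), Category.assoc, Category.assoc, hmjι,
      ← Category.assoc (kernel.lift (j • 𝟙 I) c hc0), kernel.lift_ι, hc]
  rw [← cancel_epi π1, ← cancel_epi π2, comp_zero, comp_zero, hb, ← Category.assoc, h1,
    Category.assoc, cokernel.condition, comp_zero]

/-- For a mono `m : I ⟶ B` with `I[j]`, `B[j]` small, `B' = ker (B ⟶ B/I ⟶ B/I)` (second map
multiplication by `k`) has `B'[j]` small. -/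
lemma P_kernel_nsmul_kernel_cokernel {I B : 𝒜} (m : I ⟶ B) [Mono m] (k j : ℕ)
    (hI : h.P (kernel (j • 𝟙 I))) (hB : h.P (kernel (j • 𝟙 B))) :
    h.P (kernel (j • 𝟙 (kernel (cokernel.π m ≫ (k • 𝟙 (cokernel m)))))) := by
  refine h.of_iso ((kernelNsmulMono (kernel.ι (cokernel.π m ≫ (k • 𝟙 (cokernel m)))) j ≪≫
    kernelSwap (cokernel.π m ≫ (k • 𝟙 (cokernel m))) (j • 𝟙 B)).symm) ?_
  set mj := kernel.map (j • 𝟙 I) (j • 𝟙 B) m m (by simp) with hmj
  have hmjι : mj ≫ kernel.ι (j • 𝟙 B) = kernel.ι (j • 𝟙 I) ≫ m := kernel.lift_ι _ _ _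
  have hθ0 : mj ≫ kernel.ι (j • 𝟙 B) ≫ cokernel.π m = 0 := by
    rw [← Category.assoc, hmjι, Category.assoc, cokernel.condition, comp_zero]
  set θ := cokernel.desc mj (kernel.ι (j • 𝟙 B) ≫ cokernel.π m) hθ0 with hθ
  have : Mono θ := mono_cokernel_desc_tor m j
  have hQj : h.P (cokernel mj) := h.coker mj hI hB
  refine h.P_kernel_of_factors _ (cokernel.π mj ≫ (k • 𝟙 (cokernel mj))) θ ?_ hB hQj
  rw [Category.assoc, show (k • 𝟙 (cokernel mj)) ≫ θ = θ ≫ (k • 𝟙 (cokernel m)) by simp,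
    ← Category.assoc, cokernel.π_desc, Category.assoc]

/-- The cokernel of a mono between objects of cofinite type is of cofinite type. -/
lemma Cof_cokernel_of_mono (M : Set ℕ) (hM : ∀ k ∈ M, ∀ j : ℕ, k ^ j ∈ M) {I B : 𝒜}
    (m : I ⟶ B) [Mono m] (hI : h.Cof M I) (hB : h.Cof M B) : h.Cof M (cokernel m) := by
  intro k hk
  apply h.P_kernel_nsmul_of_epi (cokernel.π m) k
  · apply h.P_cokernel_nsmul_of_cof M hM _ k hk
    exact hI.of_iso ((Abelian.monoIsKernelOfCokernel _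
      (colimit.isColimit _)).conePointUniqueUpToIso (limit.isLimit _))
  · apply h.P_cokernel_nsmul_of_cof M hM _ k hk
    intro j hj
    exact h.P_kernel_nsmul_kernel_cokernel m k j (hI j hj) (hB j hj)

/-- **Objects of cofinite type are stable under cokernels.** -/
theorem Cof_cokernel (M : Set ℕ) (hM : ∀ k ∈ M, ∀ j : ℕ, k ^ j ∈ M) {A B : 𝒜} (f : A ⟶ B)
    (hA : h.Cof M A) (hB : h.Cof M B) : h.Cof M (cokernel f) := by
  have hI : h.Cof M (image f) :=
    h.Cof_of_epi_mono M hM (factorThruImage f) (image.ι f) hA hB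
  have := h.Cof_cokernel_of_mono M hM (image.ι f) hI hB
  exact this.of_iso ((cokernelEpiComp (factorThruImage f) (image.ι f)).symm ≪≫
    cokernelIsoOfEq (image.fac f))

end SmallClass

end Groth.Agent.H84.IndCof
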