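import Groth.Agent.H84.IndCofInd

/-!
# H84 — `A / nA` lies in `C` for ind-objects of cofinite type
-/

set_option backward.isDefEq.respectTransparency false
set_option backward.isDefEq.respectTransparency.types false

namespace Groth.Agent.H84.IndCof

open CategoryTheory Limits

universe v

variable {C : Type v} [SmallCategory C] [Abelian C]

lemma htor_of_prime {p : ℕ} (hp : p.Prime) (htor : ∀ X : C, ∃ n : ℕ, (p ^ n) • 𝟙 X = 0) :
    ∀ X : C, ∃ n : ℕ, 0 < n ∧ n • 𝟙 X = 0 := fun X => by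
  obtain ⟨n, hn⟩ := htor X
  exact ⟨p ^ n, pow_pos hp.pos n, hn⟩

lemma P_tor_iff {𝒜 : Type*} [Category 𝒜] [Abelian 𝒜] (h : SmallClass 𝒜) (A : 𝒜) (k : ℕ) :
    h.P (tor A k : 𝒜) ↔ h.P (kernel (k • 𝟙 A)) :=
  ⟨fun hh => h.of_iso (kernelSubobjectIso _) hh, fun hh => h.of_iso (kernelSubobjectIso _).symm hh⟩

theorem cokernel_smul_mem_essImage_torsion
    (hart : ∀ X : C, IsArtinianObject X)
    (htor : ∀ X : C, ∃ n : ℕ, 0 < n ∧ n • 𝟙 X = 0)
    (A : Ind C) (hA : ∀ n : ℕ, 0 < n → (Ind.yoneda (C := C)).essImage (kernel (n • 𝟙 A)))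
    (n : ℕ) (hn : 0 < n) :
    (Ind.yoneda (C := C)).essImage (cokernel (n • 𝟙 A)) :=
  (smallClassInd hart htor).P_cokernel_nsmul A n
    (fun j => (P_tor_iff _ A _).2 (hA _ (pow_pos hn j)))

theorem cokernel_pow_smul_mem_essImage
    (hart : ∀ X : C, IsArtinianObject X) (p : ℕ) (hp : p.Prime)
    (htor : ∀ X : C, ∃ n : ℕ, (p ^ n) • 𝟙 X = 0)
    (A : Ind C) (hA : ∀ n : ℕ, (Ind.yoneda (C := C)).essImage (kernel ((p ^ n) • 𝟙 A))) (n : ℕ) :
    (Ind.yoneda (C := C)).essImage (cokernel ((p ^ n) • 𝟙 A)) :=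
  (smallClassInd hart (htor_of_prime hp htor)).P_cokernel_nsmul A (p ^ n)
    (fun j => (P_tor_iff _ A _).2 (by rw [← pow_mul]; exact hA _))

end Groth.Agent.H84.IndCof
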