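import Groth.Agent.H84.IndCofInd
import Groth.Agent.H84.IndCofKer

/-!
# H84 — ind-objects of cofinite type are stable under kernels and cokernels
-/

set_option backward.isDefEq.respectTransparency false
set_option backward.isDefEq.respectTransparency.types false

namespace Groth.Agent.H84.IndCof

open CategoryTheory Limits

universe v

variable {C : Type v} [SmallCategory C] [Abelian C]

lemma htor_of_prime' {p : ℕ} (hp : p.Prime) (htor : ∀ X : C, ∃ n : ℕ, (p ^ n) • 𝟙 X = 0) :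
    ∀ X : C, ∃ n : ℕ, 0 < n ∧ n • 𝟙 X = 0 := fun X => by
  obtain ⟨n, hn⟩ := htor X
  exact ⟨p ^ n, pow_pos hp.pos n, hn⟩

lemma pos_pow_mem : ∀ k ∈ {n : ℕ | 0 < n}, ∀ j : ℕ, k ^ j ∈ {n : ℕ | 0 < n} :=
  fun _ hk j => Set.mem_ofPred.2 (pow_pos (Set.mem_ofPred.1 hk) j)

lemma range_pow_mem (p : ℕ) :
    ∀ k ∈ Set.range (fun n : ℕ => p ^ n), ∀ j : ℕ, k ^ j ∈ Set.range (fun n : ℕ => p ^ n) := by
  rintro _ ⟨n, rfl⟩ j
  exact ⟨n * j, by simp [pow_mul]⟩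

theorem kernel_cokernel_cofiniteType_torsion
    (hart : ∀ X : C, IsArtinianObject X)
    (htor : ∀ X : C, ∃ n : ℕ, 0 < n ∧ n • 𝟙 X = 0)
    (A B : Ind C) (hA : ∀ n : ℕ, 0 < n → (Ind.yoneda (C := C)).essImage (kernel (n • 𝟙 A)))
    (hB : ∀ n : ℕ, 0 < n → (Ind.yoneda (C := C)).essImage (kernel (n • 𝟙 B))) (f : A ⟶ B) :
    (∀ n : ℕ, 0 < n → (Ind.yoneda (C := C)).essImage (kernel (n • 𝟙 (kernel f)))) ∧
      (∀ n : ℕ, 0 < n → (Ind.yoneda (C := C)).essImage (kernel (n • 𝟙 (cokernel f)))) :=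
  ⟨(smallClassInd hart htor).Cof_kernel {n : ℕ | 0 < n} f hA hB,
    (smallClassInd hart htor).Cof_cokernel {n : ℕ | 0 < n} pos_pow_mem f hA hB⟩

theorem kernel_cokernel_cofiniteType
    (hart : ∀ X : C, IsArtinianObject X) (p : ℕ) (hp : p.Prime)
    (htor : ∀ X : C, ∃ n : ℕ, (p ^ n) • 𝟙 X = 0)
    (A B : Ind C) (hA : ∀ n : ℕ, (Ind.yoneda (C := C)).essImage (kernel ((p ^ n) • 𝟙 A)))
    (hB : ∀ n : ℕ, (Ind.yoneda (C := C)).essImage (kernel ((p ^ n) • 𝟙 B))) (f : A ⟶ B) :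
    (∀ n : ℕ, (Ind.yoneda (C := C)).essImage (kernel ((p ^ n) • 𝟙 (kernel f)))) ∧
      (∀ n : ℕ, (Ind.yoneda (C := C)).essImage (kernel ((p ^ n) • 𝟙 (cokernel f)))) := by
  have hA' : (smallClassInd hart (htor_of_prime' hp htor)).Cof
      (Set.range (fun n : ℕ => p ^ n)) A := by
    rintro _ ⟨n, rfl⟩; exact hA n
  have hB' : (smallClassInd hart (htor_of_prime' hp htor)).Cof
      (Set.range (fun n : ℕ => p ^ n)) B := by
    rintro _ ⟨n, rfl⟩; exact hB n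
  exact ⟨fun n => (smallClassInd hart (htor_of_prime' hp htor)).Cof_kernel _ f hA' hB' _ ⟨n, rfl⟩,
    fun n => (smallClassInd hart (htor_of_prime' hp htor)).Cof_cokernel _ (range_pow_mem p) f
      hA' hB' _ ⟨n, rfl⟩⟩

end Groth.Agent.H84.IndCof
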