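import Groth.Agent.H84.IndCofInd
import Groth.Agent.H84.IndCofDiv

/-!
# H84 — stabilisation of `p^n A` and the divisible part, for ind-objects of cofinite type
-/

set_option backward.isDefEq.respectTransparency false
set_option backward.isDefEq.respectTransparency.types false

namespace Groth.Agent.H84.IndCof

open CategoryTheory Limits

universe v

variable {C : Type v} [SmallCategory C] [Abelian C]

lemma htor_of_prime'' {p : ℕ} (hp : p.Prime) (htor : ∀ X : C, ∃ n : ℕ, (p ^ n) • 𝟙 X = 0) :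
    ∀ X : C, ∃ n : ℕ, 0 < n ∧ n • 𝟙 X = 0 := fun X => by
  obtain ⟨n, hn⟩ := htor X
  exact ⟨p ^ n, pow_pos hp.pos n, hn⟩

/-- An object of `Ind C` isomorphic to an object of `C` killed by `k` is killed by `k`. -/
lemma nsmul_id_eq_zero_of_essImage {Q : Ind C} (hQ : (Ind.yoneda (C := C)).essImage Q)
    (P : ℕ → Prop) (hk : ∀ X : C, ∃ k : ℕ, P k ∧ k • 𝟙 X = 0) : ∃ k : ℕ, P k ∧ k • 𝟙 Q = 0 := by
  obtain ⟨X, ⟨e⟩⟩ := hQ
  obtain ⟨k, hPk, hk⟩ := hk X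
  refine ⟨k, hPk, ?_⟩
  have h1 : k • 𝟙 (Ind.yoneda.obj X) = 0 := by
    rw [← Ind.yoneda.map_id, ← Functor.map_nsmul, hk, Functor.map_zero]
  rw [← cancel_epi e.hom, comp_zero, Preadditive.comp_nsmul, Category.comp_id,
    ← Category.id_comp e.hom, ← Preadditive.nsmul_comp, h1, zero_comp]

theorem imageSubobject_pow_smul_stabilizes
    (hart : ∀ X : C, IsArtinianObject X) (p : ℕ) (hp : p.Prime)
    (htor : ∀ X : C, ∃ n : ℕ, (p ^ n) • 𝟙 X = 0)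
    (A : Ind C) (hA : ∀ n : ℕ, (Ind.yoneda (C := C)).essImage (kernel ((p ^ n) • 𝟙 A))) :
    ∃ N : ℕ, ∀ n : ℕ, N ≤ n →
      imageSubobject ((p ^ n) • 𝟙 A) = imageSubobject ((p ^ N) • 𝟙 A) :=
  (smallClassInd hart (htor_of_prime'' hp htor)).mul_pow_stationary A p hp hA

theorem divisiblePart_properties_ind
    (hart : ∀ X : C, IsArtinianObject X) (p : ℕ) (hp : p.Prime)
    (htor : ∀ X : C, ∃ n : ℕ, (p ^ n) • 𝟙 X = 0)
    (A : Ind C) (hA : ∀ n : ℕ, (Ind.yoneda (C := C)).essImage (kernel ((p ^ n) • 𝟙 A))) (N : ℕ)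
    (hN : ∀ n : ℕ, N ≤ n → imageSubobject ((p ^ n) • 𝟙 A) = imageSubobject ((p ^ N) • 𝟙 A)) :
    (∀ n : ℕ, (Ind.yoneda (C := C)).essImage
        (kernel ((p ^ n) • 𝟙 ((imageSubobject ((p ^ N) • 𝟙 A) : Subobject A) : Ind C)))) ∧
      Epi (p • 𝟙 ((imageSubobject ((p ^ N) • 𝟙 A) : Subobject A) : Ind C)) ∧
      (∀ D : Subobject A, Epi (p • 𝟙 (D : Ind C)) → D ≤ imageSubobject ((p ^ N) • 𝟙 A)) ∧
      (∀ (Q : Ind C) (q : A ⟶ Q), Epi q → (Ind.yoneda (C := C)).essImage Q →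
        (imageSubobject ((p ^ N) • 𝟙 A)).arrow ≫ q = 0) := by
  have hkill : ∀ Q : Ind C, (smallClassInd hart (htor_of_prime'' hp htor)).P Q →
      ∃ k : ℕ, (p ^ k) • 𝟙 Q = 0 := by
    intro Q hQ
    obtain ⟨k, ⟨j, rfl⟩, hk⟩ := nsmul_id_eq_zero_of_essImage hQ (fun k => ∃ j, k = p ^ j)
      (fun X => by obtain ⟨n, hn⟩ := htor X; exact ⟨p ^ n, ⟨n, rfl⟩, hn⟩)
    exact ⟨j, hk⟩
  obtain ⟨h1, h2, h3, h4⟩ := (smallClassInd hart (htor_of_prime'' hp htor)).divisiblePart_properties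
    p hkill A hA N hN
  exact ⟨h1, h2, h3, fun Q q _ hQ => h4 Q q hQ⟩

end Groth.Agent.H84.IndCof
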