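import Groth.Agent.H84.IndCofInd
import Groth.Agent.H84.IndCofArt

/-!
# H84 — the category of ind-objects of cofinite type is Artinian
-/

set_option backward.isDefEq.respectTransparency false
set_option backward.isDefEq.respectTransparency.types false

namespace Groth.Agent.H84.IndCof

open CategoryTheory Limits

universe v

variable {C : Type v} [SmallCategory C] [Abelian C]

/-- Every ind-object is the union of its `k`-torsion subobjects, `k` ranging over a set of
integers killing all objects of `C`. -/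
lemma tors_ind' (Pk : ℕ → Prop) (htor : ∀ X : C, ∃ n : ℕ, Pk n ∧ n • 𝟙 X = 0) (A : Ind C)
    (S : Subobject A) (hS : ∀ k, Pk k → tor A k ≤ S) : S = ⊤ := by
  let e := Ind.colimitPresentationCompYoneda A
  let c : ∀ i, Ind.yoneda.obj (A.presentation.F.obj i) ⟶ A := fun i =>
    colimit.ι (A.presentation.F ⋙ Ind.yoneda) i ≫ e.hom
  have hc : ∀ i, S.Factors (c i) := by
    intro i
    obtain ⟨k, hk, hk0⟩ := htor (A.presentation.F.obj i)
    apply Subobject.factors_of_le _ (hS k hk)
    rw [tor_factors_iff]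
    have : k • 𝟙 (Ind.yoneda.obj (A.presentation.F.obj i)) = 0 := by
      rw [← Ind.yoneda.map_id, ← Functor.map_nsmul, hk0, Functor.map_zero]
    rw [← Category.id_comp (c i), ← Preadditive.nsmul_comp, this, zero_comp]
  let cc : Cocone (A.presentation.F ⋙ Ind.yoneda) :=
    { pt := (S : Ind C)
      ι :=
        { app := fun i => S.factorThru (c i) (hc i)
          naturality := by
            intro i j f
            rw [← cancel_mono S.arrow]
            simp only [Functor.const_obj_obj, Functor.const_obj_map, Category.comp_id,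
              Category.assoc, Subobject.factorThru_arrow, c]
            rw [← Category.assoc, colimit.w] } }
  let d : colimit (A.presentation.F ⋙ Ind.yoneda) ⟶ (S : Ind C) := colimit.desc _ cc
  have hd : d ≫ S.arrow = e.hom := by
    apply colimit.hom_ext
    intro i
    simp [d, c, cc]
  have : IsSplitEpi S.arrow := ⟨⟨e.inv ≫ d, by rw [Category.assoc, hd, e.inv_hom_id]⟩⟩
  have : IsIso S.arrow := isIso_of_mono_of_isSplitEpi _
  exact Subobject.eq_top_of_isIso_arrow S

theorem subobject_chain_stabilizes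
    (hart : ∀ X : C, IsArtinianObject X) (p : ℕ) (hp : p.Prime)
    (htor : ∀ X : C, ∃ n : ℕ, (p ^ n) • 𝟙 X = 0)
    (A : Ind C) (hA : ∀ n : ℕ, (Ind.yoneda (C := C)).essImage (kernel ((p ^ n) • 𝟙 A)))
    (S : ℕ → Subobject A) (hS : Antitone S)
    (hcof : ∀ m n : ℕ, (Ind.yoneda (C := C)).essImage
      (kernel ((p ^ n) • 𝟙 ((S m : Subobject A) : Ind C)))) :
    ∃ N : ℕ, ∀ m : ℕ, N ≤ m → S m = S N := by
  have htor' : ∀ X : C, ∃ n : ℕ, 0 < n ∧ n • 𝟙 X = 0 := fun X => by
    obtain ⟨n, hn⟩ := htor X
    exact ⟨p ^ n, pow_pos hp.pos n, hn⟩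
  refine (smallClassInd hart htor').chain_stabilizes p hp ?_ A hA S hS hcof
  intro B T hT
  refine tors_ind' (fun k => ∃ j, k = p ^ j) (fun X => ?_) B T ?_
  · obtain ⟨n, hn⟩ := htor X
    exact ⟨p ^ n, ⟨n, rfl⟩, hn⟩
  · rintro _ ⟨j, rfl⟩
    exact hT j

end Groth.Agent.H84.IndCof
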