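import Mathlib

set_option autoImplicit false
universe u

open CategoryTheory AlgebraicGeometry Opposite TopologicalSpace

namespace Groth.Agent.H84.LRSConn

set_option backward.isDefEq.respectTransparency false in
theorem idem_trivial_of_preconnected (Z : LocallyRingedSpace.{u}) (hZ : PreconnectedSpace Z)
    (e : Z.presheaf.obj (op ⊤)) (he : IsIdempotentElem e) : e = 0 ∨ e = 1 := by
  classical
  have hgerm : ∀ x : Z, IsUnit (Z.presheaf.germ ⊤ x trivial e) ∨
      IsUnit (Z.presheaf.germ ⊤ x trivial (1 - e)) := by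
    intro x
    apply IsLocalRing.isUnit_or_isUnit_of_add_one
    rw [← map_add]
    simp
  have hdisj : ∀ x : Z, IsUnit (Z.presheaf.germ ⊤ x trivial e) →
      IsUnit (Z.presheaf.germ ⊤ x trivial (1 - e)) → False := by
    intro x h1 h2
    have h3 := h1.mul h2
    rw [← map_mul, he.mul_one_sub_self, map_zero] at h3
    exact not_isUnit_zero h3
  have hclopen : IsClopen {x : Z | IsUnit (Z.presheaf.germ ⊤ x trivial e)} := by
    constructor
    · have h2 : IsOpen ((Z.toRingedSpace.basicOpen (1 - e)).1 : Set Z) :=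
        (Z.toRingedSpace.basicOpen (1 - e)).2
      rw [← isOpen_compl_iff]
      have heq : ({x : Z | IsUnit (Z.presheaf.germ ⊤ x trivial e)}ᶜ : Set Z) =
          ((Z.toRingedSpace.basicOpen (1 - e)).1 : Set Z) := by
        ext x
        simp only [Set.mem_compl_iff, Set.mem_setOf_eq]
        change _ ↔ x ∈ Z.toRingedSpace.basicOpen (1 - e)
        rw [RingedSpace.mem_top_basicOpen]
        constructor
        · intro h
          exact (hgerm x).resolve_left h
        · intro h h'
          exact hdisj x h' h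
      rw [heq]
      exact h2
    · have h2 : IsOpen ((Z.toRingedSpace.basicOpen e).1 : Set Z) :=
        (Z.toRingedSpace.basicOpen e).2
      have heq : ({x : Z | IsUnit (Z.presheaf.germ ⊤ x trivial e)} : Set Z) =
          ((Z.toRingedSpace.basicOpen e).1 : Set Z) := by
        ext x
        simp only [Set.mem_setOf_eq]
        change _ ↔ x ∈ Z.toRingedSpace.basicOpen e
        rw [RingedSpace.mem_top_basicOpen]
        rfl
      rw [heq]
      exact h2
  rcases (preconnectedSpace_iff_clopen.mp hZ) _ hclopen with h | h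
  · left
    have hu : IsUnit (1 - e) := by
      apply Z.toRingedSpace.isUnit_of_isUnit_germ ⊤ (1 - e)
      intro x hx
      refine (hgerm x).resolve_left ?_
      intro hx'
      have : x ∈ ({x : Z | IsUnit (Z.presheaf.germ ⊤ x trivial e)} : Set Z) := hx'
      rw [h] at this
      exact this
    have h1 : 1 - e = 1 := (IsIdempotentElem.iff_eq_one_of_isUnit hu).mp he.one_sub
    have : e = 1 - (1 - e) := by ring
    rw [this, h1, sub_self]
  · right
    have hu : IsUnit e := by
      apply Z.toRingedSpace.isUnit_of_isUnit_germ ⊤ e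
      intro x hx
      have : x ∈ ({x : Z | IsUnit (Z.presheaf.germ ⊤ x trivial e)} : Set Z) := by
        rw [h]; trivial
      exact this
    exact (IsIdempotentElem.iff_eq_one_of_isUnit hu).mp he

set_option backward.isDefEq.respectTransparency false in
theorem clopen_trivial_of_idem (Z : LocallyRingedSpace.{u})
    (H : ∀ e : Z.presheaf.obj (op ⊤), IsIdempotentElem e → e = 0 ∨ e = 1)
    (s : Set Z) (hs : IsClopen s) : s = ∅ ∨ s = Set.univ := by
  classical
  let F : TopCat.Sheaf CommRingCat Z.toTopCat := Z.sheaf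
  let U : Opens Z.toTopCat := ⟨s, hs.isOpen⟩
  let V : Opens Z.toTopCat := ⟨sᶜ, hs.isClosed.isOpen_compl⟩
  have hUV : U ⊓ V = ⊥ := by
    ext x
    simp [U, V]
  have htop : (⊤ : Opens Z.toTopCat) ≤ U ⊔ V := by
    intro x _
    by_cases hx : x ∈ s
    · exact Or.inl hx
    · exact Or.inr hx
  have hsub : Subsingleton (F.1.obj (op (U ⊓ V))) :=
    CommRingCat.subsingleton_of_isTerminal (F.isTerminalOfEqEmpty hUV)
  let x : RingHom.eqLocus
    (RingHom.comp (F.obj.map (homOfLE inf_le_left : U ⊓ V ⟶ U).op).hom
      (RingHom.fst (F.obj.obj <| op U) (F.obj.obj <| op V)))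
    (RingHom.comp (F.obj.map (homOfLE inf_le_right : U ⊓ V ⟶ V).op).hom
      (RingHom.snd (F.obj.obj <| op U) (F.obj.obj <| op V))) :=
    ⟨(1, 0), Subsingleton.elim _ _⟩
  have hxx : x * x = x := by
    apply Subtype.ext
    apply Prod.ext <;> simp [x]
  let e0 : F.1.obj (op (U ⊔ V)) := (F.objSupIsoProdEqLocus U V).inv.hom x
  have he0 : e0 * e0 = e0 := by
    simp only [e0]
    rw [← map_mul, hxx]
  let e : F.1.obj (op ⊤) := (F.1.map (homOfLE htop).op).hom e0
  have he : e * e = e := by
    simp only [e]
    rw [← map_mul, he0]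
  have hresU : (F.1.map (homOfLE le_top : U ⟶ ⊤).op).hom e = 1 := by
    have h1 := F.objSupIsoProdEqLocus_inv_fst U V x
    simp only [e]
    have : (F.1.map (homOfLE le_top : U ⟶ ⊤).op).hom ((F.1.map (homOfLE htop).op).hom e0) =
        (F.1.map (homOfLE le_sup_left : U ⟶ U ⊔ V).op).hom e0 := by
      rw [← RingHom.comp_apply, ← CommRingCat.hom_comp, ← Functor.map_comp, ← op_comp, homOfLE_comp]
    rw [this]
    exact h1
  have hresV : (F.1.map (homOfLE le_top : V ⟶ ⊤).op).hom e = 0 := by
    have h1 := F.objSupIsoProdEqLocus_inv_snd U V x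
    simp only [e]
    have : (F.1.map (homOfLE le_top : V ⟶ ⊤).op).hom ((F.1.map (homOfLE htop).op).hom e0) =
        (F.1.map (homOfLE le_sup_right : V ⟶ U ⊔ V).op).hom e0 := by
      rw [← RingHom.comp_apply, ← CommRingCat.hom_comp, ← Functor.map_comp, ← op_comp, homOfLE_comp]
    rw [this]
    exact h1
  rcases H e he with h0 | h1
  · left
    rw [h0, map_zero] at hresU
    rw [Set.eq_empty_iff_forall_notMem]
    intro y hy
    have hyU : y ∈ U := hy
    have := congrArg (Z.presheaf.germ U y hyU) hresU
    rw [map_zero, map_one] at this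
    exact zero_ne_one this
  · right
    rw [h1, map_one] at hresV
    rw [Set.eq_univ_iff_forall]
    intro y
    by_contra hy
    have hyV : y ∈ V := hy
    have := congrArg (Z.presheaf.germ V y hyV) hresV
    rw [map_zero, map_one] at this
    exact zero_ne_one this.symm

theorem preconnected_iff (Z : LocallyRingedSpace.{u}) :
    PreconnectedSpace Z ↔
      ∀ e : Z.presheaf.obj (op ⊤), IsIdempotentElem e → e = 0 ∨ e = 1 :=
  ⟨fun hZ e he => idem_trivial_of_preconnected Z hZ e he,
   fun H => preconnectedSpace_iff_clopen.mpr (clopen_trivial_of_idem Z H)⟩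

end Groth.Agent.H84.LRSConn
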