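import Mathlib

set_option autoImplicit false
universe u

open CategoryTheory AlgebraicGeometry Opposite TopologicalSpace

namespace Groth.Agent.H84.LRSDisjAffine

theorem isAffine_of_isCompl {Y : Scheme.{u}} (U V : Y.Opens) (h : IsCompl U V)
    (hU : IsAffineOpen U) (hV : IsAffineOpen V) : IsAffine Y := by
  have h1 : IsAffineOpen (U ⊔ V) := hU.sup_of_disjoint hV h.disjoint
  rw [h.sup_eq_top] at h1
  have : IsAffine ((⊤ : Y.Opens) : Scheme.{u}) := h1
  exact IsAffine.of_isIso (Scheme.topIso Y).inv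

theorem isIso_toΓSpec
    (X : LocallyRingedSpace.{u}) (U V : Opens X.toTopCat) (hUV : IsCompl U V)
    (A B : CommRingCat.{u})
    (eU : X.restrict U.isOpenEmbedding ≅ (Spec A).toLocallyRingedSpace)
    (eV : X.restrict V.isOpenEmbedding ≅ (Spec B).toLocallyRingedSpace) :
    IsIso X.toΓSpec := by
  have hcov : ∀ x : X, x ∈ U ∨ x ∈ V := by
    intro x
    have : x ∈ U ⊔ V := by rw [hUV.sup_eq_top]; trivial
    exact this
  let Y : Scheme.{u} :=
    { toLocallyRingedSpace := X
      local_affine := by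
        intro x
        rcases hcov x with hx | hx
        · exact ⟨⟨U, hx⟩, A, ⟨eU⟩⟩
        · exact ⟨⟨V, hx⟩, B, ⟨eV⟩⟩ }
  let U' : Y.Opens := U
  let V' : Y.Opens := V
  have hU : IsAffineOpen U' := by
    let e : U'.toScheme ≅ Spec A :=
      Scheme.fullyFaithfulForgetToLocallyRingedSpace.preimageIso eU
    exact IsAffine.of_isIso e.hom
  have hV : IsAffineOpen V' := by
    let e : V'.toScheme ≅ Spec B :=
      Scheme.fullyFaithfulForgetToLocallyRingedSpace.preimageIso eV
    exact IsAffine.of_isIso e.hom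
  have hY : IsAffine Y := isAffine_of_isCompl U' V' hUV hU hV
  have h1 : IsIso Y.toSpecΓ := hY.affine
  have h2 : IsIso (Scheme.forgetToLocallyRingedSpace.map Y.toSpecΓ) := inferInstance
  exact h2

end Groth.Agent.H84.LRSDisjAffine
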