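import Mathlib

/-!
# Lifting an `ℕ`-indexed sequence of composable morphisms with `d ≫ d = 0` along a localization
functor with left calculus of fractions
-/

set_option autoImplicit false
set_option backward.isDefEq.respectTransparency false
set_option backward.isDefEq.respectTransparency.types false

namespace Groth.Agent.H84.LiftSeq

open CategoryTheory CategoryTheory.Limits

universe u v u' v'

variable {A : Type u} [Category.{v} A] [HasZeroMorphisms A]
  {B : Type u'} [Category.{v'} B] [HasZeroMorphisms B]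
  (L : A ⥤ B) (W : MorphismProperty A)

/-- The fix-up hypothesis: a composition which becomes zero after applying `L` can be made zero
by postcomposing with a morphism in `W`. -/
def FixUp : Prop :=
  ∀ ⦃Z X Y : A⦄ (g : Z ⟶ X) (f : X ⟶ Y), L.map (g ≫ f) = 0 →
    ∃ (Y' : A) (q : Y ⟶ Y'), W q ∧ g ≫ f ≫ q = 0

variable (K : ℕ → B) (δ : ∀ n, K n ⟶ K (n + 1))

/-- The data at stage `n`: the object `X` lifting `K n` and an incoming morphism. -/
structure Piece (n : ℕ) where
  Z : A
  X : A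
  g : Z ⟶ X
  β : L.obj X ≅ K n
  hg : L.map g ≫ β.hom ≫ δ n = 0

variable {L K δ}

theorem exists_step [L.IsLocalization W] [W.HasLeftCalculusOfFractions] (hfix : FixUp L W)
    {n : ℕ} (p : Piece L K δ n) :
    ∃ (X' : A) (r : p.X ⟶ X') (β' : L.obj X' ≅ K (n + 1)),
      p.g ≫ r = 0 ∧ L.map r ≫ β'.hom = p.β.hom ≫ δ n := by
  have : L.EssSurj := Localization.essSurj L W
  let X₁ : A := L.objPreimage (K (n + 1))
  let β₁ : L.obj X₁ ≅ K (n + 1) := L.objObjPreimageIso _
  let φ : L.obj p.X ⟶ L.obj X₁ := p.β.hom ≫ δ n ≫ β₁.inv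
  obtain ⟨z, hz⟩ := Localization.exists_leftFraction L W φ
  have hs : IsIso (L.map z.s) := Localization.inverts L W z.s z.hs
  have hz' : φ = L.map z.f ≫ inv (L.map z.s) := hz
  have hzf : L.map z.f = φ ≫ L.map z.s := by
    rw [hz', Category.assoc, IsIso.inv_hom_id, Category.comp_id]
  have h0 : L.map (p.g ≫ z.f) = 0 := by
    rw [L.map_comp, hzf]
    show L.map p.g ≫ (p.β.hom ≫ δ n ≫ β₁.inv) ≫ L.map z.s = 0
    have := p.hg
    simp only [Category.assoc] at this ⊢
    rw [reassoc_of% this, zero_comp]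
  obtain ⟨Y', q, hq, hq0⟩ := hfix p.g z.f h0
  have hqi : IsIso (L.map q) := Localization.inverts L W q hq
  refine ⟨Y', z.f ≫ q, (asIso (L.map q)).symm ≪≫ (asIso (L.map z.s)).symm ≪≫ β₁, hq0, ?_⟩
  simp only [Functor.map_comp, Iso.trans_hom, Iso.symm_hom, asIso_inv, Category.assoc,
    IsIso.hom_inv_id_assoc]
  rw [hzf]
  simp [φ]

variable [L.IsLocalization W] [W.HasLeftCalculusOfFractions] (hfix : FixUp L W)
  (hδ : ∀ n, δ n ≫ δ (n + 1) = 0)

/-- The next piece. -/
noncomputable def next {n : ℕ} (p : Piece L K δ n) : Piece L K δ (n + 1) :=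
  { Z := p.X
    X := (exists_step W hfix p).choose
    g := (exists_step W hfix p).choose_spec.choose
    β := (exists_step W hfix p).choose_spec.choose_spec.choose
    hg := by
      have h := (exists_step W hfix p).choose_spec.choose_spec.choose_spec.2
      rw [reassoc_of% h, hδ, comp_zero] }

theorem next_comp {n : ℕ} (p : Piece L K δ n) : p.g ≫ (next W hfix hδ p).g = 0 :=
  (exists_step W hfix p).choose_spec.choose_spec.choose_spec.1

theorem next_comm {n : ℕ} (p : Piece L K δ n) :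
    L.map (next W hfix hδ p).g ≫ (next W hfix hδ p).β.hom = p.β.hom ≫ δ n :=
  (exists_step W hfix p).choose_spec.choose_spec.choose_spec.2

/-- The sequence of pieces. -/
noncomputable def seq (p₀ : Piece L K δ 0) : ∀ n : ℕ, Piece L K δ n
  | 0 => p₀
  | n + 1 => next W hfix hδ (seq p₀ n)

/-- The lifted objects. -/
noncomputable def T (p₀ : Piece L K δ 0) (n : ℕ) : A := (seq W hfix hδ p₀ n).X

/-- The lifted morphisms. -/
noncomputable def r (p₀ : Piece L K δ 0) (n : ℕ) : T W hfix hδ p₀ n ⟶ T W hfix hδ p₀ (n + 1) :=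
  (seq W hfix hδ p₀ (n + 1)).g

/-- The comparison isomorphisms. -/
noncomputable def β (p₀ : Piece L K δ 0) (n : ℕ) : L.obj (T W hfix hδ p₀ n) ≅ K n :=
  (seq W hfix hδ p₀ n).β

theorem T_zero (p₀ : Piece L K δ 0) : T W hfix hδ p₀ 0 = p₀.X := rfl

theorem r_comp (p₀ : Piece L K δ 0) (n : ℕ) :
    r W hfix hδ p₀ n ≫ r W hfix hδ p₀ (n + 1) = 0 :=
  next_comp W hfix hδ (seq W hfix hδ p₀ (n + 1))

theorem g_comp_r (p₀ : Piece L K δ 0) : p₀.g ≫ r W hfix hδ p₀ 0 = 0 :=
  next_comp W hfix hδ p₀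

theorem comm (p₀ : Piece L K δ 0) (n : ℕ) :
    L.map (r W hfix hδ p₀ n) ≫ (β W hfix hδ p₀ (n + 1)).hom = (β W hfix hδ p₀ n).hom ≫ δ n :=
  next_comm W hfix hδ (seq W hfix hδ p₀ n)

end Groth.Agent.H84.LiftSeq
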