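import Groth.Agent.H64.Fib.Magic
import Groth.Agent.H64.Stk.Rep1

/-!
# The relative magic square

For functors `a : 𝒜 ⟶ 𝒮`, `b : ℬ ⟶ 𝒮`, `g : 𝒮 ⟶ 𝒵` over `C` the square

```
𝒜 ×_𝒮 ℬ ---------> 𝒮
   |                 | Δ_g
   v                 v
𝒜 ×_𝒵 ℬ ------> 𝒮 ×_𝒵 𝒮
```

is 2-cartesian: `(𝒜 ×_𝒵 ℬ) ×_{𝒮 ×_𝒵 𝒮} 𝒮 ≃ 𝒜 ×_𝒮 ℬ` over `C` (`isEquivOver_magic`).  This
generalises `Groth.Agent.H64.isEquivOver_magicN` (the case `𝒵 = C`).  As a consequence, if `g ∘ f` is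
representable and the diagonal of `g` is representable, then `f` is representable
(`isRepresentable1_of_comp_of_diag`).
-/

set_option autoImplicit false
set_option backward.isDefEq.respectTransparency false
set_option backward.isDefEq.respectTransparency.types false

open CategoryTheory CategoryTheory.Limits
universe v₇ u₇ v₆ u₆ v₅ u₅ v₄ u₄ v₃ u₃ v₂ u₂ v u

namespace Groth.Agent.H84.MagicSquare

open Groth.Agent.H32 Groth.Agent.H26 Groth.Agent.H64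

variable {C : Type u} [Category.{v} C]

section magic

variable {𝒜 : BasedCategory.{v₂, u₂} C} {ℬ : BasedCategory.{v₃, u₃} C}
  {𝒮 : BasedCategory.{v₄, u₄} C} {𝒵 : BasedCategory.{v₅, u₅} C}
  (a : 𝒜 ⥤ᵇ 𝒮) (b : ℬ ⥤ᵇ 𝒮) (g : 𝒮 ⥤ᵇ 𝒵)

/-- the functor `𝒜 ×_𝒵 ℬ ⟶ 𝒮 ×_𝒵 𝒮`, `(x, y, ψ) ↦ (a x, b y, ψ)` -/
def relProd : FibCat.fp (BasedFunctor.comp a g) (BasedFunctor.comp b g) ⥤ᵇ FibCat.fp g g :=
  FibCat.fpLift
    (BasedFunctor.comp (FibCat.fpFst (BasedFunctor.comp a g) (BasedFunctor.comp b g)) a)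
    (BasedFunctor.comp (FibCat.fpSnd (BasedFunctor.comp a g) (BasedFunctor.comp b g)) b)
    (FibCat.fpIso (BasedFunctor.comp a g) (BasedFunctor.comp b g))

@[simp] theorem relProd_obj_fst (ξ : (FibCat.fp (BasedFunctor.comp a g) (BasedFunctor.comp b g)).obj) :
    ((relProd a b g).obj ξ).obj.fst = a.obj ξ.obj.fst := rfl

@[simp] theorem relProd_obj_snd (ξ : (FibCat.fp (BasedFunctor.comp a g) (BasedFunctor.comp b g)).obj) :
    ((relProd a b g).obj ξ).obj.snd = b.obj ξ.obj.snd := rfl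

theorem relProd_obj_iso_hom
    (ξ : (FibCat.fp (BasedFunctor.comp a g) (BasedFunctor.comp b g)).obj) :
    ((relProd a b g).obj ξ).obj.iso.hom = ξ.obj.iso.hom := rfl

@[simp] theorem relProd_map_fst
    {ξ ξ' : (FibCat.fp (BasedFunctor.comp a g) (BasedFunctor.comp b g)).obj} (m : ξ ⟶ ξ') :
    ((relProd a b g).map m).hom.fst = a.map m.hom.fst := rfl

@[simp] theorem relProd_map_snd
    {ξ ξ' : (FibCat.fp (BasedFunctor.comp a g) (BasedFunctor.comp b g)).obj} (m : ξ ⟶ ξ') :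
    ((relProd a b g).map m).hom.snd = b.map m.hom.snd := rfl

theorem diag_obj_iso_hom (w : 𝒮.obj) : ((FibCat.diag g).obj w).obj.iso.hom = 𝟙 (g.obj w) := rfl

/-- the component isomorphism of the magic square functor -/
def magicIso (ζ : (FibCat.fp (relProd a b g) (FibCat.diag g)).obj) :
    a.obj ζ.obj.fst.obj.fst ≅ b.obj ζ.obj.fst.obj.snd :=
  (FibCat.fpFst g g).toFunctor.mapIso ζ.obj.iso ≪≫
    ((FibCat.fpSnd g g).toFunctor.mapIso ζ.obj.iso).symm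

theorem magicIso_isHomLift (ζ : (FibCat.fp (relProd a b g) (FibCat.diag g)).obj) :
    𝒮.p.IsHomLift (𝟙 ((FibCat.fp (relProd a b g) (FibCat.diag g)).p.obj ζ))
      (magicIso a b g ζ).hom := by
  have h : (FibCat.fp g g).p.IsHomLift
      (𝟙 ((FibCat.fp (relProd a b g) (FibCat.diag g)).p.obj ζ)) ζ.obj.iso.hom :=
    fp_iso_isHomLift (relProd a b g) (FibCat.diag g) ζ
  have h' : (FibCat.fp g g).p.IsHomLift
      (𝟙 ((FibCat.fp (relProd a b g) (FibCat.diag g)).p.obj ζ)) ζ.obj.iso.inv :=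
    fp_iso_inv_isHomLift (relProd a b g) (FibCat.diag g) ζ
  have h1 : 𝒮.p.IsHomLift (𝟙 ((FibCat.fp (relProd a b g) (FibCat.diag g)).p.obj ζ))
      ((FibCat.fpFst g g).map ζ.obj.iso.hom) :=
    BasedFunctor.preserves_isHomLift (FibCat.fpFst g g) _ _
  have h2 : 𝒮.p.IsHomLift (𝟙 ((FibCat.fp (relProd a b g) (FibCat.diag g)).p.obj ζ))
      ((FibCat.fpSnd g g).map ζ.obj.iso.inv) :=
    BasedFunctor.preserves_isHomLift (FibCat.fpSnd g g) _ _
  exact lift_id_comp_id 𝒮.p h1 h2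

theorem key_aux {D : Type*} {E : Type*} [Category D] [Category E] (G : D ⥤ E) {A B W : D}
    (θ₁ : A ≅ W) (θ₂ : B ≅ W) (ψ : G.obj A ⟶ G.obj B) (one : G.obj W ⟶ G.obj W)
    (h1 : one = 𝟙 _) (hw : G.map θ₁.hom ≫ one = ψ ≫ G.map θ₂.hom) :
    ψ = G.map (θ₁ ≪≫ θ₂.symm).hom := by
  subst h1
  rw [Category.comp_id] at hw
  simp only [Iso.trans_hom, Iso.symm_hom, Functor.map_comp]
  rw [hw, Category.assoc, ← G.map_comp, Iso.hom_inv_id, G.map_id, Category.comp_id]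

/-- the isomorphism of the first component of an object of the magic fibre product is the image
under `g` of the magic isomorphism -/
theorem iso_eq_map_magicIso (ζ : (FibCat.fp (relProd a b g) (FibCat.diag g)).obj) :
    ζ.obj.fst.obj.iso.hom = g.map (magicIso a b g ζ).hom := by
  have hw : g.map ζ.obj.iso.hom.hom.fst ≫ ((FibCat.diag g).obj ζ.obj.snd).obj.iso.hom =
      ((relProd a b g).obj ζ.obj.fst).obj.iso.hom ≫ g.map ζ.obj.iso.hom.hom.snd :=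
    ζ.obj.iso.hom.hom.w
  exact key_aux g.toFunctor ((FibCat.fpFst g g).toFunctor.mapIso ζ.obj.iso)
    ((FibCat.fpSnd g g).toFunctor.mapIso ζ.obj.iso) ζ.obj.fst.obj.iso.hom
    ((FibCat.diag g).obj ζ.obj.snd).obj.iso.hom (diag_obj_iso_hom g ζ.obj.snd) hw

/-- the magic square functor `(𝒜 ×_𝒵 ℬ) ×_{𝒮 ×_𝒵 𝒮} 𝒮 ⟶ 𝒜 ×_𝒮 ℬ` -/
def magic : FibCat.fp (relProd a b g) (FibCat.diag g) ⥤ᵇ FibCat.fp a b :=
  FibCat.fpLift
    (BasedFunctor.comp (FibCat.fpFst (relProd a b g) (FibCat.diag g))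
      (FibCat.fpFst (BasedFunctor.comp a g) (BasedFunctor.comp b g)))
    (BasedFunctor.comp (FibCat.fpFst (relProd a b g) (FibCat.diag g))
      (FibCat.fpSnd (BasedFunctor.comp a g) (BasedFunctor.comp b g)))
    (mkBIso (fun ζ => magicIso a b g ζ)
      (fun {ζ ζ'} m => by
        have h1 := congrArg (fun t => (FibCat.fpFst g g).toFunctor.map t) m.hom.w
        have h2 := congrArg (fun t => (FibCat.fpSnd g g).toFunctor.map t) m.hom.w
        simp only [Functor.map_comp] at h1 h2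
        exact magic_aux _ _ _ _ _ _ _ h1 h2)
      (fun ζ => magicIso_isHomLift a b g ζ))

@[simp] theorem magic_obj_fst (ζ : (FibCat.fp (relProd a b g) (FibCat.diag g)).obj) :
    ((magic a b g).obj ζ).obj.fst = ζ.obj.fst.obj.fst := rfl

@[simp] theorem magic_obj_snd (ζ : (FibCat.fp (relProd a b g) (FibCat.diag g)).obj) :
    ((magic a b g).obj ζ).obj.snd = ζ.obj.fst.obj.snd := rfl

theorem magic_obj_iso_hom (ζ : (FibCat.fp (relProd a b g) (FibCat.diag g)).obj) :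
    ((magic a b g).obj ζ).obj.iso.hom = (magicIso a b g ζ).hom := rfl

@[simp] theorem magic_map_fst {ζ ζ' : (FibCat.fp (relProd a b g) (FibCat.diag g)).obj}
    (m : ζ ⟶ ζ') : ((magic a b g).map m).hom.fst = m.hom.fst.hom.fst := rfl

@[simp] theorem magic_map_snd {ζ ζ' : (FibCat.fp (relProd a b g) (FibCat.diag g)).obj}
    (m : ζ ⟶ ζ') : ((magic a b g).map m).hom.snd = m.hom.fst.hom.snd := rfl

theorem magic_faithful : (magic a b g).toFunctor.Faithful := by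
  refine ⟨fun {ζ ζ'} m m' h => ?_⟩
  have h1 : m.hom.fst.hom.fst = m'.hom.fst.hom.fst := congrArg (fun t => t.hom.fst) h
  have h2 : m.hom.fst.hom.snd = m'.hom.fst.hom.snd := congrArg (fun t => t.hom.snd) h
  have w := congrArg (fun t => (FibCat.fpFst g g).toFunctor.map t) m.hom.w
  have w' := congrArg (fun t => (FibCat.fpFst g g).toFunctor.map t) m'.hom.w
  simp only [Functor.map_comp] at w w'
  apply fp_hom_ext
  · apply fp_hom_ext
    · exact h1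
    · exact h2
  · have e1 : a.map m.hom.fst.hom.fst ≫ (FibCat.fpFst g g).map ζ'.obj.iso.hom =
        (FibCat.fpFst g g).map ζ.obj.iso.hom ≫ m.hom.snd := w
    have e2 : a.map m'.hom.fst.hom.fst ≫ (FibCat.fpFst g g).map ζ'.obj.iso.hom =
        (FibCat.fpFst g g).map ζ.obj.iso.hom ≫ m'.hom.snd := w'
    rw [h1] at e1
    have e3 := e1.symm.trans e2
    have hi : IsIso ((FibCat.fpFst g g).map ζ.obj.iso.hom) :=
      inferInstanceAs (IsIso ((FibCat.fpFst g g).toFunctor.map ζ.obj.iso.hom))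
    have hepi : Epi ((FibCat.fpFst g g).map ζ.obj.iso.hom) := @IsIso.epi_of_iso _ _ _ _ _ hi
    exact (@cancel_epi _ _ _ _ _ _ hepi _ _).1 e3

theorem magic_full : (magic a b g).toFunctor.Full := by
  refine ⟨fun {ζ ζ'} φ => ?_⟩
  let θ₁ : a.obj ζ.obj.fst.obj.fst ≅ ζ.obj.snd := (FibCat.fpFst g g).toFunctor.mapIso ζ.obj.iso
  let θ₂ : b.obj ζ.obj.fst.obj.snd ≅ ζ.obj.snd := (FibCat.fpSnd g g).toFunctor.mapIso ζ.obj.iso
  let θ₁' : a.obj ζ'.obj.fst.obj.fst ≅ ζ'.obj.snd :=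
    (FibCat.fpFst g g).toFunctor.mapIso ζ'.obj.iso
  let θ₂' : b.obj ζ'.obj.fst.obj.snd ≅ ζ'.obj.snd :=
    (FibCat.fpSnd g g).toFunctor.mapIso ζ'.obj.iso
  have hw : a.map φ.hom.fst ≫ (θ₁' ≪≫ θ₂'.symm).hom = (θ₁ ≪≫ θ₂.symm).hom ≫ b.map φ.hom.snd :=
    φ.hom.w
  have hβ : (BasedFunctor.comp a g).map φ.hom.fst ≫ ζ'.obj.fst.obj.iso.hom =
      ζ.obj.fst.obj.iso.hom ≫ (BasedFunctor.comp b g).map φ.hom.snd := by
    rw [iso_eq_map_magicIso a b g ζ, iso_eq_map_magicIso a b g ζ']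
    show g.map (a.map φ.hom.fst) ≫ g.map (θ₁' ≪≫ θ₂'.symm).hom =
      g.map (θ₁ ≪≫ θ₂.symm).hom ≫ g.map (b.map φ.hom.snd)
    rw [← g.map_comp, ← g.map_comp, hw]
  let β : ζ.obj.fst ⟶ ζ'.obj.fst :=
    fpHomMk (BasedFunctor.comp a g) (BasedFunctor.comp b g) φ.hom.fst φ.hom.snd hβ
  let ms : ζ.obj.snd ⟶ ζ'.obj.snd := θ₁.inv ≫ a.map φ.hom.fst ≫ θ₁'.hom
  have w : (relProd a b g).map β ≫ ζ'.obj.iso.hom = ζ.obj.iso.hom ≫ (FibCat.diag g).map ms := by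
    apply fp_hom_ext
    · show a.map φ.hom.fst ≫ θ₁'.hom = θ₁.hom ≫ θ₁.inv ≫ a.map φ.hom.fst ≫ θ₁'.hom
      exact (Iso.hom_inv_id_assoc θ₁ _).symm
    · show b.map φ.hom.snd ≫ θ₂'.hom = θ₂.hom ≫ ms
      exact magic_aux2 _ _ _ _ _ _ hw
  refine ⟨fpHomMk (relProd a b g) (FibCat.diag g) β ms w, ?_⟩
  apply fp_hom_ext
  · rfl
  · rfl

theorem magic_essSurj (η : (FibCat.fp a b).obj) :
    ∃ (ζ : (FibCat.fp (relProd a b g) (FibCat.diag g)).obj) (ε : (magic a b g).obj ζ ≅ η),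
      (FibCat.fp a b).p.IsHomLift (𝟙 ((FibCat.fp a b).p.obj η)) ε.hom := by
  let x : 𝒜.obj := η.obj.fst
  let y : ℬ.obj := η.obj.snd
  let φ : a.obj x ≅ b.obj y := η.obj.iso
  have hφ : 𝒮.p.IsHomLift (𝟙 (𝒜.p.obj x)) φ.hom := fp_iso_isHomLift a b η
  have hgφ : 𝒵.p.IsHomLift (𝟙 (𝒜.p.obj x)) (g.map φ.hom) :=
    (BasedFunctor.isHomLift_iff g _ _).mpr hφ
  let ξ : (FibCat.fp (BasedFunctor.comp a g) (BasedFunctor.comp b g)).obj :=
    ⟨{ fst := x, snd := y, iso := g.toFunctor.mapIso φ }, hgφ⟩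
  have hw : g.map (Iso.refl (a.obj x)).hom ≫ ((FibCat.diag g).obj (a.obj x)).obj.iso.hom =
      ((relProd a b g).obj ξ).obj.iso.hom ≫ g.map φ.symm.hom := by
    show g.map (𝟙 (a.obj x)) ≫ 𝟙 (g.obj (a.obj x)) = g.map φ.hom ≫ g.map φ.inv
    rw [← g.map_comp, φ.hom_inv_id, g.map_id, Category.comp_id]
  let θ : (relProd a b g).obj ξ ≅ (FibCat.diag g).obj (a.obj x) :=
    fpIsoMk g g (Iso.refl (a.obj x)) φ.symm hw
  have hθ : (FibCat.fp g g).p.IsHomLift (𝟙 (𝒜.p.obj x)) θ.hom := by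
    have : 𝒮.p.IsHomLift (𝟙 (𝒜.p.obj x)) θ.hom.hom.fst := lift_id_of_obj 𝒮.p (a.w_obj x)
    exact fp_isHomLift_of_fst g g θ.hom (𝟙 (𝒜.p.obj x))
  let ζ : (FibCat.fp (relProd a b g) (FibCat.diag g)).obj :=
    ⟨{ fst := ξ, snd := a.obj x, iso := θ }, hθ⟩
  let ε : (magic a b g).obj ζ ≅ η :=
    fpIsoMk a b (z := (magic a b g).obj ζ) (z' := η) (Iso.refl x) (Iso.refl y) (by
      show a.map (𝟙 x) ≫ φ.hom = (𝟙 (a.obj x) ≫ φ.hom) ≫ b.map (𝟙 y)
      rw [a.map_id, b.map_id, Category.id_comp, Category.comp_id])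
  refine ⟨ζ, ε, ?_⟩
  have h1 : 𝒜.p.IsHomLift (𝟙 (𝒜.p.obj x)) ε.hom.hom.fst := IsHomLift.id rfl
  exact @fp_isHomLift_of_fst _ _ _ _ _ a b _ _ ε.hom _ _ (𝟙 (𝒜.p.obj x)) h1

/-- the relative magic square: `(𝒜 ×_𝒵 ℬ) ×_{𝒮 ×_𝒵 𝒮} 𝒮 ≃ 𝒜 ×_𝒮 ℬ` over `C` -/
theorem isEquivOver_magic : FibCat.IsEquivOver (magic a b g) := by
  have := magic_full a b g
  have := magic_faithful a b g
  exact isEquivOver_of_fullyFaithful_of_fiberwise_essSurj _ (fun η => magic_essSurj a b g η)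

end magic

section rep

/-- if `g ∘ f` and the diagonal of `g` are representable then `f` is representable -/
theorem isRepresentable1_of_comp_of_diag {𝒳 𝒴 𝒵 : BasedCategory.{v, max u v} C}
    (f : 𝒳 ⥤ᵇ 𝒴) (g : 𝒴 ⥤ᵇ 𝒵)
    (hgf : FibCat.IsRepresentable1 (BasedFunctor.comp f g))
    (hΔ : FibCat.IsRepresentable1 (FibCat.diag g)) :
    FibCat.IsRepresentable1 f := by
  intro U y
  obtain ⟨V, E, hE⟩ := hgf U (BasedFunctor.comp y g)
  obtain ⟨d⟩ := IsEquivOver.nonempty_data hE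
  have hε : FibCat.IsEquivOver d.inv := isEquivOver_inv d
  obtain ⟨Ψ, hΨ, -⟩ := isEquivOver_fpMap_left (FibCat.diag g) (relProd y f g) d.inv hε
  have h1 : FibCat.IsRepresentable (FibCat.fp (relProd y f g) (FibCat.diag g)) :=
    isRepresentable_of_isEquivOver' hΨ (hΔ V (BasedFunctor.comp d.inv (relProd y f g)))
  exact isRepresentable_of_isEquivOver' (isEquivOver_magic y f g) h1

end rep

end Groth.Agent.H84.MagicSquare
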