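import Groth.Agent.H84.MagicSquare
import Groth.Agent.H64.Psh.FpRep

/-!
# Cancellation for morphisms representable by algebraic spaces

If `g ∘ f` and the diagonal of `g` are representable by algebraic spaces, then so is `f`.
-/

set_option autoImplicit false
set_option backward.isDefEq.respectTransparency false
set_option backward.isDefEq.respectTransparency.types false

open CategoryTheory CategoryTheory.Limits AlgebraicGeometry
universe u

namespace Groth.Agent.H84.MagicSquare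

open Groth.Agent.H32 Groth.Agent.H64

theorem repByAlgSp1_of_comp_of_diag {S : Scheme.{u}} {𝒳 𝒴 𝒵 : AlgSt.Cat S}
    (h𝒴 : FibCat.IsFibGrpd 𝒴.p) (h𝒵 : FibCat.IsFibGrpd 𝒵.p)
    (f : 𝒳 ⥤ᵇ 𝒴) (g : 𝒴 ⥤ᵇ 𝒵)
    (hgf : AlgSt.RepByAlgSp1 (BasedFunctor.comp f g))
    (hΔ : AlgSt.RepByAlgSp1 (FibCat.diag g)) :
    AlgSt.RepByAlgSp1 f := by
  intro U y
  have h𝒲 : AlgSt.RepByAlgSp (FibCat.fp (BasedFunctor.comp y g) (BasedFunctor.comp f g)) :=
    hgf U (BasedFunctor.comp y g)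
  have hfp : FibCat.IsFibGrpd (FibCat.fp g g).p := isFibGrpd_fp g g h𝒴 h𝒴 h𝒵
  have h1 : AlgSt.RepByAlgSp (FibCat.fp (relProd y f g) (FibCat.diag g)) :=
    Groth.Agent.H64.FpRep.main h𝒴 hfp (FibCat.diag g) (relProd y f g) hΔ h𝒲
  exact repByAlgSp_of_isEquivOver (isEquivOver_magic y f g) h1

end Groth.Agent.H84.MagicSquare
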