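import Groth.Prelude.Def_W4c2modmodulilectNerve
import Mathlib.CategoryTheory.Category.ULift
import Mathlib.CategoryTheory.Discrete.Basic

/-!
# Consequences of `HasContractibleNerve`

For a category `K` with contractible nerve (tested against groupoids in a large universe):
* every functor from `K` to a category all of whose morphisms are isomorphisms (small enough) has
  a cone (`exists_cone`);
* every function on the objects of `K` which is invariant along morphisms is constant
  (`const_of_contractible`).
-/

set_option autoImplicit false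

open CategoryTheory

namespace Groth.Agent.H84.Nerve

universe w v₀ u₀ v u

variable {K : Type u} [Category.{v} K]

/-- all morphisms of `AsSmall G₀` are isomorphisms when those of `G₀` are -/
theorem isIso_asSmall {G₀ : Type u₀} [Category.{v₀} G₀] [IsGroupoid G₀]
    {X Y : AsSmall.{w} G₀} (f : X ⟶ Y) : IsIso f := by
  refine ⟨⟨⟨inv f.down⟩, ?_, ?_⟩⟩
  · apply ULift.ext
    show f.down ≫ inv f.down = 𝟙 _
    simp
  · apply ULift.ext
    show inv f.down ≫ f.down = 𝟙 _
    simp

/-- every functor from a category with contractible nerve to a groupoid-like category has a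
cone -/
theorem exists_cone {G₀ : Type u₀} [Category.{v₀} G₀] [IsGroupoid G₀]
    (hK : W4c2modmodulilect.HasContractibleNerve.{max w v₀ u₀, max w v₀ u₀} K) (T : K ⥤ G₀) :
    ∃ (s : G₀) (c : ∀ j, s ⟶ T.obj j), ∀ {j j' : K} (h : j ⟶ j'), c j ≫ T.map h = c j' := by
  let _ : Groupoid.{max w v₀ u₀} (AsSmall.{w} G₀) :=
    Groupoid.ofIsIso (fun f => isIso_asSmall.{w} f)
  have hE : (Functor.const K : AsSmall.{w} G₀ ⥤ K ⥤ AsSmall.{w} G₀).IsEquivalence :=
    hK.2 (AsSmall.{w} G₀)
  have hS : (Functor.const K : AsSmall.{w} G₀ ⥤ K ⥤ AsSmall.{w} G₀).EssSurj := hE.essSurj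
  let T' : K ⥤ AsSmall.{w} G₀ := T ⋙ AsSmall.up
  obtain ⟨g, ⟨e⟩⟩ := hS.mem_essImage T'
  refine ⟨ULift.down g, fun j => ULift.down (e.hom.app j), ?_⟩
  intro j j' h
  have := e.hom.naturality h
  have h2 := congrArg ULift.down this
  simp only [Functor.const_obj_obj, Functor.const_obj_map] at h2
  have h3 : ULift.down (e.hom.app j ≫ T'.map h) = ULift.down (e.hom.app j) ≫ T.map h := rfl
  have h4 : ULift.down (𝟙 g ≫ e.hom.app j') = ULift.down (e.hom.app j') := by
    rw [Category.id_comp]
  exact h3.symm.trans (h2.symm.trans h4)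

/-- a function on the objects of a category with contractible nerve which is invariant along
morphisms is constant -/
theorem const_of_contractible {α : Type v₀}
    (hK : W4c2modmodulilect.HasContractibleNerve.{max w v₀, max w v₀} K) (m : K → α)
    (hm : ∀ {j j' : K} (_ : j ⟶ j'), m j = m j') (j j' : K) : m j = m j' := by
  let T : K ⥤ Discrete α :=
    { obj := fun j => ⟨m j⟩
      map := fun {j j'} h => Discrete.eqToHom (hm h)
      map_id := fun j => Subsingleton.elim _ _
      map_comp := fun f g => Subsingleton.elim _ _ }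
  obtain ⟨s, c, -⟩ := exists_cone.{w} (G₀ := Discrete α) hK T
  have h1 : s.as = m j := Discrete.eq_of_hom (c j)
  have h2 : s.as = m j' := Discrete.eq_of_hom (c j')
  exact h1.symm.trans h2

end Groth.Agent.H84.Nerve
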