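import Groth.Agent.H84.Nerve
import Groth.Agent.H64.Stk.LocEss
import Groth.Prelude.Def_AlgSt
import Mathlib.CategoryTheory.Comma.StructuredArrow.Basic

/-!
# Restriction of sections of a groupoid fibration along a functor

Let `φ : C ⥤ D` be a functor and `𝒳` a category fibred in groupoids over `D`.  A *cone* over a
section `t` of `𝒳` over `φ` at `Y : D` is an object `s` of `𝒳` with compatible morphisms
`s ⟶ t X` lying over `a`, for every `a : Y ⟶ φ X`.  If every `Y` admits an arrow to some `φ X`,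
the arrows `Y ⟶ φ X` are "connected", and every section over `φ` has a cone at every `Y`, then
restriction of sections along `φ` is an equivalence of categories (`isEquivalence_restr`).
-/

set_option autoImplicit false
set_option backward.isDefEq.respectTransparency false
set_option backward.isDefEq.respectTransparency.types false

open CategoryTheory

universe v₁ v₂ v₃ u₁ u₂ u₃

namespace Groth.Agent.H84.NerveSections

open Groth.Agent.H32 Groth.Agent.H64

variable {C : Type u₁} [Category.{v₁} C] {D : Type u₂} [Category.{v₂} D] (φ : C ⥤ D)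
  {𝒳 : BasedCategory.{v₃, u₃} D}

/-- `φ` as a functor over `D` from `C` (over `D` via `φ`) to `D` -/
abbrev incl : BasedCategory.ofFunctor φ ⥤ᵇ FibCat.selfOver D :=
  FibCat.toSelf (BasedCategory.ofFunctor φ)

/-- a cone at `Y` over the section `t` of `𝒳` over `φ` -/
structure Cone (t : BasedCategory.ofFunctor φ ⥤ᵇ 𝒳) (Y : D) where
  /-- the vertex -/
  s : 𝒳.obj
  /-- the legs -/
  σ : ∀ (X : C) (_ : Y ⟶ φ.obj X), s ⟶ t.obj X
  lift : ∀ (X : C) (a : Y ⟶ φ.obj X), 𝒳.p.IsHomLift a (σ X a)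
  compat : ∀ {X X' : C} (a : Y ⟶ φ.obj X) (h : X ⟶ X'), σ X a ≫ t.map h = σ X' (a ≫ φ.map h)

/-- every object of `D` maps to the image of `φ` -/
def HasArrows : Prop := ∀ Y : D, ∃ X : C, Nonempty (Y ⟶ φ.obj X)

/-- the arrows `Y ⟶ φ X` are connected (for functions with values in the universe of morphisms
of `𝒳`) -/
def ArrowsConnected : Prop :=
  ∀ (Y : D) (α : Type v₃) (m : ∀ X : C, (Y ⟶ φ.obj X) → α),
    (∀ {X X' : C} (a : Y ⟶ φ.obj X) (h : X ⟶ X'), m X a = m X' (a ≫ φ.map h)) →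
    ∀ (X : C) (a : Y ⟶ φ.obj X) (X' : C) (a' : Y ⟶ φ.obj X'), m X a = m X' a'

variable {φ}

theorem Cone.obj_eq (hne : HasArrows φ) {t : BasedCategory.ofFunctor φ ⥤ᵇ 𝒳} {Y : D}
    (c : Cone φ t Y) : 𝒳.p.obj c.s = Y := by
  obtain ⟨X, ⟨a⟩⟩ := hne Y
  exact lift_domain_eq 𝒳.p (c.lift X a)

section coneHom

variable (h𝒳 : FibCat.IsFibGrpd 𝒳.p) (hne : HasArrows φ) (hconn : ArrowsConnected.{v₁, v₂, v₃} φ)
  {t : BasedCategory.ofFunctor φ ⥤ᵇ 𝒳}

include h𝒳 hne hconn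

theorem existsUnique_coneHom {Y' Y : D} (g : Y' ⟶ Y) (c' : Cone φ t Y') (c : Cone φ t Y) :
    ∃! m : c'.s ⟶ c.s, 𝒳.p.IsHomLift g m ∧
      ∀ (X : C) (a : Y ⟶ φ.obj X), m ≫ c.σ X a = c'.σ X (g ≫ a) := by
  have hcart : ∀ (X : C) (a : Y ⟶ φ.obj X), 𝒳.p.IsStronglyCartesian a (c.σ X a) :=
    fun X a => cart_of_fibGrpd 𝒳.p h𝒳 (c.lift X a)
  have hex : ∀ (X : C) (a : Y ⟶ φ.obj X), ∃ χ : c'.s ⟶ c.s, 𝒳.p.IsHomLift g χ ∧
      χ ≫ c.σ X a = c'.σ X (g ≫ a) :=
    fun X a => cart_lift 𝒳.p (hcart X a) g (g ≫ a) rfl (c'.σ X (g ≫ a)) (c'.lift X (g ≫ a))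
  choose m hm1 hm2 using hex
  have hinv : ∀ {X X' : C} (a : Y ⟶ φ.obj X) (h : X ⟶ X'), m X a = m X' (a ≫ φ.map h) := by
    intro X X' a h
    refine cart_ext 𝒳.p (hcart X' (a ≫ φ.map h)) g (hm1 X a) (hm1 X' _) ?_
    rw [hm2, ← c.compat, ← Category.assoc, hm2, c'.compat, Category.assoc]
  obtain ⟨X₀, ⟨a₀⟩⟩ := hne Y
  have hall := hconn Y _ m hinv
  refine ⟨m X₀ a₀, ⟨hm1 X₀ a₀, fun X a => ?_⟩, ?_⟩
  · rw [hall X₀ a₀ X a]; exact hm2 X a
  · rintro m' ⟨h1, h2⟩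
    exact cart_ext 𝒳.p (hcart X₀ a₀) g h1 (hm1 X₀ a₀) ((h2 X₀ a₀).trans (hm2 X₀ a₀).symm)

end coneHom

section assemble

variable (h𝒳 : FibCat.IsFibGrpd 𝒳.p) (hne : HasArrows φ) (hconn : ArrowsConnected.{v₁, v₂, v₃} φ)
  {t : BasedCategory.ofFunctor φ ⥤ᵇ 𝒳} (c : ∀ Y : D, Cone φ t Y)

/-- the action on morphisms of the section built from a family of cones -/
noncomputable def secMap {Y' Y : D} (g : Y' ⟶ Y) : (c Y').s ⟶ (c Y).s :=
  (existsUnique_coneHom h𝒳 hne hconn g (c Y') (c Y)).exists.choose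

theorem secMap_lift {Y' Y : D} (g : Y' ⟶ Y) : 𝒳.p.IsHomLift g (secMap h𝒳 hne hconn c g) :=
  (existsUnique_coneHom h𝒳 hne hconn g (c Y') (c Y)).exists.choose_spec.1

theorem secMap_fac {Y' Y : D} (g : Y' ⟶ Y) (X : C) (a : Y ⟶ φ.obj X) :
    secMap h𝒳 hne hconn c g ≫ (c Y).σ X a = (c Y').σ X (g ≫ a) :=
  (existsUnique_coneHom h𝒳 hne hconn g (c Y') (c Y)).exists.choose_spec.2 X a

theorem secMap_uniq {Y' Y : D} (g : Y' ⟶ Y) (m : (c Y').s ⟶ (c Y).s) (h1 : 𝒳.p.IsHomLift g m)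
    (h2 : ∀ (X : C) (a : Y ⟶ φ.obj X), m ≫ (c Y).σ X a = (c Y').σ X (g ≫ a)) :
    m = secMap h𝒳 hne hconn c g :=
  (existsUnique_coneHom h𝒳 hne hconn g (c Y') (c Y)).unique ⟨h1, h2⟩
    ⟨secMap_lift h𝒳 hne hconn c g, secMap_fac h𝒳 hne hconn c g⟩

/-- the underlying functor of the section built from a family of cones -/
noncomputable def secFunctor : D ⥤ 𝒳.obj where
  obj Y := (c Y).s
  map g := secMap h𝒳 hne hconn c g
  map_id Y := by
    refine (secMap_uniq h𝒳 hne hconn c (𝟙 Y) (𝟙 _) (lift_id_of_obj 𝒳.p ((c Y).obj_eq hne)) ?_).symm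
    intro X a
    rw [Category.id_comp, Category.id_comp]
  map_comp {Y'' Y' Y} g' g := by
    refine (secMap_uniq h𝒳 hne hconn c (g' ≫ g) _
      (lift_comp 𝒳.p (secMap_lift h𝒳 hne hconn c g') (secMap_lift h𝒳 hne hconn c g)) ?_).symm
    intro X a
    rw [Category.assoc, secMap_fac, secMap_fac, Category.assoc]

/-- the section built from a family of cones -/
noncomputable def sec : FibCat.selfOver D ⥤ᵇ 𝒳 :=
  mkBasedFunctor (𝒜 := FibCat.selfOver D) (secFunctor h𝒳 hne hconn c)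
    (fun m => secMap_lift h𝒳 hne hconn c m)

@[simp] theorem sec_obj (Y : D) : (sec h𝒳 hne hconn c).obj Y = (c Y).s := rfl

@[simp] theorem sec_map {Y' Y : D} (g : Y' ⟶ Y) :
    (sec h𝒳 hne hconn c).map g = secMap h𝒳 hne hconn c g := rfl

/-- the restriction of the section built from cones over `t` is isomorphic to `t` -/
noncomputable def secIso : BasedFunctor.comp (incl φ) (sec h𝒳 hne hconn c) ≅ t :=
  mkBIso (H := BasedFunctor.comp (incl φ) (sec h𝒳 hne hconn c)) (H' := t)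
    (fun X => @asIso _ _ _ _ ((c (φ.obj X)).σ X (𝟙 _))
      (isIso_of_lift_id 𝒳.p h𝒳 ((c (φ.obj X)).lift X (𝟙 _))))
    (fun {X X'} h => by
      show secMap h𝒳 hne hconn c (φ.map h) ≫ (c (φ.obj X')).σ X' (𝟙 _) =
        (c (φ.obj X)).σ X (𝟙 _) ≫ t.map h
      rw [secMap_fac, (c (φ.obj X)).compat, Category.comp_id, Category.id_comp])
    (fun X => (c (φ.obj X)).lift X (𝟙 _))

end assemble

section sections

theorem self_lift {Y' Y : D} (a : Y' ⟶ Y) : (FibCat.selfOver D).p.IsHomLift a a :=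
  (inferInstance : (𝟭 D).IsHomLift ((𝟭 D).map a) a)

theorem section_lift (S : FibCat.selfOver D ⥤ᵇ 𝒳) {Y' Y : D} (a : Y' ⟶ Y) :
    𝒳.p.IsHomLift a (S.map a) := by
  have := self_lift a
  exact BasedFunctor.preserves_isHomLift S a a

/-- the canonical cone of the restriction of a section -/
def coneOfSection (S : FibCat.selfOver D ⥤ᵇ 𝒳) (Y : D) :
    Cone φ (BasedFunctor.comp (incl φ) S) Y where
  s := S.obj Y
  σ X a := S.map a
  lift X a := section_lift S a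
  compat {X X'} a h := by
    show S.map a ≫ S.map (φ.map h) = S.map (a ≫ φ.map h)
    rw [← S.map_comp]

/-- transport of the canonical cone along a morphism of restricted sections -/
def coneTrans {S S' : FibCat.selfOver D ⥤ᵇ 𝒳}
    (β : BasedFunctor.comp (incl φ) S ⟶ BasedFunctor.comp (incl φ) S') (Y : D) :
    Cone φ (BasedFunctor.comp (incl φ) S') Y where
  s := S.obj Y
  σ X a := S.map a ≫ bapp β X
  lift X a := by
    have h1 : 𝒳.p.IsHomLift a (S.map a) := section_lift S a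
    have h2 : 𝒳.p.IsHomLift (𝟙 (φ.obj X)) (bapp β X) := bapp_isHomLift β X
    exact lift_comp_id_right 𝒳.p h1 h2
  compat {X X'} a h := by
    have hn := bapp_naturality β h
    have hn' : S.map (φ.map h) ≫ bapp β X' = bapp β X ≫ S'.map (φ.map h) := hn
    show (S.map a ≫ bapp β X) ≫ S'.map (φ.map h) = S.map (a ≫ φ.map h) ≫ bapp β X'
    rw [Category.assoc, ← hn', S.map_comp, Category.assoc]

end sections

section main

variable (h𝒳 : FibCat.IsFibGrpd 𝒳.p) (hne : HasArrows φ) (hconn : ArrowsConnected.{v₁, v₂, v₃} φ)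

include h𝒳 hne hconn

theorem restr_faithful : (Stk.restr (incl φ) 𝒳).Faithful := by
  rw [restr_faithful_iff]
  intro S S' α α' hαα'
  apply bext
  intro Y
  let β : BasedFunctor.comp (incl φ) S ⟶ BasedFunctor.comp (incl φ) S' :=
    (Stk.restr (incl φ) 𝒳).map α
  have hu := existsUnique_coneHom h𝒳 hne hconn (𝟙 Y) (coneTrans β Y) (coneOfSection S' Y)
  have key : ∀ γ : S ⟶ S', (∀ X : C, bapp γ (φ.obj X) = bapp α (φ.obj X)) →
      𝒳.p.IsHomLift (𝟙 Y) (bapp γ Y) ∧ ∀ (X : C) (a : Y ⟶ φ.obj X),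
        bapp γ Y ≫ (coneOfSection (φ := φ) S' Y).σ X a = (coneTrans β Y).σ X (𝟙 Y ≫ a) := by
    intro γ hγ
    refine ⟨bapp_isHomLift γ Y, fun X a => ?_⟩
    show bapp γ Y ≫ S'.map a = S.map (𝟙 Y ≫ a) ≫ bapp α (φ.obj X)
    rw [Category.id_comp, ← hγ X]
    exact (bapp_naturality γ a).symm
  exact hu.unique (key α (fun _ => rfl)) (key α' (fun X => (hαα' X).symm))

theorem restr_full : (Stk.restr (incl φ) 𝒳).Full := by
  rw [restr_full_iff]
  intro S S' β
  have hu : ∀ {Y' Y : D} (g : Y' ⟶ Y), ∃! m : S.obj Y' ⟶ S'.obj Y, 𝒳.p.IsHomLift g m ∧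
      ∀ (X : C) (a : Y ⟶ φ.obj X), m ≫ S'.map a = S.map (g ≫ a) ≫ bapp β X :=
    fun {Y' Y} g => existsUnique_coneHom h𝒳 hne hconn g (coneTrans β Y') (coneOfSection S' Y)
  let α₀ : ∀ Y : D, S.obj Y ⟶ S'.obj Y := fun Y => (hu (𝟙 Y)).exists.choose
  have hα₁ : ∀ Y, 𝒳.p.IsHomLift (𝟙 Y) (α₀ Y) := fun Y => (hu (𝟙 Y)).exists.choose_spec.1
  have hα₂ : ∀ (Y : D) (X : C) (a : Y ⟶ φ.obj X), α₀ Y ≫ S'.map a = S.map a ≫ bapp β X := by
    intro Y X a
    have := (hu (𝟙 Y)).exists.choose_spec.2 X a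
    rw [Category.id_comp] at this
    exact this
  let α : S ⟶ S' := mkB α₀
    (fun {Y' Y} g => by
      refine (hu g).unique ⟨?_, ?_⟩ ⟨?_, ?_⟩
      · have h1 : 𝒳.p.IsHomLift g (S.map g) := section_lift S g
        exact lift_comp_id_right 𝒳.p h1 (hα₁ Y)
      · intro X a
        rw [Category.assoc, hα₂, ← Category.assoc, ← S.map_comp]
      · have h1 : 𝒳.p.IsHomLift g (S'.map g) := section_lift S' g
        exact lift_comp_id_left 𝒳.p (hα₁ Y') h1
      · intro X a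
        rw [Category.assoc, ← S'.map_comp, hα₂])
    (fun Y => hα₁ Y)
  refine ⟨α, fun X => ?_⟩
  show α₀ (φ.obj X) = bapp β X
  have := hα₂ (φ.obj X) X (𝟙 _)
  rw [S'.map_id, S.map_id, Category.comp_id, Category.id_comp] at this
  exact this

theorem restr_essSurj (hcone : ∀ (t : BasedCategory.ofFunctor φ ⥤ᵇ 𝒳) (Y : D),
    Nonempty (Cone φ t Y)) : (Stk.restr (incl φ) 𝒳).EssSurj := by
  rw [restr_essSurj_iff]
  intro t
  have c : ∀ Y : D, Cone φ t Y := fun Y => (hcone t Y).some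
  exact ⟨sec h𝒳 hne hconn c, ⟨secIso h𝒳 hne hconn c⟩⟩

/-- restriction of sections along `φ` is an equivalence as soon as cones exist -/
theorem isEquivalence_restr (hcone : ∀ (t : BasedCategory.ofFunctor φ ⥤ᵇ 𝒳) (Y : D),
    Nonempty (Cone φ t Y)) : (Stk.restr (incl φ) 𝒳).IsEquivalence :=
  { faithful := restr_faithful h𝒳 hne hconn
    full := restr_full h𝒳 hne hconn
    essSurj := restr_essSurj h𝒳 hne hconn hcone }

end main

end Groth.Agent.H84.NerveSections
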