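import Groth.Agent.H84.NerveSectionsMain
import Mathlib.CategoryTheory.FiberedCategory.Fibered

/-!
# Restriction of sections along a fibred functor with contractible fibres
-/

set_option autoImplicit false
set_option backward.isDefEq.respectTransparency false
set_option backward.isDefEq.respectTransparency.types false

open CategoryTheory

universe v₁ v₂ v₃ u₁ u₂ u₃

namespace Groth.Agent.H84.NerveSections

open Groth.Agent.H32 Groth.Agent.H64

variable {C : Type u₁} [Category.{v₁} C] {D : Type u₂} [Category.{v₂} D] {f : C ⥤ D}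
  {𝒳 : BasedCategory.{v₃, u₃} D}

theorem hasArrows_of_fiber_nonempty (h : ∀ Y : D, Nonempty (f.Fiber Y)) : HasArrows f :=
  fun Y => by
    obtain ⟨z⟩ := h Y
    exact ⟨z.1, ⟨eqToHom z.2.symm⟩⟩

theorem eqToHom_comp_map_of_lift {Y : D} {X₁ X : C} (ψ : X₁ ⟶ X) (a : Y ⟶ f.obj X)
    (hψ : f.IsHomLift a ψ) (e : f.obj X₁ = Y) : eqToHom e.symm ≫ f.map ψ = a := by
  have := IsHomLift.fac' f a ψ
  rw [this]
  simp

theorem eqToHom_comp_map_of_lift_id {Y : D} {X₁ X : C} (ψ : X₁ ⟶ X)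
    (hψ : f.IsHomLift (𝟙 Y) ψ) (e : f.obj X₁ = Y) (e' : f.obj X = Y) :
    eqToHom e.symm ≫ f.map ψ = eqToHom e'.symm := by
  have := IsHomLift.fac' f (𝟙 Y) ψ
  rw [this]
  simp

section fiber

variable [f.IsPreFibered]
  (hf : ∀ Y : D, W4c2modmodulilect.HasContractibleNerve.{max u₁ u₂ u₃ v₁ v₂ v₃,
    max u₁ u₂ u₃ v₁ v₂ v₃} (f.Fiber Y))

include hf

theorem arrowsConnected_of_fiber : ArrowsConnected.{v₁, v₂, v₃} f := by
  intro Y α m hm
  have step1 : ∀ (X : C) (a : Y ⟶ f.obj X), ∃ z : f.Fiber Y, m X a = m z.1 (eqToHom z.2.symm) := by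
    intro X a
    obtain ⟨X₁, ψ, hψ⟩ := IsPreFibered.exists_isCartesian f (a := X) rfl a
    have hl : f.IsHomLift a ψ := hψ.toIsHomLift
    have e : f.obj X₁ = Y := IsHomLift.domain_eq f a ψ
    refine ⟨⟨X₁, e⟩, ?_⟩
    have h1 := hm (eqToHom e.symm) ψ
    rw [eqToHom_comp_map_of_lift ψ a hl e] at h1
    exact h1.symm
  have step2 : ∀ z z' : f.Fiber Y, m z.1 (eqToHom z.2.symm) = m z'.1 (eqToHom z'.2.symm) := by
    refine Nerve.const_of_contractible.{max u₁ u₂ u₃ v₁ v₂ v₃} (K := f.Fiber Y) (α := α) (hf Y)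
      (fun z => m z.1 (eqToHom z.2.symm)) (fun {z z'} h => ?_)
    have h1 := hm (eqToHom z.2.symm) h.1
    rw [eqToHom_comp_map_of_lift_id h.1 h.2 z.2 z'.2] at h1
    exact h1
  intro X a X' a'
  obtain ⟨z, hz⟩ := step1 X a
  obtain ⟨z', hz'⟩ := step1 X' a'
  rw [hz, hz', step2 z z']

theorem nonempty_cone_of_fiber (h𝒳 : FibCat.IsFibGrpd 𝒳.p)
    (t : BasedCategory.ofFunctor f ⥤ᵇ 𝒳) (Y : D) : Nonempty (Cone f t Y) := by
  let T : f.Fiber Y ⥤ 𝒳.p.Fiber Y :=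
    { obj := fun z => ⟨t.obj z.1, (t.w_obj z.1).trans z.2⟩
      map := fun {z z'} h => ⟨t.map h.1, t_lift_of h.2⟩
      map_id := fun z => by
        apply Subtype.ext
        show t.map (𝟙 z.1) = 𝟙 _
        exact t.map_id _
      map_comp := fun {z z' z''} h h' => by
        apply Subtype.ext
        show t.map (h.1 ≫ h'.1) = t.map h.1 ≫ t.map h'.1
        exact t.map_comp _ _ }
  have hgrp : IsGroupoid (𝒳.p.Fiber Y) := isGroupoid_fiber_of_fibGrpd 𝒳.p h𝒳 Y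
  obtain ⟨s, c, hc⟩ := Nerve.exists_cone.{max u₁ u₂ u₃ v₁ v₂ v₃} (hf Y) T
  have hl : ∀ (X : C) (a : Y ⟶ f.obj X), ∃ (X₁ : C) (ψ : X₁ ⟶ X), f.IsCartesian a ψ :=
    fun X a => IsPreFibered.exists_isCartesian f (a := X) rfl a
  choose pbX ψ hψ using hl
  have hψl : ∀ (X : C) (a : Y ⟶ f.obj X), f.IsHomLift a (ψ X a) := fun X a => (hψ X a).toIsHomLift
  let zz : ∀ (X : C) (a : Y ⟶ f.obj X), f.Fiber Y :=
    fun X a => ⟨pbX X a, IsHomLift.domain_eq f a (ψ X a)⟩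
  refine ⟨{ s := s.1
            σ := fun X a => (c (zz X a)).1 ≫ t.map (ψ X a)
            lift := fun X a => lift_comp_id_left 𝒳.p (c (zz X a)).2 (t_lift_of (hψl X a))
            compat := ?_ }⟩
  intro X X' a h
  have hc1 := hψ X' (a ≫ f.map h)
  have hl2 : f.IsHomLift (a ≫ f.map h) (ψ X a ≫ h) := by
    have := hψl X a
    infer_instance
  let k : pbX X a ⟶ pbX X' (a ≫ f.map h) :=
    Functor.IsCartesian.map f (a ≫ f.map h) (ψ X' (a ≫ f.map h)) (ψ X a ≫ h)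
  have hk1 : f.IsHomLift (𝟙 Y) k := inferInstance
  have hk2 : k ≫ ψ X' (a ≫ f.map h) = ψ X a ≫ h :=
    Functor.IsCartesian.fac f (a ≫ f.map h) (ψ X' (a ≫ f.map h)) (ψ X a ≫ h)
  let kk : zz X a ⟶ zz X' (a ≫ f.map h) := ⟨k, hk1⟩
  have h1 : (c (zz X a)).1 ≫ t.map k = (c (zz X' (a ≫ f.map h))).1 :=
    congrArg Subtype.val (hc kk)
  show ((c (zz X a)).1 ≫ t.map (ψ X a)) ≫ t.map h =
    (c (zz X' (a ≫ f.map h))).1 ≫ t.map (ψ X' (a ≫ f.map h))
  rw [Category.assoc, ← t.map_comp, ← hk2, t.map_comp, ← Category.assoc, h1]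

/-- restriction of sections along a (pre)fibred functor all of whose fibres have contractible
nerve is an equivalence -/
theorem isEquivalence_restr_of_fiber (h𝒳 : FibCat.IsFibGrpd 𝒳.p) :
    (Stk.restr (incl f) 𝒳).IsEquivalence :=
  isEquivalence_restr h𝒳 (hasArrows_of_fiber_nonempty (fun Y => (hf Y).1))
    (arrowsConnected_of_fiber.{v₁, v₂, v₃, u₁, u₂, u₃} hf)
    (fun t Y => nonempty_cone_of_fiber hf h𝒳 t Y)

end fiber

end Groth.Agent.H84.NerveSections
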