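import Groth.Agent.H84.NerveSections
import Mathlib.CategoryTheory.FiberedCategory.Fiber

/-!
# Restriction of sections: the two contractibility criteria

* `isEquivalence_restr_of_comma`: if all comma categories `(Y/φ)` have contractible nerve, then
  restriction of sections of a groupoid fibration along `φ` is an equivalence.
* `isEquivalence_restr_of_fiber`: the same when `φ` is (pre)fibred with fibres of contractible nerve.
-/

set_option autoImplicit false
set_option backward.isDefEq.respectTransparency false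
set_option backward.isDefEq.respectTransparency.types false

open CategoryTheory

universe v₁ v₂ v₃ u₁ u₂ u₃

namespace Groth.Agent.H84.NerveSections

open Groth.Agent.H32 Groth.Agent.H64

variable {C : Type u₁} [Category.{v₁} C] {D : Type u₂} [Category.{v₂} D] {φ : C ⥤ D}
  {𝒳 : BasedCategory.{v₃, u₃} D}

theorem t_lift (t : BasedCategory.ofFunctor φ ⥤ᵇ 𝒳) {X X' : C} (h : X ⟶ X') :
    𝒳.p.IsHomLift (φ.map h) (t.map h) := by
  have h0 : (BasedCategory.ofFunctor φ).p.IsHomLift (φ.map h) h :=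
    (inferInstance : φ.IsHomLift (φ.map h) h)
  exact BasedFunctor.preserves_isHomLift t (φ.map h) h

theorem t_lift_of {t : BasedCategory.ofFunctor φ ⥤ᵇ 𝒳} {X X' : C} {h : X ⟶ X'} {R S : D}
    {f : R ⟶ S} (hf : φ.IsHomLift f h) : 𝒳.p.IsHomLift f (t.map h) := by
  have h0 : (BasedCategory.ofFunctor φ).p.IsHomLift f h := hf
  exact BasedFunctor.preserves_isHomLift t f h

theorem exists_lift_of_eq (h𝒳 : FibCat.IsFibGrpd 𝒳.p) {x : 𝒳.obj} {Z : D} (hx : 𝒳.p.obj x = Z)
    {Y : D} (a : Y ⟶ Z) : ∃ (y : 𝒳.obj) (π : y ⟶ x), 𝒳.p.IsHomLift a π := by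
  subst hx
  exact h𝒳.exists_lift a

section comma

variable (hφ : ∀ Y : D, W4c2modmodulilect.HasContractibleNerve.{max u₁ u₂ u₃ v₁ v₂ v₃,
  max u₁ u₂ u₃ v₁ v₂ v₃} (StructuredArrow Y φ))

include hφ

omit hφ in
theorem hasArrows_of_nonempty (h : ∀ Y : D, Nonempty (StructuredArrow Y φ)) : HasArrows φ :=
  fun Y => by
    obtain ⟨j⟩ := h Y
    exact ⟨j.right, ⟨j.hom⟩⟩

theorem arrowsConnected_of_comma : ArrowsConnected.{v₁, v₂, v₃} φ := by
  intro Y α m hm X a X' a'
  have key := Nerve.const_of_contractible.{max u₁ u₂ u₃ v₁ v₂ v₃} (K := StructuredArrow Y φ)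
    (α := α) (hφ Y) (fun j => m j.right j.hom) (fun {j j'} h => by
      have h1 := hm j.hom h.right
      have h2 : j.hom ≫ φ.map h.right = j'.hom := StructuredArrow.w h
      rw [h2] at h1
      exact h1) (StructuredArrow.mk a) (StructuredArrow.mk a')
  exact key

theorem nonempty_cone_of_comma (h𝒳 : FibCat.IsFibGrpd 𝒳.p)
    (t : BasedCategory.ofFunctor φ ⥤ᵇ 𝒳) (Y : D) : Nonempty (Cone φ t Y) := by
  have hl : ∀ (X : C) (a : Y ⟶ φ.obj X), ∃ (y : 𝒳.obj) (π : y ⟶ t.obj X), 𝒳.p.IsHomLift a π :=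
    fun X a => exists_lift_of_eq h𝒳 (t.w_obj X) a
  choose pb π hπ using hl
  have hcart : ∀ (X : C) (a : Y ⟶ φ.obj X), 𝒳.p.IsStronglyCartesian a (π X a) :=
    fun X a => cart_of_fibGrpd 𝒳.p h𝒳 (hπ X a)
  have hχ : ∀ (j j' : StructuredArrow Y φ) (h : j ⟶ j'),
      ∃ χ : pb j.right j.hom ⟶ pb j'.right j'.hom, 𝒳.p.IsHomLift (𝟙 Y) χ ∧
        χ ≫ π j'.right j'.hom = π j.right j.hom ≫ t.map h.right := by
    intro j j' h
    have hl : 𝒳.p.IsHomLift j'.hom (π j.right j.hom ≫ t.map h.right) :=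
      lift_of_eq 𝒳.p (lift_comp 𝒳.p (hπ j.right j.hom) (t_lift t h.right)) (StructuredArrow.w h)
    exact cart_lift_id 𝒳.p (hcart j'.right j'.hom) _ hl
  choose χ hχ1 hχ2 using hχ
  have hpb : ∀ j : StructuredArrow Y φ, 𝒳.p.obj (pb j.right j.hom) = Y :=
    fun j => lift_domain_eq 𝒳.p (hπ j.right j.hom)
  let T : StructuredArrow Y φ ⥤ 𝒳.p.Fiber Y :=
    { obj := fun j => ⟨pb j.right j.hom, hpb j⟩
      map := fun {j j'} h => ⟨χ j j' h, hχ1 j j' h⟩
      map_id := fun j => by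
        apply Subtype.ext
        show χ j j (𝟙 j) = 𝟙 _
        refine cart_ext 𝒳.p (hcart j.right j.hom) (𝟙 Y) (hχ1 j j (𝟙 j))
          (lift_id_of_obj 𝒳.p (hpb j)) ?_
        rw [hχ2, Category.id_comp]
        have : (𝟙 j : j ⟶ j).right = 𝟙 j.right := rfl
        rw [this, t.map_id, Category.comp_id]
      map_comp := fun {j j' j''} h h' => by
        apply Subtype.ext
        show χ j j'' (h ≫ h') = χ j j' h ≫ χ j' j'' h'
        refine cart_ext 𝒳.p (hcart j''.right j''.hom) (𝟙 Y) (hχ1 j j'' (h ≫ h'))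
          (lift_id_comp_id 𝒳.p (hχ1 j j' h) (hχ1 j' j'' h')) ?_
        rw [hχ2, Category.assoc, hχ2, ← Category.assoc, hχ2, Category.assoc, ← t.map_comp]
        rfl }
  have hgrp : IsGroupoid (𝒳.p.Fiber Y) := isGroupoid_fiber_of_fibGrpd 𝒳.p h𝒳 Y
  obtain ⟨s, c, hc⟩ := Nerve.exists_cone.{max u₁ u₂ u₃ v₁ v₂ v₃} (hφ Y) T
  refine ⟨{ s := s.1
            σ := fun X a => (c (StructuredArrow.mk a)).1 ≫ π X a
            lift := fun X a => lift_comp_id_left 𝒳.p (c (StructuredArrow.mk a)).2 (hπ X a)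
            compat := ?_ }⟩
  intro X X' a h
  let hh : StructuredArrow.mk a ⟶ StructuredArrow.mk (a ≫ φ.map h) :=
    StructuredArrow.homMk h rfl
  have h1 : (c (StructuredArrow.mk a)).1 ≫ χ _ _ hh = (c (StructuredArrow.mk (a ≫ φ.map h))).1 :=
    congrArg Subtype.val (hc hh)
  have h2 : χ _ _ hh ≫ π X' (a ≫ φ.map h) = π X a ≫ t.map h := hχ2 _ _ hh
  rw [Category.assoc, ← h2, ← Category.assoc, h1]

/-- restriction of sections along a functor all of whose comma categories `(Y/φ)` have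
contractible nerve is an equivalence -/
theorem isEquivalence_restr_of_comma (h𝒳 : FibCat.IsFibGrpd 𝒳.p) :
    (Stk.restr (incl φ) 𝒳).IsEquivalence :=
  isEquivalence_restr h𝒳 (hasArrows_of_nonempty (fun Y => (hφ Y).1))
    (arrowsConnected_of_comma.{v₁, v₂, v₃, u₁, u₂, u₃} hφ)
    (fun t Y => nonempty_cone_of_comma hφ h𝒳 t Y)

end comma

end Groth.Agent.H84.NerveSections
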