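import Mathlib.CategoryTheory.Localization.CalculusOfFractions
import Mathlib.CategoryTheory.Comma.Over.Basic

/-!
# Localization of a slice category

Let `W` be a class of morphisms of `C` with a calculus of right fractions and `S : C`.  The class
`W_S` of morphisms of `C/S` whose underlying morphism is in `W` has a calculus of right fractions
(`hasRightCalculusOfFractions_over`) and the localization of `C/S` at `W_S` is the slice over
`L S` of the localization of `C` at `W` (`isEquivalence_of_iso`).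
-/

set_option autoImplicit false
set_option backward.isDefEq.respectTransparency false
set_option backward.isDefEq.respectTransparency.types false

open CategoryTheory

universe v₁ v₂ v₃ u₁ u₂ u₃

namespace Groth.Agent.H84.OverLoc

variable {C : Type u₁} [Category.{v₁} C] (W : MorphismProperty C) [W.HasRightCalculusOfFractions]
  (S : C)

instance hasRightCalculusOfFractions_over :
    (W.inverseImage (Over.forget S)).HasRightCalculusOfFractions where
  exists_rightFraction X Y φ := by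
    obtain ⟨ψ, hψ⟩ :=
      (MorphismProperty.LeftFraction.mk (W := W) φ.f.left φ.s.left φ.hs).exists_rightFraction
    have hψ' : ψ.s ≫ φ.f.left = ψ.f ≫ φ.s.left := hψ
    have hw : ψ.f ≫ Y.hom = ψ.s ≫ X.hom := by
      have h1 : φ.s.left ≫ φ.Y'.hom = Y.hom := Over.w φ.s
      have h2 : φ.f.left ≫ φ.Y'.hom = X.hom := Over.w φ.f
      rw [← h1, ← Category.assoc, ← hψ', Category.assoc, h2]
    refine ⟨⟨(Over.homMk ψ.s rfl : Over.mk (ψ.s ≫ X.hom) ⟶ X), ψ.hs,
      (Over.homMk ψ.f hw : Over.mk (ψ.s ≫ X.hom) ⟶ Y)⟩, ?_⟩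
    ext
    exact hψ'
  ext X Y Y' f₁ f₂ s hs h := by
    obtain ⟨X', t, ht, hft⟩ := MorphismProperty.HasRightCalculusOfFractions.ext
      f₁.left f₂.left s.left hs (congrArg CommaMorphism.left h)
    refine ⟨Over.mk (t ≫ X.hom), Over.homMk t rfl, ht, ?_⟩
    ext
    exact hft

section general

variable {E : Type u₃} [Category.{v₃} E] {E' : Type u₂} [Category.{v₂} E']
  (L : E ⥤ E') (V : MorphismProperty E) [L.IsLocalization V] [V.HasRightCalculusOfFractions]

/-- two morphisms of the localisation with the same source and target can be written with a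
common denominator -/
theorem exists_common_denominator {X Y : E} (f₁ f₂ : L.obj X ⟶ L.obj Y) :
    ∃ (X' : E) (s : X' ⟶ X) (_ : V s) (n₁ n₂ : X' ⟶ Y),
      L.map s ≫ f₁ = L.map n₁ ∧ L.map s ≫ f₂ = L.map n₂ := by
  obtain ⟨φ₁, h₁⟩ := Localization.exists_rightFraction L V f₁
  obtain ⟨φ₂, h₂⟩ := Localization.exists_rightFraction L V f₂
  have e₁ : L.map φ₁.s ≫ f₁ = L.map φ₁.f := by rw [h₁]; exact φ₁.map_s_comp_map L _
  have e₂ : L.map φ₂.s ≫ f₂ = L.map φ₂.f := by rw [h₂]; exact φ₂.map_s_comp_map L _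
  obtain ⟨ψ, hψ⟩ := (MorphismProperty.LeftFraction.mk φ₁.s φ₂.s φ₂.hs).exists_rightFraction
  have hψ' : ψ.s ≫ φ₁.s = ψ.f ≫ φ₂.s := hψ
  refine ⟨_, ψ.s ≫ φ₁.s, V.comp_mem _ _ ψ.hs φ₁.hs, ψ.s ≫ φ₁.f, ψ.f ≫ φ₂.f, ?_, ?_⟩
  · rw [L.map_comp, Category.assoc, e₁, ← L.map_comp]
  · rw [hψ', L.map_comp, Category.assoc, e₂, ← L.map_comp]

end general

variable {D : Type u₂} [Category.{v₂} D] (L : C ⥤ D) [L.IsLocalization W]
  {E : Type u₃} [Category.{v₃} E] (L' : Over S ⥤ E)
  [L'.IsLocalization (W.inverseImage (Over.forget S))]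
  (Φ : E ⥤ Over (L.obj S)) (e : L' ⋙ Φ ≅ Over.post L)

include W L' e

theorem essSurj : Φ.EssSurj := ⟨fun A => by
  have := Localization.essSurj L W
  obtain ⟨X, ⟨i⟩⟩ : ∃ X, Nonempty (L.obj X ≅ A.left) :=
    ⟨L.objPreimage A.left, ⟨L.objObjPreimageIso A.left⟩⟩
  obtain ⟨φ, hφ⟩ := Localization.exists_rightFraction L W (i.hom ≫ A.hom)
  have hiso : IsIso (L.map φ.s) := Localization.inverts L W _ φ.hs
  let j : (Over.post L).obj (Over.mk φ.f) ≅ A := Over.isoMk (asIso (L.map φ.s) ≪≫ i) (by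
    show (L.map φ.s ≫ i.hom) ≫ A.hom = L.map φ.f
    rw [Category.assoc, hφ]
    exact φ.map_s_comp_map L _)
  exact ⟨L'.obj (Over.mk φ.f), ⟨e.app (Over.mk φ.f) ≪≫ j⟩⟩⟩

theorem full_aux (A B : Over S) (ψ : Φ.obj (L'.obj A) ⟶ Φ.obj (L'.obj B)) :
    ∃ χ : L'.obj A ⟶ L'.obj B, Φ.map χ = ψ := by
  let ψ' : (Over.post L).obj A ⟶ (Over.post L).obj B := (e.app A).inv ≫ ψ ≫ (e.app B).hom
  have hψ : ψ = (e.app A).hom ≫ ψ' ≫ (e.app B).inv := by simp [ψ']
  have hw : ψ'.left ≫ L.map B.hom = L.map A.hom := Over.w ψ'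
  obtain ⟨φ, hφ⟩ := Localization.exists_rightFraction L W ψ'.left
  have hφ' : L.map φ.s ≫ ψ'.left = L.map φ.f := by rw [hφ]; exact φ.map_s_comp_map L _
  have hL : L.map (φ.f ≫ B.hom) = L.map (φ.s ≫ A.hom) := by
    rw [L.map_comp, L.map_comp, ← hφ', Category.assoc, hw]
  obtain ⟨X'', t, ht, hteq⟩ := (MorphismProperty.map_eq_iff_precomp L W _ _).1 hL
  let A'' : Over S := Over.mk (t ≫ φ.s ≫ A.hom)
  let σ : A'' ⟶ A := Over.homMk (t ≫ φ.s) (by simp [A''])
  have hσ : (W.inverseImage (Over.forget S)) σ := W.comp_mem _ _ ht φ.hs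
  let ν : A'' ⟶ B := Over.homMk (t ≫ φ.f) (by
    show (t ≫ φ.f) ≫ B.hom = t ≫ φ.s ≫ A.hom
    rw [Category.assoc]; exact hteq)
  have hσiso : IsIso (L'.map σ) := Localization.inverts L' _ σ hσ
  have key : (Over.post L).map σ ≫ ψ' = (Over.post L).map ν := by
    ext
    show L.map (t ≫ φ.s) ≫ ψ'.left = L.map (t ≫ φ.f)
    rw [L.map_comp, Category.assoc, hφ', ← L.map_comp]
  have n1 : Φ.map (L'.map σ) ≫ (e.app A).hom = (e.app A'').hom ≫ (Over.post L).map σ :=
    e.hom.naturality σ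
  have n2 : Φ.map (L'.map ν) ≫ (e.app B).hom = (e.app A'').hom ≫ (Over.post L).map ν :=
    e.hom.naturality ν
  refine ⟨inv (L'.map σ) ≫ L'.map ν, ?_⟩
  rw [Φ.map_comp, Functor.map_inv, IsIso.inv_comp_eq, hψ, ← Category.assoc, n1, Category.assoc,
    ← Category.assoc ((Over.post L).map σ), key, ← Category.assoc, ← n2, Category.assoc]
  simp

theorem full : Φ.Full := ⟨fun {X Y} ψ => by
  have := Localization.essSurj L' (W.inverseImage (Over.forget S))
  let iX : L'.obj (L'.objPreimage X) ≅ X := L'.objObjPreimageIso X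
  let iY : L'.obj (L'.objPreimage Y) ≅ Y := L'.objObjPreimageIso Y
  obtain ⟨χ, hχ⟩ := full_aux W S L L' Φ e (L'.objPreimage X) (L'.objPreimage Y)
    (Φ.map iX.hom ≫ ψ ≫ Φ.map iY.inv)
  refine ⟨iX.inv ≫ χ ≫ iY.hom, ?_⟩
  rw [Φ.map_comp, Φ.map_comp, hχ]
  simp [← Φ.map_comp_assoc, ← Φ.map_comp]⟩

theorem faithful_aux (A B : Over S) (χ₁ χ₂ : L'.obj A ⟶ L'.obj B)
    (h : Φ.map χ₁ = Φ.map χ₂) : χ₁ = χ₂ := by
  obtain ⟨A', s, hs, n₁, n₂, h₁, h₂⟩ :=
    exists_common_denominator L' (W.inverseImage (Over.forget S)) χ₁ χ₂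
  have hsiso : IsIso (L'.map s) := Localization.inverts L' _ s hs
  have hΦ : Φ.map (L'.map n₁) = Φ.map (L'.map n₂) := by
    rw [← h₁, ← h₂, Φ.map_comp, Φ.map_comp, h]
  have k1 : Φ.map (L'.map n₁) ≫ (e.app B).hom = (e.app A').hom ≫ (Over.post L).map n₁ :=
    e.hom.naturality n₁
  have k2 : Φ.map (L'.map n₂) ≫ (e.app B).hom = (e.app A').hom ≫ (Over.post L).map n₂ :=
    e.hom.naturality n₂
  have hpost : (Over.post L).map n₁ = (Over.post L).map n₂ := by
    rw [hΦ, k2] at k1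
    exact ((cancel_epi (e.app A').hom).1 k1).symm
  have hL : L.map n₁.left = L.map n₂.left := congrArg CommaMorphism.left hpost
  obtain ⟨Z, t, ht, hteq⟩ := (MorphismProperty.map_eq_iff_precomp L W _ _).1 hL
  let τ : Over.mk (t ≫ A'.hom) ⟶ A' := Over.homMk t rfl
  have hτ : (W.inverseImage (Over.forget S)) τ := ht
  have hτiso : IsIso (L'.map τ) := Localization.inverts L' _ τ hτ
  have hτeq : τ ≫ n₁ = τ ≫ n₂ := by
    ext
    exact hteq
  have hn : L'.map n₁ = L'.map n₂ := by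
    have := congrArg L'.map hτeq
    rw [L'.map_comp, L'.map_comp] at this
    exact (cancel_epi (L'.map τ)).1 this
  rw [← cancel_epi (L'.map s), h₁, h₂, hn]

theorem faithful : Φ.Faithful := ⟨fun {X Y} χ₁ χ₂ h => by
  have := Localization.essSurj L' (W.inverseImage (Over.forget S))
  let iX : L'.obj (L'.objPreimage X) ≅ X := L'.objObjPreimageIso X
  let iY : L'.obj (L'.objPreimage Y) ≅ Y := L'.objObjPreimageIso Y
  have := faithful_aux W S L L' Φ e (L'.objPreimage X) (L'.objPreimage Y)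
    (iX.hom ≫ χ₁ ≫ iY.inv) (iX.hom ≫ χ₂ ≫ iY.inv) (by
      rw [Φ.map_comp, Φ.map_comp, Φ.map_comp, Φ.map_comp, h])
  rw [← cancel_epi iX.hom, ← cancel_mono iY.inv]
  simpa using this⟩

/-- the localization of the slice category is the slice category of the localization -/
theorem isEquivalence_of_iso : Φ.IsEquivalence :=
  { faithful := faithful W S L L' Φ e
    full := full W S L L' Φ e
    essSurj := essSurj W S L L' Φ e }

end Groth.Agent.H84.OverLoc
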