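import Groth.Agent.H28.PCohRestrict
import Groth.Agent.H28.PCohTower2

/-!
# Pseudo-coherence over a finite free (not necessarily commutative) algebra (S1047)

Uses helper28's general descent engine `PCohDescent.isNPC_of_isNPC_mapDerived`.
-/

set_option autoImplicit false

universe u

open CategoryTheory CategoryTheory.Limits

open scoped ZeroObject

namespace Groth.Agent.H84.PCNonComm

open Groth.Agent.H28 Groth.Agent.H28.PCohDer Groth.Agent.H28.PCohTri
  Groth.Agent.H28.PCohRing Groth.Agent.H28.PCohDescent DerivedCategory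

attribute [local instance] HasDerivedCategory.standard

variable (A : Type u) [CommRing A] (R : Type u) [Ring R] [Algebra A R]

/-- finite free modules over a (noncommutative) ring -/
def finFreeR : ObjectProperty (ModuleCat.{u} R) := fun M => Module.Finite R M ∧ Module.Free R M

instance : (finFreeR R).IsClosedUnderIsomorphisms where
  of_iso e h := by
    have := h.1; have := h.2
    exact ⟨Module.Finite.equiv e.toLinearEquiv, Module.Free.of_equiv e.toLinearEquiv⟩

instance : (finFreeR R).ContainsZero where
  exists_zero := ⟨ModuleCat.of R PUnit, ModuleCat.isZero_of_subsingleton _,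
    ⟨inferInstance, inferInstance⟩⟩

lemma projective_of_finFreeR (M : ModuleCat.{u} R) (h : finFreeR R M) : Projective M := by
  have := h.2
  have hp : Module.Projective R M := Module.Projective.of_free
  exact (IsProjective.iff_projective (R := R) M).mp hp

lemma finFreeR_prod (X Y : ModuleCat.{u} R) (hX : finFreeR R X) (hY : finFreeR R Y) :
    finFreeR R (X ⨯ Y) := by
  have := hX.1; have := hX.2; have := hY.1; have := hY.2
  have e : ModuleCat.of R (X × Y) ≅ X ⨯ Y :=
    (ModuleCat.biprodIsoProd X Y).symm ≪≫ (biprod.isoProd X Y)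
  exact (finFreeR R).prop_of_iso e
    ⟨inferInstanceAs (Module.Finite R (X × Y)), inferInstanceAs (Module.Free R (X × Y))⟩

lemma hql : PCoh.IsQuasiLiftable (finFreeR R) :=
  isQuasiLiftable_of_projective _ (projective_of_finFreeR R)

lemma hqs : PCoh.IsQuasiStableUnderKernels (finFreeR R) :=
  isQuasiStable_of_projective _ (projective_of_finFreeR R)

/-- restriction of scalars -/
noncomputable abbrev res : ModuleCat.{u} R ⥤ ModuleCat.{u} A :=
  ModuleCat.restrictScalars.{u} (algebraMap A R)

variable [Module.Finite A R] [Module.Free A R]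

lemma finFree_res (E : ModuleCat.{u} R) (hE : finFreeR R E) : finFree A ((res A R).obj E) := by
  have := hE.1; have := hE.2
  let _ : Module A E := Module.compHom E (algebraMap A R)
  have : IsScalarTower A R E := IsScalarTower.of_algebraMap_smul fun _ _ => rfl
  have h1 : Module.Finite A E := Module.Finite.trans R E
  have h2 : Module.Free A E :=
    Module.Free.of_basis ((Module.Free.chooseBasis A R).smulTower (Module.Free.chooseBasis R E))
  exact ⟨h1, h2⟩

omit [Module.Finite A R] [Module.Free A R] in
lemma isZero_of_isZero_res (M : ModuleCat.{u} R) (h : IsZero ((res A R).obj M)) : IsZero M := by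
  have : Subsingleton ((res A R).obj M) := ModuleCat.subsingleton_of_isZero h
  have : Subsingleton M := this
  exact ModuleCat.isZero_of_subsingleton M

omit [Module.Free A R] [Module.Finite A R] in
lemma isOfFiniteType_of_res (M : ModuleCat.{u} R)
    (h : PCoh.IsOfFiniteType (finFree A) ((res A R).obj M)) :
    PCoh.IsOfFiniteType (finFreeR R) M := by
  obtain ⟨E, π, hE, hπ⟩ := h
  have := hE.1
  let _ : Module A M := Module.compHom M (algebraMap A R)
  have : IsScalarTower A R M := IsScalarTower.of_algebraMap_smul fun _ _ => rfl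
  have h1 : Module.Finite A M :=
    Module.Finite.of_surjective π.hom ((ModuleCat.epi_iff_surjective π).mp hπ)
  have h2 : Module.Finite R M := Module.Finite.of_restrictScalars_finite A R M
  obtain ⟨n, f, hf⟩ := Module.Finite.exists_fin' R M
  exact ⟨ModuleCat.of R (Fin n → R), ModuleCat.ofHom f,
    ⟨inferInstanceAs (Module.Finite R (Fin n → R)), inferInstanceAs (Module.Free R (Fin n → R))⟩,
    (ModuleCat.epi_iff_surjective _).mpr hf⟩

theorem main
    [PreservesFiniteLimits (res A R)] [PreservesFiniteColimits (res A R)]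
    (M : DerivedCategory (ModuleCat.{u} R))
    (hM : DRing.IsPseudoCoherent' A (((res A R).mapDerivedCategory).obj M)) :
    ∃ (F : CochainComplex (ModuleCat.{u} R) ℤ) (b : ℤ), (∀ i : ℤ, b < i → IsZero (F.X i)) ∧
      (∀ i : ℤ, Module.Finite R (F.X i) ∧ Module.Free R (F.X i)) ∧ Nonempty (DerivedCategory.Q.obj F ≅ M) := by
  have hK : ∀ m : ℤ, IsNPC (finFreeR R) m M := fun m =>
    isNPC_of_isNPC_mapDerived (res A R) (finFreeR R) (hql R) (finFreeR_prod R) (hqs R)
      (finFree A) (hql_finFree A) (finFree_prod A) (hqs_finFree A)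
      (fun E hE a => PCohCoh.isNPC_single_of_mem (finFree A) a _ (finFree_res A R E hE))
      (isZero_of_isZero_res A R) (isOfFiniteType_of_res A R) m M
      ((isPseudoCoherent'_iff A _).mp hM m)
  obtain ⟨E₀, ⟨⟨b, hb⟩, -⟩, ⟨e⟩⟩ := hK 0
  have hac : ∀ i : ℤ, b + 1 ≤ i →
      IsZero ((DerivedCategory.homologyFunctor (ModuleCat.{u} R) i).obj M) := by
    intro i hi
    refine IsZero.of_iso ?_ ((DerivedCategory.homologyFunctor _ i).mapIso e.symm ≪≫
      homologyQIso E₀ i)
    exact PCohCore.isZero_homology_of_isZero_X E₀ i (hb i (by omega))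
  obtain ⟨E, hE, hz, hiso⟩ := PCohTower.exists_strictPCAll_iso (hql R) (finFreeR_prod R)
    (hqs R) (b + 1) M hK hac
  exact ⟨E, b, fun i hi => hz i (by omega), hE.2, hiso⟩

end Groth.Agent.H84.PCNonComm
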