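import Mathlib

set_option autoImplicit false
universe u
open CategoryTheory CategoryTheory.Limits Opposite

namespace Groth.Agent.H84.ProRep

variable {C : Type u} [SmallCategory C] (F : C ⥤ Type u)

/-- An element `(X, ξ)` is minimal if `ξ` does not come from a proper subobject. -/
def IsMin : ObjectProperty F.Elements := fun e =>
  ∀ ⦃Z : C⦄ (m : Z ⟶ e.1), Mono m → e.2 ∈ Set.range (F.map m) → IsIso m

/-- the category of minimal elements. -/
abbrev MinEl := (IsMin F).FullSubcategory

/-- the diagram. -/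
abbrev D : MinEl F ⥤ C := (IsMin F).ι ⋙ CategoryOfElements.π F

lemma exists_min (hart : ∀ X : C, IsArtinianObject X) (e : F.Elements) :
    ∃ m : MinEl F, Nonempty ((IsMin F).ι.obj m ⟶ e) := by
  obtain ⟨X, ξ⟩ := e
  have := hart X
  let S : Set (Subobject X) := {Y | ξ ∈ Set.range (F.map Y.arrow)}
  have hne : S.Nonempty := by
    refine ⟨⊤, ?_⟩
    have : IsIso (⊤ : Subobject X).arrow := inferInstance
    refine ⟨F.map (inv (⊤ : Subobject X).arrow) ξ, ?_⟩
    rw [← Functor.map_comp_apply]
    simp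
  obtain ⟨Y₀, hY₀, hmin⟩ := (wellFounded_lt (α := Subobject X)).has_min S hne
  obtain ⟨ξ₀, hξ₀⟩ := hY₀
  refine ⟨⟨⟨(Y₀ : C), ξ₀⟩, ?_⟩, ⟨⟨Y₀.arrow, hξ₀⟩⟩⟩
  intro Z m hm ⟨ζ, hζ⟩
  have := hm
  have hmem : Subobject.mk (m ≫ Y₀.arrow) ∈ S := by
    refine ⟨F.map (Subobject.underlyingIso (m ≫ Y₀.arrow)).inv ζ, ?_⟩
    rw [← Functor.map_comp_apply, Subobject.underlyingIso_arrow,
      Functor.map_comp_apply]
    change F.map Y₀.arrow (F.map m ζ) = ξ
    rw [hζ]
    exact hξ₀
  have hle : Subobject.mk (m ≫ Y₀.arrow) ≤ Y₀ := Subobject.mk_le_of_comm m rfl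
  have heq : Subobject.mk (m ≫ Y₀.arrow) = Y₀ := by
    by_contra hne'
    exact hmin _ hmem (lt_of_le_of_ne hle hne')
  have hge : Y₀ ≤ Subobject.mk (m ≫ Y₀.arrow) := heq.ge
  have hsplit : Subobject.ofLEMk Y₀ (m ≫ Y₀.arrow) hge ≫ m = 𝟙 _ := by
    rw [← cancel_mono Y₀.arrow, Category.assoc, Subobject.ofLEMk_comp, Category.id_comp]
  have : IsSplitEpi m := ⟨⟨⟨_, hsplit⟩⟩⟩
  exact isIso_of_mono_of_isSplitEpi m

section
variable [HasFiniteLimits C]

lemma isCofiltered_minEl [PreservesFiniteLimits F] (hart : ∀ X : C, IsArtinianObject X) :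
    IsCofiltered (MinEl F) := by
  have := Functor.isCofiltered_elements F
  exact IsCofiltered.of_exists_of_isCofiltered_of_fullyFaithful (IsMin F).ι (exists_min F hart)

/-- an element whose two images agree lifts to the equalizer. -/
lemma mem_range_equalizer [PreservesFiniteLimits F] {X Y : C} (f g : X ⟶ Y) (x : F.obj X)
    (hx : F.map f x = F.map g x) : x ∈ Set.range (F.map (equalizer.ι f g)) := by
  let h := isLimitForkMapOfIsLimit F _ (equalizerIsEqualizer f g)
  let h' := (Types.equalizerLimit (g := F.map f) (h := F.map g)).isLimit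
  exact ⟨(h'.conePointUniqueUpToIso h).hom ⟨x, hx⟩,
    ConcreteCategory.congr_hom (h'.conePointUniqueUpToIso_hom_comp h .zero) ⟨x, hx⟩⟩

/-- two maps out of a minimal element which agree on the element are equal. -/
lemma eq_of_isMin [PreservesFiniteLimits F] (e : F.Elements) (he : IsMin F e) {Y : C}
    (f g : e.1 ⟶ Y) (h : F.map f e.2 = F.map g e.2) : f = g := by
  have := he (equalizer.ι f g) inferInstance (mem_range_equalizer F f g e.2 h)
  rw [← cancel_epi (equalizer.ι f g)]
  exact equalizer.condition f g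

/-- transition maps into a minimal element are epi (this does not use exactness of `F`). -/
lemma epi_of_isMin {e e' : F.Elements} (he' : IsMin F e') (a : e ⟶ e') : Epi a.1 := by
  constructor
  intro Z g h hgh
  have hr : e'.2 ∈ Set.range (F.map (equalizer.ι g h)) := by
    refine ⟨F.map (equalizer.lift a.1 hgh) e.2, ?_⟩
    rw [← Functor.map_comp_apply, equalizer.lift_ι]
    exact a.2
  have := he' (equalizer.ι g h) inferInstance hr
  rw [← cancel_epi (equalizer.ι g h)]
  exact equalizer.condition g h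

/-- the canonical cocone with point `F`. -/
def cocone : Cocone ((D F).op ⋙ coyoneda) where
  pt := F
  ι :=
    { app := fun j => coyonedaEquiv.symm j.unop.obj.2
      naturality := by
        intro j j' a
        ext Y v
        have := a.unop.hom.2
        simp only [Functor.comp_obj, Functor.op_obj, Functor.const_obj_obj, Functor.comp_map,
          Functor.op_map, Functor.const_obj_map, Category.comp_id]
        change (coyonedaEquiv.symm (unop j').obj.snd).app Y (a.unop.hom.1 ≫ v) =
          (coyonedaEquiv.symm (unop j).obj.snd).app Y v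
        have e1 := coyonedaEquiv_symm_app_apply (F := F) (unop j').obj.snd Y (a.unop.hom.1 ≫ v)
        have e2 := coyonedaEquiv_symm_app_apply (F := F) (unop j).obj.snd Y v
        rw [e1, e2, Functor.map_comp_apply, this] }

@[simp] lemma cocone_ι_app_app (j : (MinEl F)ᵒᵖ) (Y : C) (v : j.unop.obj.1 ⟶ Y) :
    ((cocone F).ι.app j).app Y v = F.map v j.unop.obj.2 :=
  coyonedaEquiv_symm_app_apply (F := F) j.unop.obj.2 Y v

/-- the cocone is a colimit. -/
noncomputable def isColimitCocone [PreservesFiniteLimits F] (hart : ∀ X : C, IsArtinianObject X) :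
    IsColimit (cocone F) := by
  have hcof := isCofiltered_minEl F hart
  have hcofE := Functor.isCofiltered_elements F
  refine evaluationJointlyReflectsColimits _ (fun Y => ?_)
  refine Types.FilteredColimit.isColimitOf _ _ ?_ ?_
  · intro η
    obtain ⟨k, ⟨u⟩⟩ := exists_min F hart ⟨Y, η⟩
    refine ⟨op k, u.1, ?_⟩
    change η = ((cocone F).ι.app (op k)).app Y u.1
    rw [cocone_ι_app_app]
    exact u.2.symm
  · intro i j xi xj hij
    change ((cocone F).ι.app i).app Y xi = ((cocone F).ι.app j).app Y xj at hij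
    rw [cocone_ι_app_app, cocone_ι_app_app] at hij
    obtain ⟨k, ⟨w⟩⟩ := exists_min F hart (IsCofiltered.min i.unop.obj j.unop.obj)
    let a : k ⟶ i.unop := ObjectProperty.homMk (w ≫ IsCofiltered.minToLeft _ _)
    let b : k ⟶ j.unop := ObjectProperty.homMk (w ≫ IsCofiltered.minToRight _ _)
    refine ⟨op k, a.op, b.op, ?_⟩
    change a.hom.1 ≫ xi = b.hom.1 ≫ xj
    apply eq_of_isMin F k.obj k.property
    rw [Functor.map_comp_apply, Functor.map_comp_apply]
    have ha : F.map a.hom.1 k.obj.2 = i.unop.obj.2 := a.hom.2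
    have hb : F.map b.hom.1 k.obj.2 = j.unop.obj.2 := b.hom.2
    rw [ha, hb]
    exact hij

theorem main [PreservesFiniteLimits F] (hart : ∀ X : C, IsArtinianObject X) :
    ∃ (J : Type u) (_ : SmallCategory J) (_ : IsCofiltered J) (D : J ⥤ C),
      (∀ ⦃j j' : J⦄ (a : j ⟶ j'), Epi (D.map a)) ∧ Nonempty (F ≅ colimit (D.op ⋙ coyoneda)) :=
  ⟨MinEl F, inferInstance, isCofiltered_minEl F hart, D F,
    fun _ j' a => epi_of_isMin F j'.property a.hom,
    ⟨(colimit.isoColimitCocone ⟨cocone F, isColimitCocone F hart⟩).symm⟩⟩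

end

end Groth.Agent.H84.ProRep
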