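import Mathlib

set_option autoImplicit false

open CategoryTheory CategoryTheory.Limits ConcreteCategory

namespace Groth.Agent.H84.PseudoFiltered

universe v u w

section combinatorics

variable {I : Type u} [Category.{w} I]

/-- spans can be completed to squares. -/
def SpanCond (I : Type u) [Category.{w} I] : Prop :=
  ∀ ⦃w x y : I⦄ (a : w ⟶ x) (b : w ⟶ y), ∃ (z : I) (c : x ⟶ z) (d : y ⟶ z), a ≫ c = b ≫ d

/-- parallel pairs can be coequalized. -/
def CoeqCond (I : Type u) [Category.{w} I] : Prop :=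
  ∀ ⦃x y : I⦄ (a b : x ⟶ y), ∃ (z : I) (c : y ⟶ z), a ≫ c = b ≫ c

/-- having a common target. -/
def T (a b : I) : Prop := ∃ c : I, Nonempty (a ⟶ c) ∧ Nonempty (b ⟶ c)

lemma T.refl (a : I) : T a a := ⟨a, ⟨𝟙 a⟩, ⟨𝟙 a⟩⟩

lemma T.symm {a b : I} (h : T a b) : T b a := by
  obtain ⟨c, h1, h2⟩ := h
  exact ⟨c, h2, h1⟩

lemma T.trans (h1 : SpanCond I) {a b d : I} (hab : T a b) (hbd : T b d) : T a d := by
  obtain ⟨c, ⟨f⟩, ⟨g⟩⟩ := hab
  obtain ⟨c', ⟨f'⟩, ⟨g'⟩⟩ := hbd
  obtain ⟨m, p, q, -⟩ := h1 g f'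
  exact ⟨m, ⟨f ≫ p⟩, ⟨g' ≫ q⟩⟩

/-- a finite list of objects all `T`-related to `a` has a common target. -/
lemma exists_common_target_list (h1 : SpanCond I) (a : I) :
    ∀ l : List I, (∀ b ∈ l, T a b) → ∃ m : I, Nonempty (a ⟶ m) ∧ ∀ b ∈ l, Nonempty (b ⟶ m)
  | [], _ => ⟨a, ⟨𝟙 a⟩, by simp⟩
  | b :: l, hl => by
    obtain ⟨m, ⟨f⟩, hs⟩ := exists_common_target_list h1 a l
      (fun b' hb' => hl b' (List.mem_cons_of_mem _ hb'))
    obtain ⟨c, ⟨g⟩, ⟨g'⟩⟩ := hl b (by simp)
    obtain ⟨m', p, q, -⟩ := h1 f g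
    refine ⟨m', ⟨f ≫ p⟩, fun b' hb' => ?_⟩
    rcases List.mem_cons.1 hb' with rfl | hb'
    · exact ⟨g' ≫ q⟩
    · exact ⟨(hs b' hb').some ≫ p⟩

lemma exists_common_target (h1 : SpanCond I) {A : Type*} [Finite A] (a : I) (b : A → I)
    (hb : ∀ s, T a (b s)) : ∃ m : I, Nonempty (a ⟶ m) ∧ ∀ s, Nonempty (b s ⟶ m) := by
  classical
  have := Fintype.ofFinite A
  obtain ⟨m, hm, hs⟩ := exists_common_target_list h1 a ((Finset.univ : Finset A).toList.map b)
    (by
      intro b' hb'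
      obtain ⟨s, -, rfl⟩ := List.mem_map.1 hb'
      exact hb s)
  exact ⟨m, hm, fun s => hs _ (List.mem_map.2 ⟨s, by simp, rfl⟩)⟩

/-- a finite family of parallel pairs with a common source can be simultaneously equalized. -/
lemma exists_common_coeq_list (h1 : SpanCond I) (h2 : CoeqCond I) (k : I) :
    ∀ l : List (Σ Y : I, (k ⟶ Y) × (k ⟶ Y)), ∃ (m : I) (c : k ⟶ m),
      ∀ x ∈ l, ∃ i : x.1 ⟶ m, x.2.1 ≫ i = c ∧ x.2.2 ≫ i = c
  | [] => ⟨k, 𝟙 k, by simp⟩
  | x :: l => by
    obtain ⟨m, c, hi⟩ := exists_common_coeq_list h1 h2 k l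
    obtain ⟨Z, e, he⟩ := h2 x.2.1 x.2.2
    obtain ⟨m', u, w, huw⟩ := h1 c (x.2.1 ≫ e)
    refine ⟨m', c ≫ u, fun x' hx' => ?_⟩
    rcases List.mem_cons.1 hx' with rfl | hx'
    · refine ⟨e ≫ w, ?_, ?_⟩
      · simpa using huw.symm
      · rw [huw, he]; simp
    · obtain ⟨i, hi1, hi2⟩ := hi x' hx'
      exact ⟨i ≫ u, by simp [← hi1], by simp [← hi2]⟩

lemma exists_common_coeq (h1 : SpanCond I) (h2 : CoeqCond I) {A : Type*} [Finite A] (k : I)
    (Y : A → I) (p q : ∀ s, k ⟶ Y s) :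
    ∃ (m : I) (c : k ⟶ m) (i : ∀ s, Y s ⟶ m), ∀ s, p s ≫ i s = c ∧ q s ≫ i s = c := by
  classical
  have := Fintype.ofFinite A
  obtain ⟨m, c, hi⟩ := exists_common_coeq_list h1 h2 k
    ((Finset.univ : Finset A).toList.map fun s =>
      (⟨Y s, p s, q s⟩ : Σ Y : I, (k ⟶ Y) × (k ⟶ Y)))
  have hi' : ∀ s, ∃ i : Y s ⟶ m, p s ≫ i = c ∧ q s ≫ i = c := fun s =>
    hi ⟨Y s, p s, q s⟩ (List.mem_map.2 ⟨s, by simp, rfl⟩)
  choose i hi'' using hi'
  exact ⟨m, c, i, hi''⟩

/-- a finite family of cospans from `a`, `b` can be merged, starting from a given cospan. -/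
lemma exists_common_cospan_list (h1 : SpanCond I) (h2 : CoeqCond I) (a b : I) :
    ∀ (l : List (Σ Y : I, (a ⟶ Y) × (b ⟶ Y))) (S₀ : I) (Ta₀ : a ⟶ S₀) (Tb₀ : b ⟶ S₀),
      ∃ (S : I) (r : S₀ ⟶ S), ∀ x ∈ l, ∃ t : x.1 ⟶ S,
        x.2.1 ≫ t = Ta₀ ≫ r ∧ x.2.2 ≫ t = Tb₀ ≫ r
  | [], S₀, _, _ => ⟨S₀, 𝟙 _, by simp⟩
  | x :: l, S₀, Ta₀, Tb₀ => by
    obtain ⟨S, r, hT⟩ := exists_common_cospan_list h1 h2 a b l S₀ Ta₀ Tb₀
    obtain ⟨m, p, q, hpq⟩ := h1 (Ta₀ ≫ r) x.2.1
    obtain ⟨m', e, he⟩ := h2 (Tb₀ ≫ r ≫ p) (x.2.2 ≫ q)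
    refine ⟨m', r ≫ p ≫ e, fun x' hx' => ?_⟩
    rcases List.mem_cons.1 hx' with rfl | hx'
    · refine ⟨q ≫ e, ?_, ?_⟩
      · simp only [← Category.assoc] at hpq ⊢
        rw [← hpq]
      · simpa using he.symm
    · obtain ⟨t, ht1, ht2⟩ := hT x' hx'
      refine ⟨t ≫ p ≫ e, ?_, ?_⟩
      · simp only [← Category.assoc]; rw [ht1]
      · simp only [← Category.assoc]; rw [ht2]

lemma exists_common_cospan (h1 : SpanCond I) (h2 : CoeqCond I) {A : Type*} [Finite A]
    [Nonempty A] (a b : I) (k : A → I) (f : ∀ s, a ⟶ k s) (g : ∀ s, b ⟶ k s) :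
    ∃ (S : I) (Ta : a ⟶ S) (Tb : b ⟶ S) (Tk : ∀ s, k s ⟶ S),
      ∀ s, f s ≫ Tk s = Ta ∧ g s ≫ Tk s = Tb := by
  classical
  have := Fintype.ofFinite A
  obtain ⟨s₀⟩ := ‹Nonempty A›
  obtain ⟨S, r, hT⟩ := exists_common_cospan_list h1 h2 a b
    ((Finset.univ : Finset A).toList.map fun s =>
      (⟨k s, f s, g s⟩ : Σ Y : I, (a ⟶ Y) × (b ⟶ Y))) (k s₀) (f s₀) (g s₀)
  have hT' : ∀ s, ∃ t : k s ⟶ S, f s ≫ t = f s₀ ≫ r ∧ g s ≫ t = g s₀ ≫ r := fun s =>
    hT ⟨k s, f s, g s⟩ (List.mem_map.2 ⟨s, by simp, rfl⟩)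
  choose Tk hTk using hT'
  exact ⟨S, f s₀ ≫ r, g s₀ ≫ r, Tk, hTk⟩

end combinatorics

section colimEq

open CategoryTheory.Limits.Types CategoryTheory.Limits.Types.FilteredColimit

variable {J : Type v} [Category.{w} J] (F : J ⥤ Type u)

attribute [local instance] small_colimitType_of_hasColimit

theorem rel_equiv (h1 : SpanCond J) : _root_.Equivalence (FilteredColimit.Rel.{v, u} F) where
  refl x := ⟨x.1, 𝟙 x.1, 𝟙 x.1, rfl⟩
  symm := fun ⟨k, f, g, h⟩ => ⟨k, g, f, h.symm⟩
  trans {x y z} := fun ⟨k, f, g, h⟩ ⟨k', f', g', h'⟩ =>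
    let ⟨m, fl, gl, hn⟩ := h1 g f'
    ⟨m, f ≫ fl, g' ≫ gl,
      calc
        F.map (f ≫ fl) x.2 = F.map fl (F.map f x.2) := by simp
        _ = F.map fl (F.map g y.2) := by rw [h]
        _ = F.map (g ≫ fl) y.2 := by simp
        _ = F.map (f' ≫ gl) y.2 := by rw [hn]
        _ = F.map gl (F.map f' y.2) := by simp
        _ = F.map gl (F.map g' z.2) := by rw [h']
        _ = F.map (g' ≫ gl) z.2 := by simp⟩

theorem rel_eq_eqvGen_colimitTypeRel (h1 : SpanCond J) :
    FilteredColimit.Rel.{v, u} F = Relation.EqvGen F.ColimitTypeRel := by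
  ext ⟨j, x⟩ ⟨j', y⟩
  constructor
  · apply eqvGen_colimitTypeRel_of_rel
  · rw [← (rel_equiv F h1).eqvGen_iff]
    exact Relation.EqvGen.mono (rel_of_colimitTypeRel F) _ _

set_option backward.defeqAttrib.useBackward true in
set_option backward.isDefEq.respectTransparency false in
theorem colimit_eq_iff_aux (h1 : SpanCond J) [HasColimit F] {i j : J} {xi : F.obj i}
    {xj : F.obj j} :
    (colimitCocone F).ι.app i xi = (colimitCocone F).ι.app j xj ↔
      FilteredColimit.Rel.{v, u} F ⟨i, xi⟩ ⟨j, xj⟩ := by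
  dsimp
  rw [← (equivShrink _).symm.injective.eq_iff, Equiv.symm_apply_apply, Equiv.symm_apply_apply,
    Functor.ιColimitType_eq_iff, rel_eq_eqvGen_colimitTypeRel F h1]

set_option backward.isDefEq.respectTransparency false in
theorem isColimit_eq_iff (h1 : SpanCond J) {t : Cocone F} (ht : IsColimit t) {i j : J}
    {xi : F.obj i} {xj : F.obj j} :
    t.ι.app i xi = t.ι.app j xj ↔ ∃ (k : _) (f : i ⟶ k) (g : j ⟶ k), F.map f xi = F.map g xj := by
  have : HasColimit F := ⟨_, ht⟩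
  refine Iff.trans ?_ (colimit_eq_iff_aux F h1)
  rw [← (IsColimit.coconePointUniqueUpToIso ht (colimitCoconeIsColimit F)).toEquiv.injective.eq_iff]
  convert! Iff.rfl
  · exact (congr_hom
      (IsColimit.comp_coconePointUniqueUpToIso_hom ht (colimitCoconeIsColimit F) _) xi).symm
  · exact (congr_hom
      (IsColimit.comp_coconePointUniqueUpToIso_hom ht (colimitCoconeIsColimit F) _) xj).symm

theorem colimit_eq_iff (h1 : SpanCond J) [HasColimit F] {i j : J} {xi : F.obj i} {xj : F.obj j} :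
    colimit.ι F i xi = colimit.ι F j xj ↔
      ∃ (k : _) (f : i ⟶ k) (g : j ⟶ k), F.map f xi = F.map g xj :=
  isColimit_eq_iff _ h1 (colimit.isColimit F)

end colimEq

section commute

set_option backward.defeqAttrib.useBackward true

universe v₁ v₂ u₁ u₂

open CategoryTheory.Category CategoryTheory.Limits.Types CategoryTheory.Functor
  CategoryTheory.Prod

section inj

variable {J : Type u₁} {K : Type u₂} [Category.{v₁} J] [Category.{v₂} K] [Small.{v} K]

variable (F : J × K ⥤ Type v)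

set_option backward.isDefEq.respectTransparency.types false in
theorem colimitLimitToLimitColimit_injective (h1 : SpanCond K) (h2 : CoeqCond K)
    [Finite J] [Nonempty J] :
    Function.Injective (colimitLimitToLimitColimit F) := by
  classical
    intro x y h
    obtain ⟨kx, x, rfl⟩ := jointly_surjective' x
    obtain ⟨ky, y, rfl⟩ := jointly_surjective' y
    dsimp at x y
    have h (j : J) :
        (colimit.ι ((curry.obj F).obj j) kx)
          ((limit.π ((curry.obj (swap K J ⋙ F)).obj kx) j) x) =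
        (colimit.ι ((curry.obj F).obj j) ky)
          ((limit.π ((curry.obj (swap K J ⋙ F)).obj ky) j) y) := by
      simpa using! ConcreteCategory.congr_arg (limit.π (curry.obj F ⋙ colim) j) h
    simp only [colimit_eq_iff _ h1] at h
    let k j := (h j).choose
    let f : ∀ j, kx ⟶ k j := fun j => (h j).choose_spec.choose
    let g : ∀ j, ky ⟶ k j := fun j => (h j).choose_spec.choose_spec.choose
    have w :
      ∀ j, F.map (𝟙 j ×ₘ f j) (limit.π ((curry.obj (swap K J ⋙ F)).obj kx) j x) =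
          F.map (𝟙 j ×ₘ g j) (limit.π ((curry.obj (swap K J ⋙ F)).obj ky) j y) :=
      fun j => (h j).choose_spec.choose_spec.choose_spec
    obtain ⟨S, Ta, Tb, Tk, hT⟩ := exists_common_cospan h1 h2 kx ky k f g
    apply colimit_sound' Ta Tb
    ext j
    simp only [Functor.comp_map]
    rw [← (hT j).1, ← (hT j).2]
    simpa [-curry_obj_obj_obj] using! congrArg _ (w j)

end inj

section surj

variable {J : Type u₁} {K : Type u₂} [SmallCategory J] [Category.{v₂} K] [Small.{v} K]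

variable [FinCategory J]

variable (F : J × K ⥤ Type v)

set_option backward.isDefEq.respectTransparency false in
theorem colimitLimitToLimitColimit_surjective (h1 : SpanCond K) (h2 : CoeqCond K)
    [IsConnected J] :
    Function.Surjective (colimitLimitToLimitColimit F) := by
  classical
    intro x
    have z := fun j => jointly_surjective' (limit.π (curry.obj F ⋙ Limits.colim) j x)
    let k : J → K := fun j => (z j).choose
    let y : ∀ j, F.obj (j, k j) := fun j => (z j).choose_spec.choose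
    have e : ∀ j,
        colimit.ι ((curry.obj F).obj j) (k j) (y j) = limit.π (curry.obj F ⋙ Limits.colim) j x :=
      fun j => (z j).choose_spec.choose_spec
    clear_value k y
    clear z
    -- all the `k j` have a common target
    have hT : ∀ {j j' : J} (f : j ⟶ j'), T (k j') (k j) := by
      intro j j' f
      have h3 : colimit.ι ((curry.obj F).obj j') (k j') (y j') =
          colimit.ι ((curry.obj F).obj j') (k j) (F.map (f ×ₘ 𝟙 (k j)) (y j)) := by
        rw [e, ← limit.w_apply _ f, ← e]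
        simp only [comp_obj, colim_obj, Functor.comp_map, colim_map]
        rw [← CategoryTheory.comp_apply, ι_colimMap, CategoryTheory.comp_apply]
        rfl
      rw [colimit_eq_iff _ h1] at h3
      obtain ⟨m, a, b, -⟩ := h3
      exact ⟨m, ⟨a⟩, ⟨b⟩⟩
    obtain ⟨j₀⟩ : Nonempty J := IsConnected.is_nonempty
    have hT' : ∀ j, T (k j₀) (k j) := by
      refine induct_on_objects {j | T (k j₀) (k j)} (T.refl _) ?_
      intro j₁ j₂ f
      exact ⟨fun h => T.trans h1 h (hT f).symm, fun h => T.trans h1 h (hT f)⟩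
    obtain ⟨k', -, hg⟩ := exists_common_target h1 (k j₀) k hT'
    have g : ∀ j, k j ⟶ k' := fun j => (hg j).some
    clear hg hT' hT
    have w :
      ∀ {j j' : J} (f : j ⟶ j'),
        colimit.ι ((curry.obj F).obj j') k' (F.map (𝟙 j' ×ₘ g j') (y j')) =
          colimit.ι ((curry.obj F).obj j') k' (F.map (f ×ₘ g j) (y j)) := by
      intro j j' f
      nth_rw 2 [← Bifunctor.diagonal']
      simp only [← curry_obj_obj_map, ← curry_obj_obj_obj, CategoryTheory.comp_apply,
        colimit.w_apply]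
      rw [e, ← limit.w_apply _ f, ← e]
      simp [← CategoryTheory.comp_apply, -types_comp_apply]
    simp_rw [colimit_eq_iff _ h1] at w
    let kf : ∀ {j j'} (_ : j ⟶ j'), K := fun f => (w f).choose
    let gf : ∀ {j j'} (f : j ⟶ j'), k' ⟶ kf f := fun f => (w f).choose_spec.choose
    let hf : ∀ {j j'} (f : j ⟶ j'), k' ⟶ kf f := fun f =>
      (w f).choose_spec.choose_spec.choose
    have wf :
      ∀ {j j'} (f : j ⟶ j'),
        F.map (𝟙 j' ×ₘ (g j' ≫ gf f)) (y j') = F.map (f ×ₘ (g j ≫ hf f)) (y j) :=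
      fun {j j'} f => by
      have q :
        ((curry.obj F).obj j').map (gf f) (F.map (𝟙 j' ×ₘ g j') (y j')) =
          ((curry.obj F).obj j').map (hf f) (F.map (f ×ₘ g j) (y j)) :=
        (w f).choose_spec.choose_spec.choose_spec
      convert! q using 1
      · simp [← CategoryTheory.comp_apply, -types_comp_apply]
      · simp [← CategoryTheory.comp_apply, -types_comp_apply, ← F.map_comp]
    clear_value kf gf hf
    clear w
    obtain ⟨k'', c, i', hi'⟩ := exists_common_coeq h1 h2 k' (A := Σ (j j' : J), (j ⟶ j'))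
      (fun a => kf a.2.2) (fun a => gf a.2.2) (fun a => hf a.2.2)
    let i : ∀ {j j'} (f : j ⟶ j'), kf f ⟶ k'' := fun {j} {j'} f => i' ⟨j, j', f⟩
    have s : ∀ {j₁ j₂ j₃ j₄} (f : j₁ ⟶ j₂) (f' : j₃ ⟶ j₄), gf f ≫ i f = hf f' ≫ i f' := by
      intro j₁ j₂ j₃ j₄ f f'
      rw [(hi' ⟨j₁, j₂, f⟩).1, (hi' ⟨j₃, j₄, f'⟩).2]
    clear_value i
    clear hi' i' c
    fconstructor
    · apply colimit.ι (curry.obj (swap K J ⋙ F) ⋙ Limits.lim) k'' _
      dsimp
      apply Limit.mk
      swap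
      · exact fun j => F.map (𝟙 j ×ₘ (g j ≫ gf (𝟙 j) ≫ i (𝟙 j))) (y j)
      · dsimp
        intro j j' f
        simp only [← CategoryTheory.comp_apply, ← Functor.map_comp, prod_comp, id_comp, comp_id]
        calc
          F.map (f ×ₘ (g j ≫ gf (𝟙 j) ≫ i (𝟙 j))) (y j) =
              F.map (f ×ₘ (g j ≫ hf f ≫ i f)) (y j) := by
            rw [s (𝟙 j) f]
          _ =
              F.map (𝟙 j' ×ₘ i f) (F.map (f ×ₘ (g j ≫ hf f)) (y j)) := by
            rw [← CategoryTheory.comp_apply, ← Functor.map_comp, prod_comp, comp_id, assoc]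
          _ =
              F.map (𝟙 j' ×ₘ i f) (F.map (𝟙 j' ×ₘ (g j' ≫ gf f)) (y j')) := by
            rw [← wf f]
          _ = F.map (𝟙 j' ×ₘ (g j' ≫ gf f ≫ i f)) (y j') := by
            rw [← CategoryTheory.comp_apply, ← Functor.map_comp, prod_comp, id_comp, assoc]
          _ = F.map (𝟙 j' ×ₘ (g j' ≫ gf (𝟙 j') ≫ i (𝟙 j'))) (y j') := by
            rw [s f (𝟙 j'), ← s (𝟙 j') (𝟙 j')]
    · apply limit_ext
      intro j
      simp only [comp_obj, colim_obj, lim_obj, Bifunctor.map_id_comp, id_eq,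
        ← CategoryTheory.comp_apply, assoc,
        ι_colimitLimitToLimitColimit_π, curry_obj_obj_obj, swap_obj]
      generalize_proofs _ _ _ _ h
      dsimp
      rw [← dsimp% e j, dsimp% Limit.π_mk _ _ h]
      dsimp only [comp_obj, colim_obj, ← curry_obj_obj_obj]
      rw [colimit_eq_iff _ h1]
      refine ⟨k'', 𝟙 k'', g j ≫ gf (𝟙 j) ≫ i (𝟙 j), ?_⟩
      simp

theorem colimitLimitToLimitColimit_isIso (h1 : SpanCond K) (h2 : CoeqCond K)
    [IsConnected J] : IsIso (colimitLimitToLimitColimit F) :=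
  (isIso_iff_bijective _).mpr
    ⟨colimitLimitToLimitColimit_injective F h1 h2, colimitLimitToLimitColimit_surjective F h1 h2⟩

set_option backward.isDefEq.respectTransparency false in
theorem colimitLimitToLimitColimitCone_iso (h1 : SpanCond K) (h2 : CoeqCond K)
    [IsConnected J] (F : J ⥤ K ⥤ Type v) :
    IsIso (colimitLimitToLimitColimitCone F) := by
  have := colimitLimitToLimitColimit_isIso (uncurry.obj F) h1 h2
  have : IsIso (colimitLimitToLimitColimitCone F).hom := by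
    suffices IsIso (colimitLimitToLimitColimit (uncurry.obj F) ≫
        lim.map (whiskerRight (currying.unitIso.app F).inv colim)) by
      apply IsIso.comp_isIso
    infer_instance
  apply Cone.cone_iso_of_hom_iso

end surj

/-- colimits over a "pseudo-filtered" category commute with finite connected limits in types. -/
theorem preservesLimitsOfShape_colim {K : Type v} [SmallCategory K]
    (h1 : SpanCond K) (h2 : CoeqCond K)
    (J : Type) [SmallCategory J] [FinCategory J] [IsConnected J] :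
    PreservesLimitsOfShape J (colim : (K ⥤ Type v) ⥤ Type v) := by
  refine ⟨fun {F} => ⟨fun {c} hc => ⟨IsLimit.ofIsoLimit (limit.isLimit _) ?_⟩⟩⟩
  symm
  trans colim.mapCone (limit.cone F)
  · exact Functor.mapIso _ (hc.uniqueUpToIso (limit.isLimit F))
  · have := colimitLimitToLimitColimitCone_iso h1 h2 F
    exact asIso (colimitLimitToLimitColimitCone F)

end commute

end Groth.Agent.H84.PseudoFiltered
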