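import Mathlib

set_option autoImplicit false
universe u

open CategoryTheory AlgebraicGeometry Opposite TopologicalSpace

namespace Groth.Agent.H84.PuncturedPlane

/-- Restriction of sections as a ring hom. -/
noncomputable abbrev res (X : Scheme.{u}) {V V' : X.Opens} (h : V ≤ V') : Γ(X, V') →+* Γ(X, V) :=
  (X.presheaf.map (homOfLE h).op).hom

theorem res_res (X : Scheme.{u}) {V V' V'' : X.Opens} (h : V ≤ V') (h' : V' ≤ V'')
    (x : Γ(X, V'')) : res X h (res X h' x) = res X (h.trans h') x := by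
  simp only [res]
  rw [← RingHom.comp_apply, ← CommRingCat.hom_comp, ← Functor.map_comp, ← op_comp, homOfLE_comp]

/-- If restriction to an affine open of an affine scheme is bijective on sections,
the open is everything. -/
theorem eq_top_of_bijective_res {X : Scheme.{u}} [IsAffine X] {U : X.Opens} (hU : IsAffineOpen U)
    (h : Function.Bijective (X.presheaf.map (homOfLE le_top : U ⟶ ⊤).op)) : U = ⊤ := by
  have hiso : IsIso (X.presheaf.map (homOfLE le_top : U ⟶ ⊤).op) :=
    (ConcreteCategory.isIso_iff_bijective _).mpr h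
  have h1 := (isAffineOpen_top X).map_fromSpec hU (homOfLE le_top : U ⟶ ⊤).op
  have h2 : IsIso hU.fromSpec := by
    rw [← h1, IsAffineOpen.fromSpec_top]
    infer_instance
  have hr := hU.range_fromSpec
  have hsurj : Function.Surjective hU.fromSpec := by
    have : IsIso hU.fromSpec := h2
    exact (hU.fromSpec).surjective
  apply Opens.ext
  rw [← hr, Set.range_eq_univ.mpr hsurj]
  rfl

theorem nonempty_basicOpen {X : Scheme.{u}} [IsReduced X] (s : Γ(X, ⊤)) (hs : s ≠ 0) :
    Nonempty (X.basicOpen s) := by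
  have hDs : X.basicOpen s ≠ ⊥ := fun h => hs ((basicOpen_eq_bot_iff s).mp h)
  by_contra hne
  rw [not_nonempty_iff] at hne
  apply hDs
  ext x
  simp only [SetLike.mem_coe, Opens.coe_bot, Set.mem_empty_iff_false, iff_false]
  intro hx
  exact hne.false ⟨x, hx⟩

theorem surjective_res {X : Scheme.{u}} [IsIntegral X] [IsAffine X] (s t : Γ(X, ⊤))
    (hs : s ≠ 0) (ht : t ≠ 0)
    (hcop : ∀ (n m : ℕ) (a b : Γ(X, ⊤)), a * t ^ m = b * s ^ n → s ^ n ∣ a) :
    Function.Surjective
      (X.presheaf.map (homOfLE le_top : X.basicOpen s ⊔ X.basicOpen t ⟶ ⊤).op) := by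
  intro f
  have hDs : X.basicOpen s ≠ ⊥ := fun h => hs ((basicOpen_eq_bot_iff s).mp h)
  have hDt : X.basicOpen t ≠ ⊥ := fun h => ht ((basicOpen_eq_bot_iff t).mp h)
  have hneS : Nonempty (X.basicOpen s) := by
    by_contra hne
    rw [not_nonempty_iff] at hne
    apply hDs
    ext x
    simp only [SetLike.mem_coe, Opens.coe_bot, Set.mem_empty_iff_false, iff_false]
    intro hx
    exact hne.false ⟨x, hx⟩
  have hneT : Nonempty (X.basicOpen t) := by
    by_contra hne
    rw [not_nonempty_iff] at hne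
    apply hDt
    ext x
    simp only [SetLike.mem_coe, Opens.coe_bot, Set.mem_empty_iff_false, iff_false]
    intro hx
    exact hne.false ⟨x, hx⟩
  have hneW : Nonempty (X.basicOpen s ⊓ X.basicOpen t : X.Opens) := by
    obtain ⟨⟨x, hx⟩⟩ := hneS
    obtain ⟨⟨y, hy⟩⟩ := hneT
    obtain ⟨z, hz1, hz2⟩ := nonempty_preirreducible_inter (X.basicOpen s).2 (X.basicOpen t).2
      ⟨x, hx⟩ ⟨y, hy⟩
    exact ⟨⟨z, hz1, hz2⟩⟩
  have hUs : X.basicOpen s ≤ X.basicOpen s ⊔ X.basicOpen t := le_sup_left
  have hUt : X.basicOpen t ≤ X.basicOpen s ⊔ X.basicOpen t := le_sup_right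
  have hWs : X.basicOpen s ⊓ X.basicOpen t ≤ X.basicOpen s := inf_le_left
  have hWt : X.basicOpen s ⊓ X.basicOpen t ≤ X.basicOpen t := inf_le_right
  have locS : IsLocalization.Away s Γ(X, X.basicOpen s) :=
    (isAffineOpen_top X).isLocalization_basicOpen s
  have locT : IsLocalization.Away t Γ(X, X.basicOpen t) :=
    (isAffineOpen_top X).isLocalization_basicOpen t
  obtain ⟨n, a, ha⟩ := IsLocalization.Away.surj s (res X hUs f)
  obtain ⟨m, b, hb⟩ := IsLocalization.Away.surj t (res X hUt f)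
  have ha' : res X hUs f * (res X le_top s) ^ n = res X le_top a := ha
  have hb' : res X hUt f * (res X le_top t) ^ m = res X le_top b := hb
  have hinjW : Function.Injective (res X (le_top : X.basicOpen s ⊓ X.basicOpen t ≤ ⊤)) :=
    map_injective_of_isIntegral X (homOfLE le_top)
  have key : a * t ^ m = b * s ^ n := by
    apply hinjW
    have e1 := congrArg (res X hWs) ha'
    have e2 := congrArg (res X hWt) hb'
    rw [map_mul, map_pow, res_res, res_res, res_res] at e1 e2
    rw [map_mul, map_mul, map_pow, map_pow, ← e1, ← e2]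
    ring
  obtain ⟨a', rfl⟩ := hcop n m a b key
  refine ⟨a', ?_⟩
  have hinjS : Function.Injective (res X hUs) :=
    map_injective_of_isIntegral X (homOfLE hUs)
  apply hinjS
  change res X hUs (res X le_top a') = res X hUs f
  rw [res_res]
  have hu : IsUnit (res X (le_top : X.basicOpen s ≤ ⊤) s) :=
    IsLocalization.Away.algebraMap_isUnit (S := Γ(X, X.basicOpen s)) s
  apply (hu.pow n).mul_left_injective
  simp only
  rw [ha', map_mul, map_pow, mul_comm]

theorem bijective_res {X : Scheme.{u}} [IsIntegral X] [IsAffine X] (s t : Γ(X, ⊤))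
    (hs : s ≠ 0) (ht : t ≠ 0)
    (hcop : ∀ (n m : ℕ) (a b : Γ(X, ⊤)), a * t ^ m = b * s ^ n → s ^ n ∣ a) :
    Function.Bijective
      (X.presheaf.map (homOfLE le_top : X.basicOpen s ⊔ X.basicOpen t ⟶ ⊤).op) := by
  refine ⟨?_, surjective_res s t hs ht hcop⟩
  obtain ⟨⟨x, hx⟩⟩ := nonempty_basicOpen s hs
  have : Nonempty (X.basicOpen s ⊔ X.basicOpen t : X.Opens) := ⟨⟨x, Or.inl hx⟩⟩
  exact map_injective_of_isIntegral X (homOfLE le_top)

/-- For an integral affine scheme and nonzero global sections `s`, `t` that are "coprime"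
in the sense `a t^m = b s^n → s^n ∣ a`, the open `D(s) ∪ D(t)` is affine only if it is everything. -/
theorem eq_top_of_isAffineOpen {X : Scheme.{u}} [IsIntegral X] [IsAffine X] (s t : Γ(X, ⊤))
    (hs : s ≠ 0) (ht : t ≠ 0)
    (hcop : ∀ (n m : ℕ) (a b : Γ(X, ⊤)), a * t ^ m = b * s ^ n → s ^ n ∣ a)
    (hU : IsAffineOpen (X.basicOpen s ⊔ X.basicOpen t)) :
    X.basicOpen s ⊔ X.basicOpen t = ⊤ :=
  eq_top_of_bijective_res hU (bijective_res s t hs ht hcop)

/-- The punctured affine plane is not affine. -/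
theorem not_isAffineOpen_plane (K : Type u) [Field K] :
    ¬ IsAffineOpen (X := Spec (CommRingCat.of (MvPolynomial (Fin 2) K)))
      (PrimeSpectrum.basicOpen (MvPolynomial.X 0 : MvPolynomial (Fin 2) K) ⊔
        PrimeSpectrum.basicOpen (MvPolynomial.X 1 : MvPolynomial (Fin 2) K)) := by
  intro hU
  let R := CommRingCat.of (MvPolynomial (Fin 2) K)
  let e : Γ(Spec R, ⊤) ≃+* R := (Scheme.ΓSpecIso R).commRingCatIsoToRingEquiv
  let s' : Γ(Spec R, ⊤) := e.symm (MvPolynomial.X 0)
  let t' : Γ(Spec R, ⊤) := e.symm (MvPolynomial.X 1)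
  have hs : (Spec R).basicOpen s' = PrimeSpectrum.basicOpen (MvPolynomial.X 0 : R) :=
    basicOpen_eq_of_affine (R := R) (MvPolynomial.X 0)
  have ht : (Spec R).basicOpen t' = PrimeSpectrum.basicOpen (MvPolynomial.X 1 : R) :=
    basicOpen_eq_of_affine (R := R) (MvPolynomial.X 1)
  have hU' : IsAffineOpen ((Spec R).basicOpen s' ⊔ (Spec R).basicOpen t') := by
    rw [hs, ht]; exact hU
  have hs0 : s' ≠ 0 := by
    intro h
    have := congrArg e h
    simp only [s', RingEquiv.apply_symm_apply, map_zero] at this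
    exact MvPolynomial.X_ne_zero (0 : Fin 2) this
  have ht0 : t' ≠ 0 := by
    intro h
    have := congrArg e h
    simp only [t', RingEquiv.apply_symm_apply, map_zero] at this
    exact MvPolynomial.X_ne_zero (1 : Fin 2) this
  have hcop : ∀ (n m : ℕ) (a b : Γ(Spec R, ⊤)), a * t' ^ m = b * s' ^ n → s' ^ n ∣ a := by
    intro n m a b hab
    have h1 := congrArg e hab
    simp only [map_mul, map_pow, s', t', RingEquiv.apply_symm_apply] at h1
    have hp : Prime (MvPolynomial.X 0 : MvPolynomial (Fin 2) K) := MvPolynomial.X_prime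
    have hnd : ¬ (MvPolynomial.X 0 : MvPolynomial (Fin 2) K) ∣ (MvPolynomial.X 1) ^ m := by
      intro hd
      have := hp.dvd_of_dvd_pow hd
      rw [MvPolynomial.X_dvd_X] at this
      exact absurd this (by decide)
    have h2 : (MvPolynomial.X 0 : MvPolynomial (Fin 2) K) ^ n ∣ e a * (MvPolynomial.X 1) ^ m := by
      rw [h1]; exact Dvd.intro_left _ rfl
    obtain ⟨c, hc⟩ := hp.pow_dvd_of_dvd_mul_right n hnd h2
    refine ⟨e.symm c, ?_⟩
    apply e.injective
    simp only [map_mul, map_pow, s', RingEquiv.apply_symm_apply]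
    exact hc
  have htop := eq_top_of_isAffineOpen s' t' hs0 ht0 hcop hU'
  rw [hs, ht] at htop
  let x0 : PrimeSpectrum (MvPolynomial (Fin 2) K) :=
    ⟨RingHom.ker (MvPolynomial.constantCoeff (R := K) (σ := Fin 2)), RingHom.ker_isPrime _⟩
  have hx0 : x0 ∈ (⊤ : (Spec R).Opens) := trivial
  rw [← htop] at hx0
  rcases hx0 with h | h
  · exact h (by simp [x0, RingHom.mem_ker])
  · exact h (by simp [x0, RingHom.mem_ker])

end Groth.Agent.H84.PuncturedPlane
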