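import Groth.Agent.H84.StrictPull

/-!
# Extending descent data from a sieve to its image under a pullback-preserving functor

Let `u : C ⥤ D` preserve pullbacks, `R` a sieve on `U` and `𝒮` fibred in groupoids over `D`.  A
functor `E` over `D` from the sieve category of `R` (viewed over `D` through `u`) to `𝒮` extends to
a functor over `D` from the sieve category of the sieve generated by the image of `R`.
-/

set_option autoImplicit false
set_option backward.isDefEq.respectTransparency false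
set_option backward.isDefEq.respectTransparency.types false
open CategoryTheory CategoryTheory.Limits
universe v₃ u₃ v₂ u₂ v u

namespace Groth.Agent.H84.PushDescent

open Groth.Agent.H32 Groth.Agent.H64 Groth.Agent.H84.StkConcrete Groth.Agent.H84.StkObjSieve
  Groth.Agent.H84.StkFaithfulFp Groth.Agent.H84.StkRefine

variable {C : Type u} [Category.{v} C] {D : Type u₂} [Category.{v₂} D] (u : C ⥤ D)
  {U : C} (R : Sieve U)

/-- the sieve category of `R` as a category over `D` through `u` -/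
abbrev pushCat : BasedCategory.{v, max u v} D := BasedCategory.ofFunctor (R.arrows.diagram ⋙ u)

/-- the image of an arrow of `R` in the pushed-forward sieve -/
def img (r : (Stk.sieveCat R).obj) : (Stk.sieveCat (R.functorPushforward u)).obj :=
  ⟨Over.mk (u.map r.obj.hom), Sieve.image_mem_functorPushforward u R r.property⟩

/-- the image of a morphism of the sieve category -/
def imgMap {r' r : (Stk.sieveCat R).obj} (m : r' ⟶ r) : img u R r' ⟶ img u R r :=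
  mkHom (R.functorPushforward u) (r' := img u R r') (r := img u R r) (u.map m.hom.left) (by
    show u.map m.hom.left ≫ u.map r.obj.hom = u.map r'.obj.hom
    rw [← u.map_comp, Over.w])

section pb

variable [HasPullbacks C] {R}

/-- the pullback of two arrows of the sieve, as an arrow of the sieve -/
noncomputable def pbObj (r₀ r : (Stk.sieveCat R).obj) : (Stk.sieveCat R).obj :=
  mkObj R (pullback.fst r₀.obj.hom r.obj.hom ≫ r₀.obj.hom) (R.downward_closed r₀.property _)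

noncomputable def pbFst (r₀ r : (Stk.sieveCat R).obj) : pbObj r₀ r ⟶ r₀ :=
  mkHom R (r' := pbObj r₀ r) (r := r₀) (pullback.fst r₀.obj.hom r.obj.hom) rfl

noncomputable def pbSnd (r₀ r : (Stk.sieveCat R).obj) : pbObj r₀ r ⟶ r :=
  mkHom R (r' := pbObj r₀ r) (r := r) (pullback.snd r₀.obj.hom r.obj.hom) pullback.condition.symm

/-- the morphism between pullbacks induced by a morphism of the second factor -/
noncomputable def pbMap (r₀ : (Stk.sieveCat R).obj) {r r' : (Stk.sieveCat R).obj} (m : r ⟶ r') :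
    pbObj r₀ r ⟶ pbObj r₀ r' :=
  mkHom R (r' := pbObj r₀ r) (r := pbObj r₀ r')
    (pullback.lift (pullback.fst r₀.obj.hom r.obj.hom)
      (pullback.snd r₀.obj.hom r.obj.hom ≫ m.hom.left) (by
        rw [Category.assoc, Over.w m.hom]; exact pullback.condition)) (by
    show pullback.lift _ _ _ ≫ pullback.fst r₀.obj.hom r'.obj.hom ≫ r₀.obj.hom =
      pullback.fst r₀.obj.hom r.obj.hom ≫ r₀.obj.hom
    rw [pullback.lift_fst_assoc])

theorem pbMap_fst (r₀ : (Stk.sieveCat R).obj) {r r' : (Stk.sieveCat R).obj} (m : r ⟶ r') :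
    pbMap r₀ m ≫ pbFst r₀ r' = pbFst r₀ r := by
  apply mkHom_ext
  show pullback.lift _ _ _ ≫ pullback.fst r₀.obj.hom r'.obj.hom = pullback.fst r₀.obj.hom r.obj.hom
  rw [pullback.lift_fst]

theorem pbMap_snd (r₀ : (Stk.sieveCat R).obj) {r r' : (Stk.sieveCat R).obj} (m : r ⟶ r') :
    pbMap r₀ m ≫ pbSnd r₀ r' = pbSnd r₀ r ≫ m := by
  apply mkHom_ext
  show pullback.lift _ _ _ ≫ pullback.snd r₀.obj.hom r'.obj.hom =
    pullback.snd r₀.obj.hom r.obj.hom ≫ m.hom.left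
  rw [pullback.lift_snd]

variable [PreservesLimitsOfShape WalkingCospan u]

theorem isPullback_map (r₀ r : (Stk.sieveCat R).obj) :
    IsPullback (u.map (pbFst r₀ r).hom.left) (u.map (pbSnd r₀ r).hom.left)
      (u.map r₀.obj.hom) (u.map r.obj.hom) :=
  (IsPullback.of_hasPullback r₀.obj.hom r.obj.hom).map u

/-- the arrow into the image of the pullback -/
noncomputable def pbLift {r₀ r : (Stk.sieveCat R).obj} {W : D} (h₀ : W ⟶ u.obj r₀.obj.left)
    (h : W ⟶ u.obj r.obj.left) (hh : h₀ ≫ u.map r₀.obj.hom = h ≫ u.map r.obj.hom) :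
    W ⟶ u.obj (pbObj r₀ r).obj.left :=
  (isPullback_map u r₀ r).lift h₀ h hh

theorem pbLift_fst {r₀ r : (Stk.sieveCat R).obj} {W : D} (h₀ : W ⟶ u.obj r₀.obj.left)
    (h : W ⟶ u.obj r.obj.left) (hh : h₀ ≫ u.map r₀.obj.hom = h ≫ u.map r.obj.hom) :
    pbLift u h₀ h hh ≫ u.map (pbFst r₀ r).hom.left = h₀ :=
  (isPullback_map u r₀ r).lift_fst h₀ h hh

theorem pbLift_snd {r₀ r : (Stk.sieveCat R).obj} {W : D} (h₀ : W ⟶ u.obj r₀.obj.left)
    (h : W ⟶ u.obj r.obj.left) (hh : h₀ ≫ u.map r₀.obj.hom = h ≫ u.map r.obj.hom) :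
    pbLift u h₀ h hh ≫ u.map (pbSnd r₀ r).hom.left = h :=
  (isPullback_map u r₀ r).lift_snd h₀ h hh

theorem pbLift_ext {r₀ r : (Stk.sieveCat R).obj} {W : D} {q q' : W ⟶ u.obj (pbObj r₀ r).obj.left}
    (h1 : q ≫ u.map (pbFst r₀ r).hom.left = q' ≫ u.map (pbFst r₀ r).hom.left)
    (h2 : q ≫ u.map (pbSnd r₀ r).hom.left = q' ≫ u.map (pbSnd r₀ r).hom.left) : q = q' :=
  (isPullback_map u r₀ r).hom_ext h1 h2

theorem pbLift_map {r₀ r r' : (Stk.sieveCat R).obj} (m : r ⟶ r') {W : D}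
    (h₀ : W ⟶ u.obj r₀.obj.left) (h : W ⟶ u.obj r.obj.left)
    (hh : h₀ ≫ u.map r₀.obj.hom = h ≫ u.map r.obj.hom) (h' : W ⟶ u.obj r'.obj.left)
    (hh' : h₀ ≫ u.map r₀.obj.hom = h' ≫ u.map r'.obj.hom) (e : h ≫ u.map m.hom.left = h') :
    pbLift u h₀ h hh ≫ u.map (pbMap r₀ m).hom.left = pbLift u h₀ h' hh' := by
  apply pbLift_ext u
  · rw [Category.assoc, ← u.map_comp, pbLift_fst]
    have : (pbMap r₀ m).hom.left ≫ (pbFst r₀ r').hom.left = (pbFst r₀ r).hom.left :=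
      congrArg (fun k => k.hom.left) (pbMap_fst r₀ m)
    rw [this, pbLift_fst]
  · rw [Category.assoc, ← u.map_comp, pbLift_snd]
    have : (pbMap r₀ m).hom.left ≫ (pbSnd r₀ r').hom.left = (pbSnd r₀ r).hom.left ≫ m.hom.left :=
      congrArg (fun k => k.hom.left) (pbMap_snd r₀ m)
    rw [this, u.map_comp, ← Category.assoc, pbLift_snd, e]

end pb

section sig

variable [HasPullbacks C] [PreservesLimitsOfShape WalkingCospan u] {𝒮 : BasedCategory.{v₃, u₃} D}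
  (h𝒮 : FibCat.IsFibGrpd 𝒮.p) {R} (E : pushCat u R ⥤ᵇ 𝒮)

omit [HasPullbacks C] [PreservesLimitsOfShape WalkingCospan u] in
theorem E_lift {r' r : (Stk.sieveCat R).obj} (m : r' ⟶ r) :
    𝒮.p.IsHomLift (u.map m.hom.left) (E.map m) := by
  have h0 : (pushCat u R).p.IsHomLift (u.map m.hom.left) m := IsHomLift.map (pushCat u R).p m
  exact BasedFunctor.preserves_isHomLift (𝒳 := pushCat u R) E (u.map m.hom.left) m

omit [HasPullbacks C] [PreservesLimitsOfShape WalkingCospan u] in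
theorem E_obj (r : (Stk.sieveCat R).obj) : 𝒮.p.obj (E.obj r) = u.obj r.obj.left := E.w_obj r

include h𝒮 in
omit [HasPullbacks C] [PreservesLimitsOfShape WalkingCospan u] in
theorem E_cart {r' r : (Stk.sieveCat R).obj} (m : r' ⟶ r) :
    𝒮.p.IsStronglyCartesian (u.map m.hom.left) (E.map m) :=
  cart_of_fibGrpd 𝒮.p h𝒮 (E_lift u E m)

omit [HasPullbacks C] [PreservesLimitsOfShape WalkingCospan u] in
theorem E_comp {r'' r' r : (Stk.sieveCat R).obj} (m : r'' ⟶ r') (m' : r' ⟶ r) :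
    E.map m ≫ E.map m' = E.map (m ≫ m') := (E.toFunctor.map_comp m m').symm

/-- the morphism to the value at another factorization induced by a lift at one factorization -/
noncomputable def sig {r₀ : (Stk.sieveCat R).obj} {W : D} (h₀ : W ⟶ u.obj r₀.obj.left) {a : 𝒮.obj}
    (lam : a ⟶ E.obj r₀) (hlam : 𝒮.p.IsHomLift h₀ lam) (r : (Stk.sieveCat R).obj)
    (h : W ⟶ u.obj r.obj.left) (hh : h₀ ≫ u.map r₀.obj.hom = h ≫ u.map r.obj.hom) :
    a ⟶ E.obj r :=
  cartLift 𝒮.p (E_cart u h𝒮 E (pbFst r₀ r)) (pbLift u h₀ h hh) lam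
    (lift_of_eq 𝒮.p hlam (pbLift_fst u h₀ h hh).symm) ≫ E.map (pbSnd r₀ r)

theorem sig_lift {r₀ : (Stk.sieveCat R).obj} {W : D} (h₀ : W ⟶ u.obj r₀.obj.left) {a : 𝒮.obj}
    (lam : a ⟶ E.obj r₀) (hlam : 𝒮.p.IsHomLift h₀ lam) (r : (Stk.sieveCat R).obj)
    (h : W ⟶ u.obj r.obj.left) (hh : h₀ ≫ u.map r₀.obj.hom = h ≫ u.map r.obj.hom) :
    𝒮.p.IsHomLift h (sig u h𝒮 E h₀ lam hlam r h hh) :=
  lift_of_eq 𝒮.p (lift_comp 𝒮.p (cartLift_lift 𝒮.p (E_cart u h𝒮 E (pbFst r₀ r)) _ lam _)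
    (E_lift u E (pbSnd r₀ r))) (pbLift_snd u h₀ h hh)

theorem sig_compat {r₀ : (Stk.sieveCat R).obj} {W : D} (h₀ : W ⟶ u.obj r₀.obj.left) {a : 𝒮.obj}
    (lam : a ⟶ E.obj r₀) (hlam : 𝒮.p.IsHomLift h₀ lam) {r r' : (Stk.sieveCat R).obj} (m : r ⟶ r')
    (h : W ⟶ u.obj r.obj.left) (hh : h₀ ≫ u.map r₀.obj.hom = h ≫ u.map r.obj.hom)
    (h' : W ⟶ u.obj r'.obj.left) (hh' : h₀ ≫ u.map r₀.obj.hom = h' ≫ u.map r'.obj.hom)
    (e : h ≫ u.map m.hom.left = h') :
    sig u h𝒮 E h₀ lam hlam r h hh ≫ E.map m = sig u h𝒮 E h₀ lam hlam r' h' hh' := by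
  have hc := E_cart u h𝒮 E (pbFst r₀ r)
  have hc' := E_cart u h𝒮 E (pbFst r₀ r')
  have hl := lift_of_eq 𝒮.p hlam (pbLift_fst u h₀ h hh).symm
  have hl' := lift_of_eq 𝒮.p hlam (pbLift_fst u h₀ h' hh').symm
  -- the two lifts are related by the map between the pullbacks
  have e1 : cartLift 𝒮.p hc (pbLift u h₀ h hh) lam hl ≫ E.map (pbMap r₀ m) =
      cartLift 𝒮.p hc' (pbLift u h₀ h' hh') lam hl' := by
    have hL : 𝒮.p.IsHomLift (pbLift u h₀ h' hh')
        (cartLift 𝒮.p hc (pbLift u h₀ h hh) lam hl ≫ E.map (pbMap r₀ m)) :=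
      lift_of_eq 𝒮.p (lift_comp 𝒮.p (cartLift_lift 𝒮.p hc _ lam hl) (E_lift u E (pbMap r₀ m)))
        (pbLift_map u m h₀ h hh h' hh' e)
    apply cart_ext 𝒮.p hc' _ hL (cartLift_lift 𝒮.p hc' _ lam hl')
    rw [Category.assoc, E_comp, pbMap_fst, cartLift_fac, cartLift_fac]
  show (cartLift 𝒮.p hc (pbLift u h₀ h hh) lam hl ≫ E.map (pbSnd r₀ r)) ≫ E.map m =
    cartLift 𝒮.p hc' (pbLift u h₀ h' hh') lam hl' ≫ E.map (pbSnd r₀ r')
  rw [← e1, Category.assoc, Category.assoc, E_comp, E_comp, pbMap_snd]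

/-- a compatible system of morphisms from an object over the source of an arrow of the
pushed-forward sieve to the values of `E` at all factorizations of that arrow -/
structure SigSys (ρ : (Stk.sieveCat (R.functorPushforward u)).obj) where
  /-- the object -/
  a : 𝒮.obj
  ha : 𝒮.p.obj a = ρ.obj.left
  /-- the morphisms -/
  σ : ∀ (r : (Stk.sieveCat R).obj) (h : ρ.obj.left ⟶ u.obj r.obj.left),
    h ≫ u.map r.obj.hom = ρ.obj.hom → (a ⟶ E.obj r)
  lift : ∀ r h hh, 𝒮.p.IsHomLift h (σ r h hh)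
  compat : ∀ {r r' : (Stk.sieveCat R).obj} (m : r ⟶ r') (h : ρ.obj.left ⟶ u.obj r.obj.left)
    (hh : h ≫ u.map r.obj.hom = ρ.obj.hom) (h' : ρ.obj.left ⟶ u.obj r'.obj.left)
    (hh' : h' ≫ u.map r'.obj.hom = ρ.obj.hom), h ≫ u.map m.hom.left = h' →
    σ r h hh ≫ E.map m = σ r' h' hh'

include h𝒮 in
theorem nonempty_sigSys (ρ : (Stk.sieveCat (R.functorPushforward u)).obj) :
    Nonempty (SigSys u E ρ) := by
  obtain ⟨V, f, h₀, hf, e⟩ := ρ.property
  have e' : h₀ ≫ u.map (mkObj R f hf).obj.hom = ρ.obj.hom := e.symm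
  obtain ⟨a, lam, hlam⟩ := exists_lift_over h𝒮 (E_obj u E (mkObj R f hf)) h₀
  exact ⟨{ a := a
           ha := lift_domain_eq 𝒮.p hlam
           σ := fun r h hh => sig u h𝒮 E h₀ lam hlam r h (e'.trans hh.symm)
           lift := fun r h hh => sig_lift u h𝒮 E h₀ lam hlam r h _
           compat := fun m h hh h' hh' e'' =>
             sig_compat u h𝒮 E h₀ lam hlam m h _ h' _ e'' }⟩

include h𝒮 in
theorem existsUnique_mor_aux {ρ' ρ : (Stk.sieveCat (R.functorPushforward u)).obj} (w : ρ' ⟶ ρ)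
    (X' : SigSys u E ρ') (X : SigSys u E ρ) (r₀ : (Stk.sieveCat R).obj)
    (h₀ : ρ.obj.left ⟶ u.obj r₀.obj.left) (hh₀ : h₀ ≫ u.map r₀.obj.hom = ρ.obj.hom) :
    ∃! φ : X'.a ⟶ X.a, 𝒮.p.IsHomLift w.hom.left φ ∧
      ∀ (r : (Stk.sieveCat R).obj) (h : ρ.obj.left ⟶ u.obj r.obj.left)
        (hh : h ≫ u.map r.obj.hom = ρ.obj.hom) (h' : ρ'.obj.left ⟶ u.obj r.obj.left)
        (hh' : h' ≫ u.map r.obj.hom = ρ'.obj.hom), h' = w.hom.left ≫ h →
        φ ≫ X.σ r h hh = X'.σ r h' hh' := by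
  have hw : w.hom.left ≫ ρ.obj.hom = ρ'.obj.hom := Over.w w.hom
  have hh₀' : (w.hom.left ≫ h₀) ≫ u.map r₀.obj.hom = ρ'.obj.hom := by
    rw [Category.assoc, hh₀, hw]
  have hc₀ : 𝒮.p.IsStronglyCartesian h₀ (X.σ r₀ h₀ hh₀) := cart_of_fibGrpd 𝒮.p h𝒮 (X.lift r₀ h₀ hh₀)
  have hl₀ : 𝒮.p.IsHomLift (w.hom.left ≫ h₀) (X'.σ r₀ (w.hom.left ≫ h₀) hh₀') :=
    X'.lift r₀ (w.hom.left ≫ h₀) hh₀'
  refine ⟨cartLift 𝒮.p hc₀ w.hom.left _ hl₀, ⟨cartLift_lift 𝒮.p hc₀ w.hom.left _ hl₀, ?_⟩, ?_⟩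
  · intro r h hh h' hh' eh
    subst eh
    -- pass through the pullback of the two factorizations
    have hhh : h₀ ≫ u.map r₀.obj.hom = h ≫ u.map r.obj.hom := hh₀.trans hh.symm
    have hq : pbLift u h₀ h hhh ≫ u.map (pbObj r₀ r).obj.hom = ρ.obj.hom := by
      have : (pbObj r₀ r).obj.hom = (pbFst r₀ r).hom.left ≫ r₀.obj.hom := rfl
      rw [this, u.map_comp, ← Category.assoc, pbLift_fst, hh₀]
    have hq' : (w.hom.left ≫ pbLift u h₀ h hhh) ≫ u.map (pbObj r₀ r).obj.hom = ρ'.obj.hom := by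
      rw [Category.assoc, hq, hw]
    have c1 := X.compat (pbFst r₀ r) _ hq h₀ hh₀ (pbLift_fst u h₀ h hhh)
    have c2 := X.compat (pbSnd r₀ r) _ hq h hh (pbLift_snd u h₀ h hhh)
    have c1' := X'.compat (pbFst r₀ r) _ hq' (w.hom.left ≫ h₀) hh₀' (by
      rw [Category.assoc, pbLift_fst])
    have c2' := X'.compat (pbSnd r₀ r) _ hq' (w.hom.left ≫ h) hh' (by
      rw [Category.assoc, pbLift_snd])
    have key : cartLift 𝒮.p hc₀ w.hom.left _ hl₀ ≫ X.σ (pbObj r₀ r) _ hq =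
        X'.σ (pbObj r₀ r) _ hq' := by
      apply cart_ext 𝒮.p (E_cart u h𝒮 E (pbFst r₀ r)) _
        (lift_comp 𝒮.p (cartLift_lift 𝒮.p hc₀ w.hom.left _ hl₀) (X.lift _ _ hq)) (X'.lift _ _ hq')
      rw [Category.assoc, c1, c1', cartLift_fac]
    rw [← c2, ← Category.assoc, key, c2']
  · rintro φ ⟨hφl, hφ⟩
    apply cart_ext 𝒮.p hc₀ w.hom.left hφl (cartLift_lift 𝒮.p hc₀ w.hom.left _ hl₀)
    rw [cartLift_fac]
    exact hφ r₀ h₀ hh₀ _ hh₀' rfl

include h𝒮 in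
/-- morphisms between the objects of two compatible systems -/
theorem existsUnique_mor {ρ' ρ : (Stk.sieveCat (R.functorPushforward u)).obj} (w : ρ' ⟶ ρ)
    (X' : SigSys u E ρ') (X : SigSys u E ρ) :
    ∃! φ : X'.a ⟶ X.a, 𝒮.p.IsHomLift w.hom.left φ ∧
      ∀ (r : (Stk.sieveCat R).obj) (h : ρ.obj.left ⟶ u.obj r.obj.left)
        (hh : h ≫ u.map r.obj.hom = ρ.obj.hom) (h' : ρ'.obj.left ⟶ u.obj r.obj.left)
        (hh' : h' ≫ u.map r.obj.hom = ρ'.obj.hom), h' = w.hom.left ≫ h →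
        φ ≫ X.σ r h hh = X'.σ r h' hh' := by
  obtain ⟨V, f, h₀, hf, e⟩ := ρ.property
  exact existsUnique_mor_aux u h𝒮 E w X' X (mkObj R f hf) h₀ e.symm

include h𝒮 in
/-- extension of a functor on the sieve category of `R` over `D` to the sieve category of the
pushed-forward sieve -/
theorem exists_extension :
    ∃ (G : Stk.sieveCat (R.functorPushforward u) ⥤ᵇ 𝒮)
      (κ : ∀ r : (Stk.sieveCat R).obj, G.obj (img u R r) ⟶ E.obj r),
      (∀ r, 𝒮.p.IsHomLift (𝟙 (u.obj r.obj.left)) (κ r)) ∧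
      ∀ {r' r : (Stk.sieveCat R).obj} (m : r' ⟶ r),
        G.map (imgMap u R m) ≫ κ r = κ r' ≫ E.map m := by
  have X : ∀ ρ : (Stk.sieveCat (R.functorPushforward u)).obj, SigSys u E ρ := fun ρ =>
    Classical.choice (nonempty_sigSys u h𝒮 E ρ)
  have hmor : ∀ {ρ' ρ : (Stk.sieveCat (R.functorPushforward u)).obj} (w : ρ' ⟶ ρ),
      ∃ φ : (X ρ').a ⟶ (X ρ).a, (𝒮.p.IsHomLift w.hom.left φ ∧
      ∀ (r : (Stk.sieveCat R).obj) (h : ρ.obj.left ⟶ u.obj r.obj.left)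
        (hh : h ≫ u.map r.obj.hom = ρ.obj.hom) (h' : ρ'.obj.left ⟶ u.obj r.obj.left)
        (hh' : h' ≫ u.map r.obj.hom = ρ'.obj.hom), h' = w.hom.left ≫ h →
        φ ≫ (X ρ).σ r h hh = (X ρ').σ r h' hh') ∧
      ∀ φ' : (X ρ').a ⟶ (X ρ).a, 𝒮.p.IsHomLift w.hom.left φ' →
        (∀ (r : (Stk.sieveCat R).obj) (h : ρ.obj.left ⟶ u.obj r.obj.left)
          (hh : h ≫ u.map r.obj.hom = ρ.obj.hom) (h' : ρ'.obj.left ⟶ u.obj r.obj.left)
          (hh' : h' ≫ u.map r.obj.hom = ρ'.obj.hom), h' = w.hom.left ≫ h →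
          φ' ≫ (X ρ).σ r h hh = (X ρ').σ r h' hh') → φ' = φ := by
    intro ρ' ρ w
    obtain ⟨φ, hφ, huniq⟩ := existsUnique_mor u h𝒮 E w (X ρ') (X ρ)
    exact ⟨φ, hφ, fun φ' h1 h2 => huniq φ' ⟨h1, h2⟩⟩
  choose Gmap Gspec Guniq using @hmor
  let Gf : (Stk.sieveCat (R.functorPushforward u)).obj ⥤ 𝒮.obj :=
    { obj := fun ρ => (X ρ).a
      map := fun {ρ' ρ} w => Gmap w
      map_id := fun ρ => by
        symm
        apply Guniq (𝟙 ρ) (𝟙 _) (lift_id_of_obj 𝒮.p (X ρ).ha)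
        intro r h hh h' hh' eh
        have e : h' = h := eh.trans (Category.id_comp h)
        subst e
        exact Category.id_comp _
      map_comp := fun {ρ₁ ρ₂ ρ₃} w w' => by
        symm
        apply Guniq (w ≫ w') (Gmap w ≫ Gmap w') (lift_comp 𝒮.p (Gspec w).1 (Gspec w').1)
        intro r h hh h' hh' eh
        have hh₂ : (w'.hom.left ≫ h) ≫ u.map r.obj.hom = ρ₂.obj.hom := by
          rw [Category.assoc, hh]; exact Over.w w'.hom
        have e1 := (Gspec w').2 r h hh (w'.hom.left ≫ h) hh₂ rfl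
        have e2 := (Gspec w).2 r (w'.hom.left ≫ h) hh₂ h' hh' (by
          rw [eh]; exact Category.assoc _ _ _)
        rw [Category.assoc, e1, e2] }
  let G : Stk.sieveCat (R.functorPushforward u) ⥤ᵇ 𝒮 :=
    mkBasedFunctor Gf (fun {ρ' ρ} w => (Gspec w).1)
  have hκ : ∀ r : (Stk.sieveCat R).obj,
      𝟙 (u.obj r.obj.left) ≫ u.map r.obj.hom = (img u R r).obj.hom := fun r => Category.id_comp _
  refine ⟨G, fun r => (X (img u R r)).σ r (𝟙 _) (hκ r), fun r => (X (img u R r)).lift r (𝟙 _) (hκ r),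
    fun {r' r} m => ?_⟩
  have hh' : u.map m.hom.left ≫ u.map r.obj.hom = (img u R r').obj.hom := by
    show u.map m.hom.left ≫ u.map r.obj.hom = u.map r'.obj.hom
    rw [← u.map_comp, Over.w]
  have e1 := (Gspec (imgMap u R m)).2 r (𝟙 _) (hκ r) (u.map m.hom.left) hh'
    (Category.comp_id _).symm
  have e2 := (X (img u R r')).compat m (𝟙 _) (hκ r') (u.map m.hom.left) hh' (Category.id_comp _)
  exact e1.trans e2.symm

end sig

end Groth.Agent.H84.PushDescent
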