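import Mathlib
import Groth.Prelude.Def_CohCmp

/-!
# Restriction of cohomology classes between opens (`CohPull.resLE`): an `Ext`-formula, naturality
in the module and compatibility with the connecting homomorphisms `CohCmp.extδ`.
-/

set_option autoImplicit false
set_option backward.isDefEq.respectTransparency false
set_option backward.isDefEq.respectTransparency.types false
universe u
open CategoryTheory Limits AlgebraicGeometry Opposite TopologicalSpace

namespace Groth.Agent.H84.SectCmpRes

open AlgebraicGeometry.Scheme.Modules Abelian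

variable {X Y : Scheme.{u}}

/-! ### naturality of `theta` -/

lemma theta_naturality (g : X ⟶ Y) {M N : Y.Modules} (φ : M ⟶ N) :
    (CohPull.inv g.base).map ((SheafOfModules.toSheaf Y.ringCatSheaf).map φ) ≫ CohPull.theta g N =
      CohPull.theta g M ≫
        (SheafOfModules.toSheaf X.ringCatSheaf).map ((Scheme.Modules.pullback g).map φ) := by
  apply ((CohPull.invPushAdj g.base).homEquiv _ _).injective
  rw [Adjunction.homEquiv_naturality_left, Adjunction.homEquiv_naturality_right]
  dsimp only [CohPull.theta]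
  rw [Equiv.apply_symm_apply, Equiv.apply_symm_apply]
  have h := (Scheme.Modules.pullbackPushforwardAdjunction g).unit.naturality φ
  have h2 := congrArg (fun t => (SheafOfModules.toSheaf Y.ringCatSheaf).map t) h
  simp only [Functor.map_comp, Functor.id_map, Functor.comp_map] at h2
  exact h2

/-- the inclusion `U' ⟶ U` of open subschemes -/
noncomputable abbrev jj {U U' : X.Opens} (h : U' ≤ U) : (U' : Scheme.{u}) ⟶ (U : Scheme.{u}) :=
  (𝟙 X : X ⟶ X).resLE U U' (by rwa [Scheme.Hom.id_preimage])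

/-- the comparison `j⁻¹(F|_U) ⟶ F|_{U'}` of abelian sheaves through which `CohPull.resLE` is
defined -/
noncomputable def ν (F : X.Modules) {U U' : X.Opens} (h : U' ≤ U) :
    (CohPull.inv (jj h).base).obj (Coh.toAb (F.restrict U.ι)) ⟶ Coh.toAb (F.restrict U'.ι) :=
  CohPull.theta (jj h) (F.restrict U.ι) ≫
    (SheafOfModules.toSheaf (U' : Scheme.{u}).ringCatSheaf).map
      ((CohPull.pullOnIso (𝟙 X) U U' (by rwa [Scheme.Hom.id_preimage]) F).hom ≫
        (Scheme.Modules.restrictFunctor U'.ι).map ((Scheme.Modules.pullbackId X).hom.app F))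

lemma pullOnIso_naturality (g : X ⟶ Y) (U : Y.Opens) (U' : X.Opens) (h : U' ≤ g ⁻¹ᵁ U)
    {F G : Y.Modules} (ψ : F ⟶ G) :
    (Scheme.Modules.pullback (g.resLE U U' h)).map ((Scheme.Modules.restrictFunctor U.ι).map ψ) ≫
        (CohPull.pullOnIso g U U' h G).hom =
      (CohPull.pullOnIso g U U' h F).hom ≫
        (Scheme.Modules.restrictFunctor U'.ι).map ((Scheme.Modules.pullback g).map ψ) := by
  dsimp only [CohPull.pullOnIso, Iso.trans_hom, Functor.mapIso_hom, Iso.app_hom, Iso.symm_hom,
    Iso.app_inv]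
  simp only [Category.assoc]
  rw [← Functor.map_comp_assoc, (Scheme.Modules.restrictFunctorIsoPullback U.ι).hom.naturality ψ,
    Functor.map_comp_assoc]
  congr 1
  have h1 := (Scheme.Modules.pullbackComp (g.resLE U U' h) U.ι).hom.naturality ψ
  dsimp only [Functor.comp_map] at h1
  rw [reassoc_of% h1]
  congr 1
  have h2 := (Scheme.Modules.pullbackCongr (Scheme.Hom.resLE_comp_ι g h)).hom.naturality ψ
  rw [reassoc_of% h2]
  congr 1
  have h3 := (Scheme.Modules.pullbackComp U'.ι g).inv.naturality ψ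
  dsimp only [Functor.comp_map] at h3
  rw [reassoc_of% h3]
  congr 1
  exact ((Scheme.Modules.restrictFunctorIsoPullback U'.ι).inv.naturality
    ((Scheme.Modules.pullback g).map ψ))

lemma ν_naturality {F G : X.Modules} (ψ : F ⟶ G) {U U' : X.Opens} (h : U' ≤ U) :
    (CohPull.inv (jj h).base).map ((CohCmp.toAbOn X U).map ψ) ≫ ν G h =
      ν F h ≫ (CohCmp.toAbOn X U').map ψ := by
  dsimp only [ν, CohCmp.toAbOn, Functor.comp_map]
  rw [← Category.assoc, theta_naturality, Category.assoc, Category.assoc]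
  congr 1
  rw [← Functor.map_comp, ← Functor.map_comp]
  congr 1
  rw [← Category.assoc, pullOnIso_naturality, Category.assoc, Category.assoc]
  congr 1
  rw [← Functor.map_comp, ← Functor.map_comp]
  congr 1
  exact (Scheme.Modules.pullbackId X).hom.naturality ψ

/-! ### the `Ext` formula for `resLE` -/

set_option maxRecDepth 8000 in
lemma resLE_eq (F : X.Modules) {U U' : X.Opens} (h : U' ≤ U) (p : ℕ) (x : Coh.HHon X F U p) :
    CohPull.resLE F h p x =
      (Ext.mk₀ (CohPull.oneTo (jj h).base)).comp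
        ((x.mapExactFunctor (CohPull.inv (jj h).base)).comp (Ext.mk₀ (ν F h)) (add_zero p))
        (zero_add p) := by
  have e : CohPull.resLE F h p x =
      ((((Ext.mk₀ (CohPull.oneTo (jj h).base)).comp
        (x.mapExactFunctor (CohPull.inv (jj h).base)) (zero_add p)).comp
          (Ext.mk₀ (CohPull.theta (jj h) (F.restrict U.ι))) (add_zero p)).comp
          (Ext.mk₀ ((SheafOfModules.toSheaf (U' : Scheme.{u}).ringCatSheaf).map
            (CohPull.pullOnIso (𝟙 X) U U' (by rwa [Scheme.Hom.id_preimage]) F).hom)) (add_zero p)).comp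
          (Ext.mk₀ ((SheafOfModules.toSheaf (U' : Scheme.{u}).ringCatSheaf).map
            ((Scheme.Modules.restrictFunctor U'.ι).map ((Scheme.Modules.pullbackId X).hom.app F))))
          (add_zero p) := by
    dsimp only [CohPull.resLE, CohPull.pullOn, CohPull.pullMod, CohPull.pullAb, CohPull.mapH]
    rfl
  rw [e]
  dsimp only [ν]
  rw [Ext.comp_assoc_of_third_deg_zero, Ext.comp_assoc_of_third_deg_zero,
    Ext.comp_assoc_of_third_deg_zero,
    Ext.mk₀_comp_mk₀, Ext.mk₀_comp_mk₀, Functor.map_comp]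

/-! ### naturality in the module -/

lemma resLE_mapH {F G : X.Modules} (ψ : F ⟶ G) {U U' : X.Opens} (h : U' ≤ U) (p : ℕ)
    (x : Coh.HHon X F U p) :
    CohPull.resLE G h p (CohPull.mapH ((Scheme.Modules.restrictFunctor U.ι).map ψ) p x) =
      CohPull.mapH ((Scheme.Modules.restrictFunctor U'.ι).map ψ) p (CohPull.resLE F h p x) := by
  rw [resLE_eq, resLE_eq]
  change (Ext.mk₀ (CohPull.oneTo (jj h).base)).comp
      (((x.comp (Ext.mk₀ ((CohCmp.toAbOn X U).map ψ)) (add_zero p)).mapExactFunctor
        (CohPull.inv (jj h).base)).comp (Ext.mk₀ (ν G h)) (add_zero p)) (zero_add p) =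
    ((Ext.mk₀ (CohPull.oneTo (jj h).base)).comp
      ((x.mapExactFunctor (CohPull.inv (jj h).base)).comp (Ext.mk₀ (ν F h)) (add_zero p))
        (zero_add p)).comp (Ext.mk₀ ((CohCmp.toAbOn X U').map ψ)) (add_zero p)
  rw [Ext.mapExactFunctor_comp, Ext.mapExactFunctor_mk₀, Ext.comp_assoc_of_third_deg_zero,
    Ext.mk₀_comp_mk₀, ν_naturality, Ext.comp_assoc_of_third_deg_zero,
    Ext.comp_assoc_of_third_deg_zero, Ext.mk₀_comp_mk₀]

/-! ### compatibility with connecting homomorphisms -/

/-- the morphism of short complexes `j⁻¹(S|_U) ⟶ S|_{U'}` -/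
noncomputable def νS (S : ShortComplex X.Modules) {U U' : X.Opens} (h : U' ≤ U) :
    (S.map (CohCmp.toAbOn X U)).map (CohPull.inv (jj h).base) ⟶ S.map (CohCmp.toAbOn X U') where
  τ₁ := ν S.X₁ h
  τ₂ := ν S.X₂ h
  τ₃ := ν S.X₃ h
  comm₁₂ := (ν_naturality S.f h).symm
  comm₂₃ := (ν_naturality S.g h).symm

lemma resLE_extδ (S : ShortComplex X.Modules) {U U' : X.Opens} (h : U' ≤ U)
    (hA : (S.map (CohCmp.toAbOn X U)).ShortExact) (hA' : (S.map (CohCmp.toAbOn X U')).ShortExact)
    (p : ℕ) (x : Coh.HHon X S.X₃ U p) :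
    CohPull.resLE S.X₁ h (p + 1) (CohCmp.extδ hA p x) =
      CohCmp.extδ hA' p (CohPull.resLE S.X₃ h p x) := by
  rw [resLE_eq, resLE_eq]
  change (Ext.mk₀ (CohPull.oneTo (jj h).base)).comp
      (((x.comp hA.extClass rfl).mapExactFunctor
        (CohPull.inv (jj h).base)).comp (Ext.mk₀ (ν S.X₁ h)) (add_zero (p + 1))) (zero_add (p + 1)) =
    ((Ext.mk₀ (CohPull.oneTo (jj h).base)).comp
      ((x.mapExactFunctor (CohPull.inv (jj h).base)).comp (Ext.mk₀ (ν S.X₃ h)) (add_zero p))
        (zero_add p)).comp hA'.extClass rfl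
  have hn := ShortComplex.ShortExact.extClass_naturality
    (hA.map_of_exact (CohPull.inv (jj h).base)) hA' (νS S h)
  rw [Ext.mapExactFunctor_comp, Ext.mapExactFunctor_extClass, Ext.comp_assoc_of_third_deg_zero]
  erw [hn]
  rw [Ext.comp_assoc (Ext.mk₀ (CohPull.oneTo (jj h).base)) _ hA'.extClass (zero_add p) rfl
    (by omega), Ext.comp_assoc_of_second_deg_zero]
  rfl

end Groth.Agent.H84.SectCmpRes
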