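import Mathlib
import Groth.Prelude.Def_CohCmp
import Groth.Agent.H84.SectCmpRes

/-!
# The edge map `CohPull.pushEdge f G p : H^p(Y, f_* G) → H^p(X, G)`: an `Ext` formula, naturality
in the module, compatibility with connecting homomorphisms, and degree zero.
-/

set_option autoImplicit false
set_option backward.isDefEq.respectTransparency false
set_option backward.isDefEq.respectTransparency.types false
universe u
open CategoryTheory Limits AlgebraicGeometry Opposite TopologicalSpace

namespace Groth.Agent.H84.PushEdge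

open AlgebraicGeometry.Scheme.Modules Abelian
open Groth.Agent.H84.SectCmpRes

variable {X Y : Scheme.{u}} (f : X ⟶ Y)

/-- The functor to abelian sheaves on `X.Modules`. -/
noncomputable abbrev T (X : Scheme.{u}) :
    X.Modules ⥤ Sheaf (Opens.grothendieckTopology X) AddCommGrpCat.{u} :=
  SheafOfModules.toSheaf.{u} X.ringCatSheaf

instance (X : Scheme.{u}) : (T X).Additive :=
  inferInstanceAs (SheafOfModules.toSheaf.{u} X.ringCatSheaf).Additive

/-- `f⁻¹ (f_* G) ⟶ G` on underlying abelian sheaves -/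
noncomputable def cc (G : X.Modules) :
    (CohPull.inv f.base).obj (Coh.toAb ((pushforward f).obj G)) ⟶ Coh.toAb G :=
  CohPull.theta f ((pushforward f).obj G) ≫
    (T X).map ((pullbackPushforwardAdjunction f).counit.app G)

lemma cc_naturality {G G' : X.Modules} (ψ : G ⟶ G') :
    (CohPull.inv f.base).map ((T Y).map ((pushforward f).map ψ)) ≫ cc f G' =
      cc f G ≫ (T X).map ψ := by
  dsimp only [cc]
  rw [← Category.assoc, theta_naturality, Category.assoc, Category.assoc]
  congr 1
  rw [← Functor.map_comp, ← Functor.map_comp]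
  congr 1
  exact (pullbackPushforwardAdjunction f).counit.naturality ψ

set_option maxRecDepth 8000 in
lemma pushEdge_eq (G : X.Modules) (p : ℕ) (x : Coh.HH Y ((pushforward f).obj G) p) :
    CohPull.pushEdge f G p x =
      (Ext.mk₀ (CohPull.oneTo f.base)).comp
        ((x.mapExactFunctor (CohPull.inv f.base)).comp (Ext.mk₀ (cc f G)) (add_zero p))
        (zero_add p) := by
  have e : CohPull.pushEdge f G p x =
      (((Ext.mk₀ (CohPull.oneTo f.base)).comp
        (x.mapExactFunctor (CohPull.inv f.base)) (zero_add p)).comp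
          (Ext.mk₀ (CohPull.theta f ((pushforward f).obj G))) (add_zero p)).comp
          (Ext.mk₀ ((T X).map ((pullbackPushforwardAdjunction f).counit.app G))) (add_zero p) := by
    dsimp only [CohPull.pushEdge, CohPull.pullMod, CohPull.pullAb, CohPull.mapH]
    rfl
  rw [e]
  dsimp only [cc]
  rw [Ext.comp_assoc_of_third_deg_zero, Ext.comp_assoc_of_third_deg_zero, Ext.mk₀_comp_mk₀]

lemma pushEdge_mapH {G G' : X.Modules} (ψ : G ⟶ G') (p : ℕ)
    (x : Coh.HH Y ((pushforward f).obj G) p) :
    CohPull.pushEdge f G' p (CohPull.mapH ((pushforward f).map ψ) p x) =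
      CohPull.mapH ψ p (CohPull.pushEdge f G p x) := by
  rw [pushEdge_eq, pushEdge_eq]
  change (Ext.mk₀ (CohPull.oneTo f.base)).comp
      (((x.comp (Ext.mk₀ ((T Y).map ((pushforward f).map ψ))) (add_zero p)).mapExactFunctor
        (CohPull.inv f.base)).comp (Ext.mk₀ (cc f G')) (add_zero p)) (zero_add p) =
    ((Ext.mk₀ (CohPull.oneTo f.base)).comp
      ((x.mapExactFunctor (CohPull.inv f.base)).comp (Ext.mk₀ (cc f G)) (add_zero p))
        (zero_add p)).comp (Ext.mk₀ ((T X).map ψ)) (add_zero p)
  rw [Ext.mapExactFunctor_comp, Ext.mapExactFunctor_mk₀, Ext.comp_assoc_of_third_deg_zero,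
    Ext.mk₀_comp_mk₀, cc_naturality, Ext.comp_assoc_of_third_deg_zero,
    Ext.comp_assoc_of_third_deg_zero, Ext.mk₀_comp_mk₀]

/-- the morphism of short complexes `f⁻¹ (f_* S) ⟶ S` of abelian sheaves -/
noncomputable def ccS (S : ShortComplex X.Modules) :
    (S.map (pushforward f ⋙ T Y)).map (CohPull.inv f.base) ⟶ S.map (T X) where
  τ₁ := cc f S.X₁
  τ₂ := cc f S.X₂
  τ₃ := cc f S.X₃
  comm₁₂ := (cc_naturality f S.f).symm
  comm₂₃ := (cc_naturality f S.g).symm

lemma pushEdge_extδ (S : ShortComplex X.Modules)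
    (hA : (S.map (pushforward f ⋙ T Y)).ShortExact) (hA' : (S.map (T X)).ShortExact)
    (p : ℕ) (x : Coh.HH Y ((pushforward f).obj S.X₃) p) :
    CohPull.pushEdge f S.X₁ (p + 1) (CohCmp.extδ hA p x) =
      CohCmp.extδ hA' p (CohPull.pushEdge f S.X₃ p x) := by
  rw [pushEdge_eq, pushEdge_eq]
  change (Ext.mk₀ (CohPull.oneTo f.base)).comp
      (((x.comp hA.extClass rfl).mapExactFunctor
        (CohPull.inv f.base)).comp (Ext.mk₀ (cc f S.X₁)) (add_zero (p + 1))) (zero_add (p + 1)) =
    ((Ext.mk₀ (CohPull.oneTo f.base)).comp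
      ((x.mapExactFunctor (CohPull.inv f.base)).comp (Ext.mk₀ (cc f S.X₃)) (add_zero p))
        (zero_add p)).comp hA'.extClass rfl
  have hn := ShortComplex.ShortExact.extClass_naturality
    (hA.map_of_exact (CohPull.inv f.base)) hA' (ccS f S)
  rw [Ext.mapExactFunctor_comp, Ext.mapExactFunctor_extClass, Ext.comp_assoc_of_third_deg_zero]
  erw [hn]
  rw [Ext.comp_assoc (Ext.mk₀ (CohPull.oneTo f.base)) _ hA'.extClass (zero_add p) rfl
    (by omega), Ext.comp_assoc_of_second_deg_zero]
  rfl

end Groth.Agent.H84.PushEdge
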