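import Mathlib
import Groth.Prelude.Def_CohCmp
import Groth.Agent.Lead.Coh.SectCmp
import Groth.Agent.Lead.Coh.H1Surj
import Groth.Agent.Lead.Coh.SerreAffine
import Groth.Agent.H13.AssExact
import Groth.Agent.H33.MV.Flasque
import Groth.Agent.H30.FlasqueAcyclic

/-!
# Cohomological lemmas on `Y.Modules` used for the bijectivity of the comparison maps over an
affine base: iso-invariance of `Coh.HH`, the third term of a short exact sequence, four-term exact
sequences, and flasqueness of the direct image of an injective module.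
-/

set_option autoImplicit false
set_option backward.isDefEq.respectTransparency false
set_option backward.isDefEq.respectTransparency.types false
universe u
open CategoryTheory Limits AlgebraicGeometry Opposite TopologicalSpace

namespace Groth.Agent.H84.SectCmpBij

open AlgebraicGeometry.Scheme.Modules Abelian
open Groth.Agent.Lead.SectCmp

variable {X Y : Scheme.{u}}

/-- `H^n(Y, -)` vanishing is invariant under isomorphisms of modules -/
lemma subsingleton_HH_of_iso {M N : Y.Modules} (e : M ≅ N) (n : ℕ)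
    (h : Subsingleton (Coh.HH Y M n)) : Subsingleton (Coh.HH Y N n) := by
  refine subsingleton_of_forall_eq 0 fun x => ?_
  have h1 : Sheaf.H.map ((T Y).map e.inv ≫ (T Y).map e.hom) n x = x := by
    rw [← Functor.map_comp, e.inv_hom_id, CategoryTheory.Functor.map_id]
    exact Sheaf.H.map_id_apply x
  rw [Sheaf.H.map_comp_apply] at h1
  rw [← h1, h.elim (Sheaf.H.map ((T Y).map e.inv) n x) 0, map_zero]

/-- In a short exact sequence of modules, `H^n(X₂) = 0` and `H^{n+1}(X₁) = 0` give
`H^n(X₃) = 0`. -/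
theorem subsingleton_HH_X₃ (E : ShortComplex Y.Modules) (hE : E.ShortExact) (n : ℕ)
    (h₂ : Subsingleton (Coh.HH Y E.X₂ n)) (h₁ : Subsingleton (Coh.HH Y E.X₁ (n + 1))) :
    Subsingleton (Coh.HH Y E.X₃ n) := by
  have hS := Groth.Agent.H49.SectionsExact.shortExact_toSheaf E hE
  refine subsingleton_of_forall_eq 0 fun x => ?_
  let x₃ : Ext ((constantSheaf (Opens.grothendieckTopology Y) AddCommGrpCat.{u}).obj
      (AddCommGrpCat.of (ULift ℤ))) (E.map (Groth.Agent.H49.SectionsExact.T Y)).X₃ n := x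
  have h0 : x₃.comp hS.extClass rfl = 0 := h₁.elim _ _
  obtain ⟨x₂, hx₂⟩ := Ext.covariant_sequence_exact₃ _ hS x₃ rfl h0
  have h1 : x₂ = 0 := h₂.elim _ _
  rw [h1, Ext.zero_comp] at hx₂
  exact hx₂.symm

/-- the direct image of an injective module is flasque -/
lemma isFlasque_pushforward (f : X ⟶ Y) (I : X.Modules) [Injective I] :
    TopCat.Sheaf.IsFlasque (Coh.toAb ((pushforward f).obj I)) where
  epi {W W'} i := by
    rw [AddCommGrpCat.epi_iff_surjective]
    exact Groth.Agent.H33.MV.surjective_presheaf_map_of_injective I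
      ((Opens.map f.base).map i.unop)

lemma subsingleton_HH_pushforward_of_injective (f : X ⟶ Y) (I : X.Modules) [Injective I]
    (p : ℕ) : Subsingleton (Coh.HH Y ((pushforward f).obj I) (p + 1)) := by
  have := isFlasque_pushforward f I
  exact Groth.Agent.H30.FlasqueAcyclic.subsingleton_H (Coh.toAb ((pushforward f).obj I)) p

section FourTerm

variable {A B C D : Y.Modules} (a : A ⟶ B) (b : B ⟶ C) (c : C ⟶ D)
  (w₁ : a ≫ b = 0) (w₂ : b ≫ c = 0)

include w₁ in
lemma a_kLift_zero : a ≫ kernel.lift c b w₂ = 0 := by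
  rw [← cancel_mono (kernel.ι c), Category.assoc, kernel.lift_ι, w₁, zero_comp]

/-- `0 → A → B → ker c → 0` -/
lemma ses1 [Mono a] (h₁ : (ShortComplex.mk a b w₁).Exact) (h₂ : (ShortComplex.mk b c w₂).Exact) :
    (ShortComplex.mk a (kernel.lift c b w₂) (a_kLift_zero a b c w₁ w₂)).ShortExact := by
  have hepi : Epi (kernel.lift c b w₂) :=
    (ShortComplex.exact_iff_epi_kernel_lift (ShortComplex.mk b c w₂)).1 h₂
  let φ : ShortComplex.mk a (kernel.lift c b w₂) (a_kLift_zero a b c w₁ w₂) ⟶
      ShortComplex.mk a b w₁ :=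
    { τ₁ := 𝟙 _
      τ₂ := 𝟙 _
      τ₃ := kernel.ι c
      comm₁₂ := by simp
      comm₂₃ := by simp }
  have : Epi φ.τ₁ := inferInstanceAs (Epi (𝟙 A))
  have : IsIso φ.τ₂ := inferInstanceAs (IsIso (𝟙 B))
  have : Mono φ.τ₃ := inferInstanceAs (Mono (kernel.ι c))
  have hex : (ShortComplex.mk a (kernel.lift c b w₂) (a_kLift_zero a b c w₁ w₂)).Exact :=
    (ShortComplex.exact_iff_of_epi_of_isIso_of_mono φ).2 h₁
  exact ShortComplex.ShortExact.mk' hex ‹Mono a› hepi

/-- `0 → ker c → C → D → 0` -/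
lemma ses2 [Epi c] : (ShortComplex.mk (kernel.ι c) c (kernel.condition c)).ShortExact :=
  ShortComplex.ShortExact.mk'
    (ShortComplex.exact_of_f_is_kernel _ (kernelIsKernel c))
    (inferInstanceAs (Mono (kernel.ι c))) ‹Epi c›

include w₁ in
/-- vanishing of `H^{n+1}` of the third term of a four-term exact sequence -/
theorem subsingleton_HH_four [Mono a] [Epi c] (h₁ : (ShortComplex.mk a b w₁).Exact)
    (h₂ : (ShortComplex.mk b c w₂).Exact) (n : ℕ)
    (hB : Subsingleton (Coh.HH Y B (n + 1))) (hA : Subsingleton (Coh.HH Y A (n + 2)))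
    (hD : Subsingleton (Coh.HH Y D (n + 1))) : Subsingleton (Coh.HH Y C (n + 1)) := by
  have hK : Subsingleton (Coh.HH Y (kernel c) (n + 1)) :=
    subsingleton_HH_X₃ _ (ses1 a b c w₁ w₂ h₁ h₂) (n + 1) hB hA
  exact Groth.Agent.Lead.SerreAffine.subsingleton_HH_of_shortExact _ (ses2 c) (n + 1) hK hD

include w₁ in
/-- surjectivity on global sections of the last map of a four-term exact sequence -/
theorem app_top_surjective_four [Mono a] [Epi c] (h₁ : (ShortComplex.mk a b w₁).Exact)
    (h₂ : (ShortComplex.mk b c w₂).Exact)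
    (hB : Subsingleton (Coh.HH Y B 1)) (hA : Subsingleton (Coh.HH Y A 2)) :
    Function.Surjective (c.app ⊤) := by
  have hK : Subsingleton (Coh.HH Y (kernel c) 1) :=
    subsingleton_HH_X₃ _ (ses1 a b c w₁ w₂ h₁ h₂) 1 hB hA
  exact Groth.Agent.Lead.Coh.sections_top_surjective_of_subsingleton_HH_one _ (ses2 c) hK

include w₁ in
/-- exactness on global sections in the middle of a four-term exact sequence -/
theorem app_top_exact_four [Mono a] [Epi c] (h₁ : (ShortComplex.mk a b w₁).Exact)
    (h₂ : (ShortComplex.mk b c w₂).Exact)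
    (hA : Subsingleton (Coh.HH Y A 1)) (y : Γ(C, ⊤)) (hy : c.app ⊤ y = 0) :
    ∃ z : Γ(B, ⊤), b.app ⊤ z = y := by
  have hex := (Groth.Agent.H13.sections_injective_and_exact _ (ses2 c) ⊤).2
  obtain ⟨z', hz'⟩ := (hex y).1 hy
  obtain ⟨z, hz⟩ := Groth.Agent.Lead.Coh.sections_top_surjective_of_subsingleton_HH_one _
    (ses1 a b c w₁ w₂ h₁ h₂) hA z'
  refine ⟨z, ?_⟩
  have h3 : kernel.lift c b w₂ ≫ kernel.ι c = b := kernel.lift_ι _ _ _
  have h4 := congrArg (fun φ => Scheme.Modules.Hom.app φ ⊤) h3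
  simp only [Scheme.Modules.Hom.comp_app] at h4
  have h5 := ConcreteCategory.congr_hom h4 z
  rw [ConcreteCategory.comp_apply] at h5
  rw [← h5]
  exact (congrArg _ hz).trans hz'

end FourTerm

end Groth.Agent.H84.SectCmpBij
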