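import Mathlib
import Groth.Prelude.Def_CohCmp
import Groth.Agent.Lead.Coh.SectCmp
import Groth.Agent.H33.MV.Flasque
import Groth.Agent.H30.FlasqueAcyclic
import Groth.Agent.H84.SectCmpRes

/-!
# The comparison maps `ε_V : H^p(f⁻¹V, F) → Γ(V, R^p f_* F)` are locally injective
-/

set_option autoImplicit false
set_option backward.isDefEq.respectTransparency false
set_option backward.isDefEq.respectTransparency.types false
universe u
open CategoryTheory Limits AlgebraicGeometry Opposite TopologicalSpace

namespace Groth.Agent.H84.SectCmpInj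

open AlgebraicGeometry.Scheme.Modules Abelian
open Groth.Agent.Lead.SectCmp Groth.Agent.H84.SectCmpRes

variable {X Y : Scheme.{u}}

/-! ### vanishing for injectives -/

lemma isFlasque_restrict (I : X.Modules) [Injective I] (U : X.Opens) :
    TopCat.Sheaf.IsFlasque (Coh.toAb (I.restrict U.ι)) where
  epi {W W'} i := by
    rw [AddCommGrpCat.epi_iff_surjective]
    exact Groth.Agent.H33.MV.surjective_presheaf_map_of_injective I
      (U.ι.opensFunctor.map i.unop)

lemma subsingleton_HHon_of_injective (I : X.Modules) [Injective I] (U : X.Opens) (p : ℕ) :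
    Subsingleton (Coh.HHon X I U (p + 1)) := by
  have := isFlasque_restrict I U
  exact Groth.Agent.H30.FlasqueAcyclic.subsingleton_H (Coh.toAb (I.restrict U.ι)) p

/-! ### sections -/

theorem app_injective_of_mono {A B : Y.Modules} (φ : A ⟶ B) [Mono φ] (V : Y.Opens) :
    Function.Injective (φ.app V) := by
  have h3 : PreservesFiniteLimits (T Y) := preservesFiniteLimits_T _
  have h4 : Mono ((T Y).map φ) := inferInstance
  have h5 : Mono ((T Y).map φ).hom := (Sheaf.Hom.mono_iff_presheaf_mono _ _ _).1 h4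
  have h6 : Mono (((T Y).map φ).hom.app (op V)) := (NatTrans.mono_iff_mono_app _).1 h5 (op V)
  exact (AddCommGrpCat.mono_iff_injective _).1 h6

/-- `sectH0` is natural in the module -/
lemma mapH_sectH0 {F G : X.Modules} (ψ : F ⟶ G) (U : X.Opens) (s : F.presheaf.obj (op U)) :
    CohPull.mapH ((Scheme.Modules.restrictFunctor U.ι).map ψ) 0 (CohPull.sectH0 F U s) =
      CohPull.sectH0 G U (ψ.app U s) := by
  dsimp only [CohPull.sectH0, CohPull.mapH, AddEquiv.trans_apply]
  rw [Sheaf.H.equiv₀_symm_naturality]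
  congr 1
  have h1 := ConcreteCategory.congr_hom
    (ψ.mapPresheaf.naturality (eqToIso U.ι_image_top).op.hom) s
  rw [ConcreteCategory.comp_apply, ConcreteCategory.comp_apply] at h1
  exact h1

/-- a section restricting to zero gives a class restricting to zero -/
lemma resLE_sectH0_eq_zero (Q : X.Modules) {U U' : X.Opens} (h : U' ≤ U)
    (q : Q.presheaf.obj (op U)) (hq : Q.presheaf.map (homOfLE h).op q = 0) :
    CohPull.resLE Q h 0 (CohPull.sectH0 Q U q) = 0 := by
  let u : Q ⟶ (pushforward U'.ι).obj (Q.restrict U'.ι) := (restrictAdjunction U'.ι).unit.app Q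
  have h1 := resLE_mapH u h 0 (CohPull.sectH0 Q U q)
  rw [mapH_sectH0] at h1
  have h2 : u.app U q = 0 := by
    have h5 : U'.ι ''ᵁ (U'.ι ⁻¹ᵁ U) ≤ U' := U'.ι_image_le _
    have h7 : u.app U q =
        Q.presheaf.map (homOfLE h5).op (Q.presheaf.map (homOfLE h).op q) := by
      rw [← ConcreteCategory.comp_apply, ← Functor.map_comp]
      rfl
    rw [h7, hq, map_zero]
  rw [h2, map_zero, map_zero] at h1
  have h3 : (restrictFunctor U'.ι).map u ≫
      (restrictAdjunction U'.ι).counit.app (Q.restrict U'.ι) = 𝟙 _ :=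
    (restrictAdjunction U'.ι).left_triangle_components Q
  have h4 := congrArg
    (CohPull.mapH ((restrictAdjunction U'.ι).counit.app (Q.restrict U'.ι)) 0) h1
  rw [map_zero] at h4
  have h8 : CohPull.mapH ((restrictAdjunction U'.ι).counit.app (Q.restrict U'.ι)) 0
      (CohPull.mapH ((restrictFunctor U'.ι).map u) 0
        (CohPull.resLE Q h 0 (CohPull.sectH0 Q U q))) =
      CohPull.resLE Q h 0 (CohPull.sectH0 Q U q) := by
    change ((CohPull.resLE Q h 0 (CohPull.sectH0 Q U q)).comp (Ext.mk₀ _) (add_zero 0)).comp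
      (Ext.mk₀ _) (add_zero 0) = _
    rw [Ext.comp_assoc_of_third_deg_zero, Ext.mk₀_comp_mk₀, ← Functor.map_comp, h3,
      CategoryTheory.Functor.map_id, Ext.comp_mk₀_id]
  rw [h8] at h4
  exact h4.symm

variable (f : X ⟶ Y) [HasInjectiveResolutions X.Modules]
  {Δ : RDer.DerivedLES (pushforward f)} (E : CohCmp.SectCmp f Δ)

/-- `f_* F ⟶ R⁰f_* F` is injective on sections -/
lemma toRDZ_injective (F : X.Modules) (V : Y.Opens) :
    Function.Injective (((pushforward f).toRightDerivedZero.app F).app V) :=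
  app_injective_of_mono _ V

/-- the connecting map out of a class is unchanged by adding the image of a class of the middle
term -/
lemma extδ_mapH_g {U : Scheme.{u}} {S : ShortComplex (CohTop.Ab U)} (hS : S.ShortExact) (p : ℕ)
    (z : Sheaf.H S.X₂ p) : CohCmp.extδ hS p (Sheaf.H.map S.g p z) = 0 := by
  change (z.comp (Ext.mk₀ S.g) (add_zero p)).comp hS.extClass rfl = 0
  rw [Ext.comp_assoc_of_second_deg_zero, ShortComplex.ShortExact.comp_extClass, Ext.comp_zero]

omit [HasInjectiveResolutions X.Modules] in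
/-- every class of `F` in positive degree comes from the cokernel of an injective embedding -/
lemma exists_extδ_eq {F I : X.Modules} (i : F ⟶ I) [Mono i] [Injective I] (U : X.Opens)
    (hA : ((sesOf i).map (CohCmp.toAbOn X U)).ShortExact) (p : ℕ)
    (x : Coh.HHon X F U (p + 1)) :
    ∃ x' : Coh.HHon X (sesOf i).X₃ U p, CohCmp.extδ hA p x' = x := by
  have hs := subsingleton_HHon_of_injective I U p
  exact Ext.covariant_sequence_exact₁ _ hA x (@Subsingleton.elim _ hs _ _) rfl

/-- The comparison map is locally injective. -/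
theorem locally_injective (p : ℕ) : ∀ (F : X.Modules) (V : Y.Opens)
    (x : Coh.HHon X F (f ⁻¹ᵁ V) p), E.ε V F p x = 0 → ∀ (y : Y), y ∈ V →
    ∃ (W : Y.Opens) (hWV : W ≤ V), y ∈ W ∧ CohPull.resLE F (f.preimage_mono hWV) p x = 0 := by
  induction p with
  | zero =>
    intro F V x hx y hy
    refine ⟨V, le_rfl, hy, ?_⟩
    obtain ⟨s, rfl⟩ := (CohPull.sectH0 F (f ⁻¹ᵁ V)).surjective x
    rw [E.zero] at hx
    have h1 : s = 0 := toRDZ_injective f F V (by rw [hx, map_zero])
    rw [h1, map_zero, map_zero]
  | succ p ih =>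
    intro F V x hx y hy
    let J := injectiveResolution F
    let i : F ⟶ J.cocomplex.X 0 := J.ι.f 0
    have : Mono i := (inferInstance : Mono (J.ι.f 0))
    have : Injective (J.cocomplex.X 0) := J.injective 0
    have hS := sesOf_shortExact i
    have hA := shortExact_toAbOn (f ⁻¹ᵁ V) (sesOf i) hS
    obtain ⟨x', rfl⟩ := exists_extδ_eq i (f ⁻¹ᵁ V) hA p x
    rw [E.delta V (sesOf i) hS hA p x'] at hx
    cases p with
    | succ p =>
      have hz : IsZero (((pushforward f).rightDerived (p + 1)).obj (J.cocomplex.X 0)) :=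
        Functor.isZero_rightDerived_obj_injective_succ _ _ _
      have hm : Mono (Δ.δ (sesOf i) hS (p + 1) (p + 1 + 1) rfl) :=
        (Δ.exact₃ (sesOf i) hS (p + 1) (p + 1 + 1) rfl).mono_g (hz.eq_of_src _ _)
      have h0 : E.ε V (sesOf i).X₃ (p + 1) x' = 0 :=
        app_injective_of_mono _ V (by rw [hx, map_zero])
      obtain ⟨W, hWV, hyW, hW⟩ := ih (sesOf i).X₃ V x' h0 y hy
      refine ⟨W, hWV, hyW, ?_⟩
      have hA' := shortExact_toAbOn (f ⁻¹ᵁ W) (sesOf i) hS
      rw [resLE_extδ (sesOf i) (f.preimage_mono hWV) hA hA', hW, map_zero]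
    | zero =>
      obtain ⟨q, rfl⟩ := (CohPull.sectH0 (sesOf i).X₃ (f ⁻¹ᵁ V)).surjective x'
      rw [E.zero] at hx
      -- exactness of `R⁰f_* I ⟶ R⁰f_* Q ⟶ R¹f_* F` on sections
      have hex := Δ.exact₃ (sesOf i) hS 0 1 rfl
      have h3 : PreservesFiniteLimits (T Y) := preservesFiniteLimits_T _
      have h4 : PreservesFiniteColimits (T Y) := preservesFiniteColimits_T _
      have hex' := hex.map (T Y)
      obtain ⟨W, hWV, hyW, t, ht⟩ := Groth.Agent.Lead.Rpush.exists_locally_of_exact _ hex' V
        (((pushforward f).toRightDerivedZero.app (sesOf i).X₃).app V q) hx y hy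
      refine ⟨W, hWV, hyW, ?_⟩
      -- `t` comes from a section `s` of `I` over `f⁻¹W`
      let s : (J.cocomplex.X 0).presheaf.obj (op (f ⁻¹ᵁ W)) :=
        (inv ((pushforward f).toRightDerivedZero.app (J.cocomplex.X 0))).app W t
      have hs : ((pushforward f).toRightDerivedZero.app (J.cocomplex.X 0)).app W s = t := by
        have h2 : inv ((pushforward f).toRightDerivedZero.app (J.cocomplex.X 0)) ≫
            (pushforward f).toRightDerivedZero.app (J.cocomplex.X 0) = 𝟙 _ := IsIso.inv_hom_id _
        have h3 := congrArg (fun φ => Scheme.Modules.Hom.app φ W) h2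
        simp only [Scheme.Modules.Hom.comp_app, Scheme.Modules.Hom.id_app] at h3
        exact ConcreteCategory.congr_hom h3 t
      -- `g(s) = q|_{f⁻¹W}`
      have hgs : (sesOf i).g.app (f ⁻¹ᵁ W) s =
          (sesOf i).X₃.presheaf.map (homOfLE (f.preimage_mono hWV)).op q := by
        apply toRDZ_injective f (sesOf i).X₃ W
        have hn := (pushforward f).toRightDerivedZero.naturality (sesOf i).g
        have hn' := congrArg (fun φ => Scheme.Modules.Hom.app φ W) hn
        simp only [Scheme.Modules.Hom.comp_app] at hn'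
        have hn'' := ConcreteCategory.congr_hom hn' s
        rw [ConcreteCategory.comp_apply, ConcreteCategory.comp_apply] at hn''
        have e1 : ((pushforward f).toRightDerivedZero.app (sesOf i).X₃).app W
            ((sesOf i).g.app (f ⁻¹ᵁ W) s) =
            (((pushforward f).rightDerived 0).map (sesOf i).g).app W t := by
          rw [← hs]
          exact hn''
        rw [e1]
        have e2 := app_res ((pushforward f).toRightDerivedZero.app (sesOf i).X₃) hWV q
        exact ht.trans e2.symm
      -- extend `s` to `f⁻¹V`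
      obtain ⟨s', hs'⟩ := Groth.Agent.H33.MV.surjective_presheaf_map_of_injective
        (J.cocomplex.X 0) (homOfLE (f.preimage_mono hWV)) s
      have hq0 : (sesOf i).X₃.presheaf.map (homOfLE (f.preimage_mono hWV)).op
          (q - (sesOf i).g.app (f ⁻¹ᵁ V) s') = 0 := by
        rw [map_sub, ← app_res, hs', hgs, sub_self]
      have hA' := shortExact_toAbOn (f ⁻¹ᵁ W) (sesOf i) hS
      have hq1 : CohCmp.extδ hA 0 (CohPull.sectH0 (sesOf i).X₃ (f ⁻¹ᵁ V) q) =
          CohCmp.extδ hA 0 (CohPull.sectH0 (sesOf i).X₃ (f ⁻¹ᵁ V)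
            (q - (sesOf i).g.app (f ⁻¹ᵁ V) s')) := by
        rw [map_sub, map_sub, ← mapH_sectH0]
        have := extδ_mapH_g hA 0 (CohPull.sectH0 (J.cocomplex.X 0) (f ⁻¹ᵁ V) s')
        erw [this]
        rw [sub_zero]
      rw [hq1, resLE_extδ (sesOf i) (f.preimage_mono hWV) hA hA',
        resLE_sectH0_eq_zero _ _ _ hq0, map_zero]

end Groth.Agent.H84.SectCmpInj
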