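import Mathlib
import Groth.Prelude.Def_CohCmp
import Groth.Agent.Lead.Coh.SectCmp
import Groth.Agent.Lead.Coh.Affine
import Groth.Agent.H30.RpushQC.Main
import Groth.Agent.H84.SectCmpInj
import Groth.Agent.H84.SectCmpBijA

/-!
# The comparison map `ε_⊤ : H^q(X, F) → Γ(S, R^q f_* F)` is bijective over an affine base

Dimension shifting along an embedding into an injective `O_X`-module, for the class of modules
`G` all of whose higher direct images have vanishing higher cohomology on the base (`Acyc`); this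
class is stable under passing to the cokernel of an injective embedding, and contains the
quasi-coherent modules when the base is affine and `f` is quasi-compact and quasi-separated.
-/

set_option autoImplicit false
set_option backward.isDefEq.respectTransparency false
set_option backward.isDefEq.respectTransparency.types false
universe u
open CategoryTheory Limits AlgebraicGeometry Opposite TopologicalSpace

namespace Groth.Agent.H84.SectCmpBij

open AlgebraicGeometry.Scheme.Modules Abelian
open Groth.Agent.Lead.SectCmp Groth.Agent.H84.SectCmpInj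

variable {X Y : Scheme.{u}}

/-- an isomorphism of modules is bijective on sections -/
lemma app_bijective_of_isIso {A B : Y.Modules} (φ : A ⟶ B) [IsIso φ] (V : Y.Opens) :
    Function.Bijective (φ.app V) := by
  refine ⟨app_injective_of_mono φ V, fun t => ⟨(inv φ).app V t, ?_⟩⟩
  have h2 : inv φ ≫ φ = 𝟙 _ := IsIso.inv_hom_id _
  have h3 := congrArg (fun ψ => Scheme.Modules.Hom.app ψ V) h2
  simp only [Scheme.Modules.Hom.comp_app, Scheme.Modules.Hom.id_app] at h3
  exact ConcreteCategory.congr_hom h3 t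

variable (f : X ⟶ Y) [HasInjectiveResolutions X.Modules]

/-- all higher direct images of `G` have vanishing higher cohomology on the base -/
def Acyc (G : X.Modules) : Prop :=
  ∀ i j : ℕ, Subsingleton (Coh.HH Y ((Coh.Rpush f i).obj G) (j + 1))

lemma acyc_of_isQuasicoherent [IsAffine Y] [QuasiCompact f] [QuasiSeparated f]
    (F : X.Modules) [F.IsQuasicoherent] : Acyc f F := by
  intro i j
  have := Groth.Agent.H30.RpushQC.isQuasicoherent_rpush f F i
  exact Groth.Agent.Lead.Coh.subsingleton_HH_of_isAffine Y _ j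

lemma subsingleton_HH_R0_injective (I : X.Modules) [Injective I] (j : ℕ) :
    Subsingleton (Coh.HH Y ((Coh.Rpush f 0).obj I) (j + 1)) :=
  subsingleton_HH_of_iso (asIso ((pushforward f).toRightDerivedZero.app I)) (j + 1)
    (subsingleton_HH_pushforward_of_injective f I j)

lemma mono_R0_map {G I : X.Modules} (i : G ⟶ I) [Mono i] :
    Mono ((Coh.Rpush f 0).map i) := by
  have h := (pushforward f).toRightDerivedZero.naturality i
  have h1 : Mono ((pushforward f).map i) := inferInstance
  have h2 : Mono ((pushforward f).toRightDerivedZero.app G ≫ (Coh.Rpush f 0).map i) := by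
    rw [← h]
    exact mono_comp _ _
  have h3 : (Coh.Rpush f 0).map i = inv ((pushforward f).toRightDerivedZero.app G) ≫
      ((pushforward f).toRightDerivedZero.app G ≫ (Coh.Rpush f 0).map i) := by
    rw [IsIso.inv_hom_id_assoc]
  rw [h3]
  exact mono_comp _ _

variable {Δ : RDer.DerivedLES (pushforward f)}

lemma R0_w₁ {G I : X.Modules} (i : G ⟶ I) :
    (Coh.Rpush f 0).map (sesOf i).f ≫ (Coh.Rpush f 0).map (sesOf i).g = 0 := by
  rw [← Functor.map_comp, (sesOf i).zero, Functor.map_zero]

/-- the connecting morphism `R^{q+1} f_* Q ⟶ R^{q+2} f_* G` is an isomorphism when the middle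
term is injective -/
lemma isIso_δ_succ {G I : X.Modules} (i : G ⟶ I) [Mono i] [Injective I] (q : ℕ) :
    IsIso (Δ.δ (sesOf i) (sesOf_shortExact i) (q + 1) (q + 2) rfl) := by
  have hz : IsZero (((pushforward f).rightDerived (q + 1)).obj I) :=
    Functor.isZero_rightDerived_obj_injective_succ _ _ _
  have hm : Mono (Δ.δ (sesOf i) (sesOf_shortExact i) (q + 1) (q + 2) rfl) :=
    (Δ.exact₃ (sesOf i) (sesOf_shortExact i) (q + 1) (q + 2) rfl).mono_g (hz.eq_of_src _ _)
  have he := epi_δ f (Δ := Δ) i (q + 1)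
  exact isIso_of_mono_of_epi _

include Δ in
/-- the class `Acyc` is stable under cokernels of embeddings into injectives -/
lemma acyc_cokernel {G I : X.Modules} (i : G ⟶ I) [Mono i] [Injective I] (hG : Acyc f G) :
    Acyc f (sesOf i).X₃ := by
  intro k j
  have hS := sesOf_shortExact i
  cases k with
  | zero =>
    have := mono_R0_map f i
    have := epi_δ f (Δ := Δ) i 0
    exact subsingleton_HH_four ((Coh.Rpush f 0).map (sesOf i).f) ((Coh.Rpush f 0).map (sesOf i).g)
      (Δ.δ (sesOf i) hS 0 1 rfl) (R0_w₁ f i) (Δ.comp_δ (sesOf i) hS 0 1 rfl)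
      (Δ.exact₂ (sesOf i) hS 0) (Δ.exact₃ (sesOf i) hS 0 1 rfl) j
      (subsingleton_HH_R0_injective f I j) (hG 0 (j + 1)) (hG 1 j)
  | succ k =>
    have := isIso_δ_succ f (Δ := Δ) i k
    exact subsingleton_HH_of_iso (asIso (Δ.δ (sesOf i) hS (k + 1) (k + 2) rfl)).symm (j + 1)
      (hG (k + 2) j)

variable (E : CohCmp.SectCmp f Δ)

/-- degree zero: the comparison map is bijective over every open -/
lemma bijective_zero (G : X.Modules) (V : Y.Opens) : Function.Bijective (E.ε V G 0) := by
  have hb := app_bijective_of_isIso ((pushforward f).toRightDerivedZero.app G) V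
  constructor
  · intro x y hxy
    obtain ⟨s, rfl⟩ := (CohPull.sectH0 G (f ⁻¹ᵁ V)).surjective x
    obtain ⟨t, rfl⟩ := (CohPull.sectH0 G (f ⁻¹ᵁ V)).surjective y
    rw [E.zero, E.zero] at hxy
    rw [hb.1 hxy]
  · intro t
    obtain ⟨s, hs⟩ := hb.2 t
    exact ⟨CohPull.sectH0 G (f ⁻¹ᵁ V) s, by rw [E.zero, hs]⟩

/-- degree one over the whole base, for a module whose direct image has no `H^1`, `H^2` -/
lemma bijective_one {G I : X.Modules} (i : G ⟶ I) [Mono i] [Injective I]
    (h1 : Subsingleton (Coh.HH Y ((Coh.Rpush f 0).obj G) 1))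
    (h2 : Subsingleton (Coh.HH Y ((Coh.Rpush f 0).obj G) 2)) :
    Function.Bijective (E.ε ⊤ G 1) := by
  have hS := sesOf_shortExact i
  have hA := shortExact_toAbOn (f ⁻¹ᵁ ⊤) (sesOf i) hS
  have := mono_R0_map f i
  have := epi_δ f (Δ := Δ) i 0
  constructor
  · rw [injective_iff_map_eq_zero]
    intro x hx
    obtain ⟨x', rfl⟩ := exists_extδ_eq i (f ⁻¹ᵁ ⊤) hA 0 x
    obtain ⟨q, rfl⟩ := (CohPull.sectH0 (sesOf i).X₃ (f ⁻¹ᵁ ⊤)).surjective x'
    rw [E.delta ⊤ (sesOf i) hS hA 0, E.zero] at hx
    obtain ⟨z, hz⟩ := app_top_exact_four ((Coh.Rpush f 0).map (sesOf i).f)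
      ((Coh.Rpush f 0).map (sesOf i).g)
      (Δ.δ (sesOf i) hS 0 1 rfl) (R0_w₁ f i) (Δ.comp_δ (sesOf i) hS 0 1 rfl)
      (Δ.exact₂ (sesOf i) hS 0) (Δ.exact₃ (sesOf i) hS 0 1 rfl) h1 _ hx
    obtain ⟨s, hs⟩ := (app_bijective_of_isIso ((pushforward f).toRightDerivedZero.app I) ⊤).2 z
    have hgs : (sesOf i).g.app (f ⁻¹ᵁ ⊤) s = q := by
      apply toRDZ_injective f (sesOf i).X₃ ⊤
      have hn := (pushforward f).toRightDerivedZero.naturality (sesOf i).g
      have hn' := congrArg (fun φ => Scheme.Modules.Hom.app φ ⊤) hn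
      simp only [Scheme.Modules.Hom.comp_app] at hn'
      have hn'' := ConcreteCategory.congr_hom hn' s
      rw [ConcreteCategory.comp_apply, ConcreteCategory.comp_apply] at hn''
      rw [← hz, ← hs]
      exact hn''
    rw [← hgs, ← mapH_sectH0]
    have := extδ_mapH_g hA 0 (CohPull.sectH0 I (f ⁻¹ᵁ ⊤) s)
    erw [this]
  · intro t
    obtain ⟨t', ht'⟩ := app_top_surjective_four ((Coh.Rpush f 0).map (sesOf i).f)
      ((Coh.Rpush f 0).map (sesOf i).g)
      (Δ.δ (sesOf i) hS 0 1 rfl) (R0_w₁ f i) (Δ.comp_δ (sesOf i) hS 0 1 rfl)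
      (Δ.exact₂ (sesOf i) hS 0) (Δ.exact₃ (sesOf i) hS 0 1 rfl)
      (subsingleton_HH_R0_injective f I 0) h2 t
    obtain ⟨q, hq⟩ :=
      (app_bijective_of_isIso ((pushforward f).toRightDerivedZero.app (sesOf i).X₃) ⊤).2 t'
    refine ⟨CohCmp.extδ hA 0 (CohPull.sectH0 (sesOf i).X₃ (f ⁻¹ᵁ ⊤) q), ?_⟩
    rw [E.delta ⊤ (sesOf i) hS hA 0, E.zero, hq, ht']

/-- dimension shifting in degrees `≥ 2` -/
lemma bijective_succ_succ {G I : X.Modules} (i : G ⟶ I) [Mono i] [Injective I] (q : ℕ)
    (V : Y.Opens) (h : Function.Bijective (E.ε V (sesOf i).X₃ (q + 1))) :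
    Function.Bijective (E.ε V G (q + 2)) := by
  have hS := sesOf_shortExact i
  have hA := shortExact_toAbOn (f ⁻¹ᵁ V) (sesOf i) hS
  have hiso := isIso_δ_succ f (Δ := Δ) i q
  constructor
  · rw [injective_iff_map_eq_zero]
    intro x hx
    obtain ⟨x', rfl⟩ := exists_extδ_eq i (f ⁻¹ᵁ V) hA (q + 1) x
    rw [E.delta V (sesOf i) hS hA (q + 1) x'] at hx
    have h0 : E.ε V (sesOf i).X₃ (q + 1) x' = 0 :=
      app_injective_of_mono _ V (by rw [hx, map_zero])
    have h1 : x' = 0 := h.1 (by rw [h0, map_zero])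
    rw [h1, map_zero]
  · intro t
    obtain ⟨t', ht'⟩ := (app_bijective_of_isIso (Δ.δ (sesOf i) hS (q + 1) (q + 2) rfl) V).2 t
    obtain ⟨x', hx'⟩ := h.2 t'
    exact ⟨CohCmp.extδ hA (q + 1) x', by rw [E.delta V (sesOf i) hS hA (q + 1) x', hx', ht']⟩

/-- the comparison map over the whole base is bijective on the class `Acyc` -/
theorem bijective_top_of_acyc (q : ℕ) :
    ∀ G : X.Modules, Acyc f G → Function.Bijective (E.ε ⊤ G q) := by
  induction q with
  | zero =>
    intro G _
    exact bijective_zero f E G ⊤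
  | succ q ih =>
    intro G hG
    let J := injectiveResolution G
    let i : G ⟶ J.cocomplex.X 0 := J.ι.f 0
    have : Mono i := (inferInstance : Mono (J.ι.f 0))
    have : Injective (J.cocomplex.X 0) := J.injective 0
    cases q with
    | zero => exact bijective_one f E i (hG 0 0) (hG 0 1)
    | succ q => exact bijective_succ_succ f E i q ⊤ (ih _ (acyc_cokernel f (Δ := Δ) i hG))

/-- **The comparison map over an affine base is bijective.** -/
theorem bijective_top [IsAffine Y] [QuasiCompact f] [QuasiSeparated f]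
    (F : X.Modules) [F.IsQuasicoherent] (q : ℕ) : Function.Bijective (E.ε ⊤ F q) :=
  bijective_top_of_acyc f E q F (acyc_of_isQuasicoherent f F)

end Groth.Agent.H84.SectCmpBij
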