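import Mathlib
import Groth.Prelude.Def_CohCmp
import Groth.Agent.S16463
import Groth.Agent.H84.PushEdge
import Groth.Agent.H84.SectCmpBij

/-!
# The edge map `H^p(Y, f_* G) → H^p(X, G)` is bijective when the higher direct images of `G`
vanish.
-/

set_option autoImplicit false
set_option backward.isDefEq.respectTransparency false
set_option backward.isDefEq.respectTransparency.types false
universe u
open CategoryTheory Limits AlgebraicGeometry Opposite TopologicalSpace

namespace Groth.Agent.H84.PushEdge

open AlgebraicGeometry.Scheme.Modules Abelian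
open Groth.Agent.Lead.SectCmp Groth.Agent.H84.SectCmpInj Groth.Agent.H84.SectCmpBij

variable {X Y : Scheme.{u}} (f : X ⟶ Y)

/-! ### degree zero -/

lemma equiv₀_pushEdge (G : X.Modules) (s : Coh.HH Y ((pushforward f).obj G) 0) :
    Sheaf.H.equiv₀ (Coh.toAb G) isTerminalTop (CohPull.pushEdge f G 0 s) =
      ((pullbackPushforwardAdjunction f).counit.app G).app ⊤
        (((pullbackPushforwardAdjunction f).unit.app ((pushforward f).obj G)).app ⊤
          (Sheaf.H.equiv₀ (Coh.toAb ((pushforward f).obj G)) isTerminalTop s)) := by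
  have h1 := Sheaf.H.equiv₀_naturality (isTerminalTop : IsTerminal (⊤ : X.Opens))
    ((T X).map ((pullbackPushforwardAdjunction f).counit.app G))
    (CohPull.pullMod f ((pushforward f).obj G) 0 s)
  have h2 := CohPull.equiv₀_pullMod f ((pushforward f).obj G) s
  refine Eq.trans ?_ (h1.symm.trans ?_)
  · rfl
  · exact congrArg (((T X).map ((pullbackPushforwardAdjunction f).counit.app G)).hom.app (op ⊤)) h2

lemma equiv₀_pushEdge' (G : X.Modules) (s : Coh.HH Y ((pushforward f).obj G) 0) :
    Sheaf.H.equiv₀ (Coh.toAb G) isTerminalTop (CohPull.pushEdge f G 0 s) =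
      Sheaf.H.equiv₀ (Coh.toAb ((pushforward f).obj G)) isTerminalTop s := by
  rw [equiv₀_pushEdge]
  have h := (pullbackPushforwardAdjunction f).right_triangle_components G
  have h3 := congrArg (fun ψ => Scheme.Modules.Hom.app ψ ⊤) h
  simp only [Scheme.Modules.Hom.comp_app, Scheme.Modules.Hom.id_app] at h3
  exact ConcreteCategory.congr_hom h3 _

theorem pushEdge_zero_bijective (G : X.Modules) :
    Function.Bijective (CohPull.pushEdge f G 0) := by
  constructor
  · intro s s' h
    have h1 := congrArg (Sheaf.H.equiv₀ (Coh.toAb G) isTerminalTop) h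
    rw [equiv₀_pushEdge', equiv₀_pushEdge'] at h1
    exact (Sheaf.H.equiv₀ (Coh.toAb ((pushforward f).obj G)) isTerminalTop).injective h1
  · intro y
    refine ⟨(Sheaf.H.equiv₀ (Coh.toAb ((pushforward f).obj G)) isTerminalTop).symm
      (Sheaf.H.equiv₀ (Coh.toAb G) isTerminalTop y), ?_⟩
    apply (Sheaf.H.equiv₀ (Coh.toAb G) isTerminalTop).injective
    rw [equiv₀_pushEdge', AddEquiv.apply_symm_apply]

/-! ### vanishing of the higher direct images -/

variable [HasInjectiveResolutions X.Modules]

/-- the higher direct images of `G` vanish -/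
def Van (G : X.Modules) : Prop := ∀ q : ℕ, 0 < q → IsZero ((Coh.Rpush f q).obj G)

lemma van_injective (I : X.Modules) [Injective I] : Van f I := by
  intro q hq
  obtain ⟨k, rfl⟩ := Nat.exists_eq_succ_of_ne_zero (Nat.pos_iff_ne_zero.mp hq)
  exact Functor.isZero_rightDerived_obj_injective_succ _ _ _

variable (Δ : RDer.DerivedLES (pushforward f))

include Δ in
lemma van_cokernel {G I : X.Modules} (i : G ⟶ I) [Mono i] [Injective I] (hG : Van f G) :
    Van f (sesOf i).X₃ := by
  intro q hq
  have hS := sesOf_shortExact i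
  have hex := Δ.exact₃ (sesOf i) hS q (q + 1) rfl
  exact hex.isZero_of_both_zeros ((van_injective f I q hq).eq_of_src _ _)
    ((hG (q + 1) (Nat.succ_pos q)).eq_of_tgt _ _)

include Δ in
/-- `f_*` is exact on `0 → G → I → I/G → 0` when `R¹f_* G = 0` -/
lemma shortExact_push {G I : X.Modules} (i : G ⟶ I) [Mono i] [Injective I]
    (hG : IsZero ((Coh.Rpush f 1).obj G)) : ((sesOf i).map (pushforward f)).ShortExact := by
  have hS := sesOf_shortExact i
  have hm := mono_R0_map f i
  have hex3 := Δ.exact₃ (sesOf i) hS 0 1 rfl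
  have hepi : Epi ((Coh.Rpush f 0).map (sesOf i).g) := hex3.epi_f (hG.eq_of_tgt _ _)
  have h0 : ((sesOf i).map (Coh.Rpush f 0)).ShortExact :=
    ShortComplex.ShortExact.mk' (Δ.exact₂ (sesOf i) hS 0) hm hepi
  exact ShortComplex.shortExact_of_iso
    ((sesOf i).mapNatIso (pushforward f).rightDerivedZeroIsoSelf) h0

/-! ### flasqueness of injectives -/

omit [HasInjectiveResolutions X.Modules] in
lemma subsingleton_HH_of_injective (I : X.Modules) [Injective I] (p : ℕ) :
    Subsingleton (Coh.HH X I (p + 1)) := by
  have : TopCat.Sheaf.IsFlasque (Coh.toAb I) :=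
    { epi := fun {W W'} i => by
        rw [AddCommGrpCat.epi_iff_surjective]
        exact Groth.Agent.H33.MV.surjective_presheaf_map_of_injective I i.unop }
  exact Groth.Agent.H30.FlasqueAcyclic.subsingleton_H (Coh.toAb I) p

/-! ### the main theorem -/

/-- **The edge map is bijective when the higher direct images vanish.** -/
theorem pushEdge_bijective (p : ℕ) :
    ∀ G : X.Modules, Van f G → Function.Bijective (CohPull.pushEdge f G p) := by
  obtain ⟨Δ⟩ := Groth.Agent.S16463.result (pushforward f)
  induction p with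
  | zero =>
    intro G _
    exact pushEdge_zero_bijective f G
  | succ p ih =>
    intro G hG
    let J := injectiveResolution G
    let i : G ⟶ J.cocomplex.X 0 := J.ι.f 0
    have : Mono i := (inferInstance : Mono (J.ι.f 0))
    have : Injective (J.cocomplex.X 0) := J.injective 0
    have hS := sesOf_shortExact i
    have hfS := shortExact_push f Δ i (hG 1 Nat.one_pos)
    have hA' : ((sesOf i).map (T X)).ShortExact :=
      Groth.Agent.H49.SectionsExact.shortExact_toSheaf _ hS
    have hA : ((sesOf i).map (pushforward f ⋙ T Y)).ShortExact :=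
      Groth.Agent.H49.SectionsExact.shortExact_toSheaf _ hfS
    have ihQ := ih (sesOf i).X₃ (van_cokernel f Δ i hG)
    have ihI := ih (J.cocomplex.X 0) (van_injective f _)
    constructor
    · rw [injective_iff_map_eq_zero]
      intro x hx
      have hsY := subsingleton_HH_pushforward_of_injective f (J.cocomplex.X 0) p
      obtain ⟨x', rfl⟩ : ∃ x' : Coh.HH Y ((pushforward f).obj (sesOf i).X₃) p,
          CohCmp.extδ hA p x' = x :=
        Ext.covariant_sequence_exact₁ _ hA x (@Subsingleton.elim _ hsY _ _) rfl
      rw [pushEdge_extδ f (sesOf i) hA hA' p x'] at hx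
      obtain ⟨s, hs⟩ := Ext.covariant_sequence_exact₃ _ hA'
        (CohPull.pushEdge f (sesOf i).X₃ p x') rfl hx
      obtain ⟨s', rfl⟩ := ihI.2 s
      have h1 : CohPull.pushEdge f (sesOf i).X₃ p
          (CohPull.mapH ((pushforward f).map (sesOf i).g) p s') =
          CohPull.pushEdge f (sesOf i).X₃ p x' := by
        rw [pushEdge_mapH]
        exact hs
      have hx' := ihQ.1 h1
      rw [← hx']
      exact extδ_mapH_g hA p s'
    · intro y
      have hsX := subsingleton_HH_of_injective (J.cocomplex.X 0) p
      obtain ⟨y', rfl⟩ : ∃ y' : Coh.HH X (sesOf i).X₃ p, CohCmp.extδ hA' p y' = y :=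
        Ext.covariant_sequence_exact₁ _ hA' y (@Subsingleton.elim _ hsX _ _) rfl
      obtain ⟨x', rfl⟩ := ihQ.2 y'
      exact ⟨CohCmp.extδ hA p x', pushEdge_extδ f (sesOf i) hA hA' p x'⟩

end Groth.Agent.H84.PushEdge
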