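import Mathlib
import Groth.Agent.H84.PushEdgeBij
import Groth.Agent.H31.RpushToAb2
import Groth.Agent.H30.AffinePush

/-!
# The edge map `H^p(Y, f_* F) → H^p(X, F)` is bijective for `f` affine and `F` quasi-coherent.
-/

set_option autoImplicit false
universe u
open CategoryTheory Limits AlgebraicGeometry Opposite TopologicalSpace

namespace Groth.Agent.H84.PushEdge

open AlgebraicGeometry.Scheme.Modules

variable {X Y : Scheme.{u}} (f : X ⟶ Y)

/-- the higher direct images (on `O`-modules) of a quasi-coherent module along an affine morphism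
vanish -/
theorem van_of_isAffineHom [IsAffineHom f] [HasInjectiveResolutions X.Modules]
    (F : X.Modules) [Coh.IsQCoh F] : Van f F := by
  intro q hq
  obtain ⟨k, rfl⟩ := Nat.exists_eq_succ_of_ne_zero (Nat.pos_iff_ne_zero.mp hq)
  apply Groth.Agent.H31.RpushToAb2.isZero_of_isZero_toAb
  obtain ⟨e⟩ := Groth.Agent.H31.RpushToAb.nonempty_iso f F (k + 1)
  exact IsZero.of_iso (Groth.Agent.H30.AffinePush.isZero_RpushAb f F k) e

theorem pushEdge_bijective_of_isAffineHom [IsAffineHom f] [HasInjectiveResolutions X.Modules]
    (F : X.Modules) [Coh.IsQCoh F] (p : ℕ) : Function.Bijective (CohPull.pushEdge f F p) :=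
  pushEdge_bijective f p F (van_of_isAffineHom f F)

end Groth.Agent.H84.PushEdge
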