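import Mathlib
import Groth.Prelude.Def_CohCmp
import Groth.Agent.H84.PushEdgeBij

/-!
# The edge map `H^1(Y, f_* G) → H^1(X, G)` is injective (low-degree Leray), for any morphism `f`
and any `O_X`-module `G`.
-/

set_option autoImplicit false
universe u
open CategoryTheory Limits AlgebraicGeometry Opposite TopologicalSpace

namespace Groth.Agent.H84.PushEdge

open AlgebraicGeometry.Scheme.Modules Abelian
open Groth.Agent.Lead.SectCmp Groth.Agent.H84.SectCmpInj Groth.Agent.H84.SectCmpBij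

variable {X Y : Scheme.{u}} (f : X ⟶ Y)

/-- `f_*` is left exact on short exact sequences -/
lemma exact_map_pushforward (S : ShortComplex X.Modules) (hS : S.ShortExact) :
    (S.map (pushforward f)).Exact := by
  have hpl : PreservesLimitsOfSize.{0, 0} (pushforward f) :=
    (pullbackPushforwardAdjunction f).rightAdjoint_preservesLimits
  have hpl' : PreservesLimit (parallelPair S.g 0) (pushforward f) := inferInstance
  exact ShortComplex.Exact.map_of_mono_of_preservesKernel hS.exact (pushforward f) hS.mono_f hpl'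

lemma mono_cokernel_desc_push (S : ShortComplex X.Modules) (hS : S.ShortExact) :
    Mono (cokernel.desc (S.map (pushforward f)).f (S.map (pushforward f)).g
      (S.map (pushforward f)).zero) :=
  (exact_map_pushforward f S hS).mono_cokernelDesc

lemma mono_map_pushforward (S : ShortComplex X.Modules) (hS : S.ShortExact) :
    Mono (S.map (pushforward f)).f := by
  have := hS.mono_f
  exact inferInstanceAs (Mono ((pushforward f).map S.f))

set_option backward.isDefEq.respectTransparency false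
set_option backward.isDefEq.respectTransparency.types false

/-- the morphism of short complexes `f⁻¹ S_Y ⟶ S_X` of abelian sheaves attached to a morphism
`S_Y ⟶ f_* S_X` -/
noncomputable def ccS' (SY : ShortComplex Y.Modules) (SX : ShortComplex X.Modules)
    (φ : SY ⟶ SX.map (pushforward f)) :
    (SY.map (T Y)).map (CohPull.inv f.base) ⟶ SX.map (T X) where
  τ₁ := (CohPull.inv f.base).map ((T Y).map φ.τ₁) ≫ cc f SX.X₁
  τ₂ := (CohPull.inv f.base).map ((T Y).map φ.τ₂) ≫ cc f SX.X₂
  τ₃ := (CohPull.inv f.base).map ((T Y).map φ.τ₃) ≫ cc f SX.X₃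
  comm₁₂ := by
    change ((CohPull.inv f.base).map ((T Y).map φ.τ₁) ≫ cc f SX.X₁) ≫ (T X).map SX.f =
      (CohPull.inv f.base).map ((T Y).map SY.f) ≫
        ((CohPull.inv f.base).map ((T Y).map φ.τ₂) ≫ cc f SX.X₂)
    rw [Category.assoc, ← cc_naturality, ← Category.assoc, ← Category.assoc,
      ← Functor.map_comp, ← Functor.map_comp, ← Functor.map_comp, ← Functor.map_comp]
    congr 3
    exact φ.comm₁₂
  comm₂₃ := by
    change ((CohPull.inv f.base).map ((T Y).map φ.τ₂) ≫ cc f SX.X₂) ≫ (T X).map SX.g =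
      (CohPull.inv f.base).map ((T Y).map SY.g) ≫
        ((CohPull.inv f.base).map ((T Y).map φ.τ₃) ≫ cc f SX.X₃)
    rw [Category.assoc, ← cc_naturality, ← Category.assoc, ← Category.assoc,
      ← Functor.map_comp, ← Functor.map_comp, ← Functor.map_comp, ← Functor.map_comp]
    congr 3
    exact φ.comm₂₃

lemma pushEdge_extδ_gen (SY : ShortComplex Y.Modules) (SX : ShortComplex X.Modules)
    (φ : SY ⟶ SX.map (pushforward f))
    (hA : (SY.map (T Y)).ShortExact) (hA' : (SX.map (T X)).ShortExact)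
    (p : ℕ) (x : Coh.HH Y SY.X₃ p) :
    CohPull.pushEdge f SX.X₁ (p + 1) (CohPull.mapH φ.τ₁ (p + 1) (CohCmp.extδ hA p x)) =
      CohCmp.extδ hA' p (CohPull.pushEdge f SX.X₃ p (CohPull.mapH φ.τ₃ p x)) := by
  rw [pushEdge_eq, pushEdge_eq]
  change (Ext.mk₀ (CohPull.oneTo f.base)).comp
      ((((x.comp hA.extClass rfl).comp (Ext.mk₀ ((T Y).map φ.τ₁)) (add_zero (p + 1))).mapExactFunctor
        (CohPull.inv f.base)).comp (Ext.mk₀ (cc f SX.X₁)) (add_zero (p + 1))) (zero_add (p + 1)) =
    ((Ext.mk₀ (CohPull.oneTo f.base)).comp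
      (((x.comp (Ext.mk₀ ((T Y).map φ.τ₃)) (add_zero p)).mapExactFunctor
        (CohPull.inv f.base)).comp (Ext.mk₀ (cc f SX.X₃)) (add_zero p))
        (zero_add p)).comp hA'.extClass rfl
  have hn := ShortComplex.ShortExact.extClass_naturality
    (hA.map_of_exact (CohPull.inv f.base)) hA' (ccS' f SY SX φ)
  have hR : ((x.comp (Ext.mk₀ ((T Y).map φ.τ₃)) (add_zero p)).mapExactFunctor
        (CohPull.inv f.base)).comp (Ext.mk₀ (cc f SX.X₃)) (add_zero p) =
      (x.mapExactFunctor (CohPull.inv f.base)).comp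
        (Ext.mk₀ (ccS' f SY SX φ).τ₃) (add_zero p) := by
    rw [Ext.mapExactFunctor_comp, Ext.mapExactFunctor_mk₀, Ext.comp_assoc_of_third_deg_zero,
      Ext.mk₀_comp_mk₀]
    rfl
  have hL : (((x.comp hA.extClass rfl).comp (Ext.mk₀ ((T Y).map φ.τ₁))
        (add_zero (p + 1))).mapExactFunctor
        (CohPull.inv f.base)).comp (Ext.mk₀ (cc f SX.X₁)) (add_zero (p + 1)) =
      (x.mapExactFunctor (CohPull.inv f.base)).comp
        ((hA.map_of_exact (CohPull.inv f.base)).extClass.comp
          (Ext.mk₀ (ccS' f SY SX φ).τ₁) (add_zero 1)) rfl := by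
    rw [Ext.mapExactFunctor_comp, Ext.mapExactFunctor_comp, Ext.mapExactFunctor_mk₀,
      Ext.mapExactFunctor_extClass, Ext.comp_assoc_of_third_deg_zero,
      Ext.mk₀_comp_mk₀, Ext.comp_assoc_of_third_deg_zero]
    rfl
  rw [hR, hL]
  erw [hn]
  rw [Ext.comp_assoc (Ext.mk₀ (CohPull.oneTo f.base)) _ hA'.extClass (zero_add p) rfl
    (by omega), Ext.comp_assoc_of_second_deg_zero]

/-- `H^0` of a monomorphism of abelian sheaves is injective -/
lemma H_map_zero_injective {A B : CohTop.Ab Y} (β : A ⟶ B) [Mono β] :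
    Function.Injective (Sheaf.H.map β 0) := by
  intro a b h
  obtain ⟨a', rfl⟩ := (Ext.mk₀_bijective _ _).2 a
  obtain ⟨b', rfl⟩ := (Ext.mk₀_bijective _ _).2 b
  have h' : (Ext.mk₀ a').comp (Ext.mk₀ β) (add_zero 0) = (Ext.mk₀ b').comp (Ext.mk₀ β) (add_zero 0) := h
  rw [Ext.mk₀_comp_mk₀, Ext.mk₀_comp_mk₀] at h'
  have h'' := (Ext.mk₀_bijective _ _).1 h'
  rw [cancel_mono] at h''
  rw [h'']

/-- **The edge map `H^1(Y, f_* G) → H^1(X, G)` is injective.** -/
theorem pushEdge_one_injective (G : X.Modules) :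
    Function.Injective (CohPull.pushEdge f G 1) := by
  let J := injectiveResolution G
  let I : X.Modules := J.cocomplex.X 0
  let i : G ⟶ I := J.ι.f 0
  have : Mono i := (inferInstance : Mono (J.ι.f 0))
  have : Injective I := J.injective 0
  have hS := sesOf_shortExact i
  let S' : ShortComplex Y.Modules := (sesOf i).map (pushforward f)
  have : Mono S'.f := mono_map_pushforward f (sesOf i) hS
  have hSY := sesOf_shortExact S'.f
  let β : (sesOf S'.f).X₃ ⟶ S'.X₃ := cokernel.desc S'.f S'.g S'.zero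
  have hβ : (sesOf S'.f).g ≫ β = S'.g := cokernel.π_desc _ _ _
  have hmonoβ : Mono β := mono_cokernel_desc_push f (sesOf i) hS
  let φ : sesOf S'.f ⟶ (sesOf i).map (pushforward f) :=
    { τ₁ := 𝟙 _
      τ₂ := 𝟙 _
      τ₃ := β
      comm₁₂ := by
        change 𝟙 _ ≫ S'.f = S'.f ≫ 𝟙 _
        rw [Category.id_comp, Category.comp_id]
      comm₂₃ := by
        change 𝟙 _ ≫ S'.g = (sesOf S'.f).g ≫ β
        rw [Category.id_comp, hβ] }
  have hA' : ((sesOf i).map (T X)).ShortExact :=
    Groth.Agent.H49.SectionsExact.shortExact_toSheaf _ hS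
  have hA : ((sesOf S'.f).map (T Y)).ShortExact :=
    Groth.Agent.H49.SectionsExact.shortExact_toSheaf _ hSY
  have hmonoTβ : Mono ((T Y).map β) := inferInstance
  rw [injective_iff_map_eq_zero]
  intro x hx
  have hsY := subsingleton_HH_pushforward_of_injective f I 0
  obtain ⟨q', rfl⟩ : ∃ q' : Coh.HH Y (sesOf S'.f).X₃ 0, CohCmp.extδ hA 0 q' = x :=
    Ext.covariant_sequence_exact₁ _ hA x (@Subsingleton.elim _ hsY _ _) rfl
  have hgen := pushEdge_extδ_gen f (sesOf S'.f) (sesOf i) φ hA hA' 0 q'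
  have hid : CohPull.mapH φ.τ₁ (0 + 1) (CohCmp.extδ hA 0 q') = CohCmp.extδ hA 0 q' := by
    change Sheaf.H.map ((T Y).map (𝟙 _)) (0 + 1) _ = _
    rw [CategoryTheory.Functor.map_id]
    exact Sheaf.H.map_id_apply _
  rw [hid, hx] at hgen
  obtain ⟨s, hs⟩ := Ext.covariant_sequence_exact₃ _ hA'
    (CohPull.pushEdge f (sesOf i).X₃ 0 (CohPull.mapH φ.τ₃ 0 q')) rfl hgen.symm
  obtain ⟨s', rfl⟩ := (pushEdge_zero_bijective f I).2 s
  have h1 : CohPull.pushEdge f (sesOf i).X₃ 0
      (CohPull.mapH ((pushforward f).map (sesOf i).g) 0 s') =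
      CohPull.pushEdge f (sesOf i).X₃ 0 (CohPull.mapH β 0 q') := by
    rw [pushEdge_mapH]
    exact hs
  have h2 := (pushEdge_zero_bijective f (sesOf i).X₃).1 h1
  have h3 : CohPull.mapH β 0 (CohPull.mapH (sesOf S'.f).g 0 s') = CohPull.mapH β 0 q' := by
    rw [← h2]
    change _ = Sheaf.H.map ((T Y).map S'.g) 0 s'
    rw [← hβ, Functor.map_comp, Sheaf.H.map_comp_apply]
  have h4 := H_map_zero_injective ((T Y).map β) h3
  rw [← h4]
  exact extδ_mapH_g hA 0 s'

end Groth.Agent.H84.PushEdge
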