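import Mathlib
import Groth.Agent.S0927
import Groth.Agent.H84.PushEdgeBij
import Groth.Prelude.Def_SecTwist
import Groth.Prelude.Def_DCoh4
import Groth.Prelude.Def_Pic

/-!
# `H^p(X, f^* L) ≃ H^p(Y, L)` for `L` invertible when `R^i f_* O_X = 0` (`i > 0`) and
`f_* O_X ≅ O_Y`.
-/

set_option autoImplicit false
universe u
open CategoryTheory Limits AlgebraicGeometry Opposite TopologicalSpace

namespace Groth.Agent.H84.PushEdge

open AlgebraicGeometry.Scheme.Modules

variable {X Y : Scheme.{u}}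

/-- an isomorphism of modules induces an isomorphism on cohomology -/
noncomputable def HHEquivOfIso {M N : Y.Modules} (e : M ≅ N) (p : ℕ) :
    Coh.HH Y M p ≃+ Coh.HH Y N p where
  toFun := CohPull.mapH e.hom p
  invFun := CohPull.mapH e.inv p
  left_inv x := by
    have h1 : Sheaf.H.map ((T Y).map e.hom ≫ (T Y).map e.inv) p x = x := by
      rw [← Functor.map_comp, e.hom_inv_id, CategoryTheory.Functor.map_id]
      exact Sheaf.H.map_id_apply x
    rw [Sheaf.H.map_comp_apply] at h1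
    exact h1
  right_inv x := by
    have h1 : Sheaf.H.map ((T Y).map e.inv ≫ (T Y).map e.hom) p x = x := by
      rw [← Functor.map_comp, e.inv_hom_id, CategoryTheory.Functor.map_id]
      exact Sheaf.H.map_id_apply x
    rw [Sheaf.H.map_comp_apply] at h1
    exact h1
  map_add' := map_add _

/-- an invertible module is finite locally free -/
lemma isFinLocFree_of_isInvertible {L : Y.Modules} (hL : PicF.IsInvertible L) :
    FlatMod.IsFinLocFree L := by
  intro y
  obtain ⟨U, hyU, ⟨e⟩⟩ := hL y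
  refine ⟨U, 1, hyU, ⟨e ≪≫ ?_⟩⟩
  exact (coproductUniqueIso (fun _ : Fin 1 => Coh.structureModule (↑U))).symm

lemma isZero_tensorMod_right (E : Y.Modules) {Z : Y.Modules} (hZ : IsZero Z) :
    IsZero (CohB1.tensorMod E Z) :=
  (DCoh.tensorBi.obj E).map_isZero hZ

/-- `tensorMod E -` applied to an isomorphism -/
noncomputable def tensorModIsoRight (E : Y.Modules) {N N' : Y.Modules} (e : N ≅ N') :
    CohB1.tensorMod E N ≅ CohB1.tensorMod E N' :=
  (DCoh.tensorBi.obj E).mapIso e

variable (f : X ⟶ Y) [HasInjectiveResolutions X.Modules]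

theorem van_pullback_invertible
    (hR : ∀ i : ℕ, IsZero ((Coh.Rpush f (i + 1)).obj (Coh.structureModule X)))
    (L : Y.Modules) (hL : PicF.IsInvertible L) : Van f ((Scheme.Modules.pullback f).obj L) := by
  intro q hq
  obtain ⟨k, rfl⟩ := Nat.exists_eq_succ_of_ne_zero (Nat.pos_iff_ne_zero.mp hq)
  obtain ⟨e⟩ := Groth.Agent.S0927.result f (Coh.structureModule X) L
    (isFinLocFree_of_isInvertible hL) (k + 1)
  have h1 : IsZero ((Coh.Rpush f (k + 1)).obj
      (CohB1.tensorMod ((Scheme.Modules.pullback f).obj L) (Coh.structureModule X))) :=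
    IsZero.of_iso (isZero_tensorMod_right L (hR k)) e.symm
  exact IsZero.of_iso h1
    ((Coh.Rpush f (k + 1)).mapIso (SecTwist.unitorR ((Scheme.Modules.pullback f).obj L)).symm)

theorem nonempty_push_pullback_iso
    (h0 : Nonempty ((Coh.push f).obj (Coh.structureModule X) ≅ Coh.structureModule Y))
    (L : Y.Modules) (hL : PicF.IsInvertible L) :
    Nonempty ((pushforward f).obj ((Scheme.Modules.pullback f).obj L) ≅ L) := by
  obtain ⟨e0⟩ := h0
  obtain ⟨e⟩ := Groth.Agent.S0927.result f (Coh.structureModule X) L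
    (isFinLocFree_of_isInvertible hL) 0
  let F₀ := (Scheme.Modules.pullback f).obj L
  -- `f_* F₀ ≅ R⁰f_* F₀ ≅ R⁰f_*(F₀ ⊗ O) ≅ L ⊗ R⁰f_* O ≅ L ⊗ f_* O ≅ L ⊗ O ≅ L`
  have a1 : (pushforward f).obj F₀ ≅ (Coh.Rpush f 0).obj F₀ :=
    asIso ((pushforward f).toRightDerivedZero.app F₀)
  have a2 : (Coh.Rpush f 0).obj F₀ ≅
      (Coh.Rpush f 0).obj (CohB1.tensorMod F₀ (Coh.structureModule X)) :=
    (Coh.Rpush f 0).mapIso (SecTwist.unitorR F₀).symm
  have a3 : (Coh.Rpush f 0).obj (Coh.structureModule X) ≅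
      (pushforward f).obj (Coh.structureModule X) :=
    (asIso ((pushforward f).toRightDerivedZero.app (Coh.structureModule X))).symm
  exact ⟨a1 ≪≫ a2 ≪≫ e.symm ≪≫ tensorModIsoRight L (a3 ≪≫ e0) ≪≫ SecTwist.unitorR L⟩

/-- **`H^p(X, f^* L) ≃ H^p(Y, L)`** -/
theorem nonempty_HH_pullback_equiv
    (hR : ∀ i : ℕ, IsZero ((Coh.Rpush f (i + 1)).obj (Coh.structureModule X)))
    (h0 : Nonempty ((Coh.push f).obj (Coh.structureModule X) ≅ Coh.structureModule Y))
    (L : Y.Modules) (hL : PicF.IsInvertible L) (p : ℕ) :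
    Nonempty (Coh.HH X ((Scheme.Modules.pullback f).obj L) p ≃+ Coh.HH Y L p) := by
  obtain ⟨e⟩ := nonempty_push_pullback_iso f h0 L hL
  have hb := pushEdge_bijective f p _ (van_pullback_invertible f hR L hL)
  exact ⟨(AddEquiv.ofBijective _ hb).symm.trans (HHEquivOfIso e p)⟩

end Groth.Agent.H84.PushEdge
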