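import Mathlib
import Groth.Prelude.Def_Canon
import Groth.Agent.H30.SmulMod
import Groth.Agent.H84.PushEdgeInj1

/-!
# The edge map `H^p(Y, f_* G) → H^p(X, G)` is linear over an affine base, and
`dim H^1(Y, O_Y) ≤ dim H^1(X, O_X)` when `O_Y → f_* O_X` is bijective.
-/

set_option autoImplicit false
universe u
open CategoryTheory Limits AlgebraicGeometry Opposite TopologicalSpace

namespace Groth.Agent.H84.PushEdge

open AlgebraicGeometry.Scheme.Modules Abelian
open Groth.Agent.H30.SmulMod

variable {X Y : Scheme.{u}} (f : X ⟶ Y)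

lemma toGlobal_comp' {A : Type u} [CommRing A] (g : Y ⟶ Spec (CommRingCat.of A)) (a : A) :
    Coh.toGlobal (f ≫ g) a = f.appTop.hom (Coh.toGlobal g a) := by
  unfold Coh.toGlobal
  rw [Scheme.Hom.comp_appTop]
  rfl

/-- the edge map as a linear map over an affine base -/
noncomputable def pushEdgeLin (A : Type u) [CommRing A]
    [X.Over (Spec (CommRingCat.of A))] [Y.Over (Spec (CommRingCat.of A))]
    (hf : f ≫ (Y ↘ Spec (CommRingCat.of A)) = X ↘ Spec (CommRingCat.of A))
    (G : X.Modules) (p : ℕ) :
    Coh.HH Y ((pushforward f).obj G) p →ₗ[A] Coh.HH X G p where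
  toFun := CohPull.pushEdge f G p
  map_add' := map_add _
  map_smul' a x := by
    change CohPull.pushEdge f G p
        (Sheaf.H.map (Coh.smulAb ((pushforward f).obj G)
          (Coh.toGlobal (Y ↘ Spec (CommRingCat.of A)) a)) p x) =
      Sheaf.H.map (Coh.smulAb G (Coh.toGlobal (X ↘ Spec (CommRingCat.of A)) a)) p
        (CohPull.pushEdge f G p x)
    have e1 : Coh.toGlobal (X ↘ Spec (CommRingCat.of A)) a =
        f.appTop (Coh.toGlobal (Y ↘ Spec (CommRingCat.of A)) a) := by
      rw [← hf]
      exact toGlobal_comp' f _ a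
    rw [e1, ← toSheaf_map_smulMod, ← toSheaf_map_smulMod, ← pushforward_map_smulMod]
    exact pushEdge_mapH f (smulMod G (f.appTop (Coh.toGlobal (Y ↘ Spec (CommRingCat.of A)) a))) p x

/-- the canonical morphism `O_Y ⟶ f_* O_X` of `O_Y`-modules -/
noncomputable def unitToPush :
    Coh.structureModule Y ⟶ (pushforward f).obj (Coh.structureModule X) :=
  SheafOfModules.unitToPushforwardObjUnit f.toRingCatSheafHom

lemma isIso_unitToPush (hfib : ∀ V : Y.Opens, IsIso (f.app V)) : IsIso (unitToPush f) := by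
  rw [Scheme.Modules.Hom.isIso_iff_isIso_app]
  intro V
  rw [ConcreteCategory.isIso_iff_bijective]
  exact (ConcreteCategory.isIso_iff_bijective (f.app V)).1 (hfib V)

lemma mapH_injective_of_isIso {M N : Y.Modules} (e : M ⟶ N) [IsIso e] (p : ℕ) :
    Function.Injective (CohPull.mapH e p) := by
  intro x y h
  have h1 : ∀ z, Sheaf.H.map ((T Y).map e ≫ (T Y).map (inv e)) p z = z := by
    intro z
    rw [← Functor.map_comp, IsIso.hom_inv_id, CategoryTheory.Functor.map_id]
    exact Sheaf.H.map_id_apply z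
  have hx := h1 x
  have hy := h1 y
  rw [Sheaf.H.map_comp_apply] at hx hy
  rw [← hx, ← hy]
  exact congrArg _ h

/-- **`dim_k H^1(Y, O_Y) ≤ dim_k H^1(X, O_X)` for a fibration `f : X ⟶ Y` over a field.** -/
theorem finrank_HH_one_le (k : Type u) [Field k]
    [X.Over (Spec (CommRingCat.of k))] [Y.Over (Spec (CommRingCat.of k))]
    (hf : f ≫ (Y ↘ Spec (CommRingCat.of k)) = X ↘ Spec (CommRingCat.of k))
    (hfib : ∀ V : Y.Opens, IsIso (f.app V))
    [Module.Finite k (Coh.HH X (Coh.structureModule X) 1)] :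
    Module.finrank k (Coh.HH Y (Coh.structureModule Y) 1) ≤
      Module.finrank k (Coh.HH X (Coh.structureModule X) 1) := by
  have := isIso_unitToPush f hfib
  let L : Coh.HH Y (Coh.structureModule Y) 1 →ₗ[k] Coh.HH X (Coh.structureModule X) 1 :=
    (pushEdgeLin f k hf (Coh.structureModule X) 1).comp (Canon.HHlin k (unitToPush f) 1)
  have hinj : Function.Injective L :=
    (pushEdge_one_injective f (Coh.structureModule X)).comp
      (mapH_injective_of_isIso (unitToPush f) 1)
  exact LinearMap.finrank_le_finrank_of_injective hinj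

end Groth.Agent.H84.PushEdge
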