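import Groth.Agent.H84.QuadUniv

/-!
# The centraliser argument for orthogonal groups (helper84)
-/

set_option autoImplicit false

namespace Groth.Agent.H84

open Matrix

section abstract

variable {R' : Type*} [CommRing R'] {V : Type*} [AddCommGroup V] [Module R' V]
  {ι : Type*} [DecidableEq ι]

/-- Abstract centraliser lemma: if `g` commutes with all the infinitesimal isometries
`y ↦ β(y,u) w - β(y,w) u`, and the coordinate functionals (w.r.t. a basis `b`) of all basis vectors
except one `b i₀` are of the form `β(x_j, ·)`, and there are at least two such indices, then `g` is a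
scalar. -/
theorem scalar_of_lie_comm (b : Module.Basis ι R' V) (β : V → V → R') (g : V →ₗ[R'] V)
    (i₀ : ι) (x : ι → V)
    (hx : ∀ j, j ≠ i₀ → ∀ l, β (x j) (b l) = if j = l then 1 else 0)
    (h1 : ∀ y u w, β y u • g w - β y w • g u = β (g y) u • w - β (g y) w • u)
    (j₁ j₂ : ι) (h₁ : j₁ ≠ i₀) (h₂ : j₂ ≠ i₀) (h₁₂ : j₁ ≠ j₂) :
    ∃ d : R', ∀ v, g v = d • v := by
  -- Step 1
  have s1 : ∀ j, j ≠ i₀ → g (b i₀) = β (g (x j)) (b j) • b i₀ - β (g (x j)) (b i₀) • b j := by
    intro j hj
    have := h1 (x j) (b j) (b i₀)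
    rw [hx j hj j, if_pos rfl, hx j hj i₀, if_neg hj, one_smul, zero_smul, sub_zero] at this
    exact this
  set d := β (g (x j₁)) (b j₁) with hd
  have hβ1 : β (g (x j₁)) (b i₀) = 0 := by
    have e := (s1 j₁ h₁).symm.trans (s1 j₂ h₂)
    have := congrArg (fun v => b.repr v j₁) e
    simp only [map_sub, map_smul, Module.Basis.repr_self, Finsupp.coe_sub, Finsupp.coe_smul,
      Pi.sub_apply, Pi.smul_apply, Finsupp.single_apply, smul_eq_mul] at this
    simpa [Ne.symm h₁, Ne.symm h₁₂] using this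
  have hg0 : g (b i₀) = d • b i₀ := by
    rw [s1 j₁ h₁, hβ1, zero_smul, sub_zero]
  have s1' : ∀ j, j ≠ i₀ → β (g (x j)) (b j) = d ∧ β (g (x j)) (b i₀) = 0 := by
    intro j hj
    have e := hg0.symm.trans (s1 j hj)
    constructor
    · have := congrArg (fun v => b.repr v i₀) e
      simp only [map_sub, map_smul, Module.Basis.repr_self, Finsupp.coe_sub, Finsupp.coe_smul,
        Pi.sub_apply, Pi.smul_apply, Finsupp.single_apply, smul_eq_mul] at this
      simpa [hj] using this.symm
    · have := congrArg (fun v => b.repr v j) e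
      simp only [map_sub, map_smul, Module.Basis.repr_self, Finsupp.coe_sub, Finsupp.coe_smul,
        Pi.sub_apply, Pi.smul_apply, Finsupp.single_apply, smul_eq_mul] at this
      simpa [Ne.symm hj] using this.symm
  -- Step 2
  have s2 : ∀ k, k ≠ i₀ → ∀ l, β (g (x k)) (b l) = if k = l then d else 0 := by
    intro k hk l
    have := h1 (x k) (b i₀) (b l)
    rw [hx k hk i₀, if_neg hk, zero_smul, zero_sub, (s1' k hk).2, zero_smul, zero_sub, hx k hk l, hg0] at this
    have := congrArg (fun v => b.repr v i₀) this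
    simp only [map_neg, map_smul, Module.Basis.repr_self, Finsupp.coe_neg, Finsupp.coe_smul,
      Pi.neg_apply, Pi.smul_apply, Finsupp.single_apply, smul_eq_mul, neg_inj] at this
    simp only [if_true, mul_one] at this
    rw [← this]
    split_ifs <;> simp
  -- Step 3
  have s3 : ∀ l, g (b l) = d • b l := by
    intro l
    by_cases hl : l = i₀
    · rw [hl]; exact hg0
    · obtain ⟨k, hk, hkl⟩ : ∃ k, k ≠ i₀ ∧ k ≠ l := by
        by_cases h : j₁ = l
        · exact ⟨j₂, h₂, fun h' => h₁₂ (h.trans h'.symm)⟩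
        · exact ⟨j₁, h₁, h⟩
      have := h1 (x k) (b k) (b l)
      rw [hx k hk k, if_pos rfl, hx k hk l, if_neg hkl, one_smul, zero_smul, sub_zero, s2 k hk k, if_pos rfl,
        s2 k hk l, if_neg hkl, zero_smul, sub_zero] at this
      exact this
  refine ⟨d, fun v => ?_⟩
  have : g = d • LinearMap.id := b.ext fun l => by
    rw [s3 l]; rfl
  rw [this]; rfl

end abstract

section matrix

variable {R' : Type*} [CommRing R'] {n : ℕ}

/-- The bilinear form attached to a matrix. -/
def bil (P : Matrix (Fin n) (Fin n) R') (y u : Fin n → R') : R' := y ⬝ᵥ (P *ᵥ u)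

theorem bil_symm (P : Matrix (Fin n) (Fin n) R') (hP : Pᵀ = P) (y u : Fin n → R') :
    bil P y u = bil P u y := by
  unfold bil
  rw [Matrix.dotProduct_mulVec, ← Matrix.mulVec_transpose, hP, dotProduct_comm]

/-- The infinitesimal generators of the orthogonal group: `y ↦ B(u,y) w - B(w,y) u`. -/
def lieGen (P : Matrix (Fin n) (Fin n) R') (u w : Fin n → R') : Matrix (Fin n) (Fin n) R' :=
  (vecMulVec w u - vecMulVec u w) * P

theorem lieGen_mulVec (P : Matrix (Fin n) (Fin n) R') (u w y : Fin n → R') :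
    lieGen P u w *ᵥ y = bil P u y • w - bil P w y • u := by
  unfold lieGen bil
  rw [← Matrix.mulVec_mulVec, Matrix.sub_mulVec, vecMulVec_mulVec, vecMulVec_mulVec]
  simp [op_smul_eq_smul]

theorem bil_smul_eq_zero (P : Matrix (Fin n) (Fin n) R') (r : R') (hr : ∀ a b, r * P a b = 0)
    (y u : Fin n → R') : r * bil P y u = 0 := by
  unfold bil
  simp only [dotProduct, mulVec, Finset.mul_sum]
  refine Finset.sum_eq_zero fun a _ => Finset.sum_eq_zero fun b _ => ?_
  have := hr a b
  linear_combination (y a * u b) * this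

theorem matrix_scalar_of_comm (P G : Matrix (Fin n) (Fin n) R') (hP : Pᵀ = P) (hn : 3 ≤ n)
    (i j : Fin n) (hγ : IsUnit (P.adjugate i j))
    (hcomm : ∀ u w : Fin n → R', G * lieGen P u w = lieGen P u w * G) :
    (∃ d : R', ∀ v, G *ᵥ v = d • v) ∧ (∃ y u : Fin n → R', bil P y u = 1) := by
  classical
  set C := P.adjugate with hC
  have hCsymm : Cᵀ = C := by rw [hC, adjugate_transpose, hP]
  obtain ⟨γ, hγe⟩ := hγ
  set c : Fin n → R' := fun l => C l j with hc
  have hPc : P *ᵥ c = P.det • Pi.single j 1 := by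
    have : c = C *ᵥ Pi.single j 1 := by rw [mulVec_single_one]; rfl
    rw [this, mulVec_mulVec, hC, mul_adjugate, smul_mulVec, one_mulVec]
  -- the basis
  set T : Matrix (Fin n) (Fin n) R' := (1 : Matrix _ _ R').updateCol i c with hT
  have hTdet : T.det = C i j := by
    rw [hT, ← cramer_apply, cramer_one]; rfl
  have hTu : IsUnit T.det := by rw [hTdet, ← hγe]; exact γ.isUnit
  let e : (Fin n → R') ≃ₗ[R'] (Fin n → R') := Matrix.toLinearEquiv' T (T.invertibleOfIsUnitDet hTu)
  let b : Module.Basis (Fin n) R' (Fin n → R') := (Pi.basisFun R' (Fin n)).map e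
  have hb : ∀ l, b l = if l = i then c else Pi.single l 1 := by
    intro l
    rw [Module.Basis.map_apply, Pi.basisFun_apply]
    change Matrix.toLin' T (Pi.single l 1) = _
    rw [toLin'_apply, mulVec_single_one]
    ext k
    rw [Matrix.col_apply, hT, updateCol_apply]
    split_ifs with h <;> simp [Matrix.one_apply, Pi.single_apply]
  -- an auxiliary invertible matrix
  have hγinv : (↑γ⁻¹ : R') * C i j = 1 := by rw [← hγe]; simp
  set s : R' := ↑γ⁻¹ * (1 - P.det) with hs
  set P' : Matrix (Fin n) (Fin n) R' := P.updateRow i (P i + s • Pi.single j 1) with hP'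
  have hP'det : P'.det = 1 := by
    rw [hP', det_updateRow_add, det_updateRow_smul, updateRow_eq_self, ← adjugate_apply]
    have h1 : P.adjugate j i = C i j := by
      have := congrFun (congrFun hCsymm i) j
      rw [transpose_apply] at this
      exact this
    rw [h1, hs]
    linear_combination (1 - P.det) * hγinv
  have hP'mul : ∀ x : Fin n → R', P' *ᵥ x = P *ᵥ x + (s * x j) • Pi.single i 1 := by
    intro x
    ext k
    simp only [mulVec, hP', Pi.add_apply, Pi.smul_apply, smul_eq_mul]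
    by_cases hk : k = i
    · subst hk
      rw [updateRow_self, add_dotProduct, smul_dotProduct, single_dotProduct]
      simp
    · rw [updateRow_ne hk]
      simp [hk]
  -- the dual vectors
  let f : Fin n → (Fin n → R') := fun l => Pi.single l 1 - (↑γ⁻¹ * C l j) • Pi.single i 1
  let x : Fin n → (Fin n → R') := fun l => P'.adjugate *ᵥ f l
  have hx1 : ∀ l, P' *ᵥ x l = f l := by
    intro l
    simp only [x]
    rw [mulVec_mulVec, mul_adjugate, hP'det, one_smul, one_mulVec]
  have hcf : ∀ l, c ⬝ᵥ f l = 0 := by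
    intro l
    simp only [f, dotProduct_sub, dotProduct_smul, dotProduct_single, hc, smul_eq_mul, mul_one]
    linear_combination (-C l j) * hγinv
  have hxj : ∀ l, x l j = 0 := by
    intro l
    have h1 := hx1 l
    rw [hP'mul] at h1
    have h2 : c ⬝ᵥ (P *ᵥ x l) = P.det * x l j := by
      rw [dotProduct_mulVec, ← mulVec_transpose, hP, hPc, smul_dotProduct, single_dotProduct]
      simp
    have h3 := congrArg (fun v => c ⬝ᵥ v) h1
    simp only [dotProduct_add, dotProduct_smul, dotProduct_single, smul_eq_mul, mul_one] at h3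
    rw [hcf, h2, show c i = C i j from rfl, hs] at h3
    linear_combination h3 - (x l j) * (1 - P.det) * hγinv
  have hx2 : ∀ l, P *ᵥ x l = f l := by
    intro l
    have h1 := hx1 l
    rw [hP'mul, hxj, mul_zero, zero_smul, add_zero] at h1
    exact h1
  have hxb : ∀ l, l ≠ i → ∀ k, bil P (x l) (b k) = if l = k then 1 else 0 := by
    intro l hl k
    rw [bil_symm P hP, bil, hx2, hb]
    by_cases hk : k = i
    · rw [if_pos hk, hcf, if_neg (by rw [hk]; exact hl)]
    · rw [if_neg hk]
      simp only [f, dotProduct_sub, dotProduct_smul, single_dotProduct, one_mul, smul_eq_mul,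
        Pi.single_apply, if_neg hk, mul_zero, sub_zero]
      simp [eq_comm]
  -- the commutation relation
  have h1 : ∀ y u w : Fin n → R', bil P y u • (Matrix.toLin' G) w - bil P y w • (Matrix.toLin' G) u =
      bil P ((Matrix.toLin' G) y) u • w - bil P ((Matrix.toLin' G) y) w • u := by
    intro y u w
    have := congrArg (fun M => M *ᵥ y) (hcomm u w)
    simp only [← mulVec_mulVec, lieGen_mulVec, mulVec_sub, mulVec_smul] at this
    rw [toLin'_apply, toLin'_apply, toLin'_apply, bil_symm P hP y u, bil_symm P hP y w,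
      bil_symm P hP (G *ᵥ y) u, bil_symm P hP (G *ᵥ y) w]
    exact this
  -- two indices different from `i`
  obtain ⟨j₁, j₂, h₁, h₂, h₁₂⟩ : ∃ j₁ j₂ : Fin n, j₁ ≠ i ∧ j₂ ≠ i ∧ j₁ ≠ j₂ := by
    by_cases h0 : (⟨0, by omega⟩ : Fin n) = i
    · refine ⟨⟨1, by omega⟩, ⟨2, by omega⟩, ?_, ?_, ?_⟩
      · rw [← h0]; simp [Fin.ext_iff]
      · rw [← h0]; simp [Fin.ext_iff]
      · simp [Fin.ext_iff]
    · by_cases h1 : (⟨1, by omega⟩ : Fin n) = i
      · refine ⟨⟨0, by omega⟩, ⟨2, by omega⟩, h0, ?_, ?_⟩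
        · rw [← h1]; simp [Fin.ext_iff]
        · simp [Fin.ext_iff]
      · exact ⟨⟨0, by omega⟩, ⟨1, by omega⟩, h0, h1, by simp [Fin.ext_iff]⟩
  obtain ⟨d, hd⟩ := scalar_of_lie_comm b (bil P) (Matrix.toLin' G) i x hxb h1 j₁ j₂ h₁ h₂ h₁₂
  exact ⟨⟨d, fun v => by rw [← toLin'_apply]; exact hd v⟩,
    ⟨x j₁, b j₁, by rw [hxb j₁ h₁ j₁, if_pos rfl]⟩⟩

theorem trace_lieGen (P : Matrix (Fin n) (Fin n) R') (hP : Pᵀ = P) (u w : Fin n → R') :
    trace (lieGen P u w) = 0 := by
  unfold lieGen
  rw [Matrix.sub_mul, trace_sub, vecMulVec_mul, vecMulVec_mul, trace_vecMulVec, trace_vecMulVec,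
    dotProduct_comm w, dotProduct_comm u, ← dotProduct_mulVec, ← dotProduct_mulVec]
  exact sub_eq_zero.mpr (bil_symm P hP u w)

theorem bil_lieGen_self (P : Matrix (Fin n) (Fin n) R') (hP : Pᵀ = P) (u w x : Fin n → R') :
    bil P x (lieGen P u w *ᵥ x) = 0 := by
  rw [lieGen_mulVec]
  unfold bil
  rw [mulVec_sub, mulVec_smul, mulVec_smul, dotProduct_sub, dotProduct_smul, dotProduct_smul]
  change bil P u x • bil P x w - bil P w x • bil P x u = 0
  rw [bil_symm P hP x w, bil_symm P hP x u, smul_eq_mul, smul_eq_mul]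
  ring

/-- Polarisation of the quadratic function `x ↦ xᵀ M x`. -/
theorem quad_add (M P : Matrix (Fin n) (Fin n) R') (hMP : M + Mᵀ = P) (a b : Fin n → R') :
    (a + b) ⬝ᵥ M *ᵥ (a + b) = a ⬝ᵥ M *ᵥ a + b ⬝ᵥ M *ᵥ b + bil P a b := by
  unfold bil
  rw [← hMP]
  simp only [add_mulVec, mulVec_add, dotProduct_add, add_dotProduct]
  rw [dotProduct_mulVec a Mᵀ b, vecMul_transpose, dotProduct_comm (M *ᵥ a) b]
  ring

section eps

variable (ε : R') (hε : ε * ε = 0)

include hε in
theorem one_add_mul_one_sub (Y : Matrix (Fin n) (Fin n) R') : (1 + ε • Y) * (1 - ε • Y) = 1 := by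
  have h0 : (ε • Y) * (ε • Y) = 0 := by rw [Matrix.smul_mul, Matrix.mul_smul, smul_smul, hε, zero_smul]
  generalize ε • Y = Z at h0 ⊢
  have : (1 + Z) * (1 - Z) = 1 - Z * Z := by noncomm_ring
  rw [this, h0, sub_zero]

include hε in
theorem one_sub_mul_one_add (Y : Matrix (Fin n) (Fin n) R') : (1 - ε • Y) * (1 + ε • Y) = 1 := by
  have h0 : (ε • Y) * (ε • Y) = 0 := by rw [Matrix.smul_mul, Matrix.mul_smul, smul_smul, hε, zero_smul]
  generalize ε • Y = Z at h0 ⊢
  have : (1 - Z) * (1 + Z) = 1 - Z * Z := by noncomm_ring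
  rw [this, h0, sub_zero]

include hε in
theorem det_one_add_eps_lieGen (P : Matrix (Fin n) (Fin n) R') (hP : Pᵀ = P) (u w : Fin n → R') :
    (1 + ε • lieGen P u w).det = 1 := by
  rw [det_one_add_smul, trace_lieGen P hP, pow_two, hε]
  simp

include hε in
/-- `1 + ε X` preserves the quadratic function `x ↦ xᵀ M x` when `X` is an infinitesimal generator
for the polar matrix `M + Mᵀ`. -/
theorem quad_one_add_eps_lieGen (M P : Matrix (Fin n) (Fin n) R') (hMP : M + Mᵀ = P)
    (u w x : Fin n → R') :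
    ((1 + ε • lieGen P u w) *ᵥ x) ⬝ᵥ M *ᵥ ((1 + ε • lieGen P u w) *ᵥ x) = x ⬝ᵥ M *ᵥ x := by
  have hP : Pᵀ = P := by rw [← hMP, transpose_add, transpose_transpose, add_comm]
  set v := lieGen P u w *ᵥ x with hv
  have h1 : (1 + ε • lieGen P u w) *ᵥ x = x + ε • v := by
    rw [add_mulVec, one_mulVec, smul_mulVec]
  rw [h1]
  have hpol : ∀ a b : Fin n → R', (a + b) ⬝ᵥ M *ᵥ (a + b) = a ⬝ᵥ M *ᵥ a + b ⬝ᵥ M *ᵥ b + bil P a b := by
    intro a b
    unfold bil
    rw [← hMP]
    simp only [add_mulVec, mulVec_add, dotProduct_add, add_dotProduct]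
    rw [dotProduct_mulVec a Mᵀ b, vecMul_transpose, dotProduct_comm (M *ᵥ a) b]
    ring
  rw [hpol]
  have h2 : (ε • v) ⬝ᵥ M *ᵥ (ε • v) = 0 := by
    rw [mulVec_smul, smul_dotProduct, dotProduct_smul, smul_smul, hε, zero_smul]
  have h3 : bil P x (ε • v) = 0 := by
    unfold bil
    rw [mulVec_smul, dotProduct_smul]
    change ε • bil P x v = 0
    rw [hv, bil_lieGen_self P hP, smul_zero]
  rw [h2, h3, add_zero, add_zero]

end eps

end matrix

end Groth.Agent.H84
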