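import Groth.Agent.H84.QuadMain

/-!
# Dickson-triviality of the infinitesimal isometries `1 + ε X_{U,W}` (helper84)
-/

set_option autoImplicit false

universe u

namespace Groth.Agent.H84

open CliffordAlgebra QuadGrp

section clifford

variable {A : Type*} [CommRing A] {V : Type*} [AddCommGroup V] [Module A V] (Q' : QuadraticForm A V)
  (ε : A) (hε : ε * ε = 0) (U W : V)

/-- The infinitesimal generator `x ↦ B(U,x) W - B(W,x) U`. -/
def infX (x : V) : V := QuadraticMap.polar Q' U x • W - QuadraticMap.polar Q' W x • U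

theorem comm_ι (x : V) :
    ι Q' x * (ι Q' U * ι Q' W) - (ι Q' U * ι Q' W) * ι Q' x = ι Q' (infX Q' U W x) := by
  have h1 := ι_mul_ι_add_swap (Q := Q') W x
  have h2 := ι_mul_ι_add_swap (Q := Q') U x
  have e1 : ι Q' W * ι Q' x = algebraMap A _ (QuadraticMap.polar Q' W x) - ι Q' x * ι Q' W :=
    eq_sub_of_add_eq h1
  have e2 : ι Q' U * ι Q' x = algebraMap A _ (QuadraticMap.polar Q' U x) - ι Q' x * ι Q' U :=
    eq_sub_of_add_eq h2
  unfold infX
  rw [map_sub, map_smul, map_smul, Algebra.smul_def, Algebra.smul_def]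
  have e3 : (ι Q' U * ι Q' W) * ι Q' x =
      algebraMap A _ (QuadraticMap.polar Q' W x) * ι Q' U
        - algebraMap A _ (QuadraticMap.polar Q' U x) * ι Q' W + ι Q' x * (ι Q' U * ι Q' W) := by
    rw [mul_assoc, e1, mul_sub, ← mul_assoc, e2, sub_mul, mul_assoc (ι Q' x),
      ← Algebra.commutes (QuadraticMap.polar Q' W x) (ι Q' U)]
    abel
  rw [e3]
  abel

include hε in
/-- If `h = 1 + ε X_{U,W}` is an isometry then it satisfies the Dickson condition: the induced
automorphism of the Clifford algebra is conjugation by the even unit `1 - ε U W`. -/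
theorem isDicksonTrivial_of_eq (h : V ≃ₗ[A] V) (hh : h ∈ QuadGrp.O Q')
    (hX : ∀ x, h x = x + ε • infX Q' U W x) : QuadGrp.IsDicksonTrivial Q' h hh := by
  set a : CliffordAlgebra Q' := ι Q' U * ι Q' W with ha
  set ζ : CliffordAlgebra Q' := 1 - ε • a with hζ
  set ζ' : CliffordAlgebra Q' := 1 + ε • a with hζ'
  have h0 : (ε • a) * (ε • a) = 0 := by rw [smul_mul_smul_comm, hε, zero_smul]
  have h1 : ζ * ζ' = 1 := by
    rw [hζ, hζ']
    generalize ε • a = b at h0 ⊢
    have : (1 - b) * (1 + b) = 1 - b * b := by noncomm_ring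
    rw [this, h0, sub_zero]
  have h2 : ζ' * ζ = 1 := by
    rw [hζ, hζ']
    generalize ε • a = b at h0 ⊢
    have : (1 + b) * (1 - b) = 1 - b * b := by noncomm_ring
    rw [this, h0, sub_zero]
  -- conjugation by ζ
  let φ : CliffordAlgebra Q' →ₐ[A] CliffordAlgebra Q' :=
    { toFun := fun y => ζ * y * ζ'
      map_one' := by rw [mul_one, h1]
      map_mul' := fun y y' => by
        calc ζ * (y * y') * ζ' = ζ * y * (1 * y') * ζ' := by rw [one_mul]; noncomm_ring
          _ = ζ * y * (ζ' * ζ * y') * ζ' := by rw [h2]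
          _ = ζ * y * ζ' * (ζ * y' * ζ') := by noncomm_ring
      map_zero' := by rw [mul_zero, zero_mul]
      map_add' := fun y y' => by rw [mul_add ζ y y', add_mul]
      commutes' := fun r => by
        rw [← Algebra.commutes, mul_assoc, h1, mul_one] }
  have hφ : ∀ y, φ y = ζ * y * ζ' := fun y => rfl
  have hmap : CliffordAlgebra.map (QuadGrp.isometryOfMem Q' h hh) = φ := by
    apply CliffordAlgebra.hom_ext
    ext x
    rw [LinearMap.comp_apply, LinearMap.comp_apply, AlgHom.toLinearMap_apply, AlgHom.toLinearMap_apply,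
      CliffordAlgebra.map_apply_ι, QuadGrp.isometryOfMem_apply, hX, hφ, map_add, map_smul,
      ← comm_ι Q' U W x, ← ha, hζ, hζ']
    have h3 : (ε • a) * ι Q' x * (ε • a) = 0 := by
      rw [smul_mul_assoc, smul_mul_assoc, mul_smul_comm, smul_smul, hε, zero_smul]
    have key : ∀ b y : CliffordAlgebra Q', (1 - b) * y * (1 + b) = y + (y * b - b * y) - b * y * b := by
      intro b y; noncomm_ring
    rw [key, h3, sub_zero, mul_smul_comm, smul_mul_assoc, ← smul_sub]
  intro z hz
  rw [hmap, hφ]
  have hcomm : ζ * (z : CliffordAlgebra Q') = (z : CliffordAlgebra Q') * ζ := by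
    have ha_mem : a ∈ CliffordAlgebra.even Q' := ι_mul_ι_mem_evenOdd_zero Q' U W
    have := (Subalgebra.mem_center_iff.mp hz) ⟨a, ha_mem⟩
    have hc : a * (z : CliffordAlgebra Q') = (z : CliffordAlgebra Q') * a := congrArg Subtype.val this
    rw [hζ, sub_mul, mul_sub, one_mul, mul_one, smul_mul_assoc, mul_smul_comm, hc]
  rw [hcomm, mul_assoc, h1, mul_one]

end clifford

section dickson

open Matrix TensorProduct

variable {R : Type u} [CommRing R] {n : ℕ} (Q : QuadraticForm R (Fin n → R))
  (g : (Fin n → R) ≃ₗ[R] (Fin n → R))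

theorem even_finrank_baseChange (A : Type u) [CommRing A] [Algebra R A] [Nontrivial A] (hn : Even n) :
    Even (Module.finrank A (A ⊗[R] (Fin n → R))) := by
  rw [Module.finrank_eq_card_basis ((Pi.basisFun R (Fin n)).baseChange A), Fintype.card_fin]
  exact hn

/-- Dickson version of `lie_comm_of_hyp` (even rank). -/
theorem lie_comm_of_hyp_dickson (hn : Even n)
    (hyp : ∀ (A : Type u) [CommRing A] [Algebra R A], ∀ h ∈ QuadGrp.sorth Q A,
      g.baseChange R A (Fin n → R) (Fin n → R) * h = h * g.baseChange R A (Fin n → R) (Fin n → R))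
    (R' : Type u) [CommRing R'] [Algebra R R'] (u w : Fin n → R') :
    matA R' g * lieGen ((stdPolarMat Q).map (algebraMap R R')) u w =
      lieGen ((stdPolarMat Q).map (algebraMap R R')) u w * matA R' g := by
  rcases subsingleton_or_nontrivial R' with hsub | hnt
  · exact Subsingleton.elim _ _
  set A := DualNumber R' with hA
  let ι' : R' →+* A := TrivSqZeroExt.inlHom R' R'
  have hι : ∀ r : R, algebraMap R A r = ι' (algebraMap R R' r) := fun r =>
    TrivSqZeroExt.algebraMap_eq_inl' R R' R' r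
  have hmapι : ∀ N : Matrix (Fin n) (Fin n) R, N.map (algebraMap R A) = (N.map (algebraMap R R')).map ι' := by
    intro N
    refine Matrix.ext fun a b => ?_
    simp only [Matrix.map_apply, hι]
  set ε : A := DualNumber.eps with hε
  have hεε : ε * ε = 0 := DualNumber.eps_mul_eps
  set P' := (stdPolarMat Q).map (algebraMap R R') with hP'
  set PA := (stdPolarMat Q).map (algebraMap R A) with hPA
  set MA := (liftMat Q).map (algebraMap R A) with hMA
  have hMP : MA + MAᵀ = PA := by
    rw [hMA, hPA, ← liftMat_add_transpose, Matrix.map_add _ (map_add _), Matrix.transpose_map]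
  set Y := lieGen PA (ι' ∘ u) (ι' ∘ w) with hY
  have hYmap : Y = (lieGen P' u w).map ι' := by
    rw [hY, lieGen_map, hPA, hmapι]
  have h1 := one_add_mul_one_sub ε hεε Y
  have h2 := one_sub_mul_one_add ε hεε Y
  -- membership in the Dickson special orthogonal group
  have hO : conjEquiv R A (1 + ε • Y) (1 - ε • Y) h1 h2 ∈ QuadGrp.O (QuadGrp.baseChangeForm A Q) := by
    intro z
    rw [baseChangeForm_apply, baseChangeForm_apply, conjEquiv_apply, LinearEquiv.apply_symm_apply]
    exact quad_one_add_eps_lieGen ε hεε MA PA hMP (ι' ∘ u) (ι' ∘ w) _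
  have hX : ∀ z, conjEquiv R A (1 + ε • Y) (1 - ε • Y) h1 h2 z =
      z + ε • infX (QuadGrp.baseChangeForm A Q) ((eA A).symm (ι' ∘ u)) ((eA A).symm (ι' ∘ w)) z := by
    intro z
    rw [conjEquiv_apply, add_mulVec, one_mulVec, smul_mulVec, map_add, map_smul,
      LinearEquiv.symm_apply_apply, hY, lieGen_mulVec, map_sub, map_smul, map_smul]
    unfold infX
    rw [polar_baseChangeForm, polar_baseChangeForm, LinearEquiv.apply_symm_apply,
      LinearEquiv.apply_symm_apply]
  have hmem : conjEquiv R A (1 + ε • Y) (1 - ε • Y) h1 h2 ∈ QuadGrp.sorth Q A := by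
    unfold QuadGrp.sorth QuadGrp.SO
    rw [if_pos (even_finrank_baseChange A hn)]
    exact ⟨hO, isDicksonTrivial_of_eq (QuadGrp.baseChangeForm A Q) ε hεε _ _ _ hO hX⟩
  have hc := comm_of_comm A g (1 + ε • Y) (1 - ε • Y) h1 h2 (hyp A _ hmem)
  rw [mul_add, add_mul, mul_one, one_mul, add_right_inj, Matrix.mul_smul, Matrix.smul_mul] at hc
  have hG : matA A g = (matA R' g).map ι' := by
    rw [matA, matA, hmapι]
  rw [hG, hYmap, ← Matrix.map_mul, ← Matrix.map_mul] at hc
  ext a b
  have := congrFun (congrFun hc a) b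
  simp only [Matrix.smul_apply, Matrix.map_apply, smul_eq_mul] at this
  have h2 := congrArg TrivSqZeroExt.snd this
  have hsnd : ∀ z : R', TrivSqZeroExt.snd (ε * ι' z) = z := by
    intro z
    rw [DualNumber.snd_mul, hε, DualNumber.fst_eps, DualNumber.snd_eps, zero_mul, zero_add, one_mul]
    rfl
  rw [hsnd, hsnd] at h2
  exact h2

theorem mem_O_of_mem_SO {M : Type*} [AddCommGroup M] [Module R M] (Q' : QuadraticForm R M)
    (g : M ≃ₗ[R] M) (hg : g ∈ QuadGrp.SO Q') : g ∈ QuadGrp.O Q' := by
  unfold QuadGrp.SO at hg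
  split_ifs at hg
  · exact hg.1
  · exact (Subgroup.mem_inf.mp hg).1

end dickson

end Groth.Agent.H84
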