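import Groth.Agent.H84.QuadUniv

/-!
# Transformation law of the half-discriminant (helper84)

`halfDisc b t (Q.comp g) = det g ^ 2 * halfDisc b t Q` in odd rank, by a universal identity in
`ℤ[a_ij, g_kl]`.
-/

set_option autoImplicit false

namespace Groth.Agent.H84

open Matrix MvPolynomial QuadGrp

section univTransform

variable (n : ℕ)

/-- The universal ring `ℤ[a_ij, g_kl]`. -/
abbrev TS := MvPolynomial (Sym2 (Fin n) ⊕ (Fin n × Fin n)) ℤ

/-- The inclusion `ℤ[a_ij] → ℤ[a_ij, g_kl]`. -/
noncomputable def embA : MvPolynomial (Sym2 (Fin n)) ℤ →+* TS n :=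
  (rename (R := ℤ) (Sum.inl : Sym2 (Fin n) → Sym2 (Fin n) ⊕ (Fin n × Fin n))).toRingHom

/-- The universal matrix `(g_kl)`. -/
noncomputable def univG : Matrix (Fin n) (Fin n) (TS n) := Matrix.of fun k l => X (Sum.inr (k, l))

/-- `Gᵀ W G` for the universal upper triangular half `W` of the polar matrix. -/
noncomputable def univN : Matrix (Fin n) (Fin n) (TS n) :=
  (univG n)ᵀ * (embA n).mapMatrix (univHalfMat n) * univG n

/-- The coefficients of the universal form composed with the universal matrix. -/
noncomputable def univC' : Sym2 (Fin n) → TS n :=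
  Sym2.lift ⟨fun i j => if i = j then univN n i i else univN n i j + univN n j i, fun i j => by
    by_cases h : i = j
    · subst h; rfl
    · dsimp only
      rw [if_neg h, if_neg (Ne.symm h), add_comm]⟩

theorem univC'_mk (i j : Fin n) :
    univC' n (Sym2.mk i j) = if i = j then univN n i i else univN n i j + univN n j i := rfl

/-- Substitution of the transformed coefficients. -/
noncomputable def psi : MvPolynomial (Sym2 (Fin n)) ℤ →+* TS n :=
  eval₂Hom (Int.castRingHom (TS n)) (univC' n)

theorem psi_univPolarMat :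
    (psi n).mapMatrix (univPolarMat n) =
      (univG n)ᵀ * (embA n).mapMatrix (univPolarMat n) * univG n := by
  have h1 : (embA n).mapMatrix (univPolarMat n) =
      (embA n).mapMatrix (univHalfMat n) + ((embA n).mapMatrix (univHalfMat n))ᵀ := by
    rw [← univHalfMat_add_transpose, map_add]
    rfl
  have h2 : (univG n)ᵀ * (embA n).mapMatrix (univPolarMat n) * univG n = univN n + (univN n)ᵀ := by
    rw [h1, univN, Matrix.mul_add, Matrix.add_mul, transpose_mul, transpose_mul, transpose_transpose,
      Matrix.mul_assoc, Matrix.mul_assoc (univG n)ᵀ]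
  rw [h2]
  refine Matrix.ext fun i j => ?_
  rw [RingHom.mapMatrix_apply, Matrix.map_apply, Matrix.add_apply, transpose_apply]
  simp only [univPolarMat, of_apply]
  by_cases h : i = j
  · subst h
    rw [if_pos rfl, map_mul, map_ofNat, psi, coe_eval₂Hom, eval₂_X, univC'_mk, if_pos rfl, two_mul]
  · rw [if_neg h, psi, coe_eval₂Hom, eval₂_X, univC'_mk, if_neg h]

theorem psi_halfDiscUniv (m : ℕ) :
    psi (2 * m + 1) (halfDiscUniv (2 * m + 1)) =
      (univG (2 * m + 1)).det ^ 2 * embA (2 * m + 1) (halfDiscUniv (2 * m + 1)) := by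
  have h2 : (2 : TS (2 * m + 1)) ≠ 0 := two_ne_zero
  apply mul_left_cancel₀ h2
  have hodd : Odd (2 * m + 1) := ⟨m, rfl⟩
  calc 2 * psi (2 * m + 1) (halfDiscUniv (2 * m + 1))
      = psi (2 * m + 1) (2 * halfDiscUniv (2 * m + 1)) := by rw [map_mul, map_ofNat]
    _ = ((univG (2 * m + 1))ᵀ * (embA (2 * m + 1)).mapMatrix (univPolarMat (2 * m + 1)) *
          univG (2 * m + 1)).det := by
        rw [two_mul_halfDiscUniv _ hodd, discUniv, RingHom.map_det, psi_univPolarMat]
    _ = (univG (2 * m + 1)).det ^ 2 * embA (2 * m + 1) (2 * halfDiscUniv (2 * m + 1)) := by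
        rw [det_mul, det_mul, det_transpose, two_mul_halfDiscUniv _ hodd, discUniv, RingHom.map_det]
        ring
    _ = 2 * ((univG (2 * m + 1)).det ^ 2 * embA (2 * m + 1) (halfDiscUniv (2 * m + 1))) := by
        rw [map_mul, map_ofNat]; ring

end univTransform

section special

variable {R : Type*} [CommRing R] {M : Type*} [AddCommGroup M] [Module R M] {n : ℕ}
  (b : Module.Basis (Fin n) R M) (Q : QuadraticForm R M) (g : M →ₗ[R] M)

/-- The specialisation `ℤ[a_ij, g_kl] → R`. -/
noncomputable def specHom : TS n →+* R :=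
  eval₂Hom (Int.castRingHom R)
    (Sum.elim (coeffs b (LinearEquiv.refl R R) Q) (fun p => LinearMap.toMatrix b b g p.1 p.2))

theorem specHom_embA (p : MvPolynomial (Sym2 (Fin n)) ℤ) :
    specHom b Q g (embA n p) = eval₂ (Int.castRingHom R) (coeffs b (LinearEquiv.refl R R) Q) p := by
  rw [specHom, embA, coe_eval₂Hom]
  change eval₂ _ _ (rename Sum.inl p) = _
  rw [eval₂_rename]
  rfl

theorem specHom_univG : (specHom b Q g).mapMatrix (univG n) = LinearMap.toMatrix b b g := by
  refine Matrix.ext fun k l => ?_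
  rw [RingHom.mapMatrix_apply, Matrix.map_apply, univG, of_apply, specHom, coe_eval₂Hom, eval₂_X]
  rfl

theorem specHom_halfMat :
    (specHom b Q g).mapMatrix ((embA n).mapMatrix (univHalfMat n)) =
      LinearMap.BilinForm.toMatrix b (Q.toBilin b) := by
  refine Matrix.ext fun k l => ?_
  rw [RingHom.mapMatrix_apply, Matrix.map_apply, RingHom.mapMatrix_apply, Matrix.map_apply, specHom_embA,
    LinearMap.BilinForm.toMatrix_apply, QuadraticMap.toBilin_apply, univHalfMat, of_apply]
  rcases lt_trichotomy k l with h | h | h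
  · rw [if_pos h.le, if_neg h.ne, if_pos h, eval₂_X, coeffs_mk, if_neg h.ne]; rfl
  · subst h
    rw [if_pos le_rfl, if_pos rfl, eval₂_X, coeffs_mk, if_pos rfl]; rfl
  · rw [if_neg (not_le.mpr h), if_neg h.ne', if_neg (not_lt.mpr h.le), eval₂_zero]

theorem specHom_univN (i j : Fin n) :
    specHom b Q g (univN n i j) = Q.toBilin b (g (b i)) (g (b j)) := by
  have h := congrFun (congrFun (LinearMap.BilinForm.toMatrix_comp b b (Q.toBilin b) g g) i) j
  rw [LinearMap.BilinForm.toMatrix_apply, LinearMap.BilinForm.comp_apply] at h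
  have h0 : specHom b Q g (univN n i j) = (specHom b Q g).mapMatrix (univN n) i j := rfl
  rw [h, h0, univN, map_mul, map_mul, specHom_halfMat, specHom_univG]
  rw [← specHom_univG b Q g]
  rfl

theorem specHom_univC' (s : Sym2 (Fin n)) :
    specHom b Q g (univC' n s) = coeffs b (LinearEquiv.refl R R) (Q.comp g) s := by
  induction s using Sym2.ind with
  | _ i j =>
    rw [univC'_mk, coeffs_mk]
    have hQ : ∀ x, Q x = Q.toBilin b x x := fun x => by
      conv_lhs => rw [← QuadraticMap.toQuadraticMap_toBilin Q b]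
      rfl
    have hpol : ∀ x y, QuadraticMap.polar Q x y = Q.toBilin b x y + Q.toBilin b y x := fun x y => by
      conv_lhs => rw [← QuadraticMap.toQuadraticMap_toBilin Q b]
      exact LinearMap.BilinMap.polar_toQuadraticMap x y
    by_cases h : i = j
    · subst h
      rw [if_pos rfl, if_pos rfl, specHom_univN, LinearEquiv.refl_apply, QuadraticMap.comp_apply, hQ]
    · rw [if_neg h, if_neg h, map_add, specHom_univN, specHom_univN, LinearEquiv.refl_apply]
      have : QuadraticMap.polar (Q.comp g) (b i) (b j) = QuadraticMap.polar Q (g (b i)) (g (b j)) := by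
        unfold QuadraticMap.polar
        rw [QuadraticMap.comp_apply, QuadraticMap.comp_apply, QuadraticMap.comp_apply, map_add]
      rw [this, hpol]

theorem specHom_comp_psi :
    (specHom b Q g).comp (psi n) =
      eval₂Hom (Int.castRingHom R) (coeffs b (LinearEquiv.refl R R) (Q.comp g)) := by
  apply MvPolynomial.ringHom_ext
  · intro r
    simp
  · intro s
    rw [RingHom.comp_apply, psi, coe_eval₂Hom, eval₂_X, coe_eval₂Hom, eval₂_X, specHom_univC']

/-- The half-discriminant of `Q ∘ g` is `(det g)²` times that of `Q` (odd rank). -/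
theorem halfDisc_comp (m : ℕ) (b : Module.Basis (Fin (2 * m + 1)) R M) (Q : QuadraticForm R M)
    (g : M →ₗ[R] M) :
    halfDisc b (LinearEquiv.refl R R) (Q.comp g) =
      LinearMap.det g ^ 2 * halfDisc b (LinearEquiv.refl R R) Q := by
  have h1 : halfDisc b (LinearEquiv.refl R R) (Q.comp g) =
      specHom b Q g (psi (2 * m + 1) (halfDiscUniv (2 * m + 1))) := by
    rw [← RingHom.comp_apply, specHom_comp_psi, coe_eval₂Hom]
    rfl
  rw [h1, psi_halfDiscUniv, map_mul, map_pow, RingHom.map_det, specHom_univG, LinearMap.det_toMatrix,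
    specHom_embA]
  rfl

end special

end Groth.Agent.H84
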