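import Groth.Agent.H84.QuadCoord

/-!
# The centre of the orthogonal group: main argument (helper84)
-/

set_option autoImplicit false

universe u

namespace Groth.Agent.H84

open Matrix TensorProduct QuadGrp

section mapLemmas

variable {S T : Type*} [CommRing S] [CommRing T] {n : ℕ}

theorem lieGen_map (f : S →+* T) (P : Matrix (Fin n) (Fin n) S) (u w : Fin n → S) :
    (lieGen P u w).map f = lieGen (P.map f) (f ∘ u) (f ∘ w) := by
  ext a b
  simp [lieGen, Matrix.mul_apply, vecMulVec_apply, Matrix.sub_apply, map_sum]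

end mapLemmas

section dual

variable {R : Type u} [CommRing R] {n : ℕ} (Q : QuadraticForm R (Fin n → R))
  (g : (Fin n → R) ≃ₗ[R] (Fin n → R))

/-- From the commutation hypothesis over the dual numbers of `R'`, the matrix of `g` over `R'`
commutes with all infinitesimal generators. -/
theorem lie_comm_of_hyp
    (hyp : ∀ (A : Type u) [CommRing A] [Algebra R A], ∀ h ∈ QuadGrp.sorth' Q A,
      g.baseChange R A (Fin n → R) (Fin n → R) * h = h * g.baseChange R A (Fin n → R) (Fin n → R))
    (R' : Type u) [CommRing R'] [Algebra R R'] (u w : Fin n → R') :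
    matA R' g * lieGen ((stdPolarMat Q).map (algebraMap R R')) u w =
      lieGen ((stdPolarMat Q).map (algebraMap R R')) u w * matA R' g := by
  set A := DualNumber R' with hA
  let ι : R' →+* A := TrivSqZeroExt.inlHom R' R'
  have hι : ∀ r : R, algebraMap R A r = ι (algebraMap R R' r) := fun r =>
    TrivSqZeroExt.algebraMap_eq_inl' R R' R' r
  have hmapι : ∀ N : Matrix (Fin n) (Fin n) R, N.map (algebraMap R A) = (N.map (algebraMap R R')).map ι := by
    intro N
    refine Matrix.ext fun a b => ?_
    simp only [Matrix.map_apply, hι]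
  set ε : A := DualNumber.eps with hε
  have hεε : ε * ε = 0 := DualNumber.eps_mul_eps
  set P' := (stdPolarMat Q).map (algebraMap R R') with hP'
  set PA := (stdPolarMat Q).map (algebraMap R A) with hPA
  set MA := (liftMat Q).map (algebraMap R A) with hMA
  have hMP : MA + MAᵀ = PA := by
    rw [hMA, hPA, ← liftMat_add_transpose, Matrix.map_add _ (map_add _), Matrix.transpose_map]
  have hPAsymm : PAᵀ = PA := by rw [← hMP, transpose_add, transpose_transpose, add_comm]
  set Y := lieGen PA (ι ∘ u) (ι ∘ w) with hY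
  have hYmap : Y = (lieGen P' u w).map ι := by
    rw [hY, lieGen_map, hPA, hmapι]
  have hc := comm_of_hyp Q A g (hyp A) (1 + ε • Y) (1 - ε • Y) (one_add_mul_one_sub ε hεε Y)
    (one_sub_mul_one_add ε hεε Y)
    (fun x => quad_one_add_eps_lieGen ε hεε MA PA hMP (ι ∘ u) (ι ∘ w) x)
    (det_one_add_eps_lieGen ε hεε PA hPAsymm (ι ∘ u) (ι ∘ w))
  rw [mul_add, add_mul, mul_one, one_mul, add_right_inj, Matrix.mul_smul, Matrix.smul_mul] at hc
  have hG : matA A g = (matA R' g).map ι := by
    rw [matA, matA, hmapι]
  rw [hG, hYmap, ← Matrix.map_mul, ← Matrix.map_mul] at hc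
  ext a b
  have := congrFun (congrFun hc a) b
  simp only [Matrix.smul_apply, Matrix.map_apply, smul_eq_mul] at this
  have h2 := congrArg TrivSqZeroExt.snd this
  have hsnd : ∀ z : R', TrivSqZeroExt.snd (ε * ι z) = z := by
    intro z
    rw [DualNumber.snd_mul, hε, DualNumber.fst_eps, DualNumber.snd_eps, zero_mul, zero_add, one_mul]
    rfl
  rw [hsnd, hsnd] at h2
  exact h2

end dual

section glue

variable {R : Type u} [CommRing R]

/-- If the elements of `s` generate the unit ideal and `z` is killed by a power of each of them, then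
`z = 0`. -/
theorem eq_zero_of_span_pow (s : Set R) (hs : Ideal.span s = ⊤) (z : R)
    (h : ∀ c ∈ s, ∃ N : ℕ, c ^ N * z = 0) : z = 0 := by
  by_contra hz
  let J : Ideal R := LinearMap.ker (LinearMap.toSpanSingleton R R z)
  have hJ : J ≠ ⊤ := by
    intro hJ
    have : (1 : R) ∈ J := by rw [hJ]; exact Submodule.mem_top
    rw [LinearMap.mem_ker, LinearMap.toSpanSingleton_apply, one_smul] at this
    exact hz this
  obtain ⟨m, hm, hJm⟩ := Ideal.exists_le_maximal J hJ
  have hsm : s ⊆ m := by
    intro c hc
    obtain ⟨N, hN⟩ := h c hc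
    have : c ^ N ∈ J := by
      rw [LinearMap.mem_ker, LinearMap.toSpanSingleton_apply, smul_eq_mul]
      exact hN
    exact hm.isPrime.mem_of_pow_mem N (hJm this)
  have : (⊤ : Ideal R) ≤ m := by rw [← hs]; exact Ideal.span_le.mpr hsm
  exact hm.ne_top (top_le_iff.mp this)

end glue

section nondeg

variable {R : Type u} [CommRing R] {n : ℕ} (Q : QuadraticForm R (Fin n → R))

theorem stdPolarMat_apply (a b : Fin n) :
    stdPolarMat Q a b = QuadraticMap.polar Q (Pi.single a 1) (Pi.single b 1) := by
  simp [polarMat]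

/-- A regular form has a polar matrix of unit determinant. -/
theorem isUnit_det_of_isRegular (hQ : QuadGrp.IsRegular Q) : IsUnit (stdPolarMat Q).det := by
  classical
  have hsurj := hQ.2
  choose x hx using fun i : Fin n => hsurj (LinearMap.proj i)
  let X : Matrix (Fin n) (Fin n) R := Matrix.of fun i j => x i j
  have hXP : X * stdPolarMat Q = 1 := by
    refine Matrix.ext fun i k => ?_
    rw [Matrix.mul_apply]
    have h1 : ∀ j, X i j * stdPolarMat Q j k = x i j * QuadraticMap.polarBilin Q (Pi.single j 1) (Pi.single k 1) := by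
      intro j
      rw [stdPolarMat_apply]; rfl
    simp only [h1]
    have h2 : (QuadraticMap.polarBilin Q (x i)) (Pi.single k 1) =
        ∑ j, x i j * QuadraticMap.polarBilin Q (Pi.single j 1) (Pi.single k 1) := by
      conv_lhs => rw [← (Pi.basisFun R (Fin n)).sum_repr (x i)]
      simp only [map_sum, map_smul, LinearMap.sum_apply, LinearMap.smul_apply, smul_eq_mul,
        Pi.basisFun_repr, Pi.basisFun_apply]
    rw [← h2, hx i, LinearMap.proj_apply, Matrix.one_apply, Pi.single_apply]
  have : X.det * (stdPolarMat Q).det = 1 := by rw [← det_mul, hXP, det_one]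
  exact IsUnit.of_mul_eq_one _ (by rw [mul_comm]; exact this)

/-- For a non-degenerate form of rank at least one, the entries of the adjugate of the polar matrix
generate the unit ideal. -/
theorem span_adjugate_eq_top (hn : 1 ≤ n)
    (hQ : QuadGrp.IsNondeg (Pi.basisFun R (Fin n)) (LinearEquiv.refl R R) Q) :
    Ideal.span (Set.range fun p : Fin n × Fin n => (stdPolarMat Q).adjugate p.1 p.2) = ⊤ := by
  rcases Nat.even_or_odd n with he | ho
  · have hu := isUnit_det_of_isRegular Q (hQ.1 he)
    apply Ideal.eq_top_of_isUnit_mem _ _ hu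
    have h := congrFun (congrFun (mul_adjugate (stdPolarMat Q)) ⟨0, by omega⟩) ⟨0, by omega⟩
    rw [Matrix.smul_apply, Matrix.one_apply_eq, smul_eq_mul, mul_one, Matrix.mul_apply] at h
    rw [← h]
    exact Ideal.sum_mem _ fun j _ => Ideal.mul_mem_left _ _ (Ideal.subset_span ⟨(j, _), rfl⟩)
  · obtain ⟨m, rfl⟩ := ho
    exact Ideal.eq_top_of_isUnit_mem _ (halfDisc_mem_span_adjugate m _ _ Q) (hQ.2 ⟨m, rfl⟩)

end nondeg

section main

variable {R : Type u} [CommRing R] {n : ℕ} (Q : QuadraticForm R (Fin n → R))

/-- Main lemma, Lie algebra form: an isometry whose matrix commutes, over every `R`-algebra `R'`,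
with all the infinitesimal generators `lieGen`, is a scalar of square one (`n ≥ 3`, `Q` non-degenerate). -/
theorem scalar_of_lie (hn : 3 ≤ n)
    (hQ : QuadGrp.IsNondeg (Pi.basisFun R (Fin n)) (LinearEquiv.refl R R) Q)
    (g : (Fin n → R) ≃ₗ[R] (Fin n → R)) (hg : g ∈ QuadGrp.O Q)
    (hlie : ∀ (R' : Type u) [CommRing R'] [Algebra R R'] (u w : Fin n → R'),
      matA R' g * lieGen ((stdPolarMat Q).map (algebraMap R R')) u w =
        lieGen ((stdPolarMat Q).map (algebraMap R R')) u w * matA R' g) :
    ∃ c : R, c * c = 1 ∧ ∀ v, g v = c • v := by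
  classical
  set P := stdPolarMat Q with hP
  set C := P.adjugate with hC
  set G := LinearMap.toMatrix' g.toLinearMap with hG
  have hspan := span_adjugate_eq_top Q (by omega) hQ
  have hPsymm : Pᵀ = P := polarMat_transpose _ _ _
  -- the local statement
  have hloc : ∀ i j : Fin n,
      (∃ d' : Localization.Away (C i j), ∀ v, matA (Localization.Away (C i j)) g *ᵥ v = d' • v) ∧
      (∀ r : R, (∀ a b, r * P a b = 0) → ∃ N : ℕ, (C i j) ^ N * r = 0) := by
    intro i j
    set R' := Localization.Away (C i j) with hR'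
    set P' := P.map (algebraMap R R') with hP'
    have hP'symm : P'ᵀ = P' := by rw [hP', ← transpose_map, hPsymm]
    have hadj : P'.adjugate i j = algebraMap R R' (C i j) := by
      have := congrFun (congrFun (RingHom.map_adjugate (algebraMap R R') P) i) j
      rw [RingHom.mapMatrix_apply, RingHom.mapMatrix_apply, Matrix.map_apply] at this
      exact this.symm
    have hu : IsUnit (P'.adjugate i j) := by
      rw [hadj]; exact IsLocalization.Away.algebraMap_isUnit (C i j)
    obtain ⟨hd, ⟨y, u, hyu⟩⟩ := matrix_scalar_of_comm P' (matA R' g) hP'symm hn i j hu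
      (fun u w => hlie R' u w)
    refine ⟨hd, fun r hr => ?_⟩
    have h0 : algebraMap R R' r = 0 := by
      have h0 := bil_smul_eq_zero P' (algebraMap R R' r)
        (fun a b => by rw [hP', Matrix.map_apply, ← map_mul, hr, map_zero]) y u
      rw [hyu, mul_one] at h0
      exact h0
    obtain ⟨⟨_, N, rfl⟩, hN⟩ := (IsLocalization.map_eq_zero_iff (Submonoid.powers (C i j)) R' r).mp h0
    exact ⟨N, hN⟩
  have hmat : ∀ (i j a b : Fin n), matA (Localization.Away (C i j)) g a b =
      algebraMap R (Localization.Away (C i j)) (G a b) := fun i j a b => rfl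
  have hglue : ∀ z : R, (∀ i j : Fin n, algebraMap R (Localization.Away (C i j)) z = 0) → z = 0 := by
    intro z hz
    apply eq_zero_of_span_pow _ hspan
    rintro _ ⟨⟨i, j⟩, rfl⟩
    obtain ⟨⟨_, N, rfl⟩, hN⟩ :=
      (IsLocalization.map_eq_zero_iff (Submonoid.powers (C i j)) (Localization.Away (C i j)) z).mp (hz i j)
    exact ⟨N, hN⟩
  have hentry : ∀ (i j : Fin n) (d' : Localization.Away (C i j)),
      (∀ v, matA (Localization.Away (C i j)) g *ᵥ v = d' • v) →
      ∀ a b, algebraMap R (Localization.Away (C i j)) (G a b) = if a = b then d' else 0 := by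
    intro i j d' hd' a b
    have := congrFun (hd' (Pi.single b 1)) a
    rw [mulVec_single_one, Matrix.col_apply, hmat, Pi.smul_apply, Pi.single_apply, smul_eq_mul] at this
    rw [this]
    split_ifs <;> simp
  have hoff : ∀ a b, a ≠ b → G a b = 0 := by
    intro a b hab
    apply hglue
    intro i j
    obtain ⟨⟨d', hd'⟩, _⟩ := hloc i j
    rw [hentry i j d' hd' a b, if_neg hab]
  have hdiag : ∀ a b, G a a = G b b := by
    intro a b
    rw [← sub_eq_zero]
    apply hglue
    intro i j
    obtain ⟨⟨d', hd'⟩, _⟩ := hloc i j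
    rw [map_sub, hentry i j d' hd' a a, hentry i j d' hd' b b, if_pos rfl, if_pos rfl, sub_self]
  set d := G ⟨0, by omega⟩ ⟨0, by omega⟩ with hd
  have hgv : ∀ v, g v = d • v := by
    intro v
    have h1 : g v = G *ᵥ v := by
      rw [hG, LinearMap.toMatrix'_mulVec]; rfl
    rw [h1]
    ext a
    rw [mulVec, dotProduct, Finset.sum_eq_single a, hdiag a ⟨0, by omega⟩, Pi.smul_apply, smul_eq_mul]
    · intro b _ hba
      rw [hoff a b (Ne.symm hba), zero_mul]
    · intro h; exact absurd (Finset.mem_univ a) h
  refine ⟨d, ?_, hgv⟩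
  have hr : ∀ a b, (d * d - 1) * P a b = 0 := by
    intro a b
    have hpol : QuadraticMap.polar Q (g (Pi.single a 1)) (g (Pi.single b 1)) =
        QuadraticMap.polar Q (Pi.single a 1) (Pi.single b 1) := by
      unfold QuadraticMap.polar
      rw [← map_add, hg, hg, hg]
    rw [hgv, hgv, QuadraticMap.polar_smul_left, QuadraticMap.polar_smul_right, smul_eq_mul, smul_eq_mul,
      ← stdPolarMat_apply] at hpol
    linear_combination hpol
  have : d * d - 1 = 0 := by
    apply eq_zero_of_span_pow _ hspan
    rintro _ ⟨⟨i, j⟩, rfl⟩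
    exact (hloc i j).2 _ hr
  linear_combination this

/-- Main lemma: an isometry commuting with all points of `SO'(Q_A)` for all `A` is a scalar of
square one (`n ≥ 3`, `Q` non-degenerate). -/
theorem scalar_of_central (hn : 3 ≤ n)
    (hQ : QuadGrp.IsNondeg (Pi.basisFun R (Fin n)) (LinearEquiv.refl R R) Q)
    (g : (Fin n → R) ≃ₗ[R] (Fin n → R)) (hg : g ∈ QuadGrp.O Q)
    (hyp : ∀ (A : Type u) [CommRing A] [Algebra R A], ∀ h ∈ QuadGrp.sorth' Q A,
      g.baseChange R A (Fin n → R) (Fin n → R) * h = h * g.baseChange R A (Fin n → R) (Fin n → R)) :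
    ∃ c : R, c * c = 1 ∧ ∀ v, g v = c • v :=
  scalar_of_lie Q hn hQ g hg (fun R' _ _ u w => lie_comm_of_hyp Q g hyp R' u w)

/-- The easy direction: a scalar commutes with everything after base change. -/
theorem baseChange_comm_of_scalar {M : Type*} [AddCommGroup M] [Module R M]
    (g : M ≃ₗ[R] M) (c : R) (hc : ∀ v, g v = c • v)
    (A : Type*) [CommRing A] [Algebra R A] (h : (A ⊗[R] M) ≃ₗ[A] (A ⊗[R] M)) :
    g.baseChange R A M M * h = h * g.baseChange R A M M := by
  have key : ∀ z : A ⊗[R] M, g.baseChange R A M M z = (algebraMap R A c) • z := by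
    intro z
    induction z using TensorProduct.induction_on with
    | zero => simp
    | tmul a v =>
      rw [LinearEquiv.baseChange_tmul, hc, TensorProduct.tmul_smul, algebraMap_smul]
    | add x y hx hy => rw [map_add, hx, hy, smul_add]
  ext z
  rw [LinearEquiv.mul_apply, LinearEquiv.mul_apply, key, key, map_smul]

end main

end Groth.Agent.H84
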