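import Groth.Prelude.Def_QuadGrp
import Mathlib

/-!
# Universal identities for the half-discriminant (helper84)

* `det_eq_zero_of_symm_zero_diag_charTwo`: over a ring of characteristic two, a symmetric matrix of
  odd size with zero diagonal has determinant zero.
* `two_mul_halfDiscUniv`: for odd `n`, `2 * halfDiscUniv n = discUniv n`.
* `halfDiscUniv_eq`: for `n = 2m+1`, an explicit expression of `halfDiscUniv n` as a combination
  of the entries of the adjugate of the universal polar matrix.
-/

set_option autoImplicit false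

namespace Groth.Agent.H84

open Matrix MvPolynomial QuadGrp

section charTwo

variable {K : Type*} [CommRing K] [CharP K 2] {ι : Type*} [Fintype ι] [DecidableEq ι]

/-- Over a commutative ring of characteristic two, a symmetric matrix of odd size with zero diagonal
has determinant zero. -/
theorem det_eq_zero_of_symm_zero_diag_charTwo (A : Matrix ι ι K) (hA : Aᵀ = A)
    (hd : ∀ i, A i i = 0) (hodd : Odd (Fintype.card ι)) : A.det = 0 := by
  classical
  rw [Matrix.det_apply]
  refine Finset.sum_ninvolution (fun σ => σ⁻¹) ?_ ?_ (fun _ => Finset.mem_univ _) (fun σ => inv_inv σ)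
  · intro σ
    have h1 : (∏ i, A (σ⁻¹ i) i) = ∏ i, A (σ i) i := by
      rw [← Equiv.prod_comp σ (fun i => A (σ⁻¹ i) i)]
      refine Finset.prod_congr rfl (fun i _ => ?_)
      rw [show σ⁻¹ (σ i) = i from σ.symm_apply_apply i]
      have := congrFun (congrFun hA (σ i)) i
      rw [Matrix.transpose_apply] at this
      exact this
    rw [Equiv.Perm.sign_inv, h1]
    exact CharTwo.add_self_eq_zero _
  · intro σ hσ h
    apply hσ
    have hσ2 : σ ^ 2 ^ 1 = 1 := by
      rw [pow_one, pow_two]
      nth_rewrite 1 [← h]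
      exact inv_mul_cancel σ
    have : Fact (Nat.Prime 2) := ⟨Nat.prime_two⟩
    obtain ⟨a, ha⟩ := Equiv.Perm.exists_fixed_point_of_prime (p := 2) (n := 1)
      (by rcases hodd with ⟨k, hk⟩; omega) hσ2
    rw [Finset.prod_eq_zero (Finset.mem_univ a) (by rw [ha]; exact hd a), smul_zero]

end charTwo

section univ

theorem univPolarMat_transpose (n : ℕ) : (univPolarMat n)ᵀ = univPolarMat n := by
  ext i j
  simp only [univPolarMat, transpose_apply, of_apply]
  by_cases h : i = j
  · subst h; simp
  · rw [if_neg h, if_neg (Ne.symm h), Sym2.eq_swap]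

/-- For odd `n`, twice the universal half-discriminant is the universal discriminant. -/
theorem two_mul_halfDiscUniv (n : ℕ) (hn : Odd n) : 2 * halfDiscUniv n = discUniv n := by
  classical
  have h0 : MvPolynomial.map (Int.castRingHom (ZMod 2)) (discUniv n) = 0 := by
    rw [discUniv, RingHom.map_det]
    apply det_eq_zero_of_symm_zero_diag_charTwo
    · rw [RingHom.mapMatrix_apply, ← Matrix.transpose_map, univPolarMat_transpose]
    · intro i
      rw [RingHom.mapMatrix_apply, Matrix.map_apply]
      simp only [univPolarMat, of_apply, if_true, map_mul, map_ofNat]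
      rw [show (2 : MvPolynomial (Sym2 (Fin n)) (ZMod 2)) = 0 from CharTwo.two_eq_zero, zero_mul]
    · simpa using hn
  ext s
  have h2 : (2 : MvPolynomial (Sym2 (Fin n)) ℤ) = C 2 := by simp
  rw [h2, coeff_C_mul, coeff_halfDiscUniv]
  have hdvd : (2 : ℤ) ∣ coeff s (discUniv n) := by
    have := congrArg (coeff s) h0
    rw [coeff_map, coeff_zero] at this
    exact (ZMod.intCast_zmod_eq_zero_iff_dvd _ 2).mp this
  exact Int.mul_ediv_cancel' hdvd

/-- An upper triangular "half" of the universal polar matrix: `univHalfMat + univHalfMatᵀ = univPolarMat`. -/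
noncomputable def univHalfMat (n : ℕ) : Matrix (Fin n) (Fin n) (MvPolynomial (Sym2 (Fin n)) ℤ) :=
  Matrix.of fun i j => if i ≤ j then MvPolynomial.X (Sym2.mk i j) else 0

theorem univHalfMat_add_transpose (n : ℕ) : univHalfMat n + (univHalfMat n)ᵀ = univPolarMat n := by
  refine Matrix.ext fun i j => ?_
  simp only [univHalfMat, univPolarMat, Matrix.add_apply, transpose_apply, of_apply]
  rcases lt_trichotomy i j with h | h | h
  · rw [if_pos h.le, if_neg (not_le.mpr h), if_neg h.ne, add_zero]
  · subst h; simp [two_mul]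
  · rw [if_neg (not_le.mpr h), if_pos h.le, if_neg h.ne', zero_add, Sym2.eq_swap]

/-- For `n = 2m+1`, the universal half-discriminant is a combination of the entries of the adjugate
of the universal polar matrix. -/
theorem halfDiscUniv_eq (m : ℕ) :
    halfDiscUniv (2 * m + 1) =
      Matrix.trace (univHalfMat (2 * m + 1) * (univPolarMat (2 * m + 1)).adjugate)
        - (m : MvPolynomial (Sym2 (Fin (2 * m + 1))) ℤ) * (univPolarMat (2 * m + 1)).det := by
  set n := 2 * m + 1 with hn
  set U := univPolarMat n with hU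
  set W := univHalfMat n with hW
  have h2 : (2 : MvPolynomial (Sym2 (Fin n)) ℤ) ≠ 0 := two_ne_zero
  apply mul_left_cancel₀ h2
  rw [two_mul_halfDiscUniv n ⟨m, hn⟩, discUniv]
  have h1 : trace (W * U.adjugate) = trace (Wᵀ * U.adjugate) := by
    rw [← trace_transpose (W * U.adjugate), transpose_mul, adjugate_transpose, hU,
      univPolarMat_transpose, trace_mul_comm]
  have h3 : trace (W * U.adjugate) + trace (Wᵀ * U.adjugate) = (n : MvPolynomial (Sym2 (Fin n)) ℤ) * U.det := by
    rw [← trace_add, ← add_mul, hW, univHalfMat_add_transpose, ← hU, mul_adjugate, trace_smul, trace_one,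
      Fintype.card_fin, smul_eq_mul, mul_comm]
  rw [← h1] at h3
  have h4 : (n : MvPolynomial (Sym2 (Fin n)) ℤ) = 2 * m + 1 := by rw [hn]; push_cast; ring
  rw [h4] at h3
  linear_combination (-1 : MvPolynomial (Sym2 (Fin n)) ℤ) * h3

end univ

section eval

variable {R : Type*} [CommRing R] {M : Type*} [AddCommGroup M] [Module R M]
  {N : Type*} [AddCommGroup N] [Module R N]

/-- The polar matrix of `Q` in the basis `b`, read through `t`. -/
noncomputable def polarMat {n : ℕ} (b : Module.Basis (Fin n) R M) (t : N ≃ₗ[R] R) (Q : QuadraticMap R M N) :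
    Matrix (Fin n) (Fin n) R :=
  Matrix.of fun i j => t (QuadraticMap.polar Q (b i) (b j))

theorem polarMat_transpose {n : ℕ} (b : Module.Basis (Fin n) R M) (t : N ≃ₗ[R] R) (Q : QuadraticMap R M N) :
    (polarMat b t Q)ᵀ = polarMat b t Q := by
  ext i j
  simp only [polarMat, transpose_apply, of_apply, QuadraticMap.polar_comm]

theorem mapMatrix_univPolarMat {n : ℕ} (b : Module.Basis (Fin n) R M) (t : N ≃ₗ[R] R) (Q : QuadraticMap R M N) :
    (MvPolynomial.eval₂Hom (Int.castRingHom R) (coeffs b t Q)).mapMatrix (univPolarMat n) = polarMat b t Q := by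
  ext i j
  simp only [RingHom.mapMatrix_apply, Matrix.map_apply, univPolarMat, polarMat, of_apply]
  by_cases h : i = j
  · subst h
    rw [if_pos rfl, map_mul, map_ofNat, MvPolynomial.coe_eval₂Hom, MvPolynomial.eval₂_X, coeffs_mk, if_pos rfl,
      QuadraticMap.polar_self]
    rw [two_smul, map_add, two_mul]
  · rw [if_neg h, MvPolynomial.coe_eval₂Hom, MvPolynomial.eval₂_X, coeffs_mk, if_neg h]

theorem disc_eq_det {n : ℕ} (b : Module.Basis (Fin n) R M) (t : N ≃ₗ[R] R) (Q : QuadraticMap R M N) :
    disc b t Q = (polarMat b t Q).det := by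
  rw [disc, ← MvPolynomial.coe_eval₂Hom, discUniv, RingHom.map_det, mapMatrix_univPolarMat]

theorem two_mul_halfDisc {n : ℕ} (hn : Odd n) (b : Module.Basis (Fin n) R M) (t : N ≃ₗ[R] R)
    (Q : QuadraticMap R M N) : 2 * halfDisc b t Q = (polarMat b t Q).det := by
  rw [← disc_eq_det, disc, halfDisc, ← two_mul_halfDiscUniv n hn, ← MvPolynomial.coe_eval₂Hom, map_mul,
    map_ofNat]

/-- For odd rank the half-discriminant lies in the ideal generated by the entries of the adjugate of
the polar matrix. -/
theorem halfDisc_mem_span_adjugate (m : ℕ) (b : Module.Basis (Fin (2 * m + 1)) R M) (t : N ≃ₗ[R] R)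
    (Q : QuadraticMap R M N) :
    halfDisc b t Q ∈ Ideal.span (Set.range fun p : Fin (2 * m + 1) × Fin (2 * m + 1) =>
      (polarMat b t Q).adjugate p.1 p.2) := by
  set I := Ideal.span (Set.range fun p : Fin (2 * m + 1) × Fin (2 * m + 1) =>
      (polarMat b t Q).adjugate p.1 p.2) with hI
  have hmem : ∀ i j, (polarMat b t Q).adjugate i j ∈ I := fun i j =>
    Ideal.subset_span ⟨(i, j), rfl⟩
  have hdet : (polarMat b t Q).det ∈ I := by
    have h := congrFun (congrFun (mul_adjugate (polarMat b t Q)) 0) 0
    rw [Matrix.smul_apply, Matrix.one_apply_eq, smul_eq_mul, mul_one, Matrix.mul_apply] at h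
    rw [← h]
    exact Ideal.sum_mem _ fun j _ => Ideal.mul_mem_left _ _ (hmem _ _)
  rw [halfDisc, ← MvPolynomial.coe_eval₂Hom, halfDiscUniv_eq, map_sub, map_mul, RingHom.map_det,
    mapMatrix_univPolarMat, Matrix.trace]
  refine Ideal.sub_mem _ ?_ (Ideal.mul_mem_left _ _ hdet)
  rw [map_sum]
  refine Ideal.sum_mem _ fun i _ => ?_
  rw [Matrix.diag_apply, Matrix.mul_apply, map_sum]
  refine Ideal.sum_mem _ fun j _ => ?_
  rw [map_mul]
  refine Ideal.mul_mem_left _ _ ?_
  have := congrFun (congrFun (RingHom.map_adjugate (MvPolynomial.eval₂Hom (Int.castRingHom R) (coeffs b t Q))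
    (univPolarMat (2 * m + 1))) j) i
  rw [RingHom.mapMatrix_apply, Matrix.map_apply] at this
  rw [this, mapMatrix_univPolarMat]
  exact hmem _ _

end eval

end Groth.Agent.H84
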