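import Mathlib
import Groth.Agent.H84.LiftSeq

/-!
# Lifting complexes along the localization by a Serre class; `D(A) ⥤ D(A/P)` is essentially
surjective
-/

set_option autoImplicit false
set_option backward.isDefEq.respectTransparency false
set_option backward.isDefEq.respectTransparency.types false

namespace Groth.Agent.H84.SerreLocDer

open CategoryTheory CategoryTheory.Limits Opposite Groth.Agent.H84.LiftSeq

universe u v u' v' w w'

variable {A : Type u} [Category.{v} A] [Abelian A] (P : ObjectProperty A) [P.IsSerreClass]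
  {B : Type u'} [Category.{v'} B] [Abelian B] (L : A ⥤ B) [L.IsLocalization P.isoModSerre]
  [L.Additive]

theorem fixUp : FixUp L P.isoModSerre := by
  intro Z X Y g f h
  rw [ObjectProperty.SerreClassLocalization.map_eq_zero_iff L P] at h
  refine ⟨cokernel (g ≫ f), cokernel.π _, ?_, by rw [← Category.assoc, cokernel.condition]⟩
  rw [P.isoModSerre_iff_of_epi]
  exact h

theorem fixUp_op : FixUp L.op P.isoModSerre.op := by
  intro Z X Y g f h
  have h' : L.map (f.unop ≫ g.unop) = 0 := by
    have := congrArg Quiver.Hom.unop h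
    simpa using this
  rw [ObjectProperty.SerreClassLocalization.map_eq_zero_iff L P] at h'
  refine ⟨op (kernel (f.unop ≫ g.unop)), (kernel.ι (f.unop ≫ g.unop)).op, ?_, ?_⟩
  · show P.isoModSerre (kernel.ι (f.unop ≫ g.unop))
    rw [P.isoModSerre_iff_of_mono]
    exact P.prop_of_iso (Abelian.coimageIsoImage _).symm h'
  · apply Quiver.Hom.unop_inj
    simp only [unop_comp, Quiver.Hom.unop_op, Category.assoc, unop_zero]
    exact kernel.condition _

section Construction

variable (K : CochainComplex B ℤ)

/-- Indices `0, -1, -2, ...`. -/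
def negIdx : ℕ → ℤ
  | 0 => Int.ofNat 0
  | n + 1 => Int.negSucc n

theorem negIdx_succ_add_one (n : ℕ) : negIdx (n + 1) + 1 = negIdx n := by
  cases n with
  | zero => rfl
  | succ k => rfl

/-- The right half of `K`. -/
def KR (n : ℕ) : B := K.X (Int.ofNat n)

/-- The differentials of the right half. -/
def δR (n : ℕ) : KR K n ⟶ KR K (n + 1) := K.d (Int.ofNat n) (Int.ofNat (n + 1))

theorem hδR (n : ℕ) : δR K n ≫ δR K (n + 1) = 0 := K.d_comp_d _ _ _

/-- The left half of `K`, in the opposite category. -/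
def KL (n : ℕ) : Bᵒᵖ := op (K.X (negIdx n))

/-- The differentials of the left half. -/
def δL (n : ℕ) : KL K n ⟶ KL K (n + 1) := (K.d (negIdx (n + 1)) (negIdx n)).op

theorem hδL (n : ℕ) : δL K n ≫ δL K (n + 1) = 0 := by
  show (K.d (negIdx (n + 1)) (negIdx n)).op ≫ (K.d (negIdx (n + 1 + 1)) (negIdx (n + 1))).op = 0
  rw [← op_comp, K.d_comp_d, op_zero]

variable {L} in
/-- The starting object. -/
noncomputable def X₀ : A :=
  have : L.EssSurj := Localization.essSurj L P.isoModSerre
  L.objPreimage (K.X (Int.ofNat 0))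

/-- The starting isomorphism. -/
noncomputable def β₀ : L.obj (X₀ P (L := L) K) ≅ K.X (Int.ofNat 0) :=
  have : L.EssSurj := Localization.essSurj L P.isoModSerre
  L.objObjPreimageIso _

/-- The starting piece on the right. -/
noncomputable def p₀R : Piece L (KR K) (δR K) 0 :=
  { Z := X₀ P (L := L) K
    X := X₀ P (L := L) K
    g := 0
    β := β₀ P L K
    hg := by rw [L.map_zero, zero_comp] }

/-- The right objects. -/
noncomputable def TR (n : ℕ) : A := T P.isoModSerre (fixUp P L) (hδR K) (p₀R P L K) n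

/-- The right differentials. -/
noncomputable def rR (n : ℕ) : TR P L K n ⟶ TR P L K (n + 1) :=
  r P.isoModSerre (fixUp P L) (hδR K) (p₀R P L K) n

/-- The right comparison isomorphisms. -/
noncomputable def βR (n : ℕ) : L.obj (TR P L K n) ≅ K.X (Int.ofNat n) :=
  β P.isoModSerre (fixUp P L) (hδR K) (p₀R P L K) n

theorem rR_comp (n : ℕ) : rR P L K n ≫ rR P L K (n + 1) = 0 := r_comp _ _ _ _ n

theorem commR (n : ℕ) :
    L.map (rR P L K n) ≫ (βR P L K (n + 1)).hom =
      (βR P L K n).hom ≫ K.d (Int.ofNat n) (Int.ofNat (n + 1)) :=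
  comm _ _ _ _ n

theorem TR_zero : TR P L K 0 = X₀ P (L := L) K := rfl

theorem βR_zero : βR P L K 0 = β₀ P L K := rfl

/-- The starting piece on the left. -/
noncomputable def p₀L : Piece L.op (KL K) (δL K) 0 :=
  { Z := op (TR P L K 1)
    X := op (X₀ P (L := L) K)
    g := (rR P L K 0).op
    β := (β₀ P L K).symm.op
    hg := by
      show (L.map (rR P L K 0)).op ≫ (β₀ P L K).inv.op ≫
        (K.d (Int.negSucc 0) (Int.ofNat 0)).op = 0
      rw [← op_comp, ← op_comp]
      have h1 : L.map (rR P L K 0) = (β₀ P L K).hom ≫ K.d (Int.ofNat 0) (Int.ofNat 1) ≫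
          (βR P L K 1).inv := by
        have := commR P L K 0
        rw [βR_zero] at this
        rw [← Category.assoc, ← this, Category.assoc, Iso.hom_inv_id, Category.comp_id]
      rw [h1]
      simp only [Category.assoc, Iso.inv_hom_id_assoc]
      rw [K.d_comp_d_assoc, zero_comp, op_zero] }

/-- The left objects (`TL n` sits in degree `-n`). -/
noncomputable def TL (n : ℕ) : A :=
  (T P.isoModSerre.op (fixUp_op P L) (hδL K) (p₀L P L K) n).unop

/-- The left differentials. -/
noncomputable def lL (n : ℕ) : TL P L K (n + 1) ⟶ TL P L K n :=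
  (r P.isoModSerre.op (fixUp_op P L) (hδL K) (p₀L P L K) n).unop

/-- The left comparison isomorphisms. -/
noncomputable def γL (n : ℕ) : L.obj (TL P L K n) ≅ K.X (negIdx n) :=
  (β P.isoModSerre.op (fixUp_op P L) (hδL K) (p₀L P L K) n).unop.symm

theorem TL_zero : TL P L K 0 = X₀ P (L := L) K := rfl

theorem γL_zero_hom : (γL P L K 0).hom = (β₀ P L K).hom := rfl

theorem lL_comp (n : ℕ) : lL P L K (n + 1) ≫ lL P L K n = 0 := by
  have := r_comp P.isoModSerre.op (fixUp_op P L) (hδL K) (p₀L P L K) n
  have h2 := congrArg Quiver.Hom.unop this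
  rw [unop_comp] at h2
  exact h2

theorem lL_zero_comp_rR : lL P L K 0 ≫ rR P L K 0 = 0 := by
  have := g_comp_r P.isoModSerre.op (fixUp_op P L) (hδL K) (p₀L P L K)
  have h2 := congrArg Quiver.Hom.unop this
  rw [unop_comp] at h2
  exact h2

theorem commL (n : ℕ) :
    L.map (lL P L K n) ≫ (γL P L K n).hom =
      (γL P L K (n + 1)).hom ≫ K.d (negIdx (n + 1)) (negIdx n) := by
  have h := comm P.isoModSerre.op (fixUp_op P L) (hδL K) (p₀L P L K) n
  have h2 := congrArg Quiver.Hom.unop h
  rw [unop_comp, unop_comp] at h2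
  -- h2 : (β (n+1)).hom.unop ≫ L.map (lL n) = K.d .. ≫ (β n).hom.unop
  have h3 : (γL P L K (n + 1)).inv ≫ L.map (lL P L K n) =
      K.d (negIdx (n + 1)) (negIdx n) ≫ (γL P L K n).inv := h2
  rw [← cancel_epi (γL P L K (n + 1)).inv, reassoc_of% h3, Iso.inv_hom_id, Category.comp_id,
    Iso.inv_hom_id_assoc]

/-- The objects of the lifted complex. -/
noncomputable def Xz : ℤ → A
  | Int.ofNat n => TR P L K n
  | Int.negSucc n => TL P L K (n + 1)

/-- The differentials of the lifted complex. -/
noncomputable def dz : ∀ i : ℤ, Xz P L K i ⟶ Xz P L K (i + 1)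
  | Int.ofNat n => rR P L K n
  | Int.negSucc 0 => lL P L K 0
  | Int.negSucc (k + 1) => lL P L K (k + 1)

theorem dz_comp : ∀ i : ℤ, dz P L K i ≫ dz P L K (i + 1) = 0
  | Int.ofNat n => rR_comp P L K n
  | Int.negSucc 0 => lL_zero_comp_rR P L K
  | Int.negSucc 1 => lL_comp P L K 0
  | Int.negSucc (k + 2) => lL_comp P L K (k + 1)

/-- The lifted complex. -/
noncomputable def lift : CochainComplex A ℤ :=
  CochainComplex.of (Xz P L K) (dz P L K) (dz_comp P L K)

theorem lift_d (i : ℤ) : (lift P L K).d i (i + 1) = dz P L K i := by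
  show CochainComplex.of.d (Xz P L K) (dz P L K) i (i + 1) = _
  exact CochainComplex.of_d _ _ _

/-- The comparison isomorphisms. -/
noncomputable def γ : ∀ i : ℤ, L.obj (Xz P L K i) ≅ K.X i
  | Int.ofNat n => βR P L K n
  | Int.negSucc n => γL P L K (n + 1)

theorem γ_comm : ∀ i : ℤ,
    L.map (dz P L K i) ≫ (γ P L K (i + 1)).hom = (γ P L K i).hom ≫ K.d i (i + 1)
  | Int.ofNat n => commR P L K n
  | Int.negSucc 0 => by
      have := commL P L K 0
      rw [γL_zero_hom] at this
      exact this
  | Int.negSucc (k + 1) => commL P L K (k + 1)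

/-- The lifted complex maps to `K`. -/
noncomputable def liftIso : (L.mapHomologicalComplex (ComplexShape.up ℤ)).obj (lift P L K) ≅ K :=
  HomologicalComplex.Hom.isoOfComponents (γ P L K) (fun i j hij => by
    have hij' : i + 1 = j := hij
    subst hij'
    rw [Functor.mapHomologicalComplex_obj_d, lift_d]
    exact (γ_comm P L K i).symm)

end Construction

include P in
theorem essSurj [HasDerivedCategory.{w} A] [HasDerivedCategory.{w'} B]
    [PreservesFiniteLimits L] [PreservesFiniteColimits L] :
    L.mapDerivedCategory.EssSurj where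
  mem_essImage Y := by
    let K : CochainComplex B ℤ := DerivedCategory.Q.objPreimage Y
    exact ⟨DerivedCategory.Q.obj (lift P L K),
      ⟨L.mapDerivedCategoryFactors.app (lift P L K) ≪≫
        DerivedCategory.Q.mapIso (liftIso P L K) ≪≫ DerivedCategory.Q.objObjPreimageIso Y⟩⟩

end Groth.Agent.H84.SerreLocDer
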