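import Groth.Prelude.Def_FibClv
import Mathlib.CategoryTheory.Bicategory.Grothendieck
import Mathlib.CategoryTheory.Bicategory.Functor.LocallyDiscrete
import Mathlib.CategoryTheory.Category.Cat

set_option autoImplicit false
set_option backward.isDefEq.respectTransparency false
set_option backward.isDefEq.respectTransparency.types false

universe v₁ v₂ u₁ u₂

open CategoryTheory CategoryTheory.Functor FibCat Opposite

namespace Groth.Agent.H84.SplitCleavage

variable {𝒮 : Type u₁} [Category.{v₁} 𝒮] {𝒳 : Type u₂} [Category.{v₂} 𝒳] {p : 𝒳 ⥤ 𝒮}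
  (K : Cleavage p)

theorem obj_congr {R S : 𝒮} {a : 𝒳} (ha : p.obj a = S) {f f' : R ⟶ S} (h : f = f') :
    K.obj ha f = K.obj ha f' := by subst h; rfl

theorem lift_congr {R S : 𝒮} {a : 𝒳} (ha : p.obj a = S) {f f' : R ⟶ S} (h : f = f') :
    K.lift ha f = eqToHom (obj_congr K ha h) ≫ K.lift ha f' := by
  subst h
  simp

variable {K} (hK : K.IsSplitting)
include hK

theorem obj_id {S : 𝒮} {a : 𝒳} (ha : p.obj a = S) : K.obj ha (𝟙 S) = a := (hK.1 ha).choose

theorem lift_id {S : 𝒮} {a : 𝒳} (ha : p.obj a = S) :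
    K.lift ha (𝟙 S) = eqToHom (obj_id hK ha) := (hK.1 ha).choose_spec

theorem obj_comp {S T U : 𝒮} (f : T ⟶ S) (g : U ⟶ T) {a : 𝒳} (ha : p.obj a = S) :
    K.obj (K.obj_proj ha f) g = K.obj ha (g ≫ f) := (hK.2 f g ha).choose

theorem lift_comp {S T U : 𝒮} (f : T ⟶ S) (g : U ⟶ T) {a : 𝒳} (ha : p.obj a = S) :
    K.lift (K.obj_proj ha f) g ≫ K.lift ha f = eqToHom (obj_comp hK f g ha) ≫ K.lift ha (g ≫ f) :=
  (hK.2 f g ha).choose_spec

theorem lift_comp' {S T U : 𝒮} (f : T ⟶ S) (g : U ⟶ T) {a : 𝒳} (ha : p.obj a = S) :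
    eqToHom (obj_comp hK f g ha).symm ≫ K.lift (K.obj_proj ha f) g ≫ K.lift ha f =
      K.lift ha (g ≫ f) := by
  rw [lift_comp hK]
  simp

theorem inverseImage_id_obj {S : 𝒮} (a : p.Fiber S) : (K.inverseImage (𝟙 S)).obj a = a :=
  Subtype.ext (obj_id hK a.2)

theorem inverseImage_id (S : 𝒮) : K.inverseImage (𝟙 S) = 𝟭 (p.Fiber S) := by
  refine Functor.ext (fun a => inverseImage_id_obj hK a) (fun a b φ => ?_)
  apply Fiber.hom_ext
  rw [Cleavage.inverseImage_map]
  symm
  apply IsCartesian.map_uniq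
  rw [lift_id hK a.2, lift_id hK b.2]
  simp [eqToHom_map]

theorem inverseImage_comp_obj {S T U : 𝒮} (f : T ⟶ S) (g : U ⟶ T) (a : p.Fiber S) :
    (K.inverseImage (g ≫ f)).obj a = (K.inverseImage f ⋙ K.inverseImage g).obj a :=
  Subtype.ext (obj_comp hK f g a.2).symm

theorem inverseImage_comp {S T U : 𝒮} (f : T ⟶ S) (g : U ⟶ T) :
    K.inverseImage (g ≫ f) = K.inverseImage f ⋙ K.inverseImage g := by
  refine Functor.ext (fun a => inverseImage_comp_obj hK f g a) (fun a b φ => ?_)
  apply Fiber.hom_ext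
  rw [Cleavage.inverseImage_map]
  symm
  apply IsCartesian.map_uniq
  simp only [Functor.map_comp, eqToHom_map, Functor.comp_map, Category.assoc]
  show eqToHom (obj_comp hK f g a.2).symm ≫
      Fiber.fiberInclusion.map ((K.inverseImage g).map ((K.inverseImage f).map φ)) ≫
        eqToHom (obj_comp hK f g b.2) ≫ K.lift b.2 (g ≫ f) = _
  rw [← lift_comp hK f g b.2]
  rw [Cleavage.inverseImage_map, IsCartesian.fac_assoc]
  rw [Category.assoc, Cleavage.inverseImage_map, IsCartesian.fac]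
  rw [← lift_comp' hK f g a.2]
  simp only [Category.assoc]

omit hK in
variable (K) in
/-- The strict functor of fibres of a splitting. -/
noncomputable def F (hK : K.IsSplitting) : 𝒮ᵒᵖ ⥤ Cat.{v₂, u₂} where
  obj S := Cat.of (p.Fiber S.unop)
  map f := (K.inverseImage f.unop).toCatHom
  map_id S := by
    apply Cat.Hom.ext
    exact inverseImage_id hK S.unop
  map_comp f g := by
    apply Cat.Hom.ext
    exact inverseImage_comp hK f.unop g.unop

theorem lift_comp_of_eq {S T U : 𝒮} (f : T ⟶ S) (g : U ⟶ T) (k : U ⟶ S) (hk : k = g ≫ f)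
    {a : 𝒳} (ha : p.obj a = S) (e : K.obj (K.obj_proj ha f) g = K.obj ha k) :
    eqToHom e ≫ K.lift ha k = K.lift (K.obj_proj ha f) g ≫ K.lift ha f := by
  subst hk
  rw [lift_comp hK]

omit hK

open Pseudofunctor

variable (K) in
/-- The pseudofunctor attached to the strict functor of fibres. -/
noncomputable abbrev F' (hK : K.IsSplitting) : Pseudofunctor (LocallyDiscrete 𝒮ᵒᵖ) Cat.{v₂, u₂} :=
  (F K hK).toPseudofunctor'

/-- The fibre object of an object of the Grothendieck construction. -/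
def fib {hK : K.IsSplitting} (X : CoGrothendieck (F' K hK)) : p.Fiber X.base := X.fiber

/-- The fibre morphism of a morphism of the Grothendieck construction. -/
def fibHom {hK : K.IsSplitting} {X Y : CoGrothendieck (F' K hK)} (f : X ⟶ Y) :
    fib X ⟶ (K.inverseImage f.base).obj (fib Y) := f.fiber

theorem fibHom_id {hK : K.IsSplitting} (X : CoGrothendieck (F' K hK)) :
    fibHom (𝟙 X) = eqToHom (inverseImage_id_obj hK (fib X)).symm := by
  simp only [fibHom, CoGrothendieck.categoryStruct_id_fiber, Functor.toPseudofunctor'_mapId,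
    eqToIso.inv, Cat.eqToHom_app]

theorem fibHom_comp {hK : K.IsSplitting} {X Y Z : CoGrothendieck (F' K hK)} (f : X ⟶ Y)
    (g : Y ⟶ Z) :
    fibHom (f ≫ g) = fibHom f ≫ (K.inverseImage f.base).map (fibHom g) ≫
      eqToHom (inverseImage_comp_obj hK g.base f.base (fib Z)).symm := by
  simp only [fibHom, CoGrothendieck.categoryStruct_comp_fiber, Functor.toPseudofunctor'_mapComp,
    eqToIso.inv, Cat.eqToHom_app]
  rfl

variable (K) in
/-- The functor from the Grothendieck construction back to `𝒳`. -/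
noncomputable def Ψ (hK : K.IsSplitting) : CoGrothendieck (F' K hK) ⥤ 𝒳 where
  obj X := (fib X).1
  map {X Y} f := Fiber.fiberInclusion.map (fibHom f) ≫ K.lift (fib Y).2 f.base
  map_id X := by
    rw [fibHom_id, eqToHom_map]
    change _ ≫ K.lift (fib X).2 (𝟙 X.base) = _
    rw [lift_id hK]
    simp
  map_comp {X Y Z} f g := by
    rw [fibHom_comp]
    simp only [Functor.map_comp, eqToHom_map, Category.assoc]
    change _ ≫ _ ≫ eqToHom _ ≫ K.lift (fib Z).2 (f.base ≫ g.base) = _
    rw [lift_comp_of_eq hK g.base f.base (f.base ≫ g.base) rfl (fib Z).2]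
    rw [Cleavage.inverseImage_map, IsCartesian.fac_assoc]
    simp only [Category.assoc]

theorem Ψ_map {hK : K.IsSplitting} {X Y : CoGrothendieck (F' K hK)} (f : X ⟶ Y) :
    (Ψ K hK).map f = Fiber.fiberInclusion.map (fibHom f) ≫ K.lift (fib Y).2 f.base := rfl

/-- Morphisms of the Grothendieck construction are determined by their base and their image
under `Ψ`. -/
theorem hom_ext_of_Ψ {hK : K.IsSplitting} {X Y : CoGrothendieck (F' K hK)} (f g : X ⟶ Y)
    (h1 : f.base = g.base) (h2 : (Ψ K hK).map f = (Ψ K hK).map g) : f = g := by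
  refine CoGrothendieck.Hom.ext f g h1 ?_
  change fibHom f = _
  apply Fiber.hom_ext
  apply IsCartesian.ext p f.base (K.lift (fib Y).2 f.base)
  rw [← Ψ_map, h2, Ψ_map]
  rw [lift_congr K (fib Y).2 h1]
  simp only [Functor.map_comp, eqToHom_map, Category.assoc, eqToHom_trans_assoc, eqToHom_refl,
    Category.id_comp]
  rfl

variable (K) in
/-- Object part of `Φ`. -/
def Φobj (hK : K.IsSplitting) (a : 𝒳) : CoGrothendieck (F' K hK) :=
  ⟨p.obj a, Fiber.mk (p := p) (a := a) rfl⟩

variable (K) in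
/-- Morphism part of `Φ`. -/
noncomputable def Φmap (hK : K.IsSplitting) {a b : 𝒳} (φ : a ⟶ b) : Φobj K hK a ⟶ Φobj K hK b :=
  ⟨p.map φ, Fiber.homMk p (p.obj a) (IsCartesian.map p (p.map φ) (K.lift rfl (p.map φ)) φ)⟩

theorem Ψ_Φmap {hK : K.IsSplitting} {a b : 𝒳} (φ : a ⟶ b) :
    (Ψ K hK).map (Φmap K hK φ) = φ := by
  rw [Ψ_map]
  exact IsCartesian.fac p (p.map φ) (K.lift rfl (p.map φ)) φ

variable (K) in
/-- The functor from `𝒳` to the Grothendieck construction. -/
noncomputable def Φ (hK : K.IsSplitting) : 𝒳 ⥤ CoGrothendieck (F' K hK) where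
  obj a := Φobj K hK a
  map φ := Φmap K hK φ
  map_id a := by
    apply hom_ext_of_Ψ
    · exact p.map_id a
    · rw [Ψ_Φmap, Functor.map_id]
      rfl
  map_comp φ ψ := by
    apply hom_ext_of_Ψ
    · exact p.map_comp φ ψ
    · rw [Ψ_Φmap, Functor.map_comp, Ψ_Φmap, Ψ_Φmap]

theorem Φ_comp_Ψ (hK : K.IsSplitting) : Φ K hK ⋙ Ψ K hK = 𝟭 𝒳 := by
  refine Functor.ext (fun a => rfl) (fun a b φ => ?_)
  simp only [Functor.comp_map, Functor.id_map, eqToHom_refl, Category.comp_id, Category.id_comp]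
  exact Ψ_Φmap φ

theorem Φ_comp_forget (hK : K.IsSplitting) :
    Φ K hK ⋙ CoGrothendieck.forget (F' K hK) = p := by
  refine Functor.ext (fun a => rfl) (fun a b φ => ?_)
  simp only [eqToHom_refl, Category.comp_id, Category.id_comp]
  rfl

theorem Φobj_Ψobj (hK : K.IsSplitting) (X : CoGrothendieck (F' K hK)) :
    Φobj K hK ((Ψ K hK).obj X) = X := by
  have key : ∀ (S : 𝒮) (x : p.Fiber S),
      (⟨p.obj x.1, Fiber.mk (p := p) (a := x.1) rfl⟩ : CoGrothendieck (F' K hK)) = ⟨S, x⟩ := by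
    rintro S ⟨a, rfl⟩
    rfl
  exact key X.base (fib X)

theorem base_eqToHom {hK : K.IsSplitting} {X Y : CoGrothendieck (F' K hK)} (h : X = Y) :
    (eqToHom h).base = eqToHom (congrArg CoGrothendieck.base h) := by
  subst h
  rfl

theorem Ψ_comp_Φ (hK : K.IsSplitting) : Ψ K hK ⋙ Φ K hK = 𝟭 _ := by
  refine Functor.ext (fun X => Φobj_Ψobj hK X) (fun X Y f => ?_)
  apply hom_ext_of_Ψ
  · simp only [CoGrothendieck.categoryStruct_comp_base, base_eqToHom, Functor.id_map,
      Functor.comp_map]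
    change p.map ((Ψ K hK).map f) = _
    rw [Ψ_map]
    exact IsHomLift.fac' p f.base _
  · change (Ψ K hK).map (Φmap K hK ((Ψ K hK).map f)) = _
    rw [Ψ_Φmap]
    simp only [Functor.map_comp, eqToHom_map, Functor.id_map]
    simp

end Groth.Agent.H84.SplitCleavage
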