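import Groth.Agent.H84.SplitCleavage

set_option autoImplicit false
set_option backward.isDefEq.respectTransparency false
set_option backward.isDefEq.respectTransparency.types false

universe v₁ v₂ v₃ u₁ u₂ u₃

open CategoryTheory CategoryTheory.Functor FibCat Opposite Pseudofunctor

namespace Groth.Agent.H84.SplitCleavageConv

variable {𝒮 : Type u₁} [Category.{v₁} 𝒮]

section Canonical

variable (F : 𝒮ᵒᵖ ⥤ Cat.{v₂, u₂})

theorem pmap_eq {S T : 𝒮} (f : T ⟶ S) :
    F.toPseudofunctor'.map f.op.toLoc = F.map f.op := rfl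

theorem pmap_obj_id {S : 𝒮} (f : S ⟶ S) (hf : f = 𝟙 S) (x : F.obj (op S)) :
    (F.toPseudofunctor'.map f.op.toLoc).toFunctor.obj x = x := by
  subst hf
  rw [pmap_eq, op_id, F.map_id]
  rfl

theorem pmap_obj_comp {S T U : 𝒮} (f : T ⟶ S) (g : U ⟶ T) (k : U ⟶ S) (hk : k = g ≫ f)
    (x : F.obj (op S)) :
    (F.toPseudofunctor'.map g.op.toLoc).toFunctor.obj
      ((F.toPseudofunctor'.map f.op.toLoc).toFunctor.obj x) =
    (F.toPseudofunctor'.map k.op.toLoc).toFunctor.obj x := by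
  subst hk
  rw [pmap_eq, pmap_eq, pmap_eq, op_comp, F.map_comp]
  rfl

theorem base_eqToHom {X Y : CoGrothendieck F.toPseudofunctor'} (h : X = Y) :
    (eqToHom h).base = eqToHom (congrArg CoGrothendieck.base h) := by
  subst h
  rfl

theorem fiber_eqToHom {X Y : CoGrothendieck F.toPseudofunctor'} (h : X = Y) :
    (eqToHom h).fiber = eqToHom (by
      subst h
      exact (pmap_obj_id F _ (base_eqToHom F rfl) _).symm) := by
  subst h
  simp

/-- The canonical cleavage of the Grothendieck construction of a strict functor. -/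
noncomputable abbrev K₀ : Cleavage (CoGrothendieck.forget F.toPseudofunctor') :=
  Cleavage.ofCoGrothendieck F.toPseudofunctor'

theorem K₀_obj {R S : 𝒮} {A : CoGrothendieck F.toPseudofunctor'} (ha : A.base = S) (f : R ⟶ S) :
    (K₀ F).obj (a := A) ha f =
      ⟨R, (F.toPseudofunctor'.map (f ≫ eqToHom ha.symm).op.toLoc).toFunctor.obj A.fiber⟩ := rfl

theorem K₀_lift_base {R S : 𝒮} {A : CoGrothendieck F.toPseudofunctor'} (ha : A.base = S)
    (f : R ⟶ S) : ((K₀ F).lift (a := A) ha f).base = f ≫ eqToHom ha.symm := rfl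

theorem K₀_lift_fiber {R S : 𝒮} {A : CoGrothendieck F.toPseudofunctor'} (ha : A.base = S)
    (f : R ⟶ S) : ((K₀ F).lift (a := A) ha f).fiber = 𝟙 _ := rfl

theorem K₀_isNormalised : (K₀ F).IsNormalised := by
  intro S A ha
  subst ha
  have h : (K₀ F).obj (a := A) rfl (𝟙 A.base) = A := by
    rw [K₀_obj]
    refine CoGrothendieck.ext rfl (heq_of_eq ?_)
    exact pmap_obj_id F _ (by simp) _
  refine ⟨h, ?_⟩
  refine CoGrothendieck.Hom.ext _ _ ?_ ?_
  · rw [K₀_lift_base, base_eqToHom]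
    simp
    rfl
  · rw [K₀_lift_fiber, fiber_eqToHom]
    simp

theorem K₀_isSplitting : (K₀ F).IsSplitting := by
  refine ⟨K₀_isNormalised F, ?_⟩
  intro S T U f g A ha
  subst ha
  have h : (K₀ F).obj ((K₀ F).obj_proj (a := A) rfl f) g = (K₀ F).obj (a := A) rfl (g ≫ f) := by
    refine CoGrothendieck.ext rfl (heq_of_eq ?_)
    exact pmap_obj_comp F (f ≫ eqToHom rfl) (g ≫ eqToHom rfl) ((g ≫ f) ≫ eqToHom rfl)
      (by simp) A.fiber
  refine ⟨h, ?_⟩
  refine CoGrothendieck.Hom.ext _ _ ?_ ?_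
  · rw [CoGrothendieck.categoryStruct_comp_base, CoGrothendieck.categoryStruct_comp_base,
      K₀_lift_base, K₀_lift_base, K₀_lift_base, base_eqToHom]
    simp
  · rw [CoGrothendieck.categoryStruct_comp_fiber, CoGrothendieck.categoryStruct_comp_fiber,
      K₀_lift_fiber, K₀_lift_fiber, K₀_lift_fiber, fiber_eqToHom]
    simp

end Canonical

section Transport

variable {𝒳 : Type u₂} [Category.{v₂} 𝒳] {𝒴 : Type u₃} [Category.{v₃} 𝒴]
  (q : 𝒴 ⥤ 𝒮) (E : 𝒳 ⥤ 𝒴)

theorem isHomLift_of_map {R S : 𝒮} {a b : 𝒳} (f : R ⟶ S) (φ : a ⟶ b)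
    [h : q.IsHomLift f (E.map φ)] : (E ⋙ q).IsHomLift f φ :=
  IsHomLift.of_fac' (E ⋙ q) f φ (IsHomLift.domain_eq q f (E.map φ)) (IsHomLift.codomain_eq q f (E.map φ))
    (IsHomLift.fac' q f (E.map φ))

theorem isHomLift_map {R S : 𝒮} {a b : 𝒳} (f : R ⟶ S) (φ : a ⟶ b)
    [h : (E ⋙ q).IsHomLift f φ] : q.IsHomLift f (E.map φ) :=
  IsHomLift.of_fac' q f (E.map φ) (IsHomLift.domain_eq (E ⋙ q) f φ)
    (IsHomLift.codomain_eq (E ⋙ q) f φ) (IsHomLift.fac' (E ⋙ q) f φ)

theorem isCartesian_of_map [E.Full] [E.Faithful] {R S : 𝒮} {a b : 𝒳} (f : R ⟶ S) (φ : a ⟶ b)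
    [hc : q.IsCartesian f (E.map φ)] : (E ⋙ q).IsCartesian f φ := by
  have : (E ⋙ q).IsHomLift f φ := isHomLift_of_map q E f φ
  refine ⟨?_⟩
  intro a' φ' hφ'
  have : q.IsHomLift f (E.map φ') := isHomLift_map q E f φ'
  refine ⟨E.preimage (IsCartesian.map q f (E.map φ) (E.map φ')), ⟨?_, ?_⟩, ?_⟩
  · have : q.IsHomLift (𝟙 R) (E.map (E.preimage (IsCartesian.map q f (E.map φ) (E.map φ')))) := by
      rw [E.map_preimage]; infer_instance
    exact isHomLift_of_map q E (𝟙 R) _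
  · apply E.map_injective
    rw [E.map_comp, E.map_preimage, IsCartesian.fac]
  · rintro χ ⟨hχ1, hχ2⟩
    apply E.map_injective
    rw [E.map_preimage]
    have : q.IsHomLift (𝟙 R) (E.map χ) := isHomLift_map q E (𝟙 R) χ
    apply IsCartesian.map_uniq
    rw [← E.map_comp, hχ2]

theorem isCartesian_eqToHom_comp {R S : 𝒮} {y' y b : 𝒴} (e : y' = y) (f : R ⟶ S) (l : y ⟶ b)
    [hc : q.IsCartesian f l] : q.IsCartesian f (eqToHom e ≫ l) := by
  subst e
  simpa using hc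

variable (E' : 𝒴 ⥤ 𝒳) (h₁ : E ⋙ E' = 𝟭 𝒳) (h₂ : E' ⋙ E = 𝟭 𝒴)

include h₂ in
theorem E_E'_obj (y : 𝒴) : E.obj (E'.obj y) = y := Functor.congr_obj h₂ y

include h₁ in
theorem E'_E_obj (a : 𝒳) : E'.obj (E.obj a) = a := Functor.congr_obj h₁ a

include h₂ in
theorem E_E'_map {y y' : 𝒴} (l : y ⟶ y') :
    E.map (E'.map l) = eqToHom (E_E'_obj E E' h₂ y) ≫ l ≫ eqToHom (E_E'_obj E E' h₂ y').symm :=
  Functor.congr_hom h₂ l

include h₁ h₂ in
theorem full_faithful : E.Full ∧ E.Faithful := by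
  let e : 𝒳 ≌ 𝒴 := CategoryTheory.Equivalence.mk E E' (eqToIso h₁.symm) (eqToIso h₂)
  have : E.IsEquivalence := e.isEquivalence_functor
  exact ⟨inferInstance, inferInstance⟩

variable {q} (L : Cleavage q)

theorem L_obj_congr {R T : 𝒮} {y y' : 𝒴} (e : y' = y) (hy : q.obj y = T) (hy' : q.obj y' = T)
    (g : R ⟶ T) : L.obj hy' g = L.obj hy g := by
  subst e
  rfl

theorem L_lift_congr {R T : 𝒮} {y y' : 𝒴} (e : y' = y) (hy : q.obj y = T) (hy' : q.obj y' = T)
    (g : R ⟶ T) :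
    L.lift hy' g = eqToHom (L_obj_congr L e hy hy' g) ≫ L.lift hy g ≫ eqToHom e.symm := by
  subst e
  simp

/-- Transport of a cleavage along an isomorphism of categories over the base. -/
noncomputable def transport : Cleavage (E ⋙ q) where
  obj {R S a} ha f := E'.obj (L.obj (a := E.obj a) ha f)
  lift {R S a} ha f := E'.map (L.lift (a := E.obj a) ha f) ≫ eqToHom (E'_E_obj E E' h₁ a)
  isCartesian {R S a} ha f := by
    obtain ⟨_, _⟩ := full_faithful E E' h₁ h₂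
    have key : E.map (E'.map (L.lift (a := E.obj a) ha f) ≫ eqToHom (E'_E_obj E E' h₁ a)) =
        eqToHom (E_E'_obj E E' h₂ _) ≫ L.lift (a := E.obj a) ha f := by
      rw [E.map_comp, E_E'_map E E' h₂, eqToHom_map]
      simp
    have : q.IsCartesian f
        (E.map (E'.map (L.lift (a := E.obj a) ha f) ≫ eqToHom (E'_E_obj E E' h₁ a))) := by
      rw [key]
      exact isCartesian_eqToHom_comp q _ f _
    exact isCartesian_of_map q E f _

theorem E_map_transport_lift {R S : 𝒮} {a : 𝒳} (ha : (E ⋙ q).obj a = S) (f : R ⟶ S) :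
    E.map ((transport E E' h₁ h₂ L).lift ha f) =
      eqToHom (E_E'_obj E E' h₂ _) ≫ L.lift (a := E.obj a) ha f := by
  change E.map (E'.map (L.lift (a := E.obj a) ha f) ≫ eqToHom (E'_E_obj E E' h₁ a)) = _
  rw [E.map_comp, E_E'_map E E' h₂, eqToHom_map]
  simp

theorem transport_isSplitting (hL : L.IsSplitting) : (transport E E' h₁ h₂ L).IsSplitting := by
  obtain ⟨_, _⟩ := full_faithful E E' h₁ h₂
  constructor
  · intro S a ha
    have h : (transport E E' h₁ h₂ L).obj ha (𝟙 S) = a := by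
      change E'.obj (L.obj (a := E.obj a) ha (𝟙 S)) = a
      rw [SplitCleavage.obj_id hL ha]
      exact E'_E_obj E E' h₁ a
    refine ⟨h, ?_⟩
    change E'.map (L.lift (a := E.obj a) ha (𝟙 S)) ≫ eqToHom _ = eqToHom h
    rw [SplitCleavage.lift_id hL ha, eqToHom_map, eqToHom_trans]
  · intro S T U f g a ha
    have hobj : L.obj (a := E.obj (E'.obj (L.obj (a := E.obj a) ha f)))
        ((transport E E' h₁ h₂ L).obj_proj ha f) g = L.obj (a := E.obj a) ha (g ≫ f) := by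
      rw [L_obj_congr L (E_E'_obj E E' h₂ (L.obj (a := E.obj a) ha f))
        (L.obj_proj (a := E.obj a) ha f) _ g]
      exact SplitCleavage.obj_comp hL f g ha
    have h : (transport E E' h₁ h₂ L).obj ((transport E E' h₁ h₂ L).obj_proj ha f) g =
        (transport E E' h₁ h₂ L).obj ha (g ≫ f) := congrArg E'.obj hobj
    refine ⟨h, ?_⟩
    apply E.map_injective
    rw [E.map_comp, E.map_comp, E_map_transport_lift, E_map_transport_lift,
      E_map_transport_lift, eqToHom_map]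
    rw [L_lift_congr L (E_E'_obj E E' h₂ (L.obj (a := E.obj a) ha f))
        (L.obj_proj (a := E.obj a) ha f) _ g]
    simp only [Category.assoc, eqToHom_trans_assoc, eqToHom_refl, Category.id_comp]
    rw [SplitCleavage.lift_comp hL f g ha]
    simp

end Transport

theorem exists_splitting {𝒳 : Type u₂} [Category.{v₂} 𝒳]
    (p : 𝒳 ⥤ 𝒮) (F : 𝒮ᵒᵖ ⥤ Cat.{v₂, u₂})
    (Φ : 𝒳 ⥤ Pseudofunctor.CoGrothendieck F.toPseudofunctor')
    (Ψ : Pseudofunctor.CoGrothendieck F.toPseudofunctor' ⥤ 𝒳)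
    (h₁ : Φ ⋙ Ψ = 𝟭 𝒳) (h₂ : Ψ ⋙ Φ = 𝟭 _)
    (h₃ : Φ ⋙ Pseudofunctor.CoGrothendieck.forget F.toPseudofunctor' = p) :
    ∃ K : FibCat.Cleavage p, K.IsSplitting := by
  subst h₃
  exact ⟨transport Φ Ψ h₁ h₂ (K₀ F),
    transport_isSplitting Φ Ψ h₁ h₂ (K₀ F) (K₀_isSplitting F)⟩

end Groth.Agent.H84.SplitCleavageConv
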