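import Mathlib
import Groth.Agent.H46.SpreadFP
import Groth.Agent.H22.SpreadUnique

/-!
# Spreading out an isomorphism of local rings (helper84)

`spread_out_iso`: `X`, `Y` locally of finite presentation over `S`, `φ : 𝒪_{Y,y} ≅ 𝒪_{X,x}` over
`𝒪_S`; then `φ` is induced by an `S`-isomorphism between open neighbourhoods of `x` and `y`.
-/

set_option autoImplicit false
universe u

namespace Groth.Agent.H84.SpreadIso

open AlgebraicGeometry CategoryTheory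

variable {X Y S : Scheme.{u}}

/-- Uniqueness of spreading out, `fromSpecStalk` form, for opens of `X`. -/
theorem unique_on_opens (sX : X ⟶ S) (sY : Y ⟶ S) [LocallyOfFiniteType sY]
    (U₁ : X.Opens) (c i : U₁.toScheme ⟶ Y) (hc : c ≫ sY = U₁.ι ≫ sX) (hi : i ≫ sY = U₁.ι ≫ sX)
    (x : X) (hx : x ∈ U₁)
    (e : U₁.fromSpecStalkOfMem x hx ≫ c = U₁.fromSpecStalkOfMem x hx ≫ i) :
    ∃ (U₂ : X.Opens) (h₂ : U₂ ≤ U₁), x ∈ U₂ ∧ X.homOfLE h₂ ≫ c = X.homOfLE h₂ ≫ i := by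
  have e' : U₁.toScheme.fromSpecStalk ⟨x, hx⟩ ≫ c = U₁.toScheme.fromSpecStalk ⟨x, hx⟩ ≫ i := by
    have := e
    simp only [Scheme.Opens.fromSpecStalkOfMem, Category.assoc] at this
    exact (cancel_epi _).mp this
  obtain ⟨W, hxW, hW⟩ :=
    Groth.Agent.H22.spread_out_unique_of_locallyOfFiniteType (U₁.ι ≫ sX) sY c i hc hi
      (x := ⟨x, hx⟩) (by simpa using congr($e' (IsLocalRing.closedPoint _))) (by
        apply Spec.map_injective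
        rw [← cancel_mono (Y.fromSpecStalk _)]
        simpa [Scheme.SpecMap_stalkSpecializes_fromSpecStalk] using e')
  have hle : U₁.ι ''ᵁ W ≤ U₁ := by
    rintro _ ⟨w, -, rfl⟩
    exact w.2
  refine ⟨U₁.ι ''ᵁ W, hle, ⟨⟨x, hx⟩, hxW, rfl⟩, ?_⟩
  have key : X.homOfLE hle = (U₁.ι.isoImage W).inv ≫ W.ι := by
    rw [← cancel_mono U₁.ι, Scheme.homOfLE_ι, Category.assoc, Scheme.Hom.isoImage_inv_ι]
  rw [key, Category.assoc, Category.assoc, hW]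

theorem fromSpecStalkOfMem_homOfLE {U V : X.Opens} (h : U ≤ V) (x : X) (hx : x ∈ U) :
    U.fromSpecStalkOfMem x hx ≫ X.homOfLE h = V.fromSpecStalkOfMem x (h hx) := by
  rw [← cancel_mono V.ι, Category.assoc, Scheme.homOfLE_ι, Scheme.Opens.fromSpecStalkOfMem_ι,
    Scheme.Opens.fromSpecStalkOfMem_ι]

/-- One half of the construction: a local retraction. -/
theorem half (sX : X ⟶ S) (sY : Y ⟶ S) [LocallyOfFiniteType sX]
    (U₀ : X.Opens) (V₀ : Y.Opens) (f₀ : U₀.toScheme ⟶ Y) (g₀ : V₀.toScheme ⟶ X)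
    (hf₀ : f₀ ≫ sY = U₀.ι ≫ sX) (hg₀ : g₀ ≫ sX = V₀.ι ≫ sY)
    (x : X) (hx : x ∈ U₀) (y : Y) (hy : y ∈ V₀)
    (ψ : Spec (X.presheaf.stalk x) ⟶ Spec (Y.presheaf.stalk y))
    (h1 : U₀.fromSpecStalkOfMem x hx ≫ f₀ = ψ ≫ Y.fromSpecStalk y)
    (h2 : ψ ≫ V₀.fromSpecStalkOfMem y hy ≫ g₀ = X.fromSpecStalk x) :
    ∃ (U₂ : X.Opens) (h₂ : U₂ ≤ U₀) (_ : x ∈ U₂) (q : U₂.toScheme ⟶ V₀.toScheme),
      q ≫ V₀.ι = X.homOfLE h₂ ≫ f₀ ∧ q ≫ g₀ = U₂.ι := by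
  -- `f₀ x` is a generization of `y`, hence lies in `V₀`
  have hfx : f₀ ⟨x, hx⟩ ∈ V₀ := by
    have hcp : U₀.fromSpecStalkOfMem x hx (IsLocalRing.closedPoint _) = ⟨x, hx⟩ := by
      apply Subtype.ext
      have := congr($(U₀.fromSpecStalkOfMem_ι x hx) (IsLocalRing.closedPoint _))
      rw [Scheme.Hom.comp_apply, Scheme.fromSpecStalk_closedPoint] at this
      exact this
    have h3 := congr($h1 (IsLocalRing.closedPoint _))
    simp only [Scheme.Hom.comp_apply] at h3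
    rw [hcp] at h3
    rw [h3]
    have hspec : Y.fromSpecStalk y (ψ (IsLocalRing.closedPoint _)) ⤳ y := by
      have hmem : Y.fromSpecStalk y (ψ (IsLocalRing.closedPoint _)) ∈
          Set.range (Y.fromSpecStalk y) := ⟨_, rfl⟩
      rw [Scheme.range_fromSpecStalk] at hmem
      exact hmem
    exact hspec.mem_open V₀.isOpen hy
  set U₁ : X.Opens := U₀.ι ''ᵁ (f₀ ⁻¹ᵁ V₀) with hU₁
  have h₁ : U₁ ≤ U₀ := by
    rintro _ ⟨w, -, rfl⟩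
    exact w.2
  have hx₁ : x ∈ U₁ := ⟨⟨x, hx⟩, hfx, rfl⟩
  have hrange : Set.range (X.homOfLE h₁ ≫ f₀) ⊆ Set.range V₀.ι := by
    rintro _ ⟨z, rfl⟩
    obtain ⟨w, hw, hwz⟩ := z.2
    have : X.homOfLE h₁ z = w := by
      apply Subtype.ext
      rw [Scheme.homOfLE_apply]
      exact hwz.symm
    rw [Scheme.Hom.comp_apply, this]
    exact ⟨⟨f₀ w, hw⟩, rfl⟩
  set q₁ : U₁.toScheme ⟶ V₀.toScheme := IsOpenImmersion.lift V₀.ι (X.homOfLE h₁ ≫ f₀) hrange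
    with hq₁
  have hq₁fac : q₁ ≫ V₀.ι = X.homOfLE h₁ ≫ f₀ := IsOpenImmersion.lift_fac _ _ _
  have hc : (q₁ ≫ g₀) ≫ sX = U₁.ι ≫ sX := by
    rw [Category.assoc, hg₀, ← Category.assoc, hq₁fac, Category.assoc, hf₀, ← Category.assoc,
      Scheme.homOfLE_ι]
  have hstalk : U₁.fromSpecStalkOfMem x hx₁ ≫ q₁ = ψ ≫ V₀.fromSpecStalkOfMem y hy := by
    rw [← cancel_mono V₀.ι, Category.assoc, hq₁fac, ← Category.assoc,
      fromSpecStalkOfMem_homOfLE, h1, Category.assoc, Scheme.Opens.fromSpecStalkOfMem_ι]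
  have hagree : U₁.fromSpecStalkOfMem x hx₁ ≫ (q₁ ≫ g₀) = U₁.fromSpecStalkOfMem x hx₁ ≫ U₁.ι := by
    rw [← Category.assoc, hstalk, Category.assoc, h2, Scheme.Opens.fromSpecStalkOfMem_ι]
  obtain ⟨U₂, h₂, hx₂, hU₂⟩ := unique_on_opens sX sX U₁ (q₁ ≫ g₀) U₁.ι hc rfl x hx₁ hagree
  refine ⟨U₂, h₂.trans h₁, hx₂, X.homOfLE h₂ ≫ q₁, ?_, ?_⟩
  · rw [Category.assoc, hq₁fac, ← Category.assoc, Scheme.homOfLE_homOfLE]
  · rw [Category.assoc, hU₂, Scheme.homOfLE_ι]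

/-- The open of `X` of points of `U₂` sent into `V₂` by `q`. -/
noncomputable def UU (U₂ : X.Opens) (V₀ V₂ : Y.Opens) (q : U₂.toScheme ⟶ V₀.toScheme) : X.Opens :=
  U₂.ι ''ᵁ (q ⁻¹ᵁ (V₀.ι ⁻¹ᵁ V₂))

theorem UU_le (U₂ : X.Opens) (V₀ V₂ : Y.Opens) (q : U₂.toScheme ⟶ V₀.toScheme) :
    UU U₂ V₀ V₂ q ≤ U₂ := by
  rintro _ ⟨w, -, rfl⟩
  exact w.2

theorem exists_restrict (U₀ U₂ : X.Opens) (V₀ V₂ : Y.Opens) (k₂ : V₂ ≤ V₀)
    (g₀ : V₀.toScheme ⟶ X) (q : U₂.toScheme ⟶ V₀.toScheme) (r : V₂.toScheme ⟶ U₀.toScheme)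
    (hq2 : q ≫ g₀ = U₂.ι) (hr1 : r ≫ U₀.ι = Y.homOfLE k₂ ≫ g₀) :
    ∃ f : (UU U₂ V₀ V₂ q).toScheme ⟶ (UU V₂ U₀ U₂ r).toScheme,
      f ≫ (UU V₂ U₀ U₂ r).ι = X.homOfLE (UU_le U₂ V₀ V₂ q) ≫ q ≫ V₀.ι := by
  have hrange : Set.range (X.homOfLE (UU_le U₂ V₀ V₂ q) ≫ q ≫ V₀.ι) ⊆
      Set.range (UU V₂ U₀ U₂ r).ι := by
    rintro _ ⟨u, rfl⟩
    obtain ⟨w, hw, hwu⟩ := u.2
    have hu : X.homOfLE (UU_le U₂ V₀ V₂ q) u = w := by
      apply Subtype.ext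
      rw [Scheme.homOfLE_apply]
      exact hwu.symm
    simp only [Scheme.Hom.comp_apply]
    rw [hu]
    -- `v := V₀.ι (q w) ∈ V₂`
    have hv : V₀.ι (q w) ∈ V₂ := hw
    have hmem : V₀.ι (q w) ∈ UU V₂ U₀ U₂ r := by
      refine ⟨⟨V₀.ι (q w), hv⟩, ?_, rfl⟩
      change U₀.ι (r ⟨V₀.ι (q w), hv⟩) ∈ U₂
      have h3 : U₀.ι (r ⟨V₀.ι (q w), hv⟩) = g₀ (Y.homOfLE k₂ ⟨V₀.ι (q w), hv⟩) := by
        rw [← Scheme.Hom.comp_apply, hr1, Scheme.Hom.comp_apply]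
      have h4 : Y.homOfLE k₂ ⟨V₀.ι (q w), hv⟩ = q w := by
        apply Subtype.ext
        rw [Scheme.homOfLE_apply]
        rfl
      rw [h3, h4, ← Scheme.Hom.comp_apply, hq2]
      exact w.2
    exact ⟨⟨_, hmem⟩, rfl⟩
  exact ⟨IsOpenImmersion.lift _ _ hrange, IsOpenImmersion.lift_fac _ _ _⟩

theorem specializes_of_comp_eq (U₀ : X.Opens) (f₀ : U₀.toScheme ⟶ Y) (x : X) (hx : x ∈ U₀) (y : Y)
    (ψ : Spec (X.presheaf.stalk x) ⟶ Spec (Y.presheaf.stalk y))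
    (h1 : U₀.fromSpecStalkOfMem x hx ≫ f₀ = ψ ≫ Y.fromSpecStalk y) : f₀ ⟨x, hx⟩ ⤳ y := by
  have hcp : U₀.fromSpecStalkOfMem x hx (IsLocalRing.closedPoint _) = ⟨x, hx⟩ := by
    apply Subtype.ext
    have := congr($(U₀.fromSpecStalkOfMem_ι x hx) (IsLocalRing.closedPoint _))
    rw [Scheme.Hom.comp_apply, Scheme.fromSpecStalk_closedPoint] at this
    exact this
  have h3 := congr($h1 (IsLocalRing.closedPoint _))
  simp only [Scheme.Hom.comp_apply] at h3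
  rw [hcp] at h3
  rw [h3]
  have hmem : Y.fromSpecStalk y (ψ (IsLocalRing.closedPoint _)) ∈
      Set.range (Y.fromSpecStalk y) := ⟨_, rfl⟩
  rw [Scheme.range_fromSpecStalk] at hmem
  exact hmem

theorem spread_out_iso (sX : X ⟶ S) (sY : Y ⟶ S)
    [LocallyOfFinitePresentation sX] [LocallyOfFinitePresentation sY]
    {x : X} {y : Y} (e : sX x = sY y)
    (φ : Y.presheaf.stalk y ⟶ X.presheaf.stalk x) [IsIso φ]
    (h : sY.stalkMap y ≫ φ =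
      S.presheaf.stalkSpecializes (Inseparable.of_eq e).specializes ≫ sX.stalkMap x) :
    ∃ (U : X.Opens) (hxU : x ∈ U) (V : Y.Opens) (f : U.toScheme ⟶ V.toScheme), IsIso f ∧
      Spec.map φ ≫ Y.fromSpecStalk y = U.fromSpecStalkOfMem x hxU ≫ f ≫ V.ι ∧
        f ≫ V.ι ≫ sY = U.ι ≫ sX := by
  -- the two spreadings
  obtain ⟨U₀, hxU₀, f₀, hf₀, hf₀S⟩ :=
    Groth.Agent.H46.spread_out_of_locallyOfFinitePresentation sX sY e φ h
  have h' : sX.stalkMap x ≫ inv φ =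
      S.presheaf.stalkSpecializes (Inseparable.of_eq e.symm).specializes ≫ sY.stalkMap y := by
    have h0 : sY.stalkMap y =
        S.presheaf.stalkSpecializes (Inseparable.of_eq e).specializes ≫ sX.stalkMap x ≫ inv φ := by
      rw [← Category.assoc, ← h, Category.assoc, IsIso.hom_inv_id, Category.comp_id]
    rw [h0, ← Category.assoc, TopCat.Presheaf.stalkSpecializes_comp]
    have : S.presheaf.stalkSpecializes
        ((Inseparable.of_eq e).specializes.trans (Inseparable.of_eq e.symm).specializes) = 𝟙 _ :=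
      TopCat.Presheaf.stalkSpecializes_refl _ _
    rw [this, Category.id_comp]
  obtain ⟨V₀, hyV₀, g₀, hg₀, hg₀S⟩ :=
    Groth.Agent.H46.spread_out_of_locallyOfFinitePresentation sY sX e.symm (inv φ) h'
  have hf₀' : U₀.fromSpecStalkOfMem x hxU₀ ≫ f₀ = Spec.map φ ≫ Y.fromSpecStalk y := hf₀.symm
  have hg₀' : V₀.fromSpecStalkOfMem y hyV₀ ≫ g₀ = Spec.map (inv φ) ≫ X.fromSpecStalk x := hg₀.symm
  have hφφ : Spec.map φ ≫ Spec.map (inv φ) = 𝟙 _ := by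
    rw [← Spec.map_comp, IsIso.inv_hom_id, Spec.map_id]
  have hφφ' : Spec.map (inv φ) ≫ Spec.map φ = 𝟙 _ := by
    rw [← Spec.map_comp, IsIso.hom_inv_id, Spec.map_id]
  -- the two local retractions
  obtain ⟨U₂, h₂, hx₂, q, hq1, hq2⟩ := half sX sY U₀ V₀ f₀ g₀ hf₀S hg₀S x hxU₀ y hyV₀
    (Spec.map φ) hf₀' (by rw [hg₀', ← Category.assoc, hφφ, Category.id_comp])
  obtain ⟨V₂, k₂, hy₂, r, hr1, hr2⟩ := half sY sX V₀ U₀ g₀ f₀ hg₀S hf₀S y hyV₀ x hxU₀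
    (Spec.map (inv φ)) hg₀' (by rw [hf₀', ← Category.assoc, hφφ', Category.id_comp])
  -- the two restrictions
  obtain ⟨f, hf⟩ := exists_restrict U₀ U₂ V₀ V₂ k₂ g₀ q r hq2 hr1
  obtain ⟨g, hg⟩ := exists_restrict V₀ V₂ U₀ U₂ h₂ f₀ r q hr2 hq1
  have hfle : f ≫ Y.homOfLE ((UU_le V₂ U₀ U₂ r).trans k₂) = X.homOfLE (UU_le U₂ V₀ V₂ q) ≫ q := by
    rw [← cancel_mono V₀.ι, Category.assoc, Scheme.homOfLE_ι, hf, Category.assoc]
  have hgle : g ≫ X.homOfLE ((UU_le U₂ V₀ V₂ q).trans h₂) = Y.homOfLE (UU_le V₂ U₀ U₂ r) ≫ r := by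
    rw [← cancel_mono U₀.ι, Category.assoc, Scheme.homOfLE_ι, hg, Category.assoc]
  have hfg : f ≫ g = 𝟙 _ := by
    rw [← cancel_mono (UU U₂ V₀ V₂ q).ι, Category.assoc, hg, Category.id_comp, hr1,
      ← Category.assoc (Y.homOfLE _), Scheme.homOfLE_homOfLE, ← Category.assoc, hfle,
      Category.assoc, hq2, Scheme.homOfLE_ι]
  have hgf : g ≫ f = 𝟙 _ := by
    rw [← cancel_mono (UU V₂ U₀ U₂ r).ι, Category.assoc, hf, Category.id_comp, hq1,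
      ← Category.assoc (X.homOfLE _), Scheme.homOfLE_homOfLE, ← Category.assoc, hgle,
      Category.assoc, hr2, Scheme.homOfLE_ι]
  have hxU : x ∈ UU U₂ V₀ V₂ q := by
    refine ⟨⟨x, hx₂⟩, ?_, rfl⟩
    change V₀.ι (q ⟨x, hx₂⟩) ∈ V₂
    rw [← Scheme.Hom.comp_apply, hq1, Scheme.Hom.comp_apply]
    have : X.homOfLE h₂ ⟨x, hx₂⟩ = ⟨x, hxU₀⟩ := Scheme.homOfLE_apply' _ _ _
    rw [this]
    exact (specializes_of_comp_eq U₀ f₀ x hxU₀ y _ hf₀').mem_open V₂.isOpen hy₂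
  refine ⟨UU U₂ V₀ V₂ q, hxU, UU V₂ U₀ U₂ r, f, ⟨g, hfg, hgf⟩, ?_, ?_⟩
  · rw [hf, hq1, ← Category.assoc (X.homOfLE _), Scheme.homOfLE_homOfLE, ← Category.assoc,
      fromSpecStalkOfMem_homOfLE, hf₀']
  · rw [← Category.assoc, hf, hq1, ← Category.assoc (X.homOfLE _), Scheme.homOfLE_homOfLE,
      Category.assoc, hf₀S, ← Category.assoc, Scheme.homOfLE_ι]

end Groth.Agent.H84.SpreadIso
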