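import Groth.Agent.H84.GerbeOverStk

/-!
# A stack over a stack is a stack over the base

`F : 𝒳 ⥤ᵇ 𝒴` a functor over `C` with `𝒴` a stack in groupoids for `J` and `𝒳`, as a category over
`𝒴` through `F`, a stack in groupoids for the topology on `𝒴` inherited from `J`.  Then `𝒳` is a
stack in groupoids over `C` for `J`.
-/

set_option autoImplicit false
set_option backward.isDefEq.respectTransparency false
set_option backward.isDefEq.respectTransparency.types false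
open CategoryTheory CategoryTheory.Limits
universe v₃ u₃ v₂ u₂ v u

namespace Groth.Agent.H84.StkCompose

open Groth.Agent.H32 Groth.Agent.H64 Groth.Agent.H84.StkConcrete Groth.Agent.H84.GerbeGlue
  Groth.Agent.H84.StkObjSieve Groth.Agent.H84.StkRefine Groth.Agent.H84.StkOverStk
  Groth.Agent.H84.GerbeOverStk

variable {C : Type u} [Category.{v} C] {𝒳 : BasedCategory.{v₂, u₂} C}
  {𝒴 : BasedCategory.{v₃, u₃} C} (F : 𝒳 ⥤ᵇ 𝒴)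

section fib

variable (h𝒴 : FibCat.IsFibGrpd 𝒴.p) (hF : FibCat.IsFibGrpd F.toFunctor)
include h𝒴 hF

/-- a composite of functors fibred in groupoids is fibred in groupoids -/
theorem isFibGrpd_of_comp : FibCat.IsFibGrpd 𝒳.p := by
  refine ⟨?_, ?_⟩
  · intro x V f
    have hx : 𝒴.p.obj (F.obj x) = 𝒳.p.obj x := F.w_obj x
    obtain ⟨y', g, hg⟩ := h𝒴.exists_lift (x := F.obj x) (f ≫ eqToHom hx.symm)
    obtain ⟨x', φ, hφ⟩ := hF.exists_lift (x := x) g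
    refine ⟨x', φ, ?_⟩
    have h1 : 𝒳.p.IsHomLift (f ≫ eqToHom hx.symm) φ := lift_trans F hg hφ
    exact (IsHomLift.lift_comp_eqToHom_iff 𝒳.p f φ hx.symm).mp h1
  · intro y x φ
    refine ⟨fun {a'} g φ' hφ' => ?_⟩
    -- first in `𝒴`
    have hFφ : 𝒴.p.IsStronglyCartesian (𝒳.p.map φ) (F.map φ) :=
      cart_of_fibGrpd 𝒴.p h𝒴 ((BasedFunctor.isHomLift_iff F _ φ).mpr (lift_map 𝒳.p φ))
    have hFφ' : 𝒴.p.IsHomLift (g ≫ 𝒳.p.map φ) (F.map φ') :=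
      (BasedFunctor.isHomLift_iff F _ φ').mpr hφ'
    obtain ⟨θ, hθ, hθfac⟩ := cart_lift 𝒴.p hFφ g (g ≫ 𝒳.p.map φ) rfl (F.map φ') hFφ'
    -- then in `𝒳` over `𝒴`
    have hφc : F.toFunctor.IsStronglyCartesian (F.map φ) φ := hF.isStronglyCartesian φ
    have hφ'' : F.toFunctor.IsHomLift (θ ≫ F.map φ) φ' := by
      rw [hθfac]
      exact lift_map F.toFunctor φ'
    obtain ⟨χ, hχ, hχfac⟩ := cart_lift F.toFunctor hφc θ (θ ≫ F.map φ) rfl φ' hφ''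
    refine ⟨χ, ⟨lift_trans F hθ hχ, hχfac⟩, ?_⟩
    rintro χ₂ ⟨hχ₂, hχ₂fac⟩
    have h1 : 𝒴.p.IsHomLift g (F.map χ₂) := (BasedFunctor.isHomLift_iff F _ χ₂).mpr hχ₂
    have h2 : F.map χ₂ = θ := by
      apply cart_ext 𝒴.p hFφ g h1 hθ
      rw [hθfac, ← F.map_comp, hχ₂fac]
    have h3 : F.toFunctor.IsHomLift θ χ₂ := h2 ▸ lift_map F.toFunctor χ₂
    exact cart_ext F.toFunctor hφc θ h3 hχ (hχ₂fac.trans hχfac.symm)

end fib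

section strictify

variable {B : Type u} [Category.{v} B] {𝒜 : BasedCategory.{v₂, u₂} B}
  {𝒵 : BasedCategory.{v₃, u₃} B}

/-- a functor into a category fibred in groupoids which commutes with the structure functors up
to a natural transformation `θ` can be replaced by a functor over the base, together with a
natural transformation lifting `θ` -/
theorem exists_strictify (h𝒵 : FibCat.IsFibGrpd 𝒵.p) (K₀ : 𝒜.obj ⥤ 𝒵.obj)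
    (θ : ∀ a : 𝒜.obj, 𝒜.p.obj a ⟶ 𝒵.p.obj (K₀.obj a))
    (hθ : ∀ {a a' : 𝒜.obj} (k : a ⟶ a'), 𝒜.p.map k ≫ θ a' = θ a ≫ 𝒵.p.map (K₀.map k)) :
    ∃ (K : 𝒜 ⥤ᵇ 𝒵) (τ : ∀ a : 𝒜.obj, K.obj a ⟶ K₀.obj a),
      (∀ a, 𝒵.p.IsHomLift (θ a) (τ a)) ∧
      ∀ {a a' : 𝒜.obj} (k : a ⟶ a'), K.map k ≫ τ a' = τ a ≫ K₀.map k := by
  have hl : ∀ a : 𝒜.obj, ∃ (z : 𝒵.obj) (τ : z ⟶ K₀.obj a), 𝒵.p.IsHomLift (θ a) τ := fun a =>
    h𝒵.exists_lift (θ a)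
  choose z τ hτ using hl
  have hτc : ∀ a, 𝒵.p.IsStronglyCartesian (θ a) (τ a) := fun a => cart_of_fibGrpd 𝒵.p h𝒵 (hτ a)
  have hz : ∀ a, 𝒵.p.obj (z a) = 𝒜.p.obj a := fun a => lift_domain_eq 𝒵.p (hτ a)
  have hlift : ∀ {a a' : 𝒜.obj} (k : a ⟶ a'),
      𝒵.p.IsHomLift (𝒜.p.map k ≫ θ a') (τ a ≫ K₀.map k) := fun {a a'} k =>
    hθ k ▸ lift_comp 𝒵.p (hτ a) (lift_map 𝒵.p (K₀.map k))
  let Kf : 𝒜.obj ⥤ 𝒵.obj :=
    { obj := z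
      map := fun {a a'} k => cartLift 𝒵.p (hτc a') (𝒜.p.map k) (τ a ≫ K₀.map k) (hlift k)
      map_id := fun a => by
        have h1 := cartLift_lift 𝒵.p (hτc a) (𝒜.p.map (𝟙 a)) (τ a ≫ K₀.map (𝟙 a)) (hlift (𝟙 a))
        have h2 : 𝒵.p.IsHomLift (𝒜.p.map (𝟙 a)) (𝟙 (z a)) := by
          rw [𝒜.p.map_id]
          exact lift_id_of_obj 𝒵.p (hz a)
        apply cart_ext 𝒵.p (hτc a) _ h1 h2
        rw [cartLift_fac, K₀.map_id, Category.comp_id, Category.id_comp]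
      map_comp := fun {a a' a''} k k' => by
        have h1 := cartLift_lift 𝒵.p (hτc a'') (𝒜.p.map (k ≫ k')) (τ a ≫ K₀.map (k ≫ k'))
          (hlift (k ≫ k'))
        have h2 : 𝒵.p.IsHomLift (𝒜.p.map (k ≫ k'))
            (cartLift 𝒵.p (hτc a') (𝒜.p.map k) (τ a ≫ K₀.map k) (hlift k) ≫
              cartLift 𝒵.p (hτc a'') (𝒜.p.map k') (τ a' ≫ K₀.map k') (hlift k')) := by
          rw [𝒜.p.map_comp]
          exact lift_comp 𝒵.p (cartLift_lift 𝒵.p (hτc a') _ _ (hlift k))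
            (cartLift_lift 𝒵.p (hτc a'') _ _ (hlift k'))
        apply cart_ext 𝒵.p (hτc a'') _ h1 h2
        rw [cartLift_fac, Category.assoc, cartLift_fac, ← Category.assoc, cartLift_fac,
          Category.assoc, ← K₀.map_comp] }
  refine ⟨mkBasedFunctor Kf (fun {a a'} k => cartLift_lift 𝒵.p (hτc a') _ _ (hlift k)), τ, hτ, ?_⟩
  intro a a' k
  exact cartLift_fac 𝒵.p (hτc a') _ _ (hlift k)

end strictify

section main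

variable (h𝒳 : FibCat.IsFibGrpd 𝒳.p) (h𝒴 : FibCat.IsFibGrpd 𝒴.p)
  (hF : FibCat.IsFibGrpd F.toFunctor) {U : C} (R : Sieve U)

include h𝒳 h𝒴 hF

theorem faithful_comp (hY : (Stk.resSieve R 𝒴).Faithful)
    (hZ : ∀ (y : 𝒴.obj) (hy : 𝒴.p.obj y = U),
      (Stk.resSieve (objSieve (𝒯 := 𝒴) R hy) (Z F)).Faithful) :
    (Stk.resSieve R 𝒳).Faithful := by
  refine faithful_of_hom_ext_obj (𝒯 := 𝒳) h𝒳 R (fun t t' ht ht' a b ha hb hloc => ?_)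
  have hFt : 𝒴.p.obj (F.obj t) = U := (F.w_obj t).trans ht
  have hFt' : 𝒴.p.obj (F.obj t') = U := (F.w_obj t').trans ht'
  -- membership in the sieve on `t`
  have hmem : ∀ ⦃y' : 𝒴.obj⦄ (f : y' ⟶ F.obj t), objSieve (𝒯 := 𝒴) R hFt f →
      ∀ ⦃s : 𝒳.obj⦄ (χ : s ⟶ t), F.toFunctor.IsHomLift f χ → objSieve (𝒯 := 𝒳) R ht χ :=
    fun y' f hf s χ hχ => objSieve_of_lift (𝒯 := 𝒳) R ht hf
      (lift_trans F (lift_map_comp_eqToHom 𝒴.p f hFt) hχ)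
  -- the images agree
  have hab : F.map a = F.map b := by
    apply hom_ext_obj h𝒴 R hY hFt hFt' (F.map a) (F.map b)
      ((BasedFunctor.isHomLift_iff F _ a).mpr ha) ((BasedFunctor.isHomLift_iff F _ b).mpr hb)
    intro s' ψ' hψ'
    obtain ⟨s, ψ, hψ⟩ := hF.exists_lift (x := t) ψ'
    have h1 := hloc ψ (hmem ψ' hψ' ψ hψ)
    have h2 : F.map ψ ≫ F.map a = F.map ψ ≫ F.map b := by
      rw [← F.map_comp, ← F.map_comp, h1]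
    have e := IsHomLift.fac F.toFunctor ψ' ψ
    rw [e]
    simp only [Category.assoc, eqToHom_refl, Category.id_comp]
    exact congrArg (eqToHom _ ≫ ·) h2
  have hla : F.toFunctor.IsHomLift (F.map a) a := lift_map F.toFunctor a
  have hlb : F.toFunctor.IsHomLift (F.map a) b := hab ▸ lift_map F.toFunctor b
  apply hom_ext_over (𝒯 := Z F) hF (F.map a) (objSieve (𝒯 := 𝒴) R hFt) (hZ (F.obj t) hFt) a b
    hla hlb
  intro y' f hf s χ hχ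
  exact hloc χ (hmem f hf χ hχ)

theorem full_comp (hY : (Stk.resSieve R 𝒴).Full)
    (hZ : ∀ (y : 𝒴.obj) (hy : 𝒴.p.obj y = U),
      (Stk.resSieve (objSieve (𝒯 := 𝒴) R hy) (Z F)).Full) :
    (Stk.resSieve R 𝒳).Full := by
  refine full_of_glue_hom_obj (𝒯 := 𝒳) h𝒳 R (fun t t' ht ht' m hm hcompat => ?_)
  have hFt : 𝒴.p.obj (F.obj t) = U := (F.w_obj t).trans ht
  have hFt' : 𝒴.p.obj (F.obj t') = U := (F.w_obj t').trans ht'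
  have mcongr : ∀ ⦃s : 𝒳.obj⦄ (ψ₁ ψ₂ : s ⟶ t) (_ : ψ₁ = ψ₂) (h₁ : objSieve (𝒯 := 𝒳) R ht ψ₁)
      (h₂ : objSieve (𝒯 := 𝒳) R ht ψ₂), m ψ₁ h₁ = m ψ₂ h₂ := by
    intro s ψ₁ ψ₂ e h₁ h₂
    subst e
    rfl
  have hmem : ∀ ⦃y' : 𝒴.obj⦄ (f : y' ⟶ F.obj t), objSieve (𝒯 := 𝒴) R hFt f →
      ∀ ⦃s : 𝒳.obj⦄ (χ : s ⟶ t), F.toFunctor.IsHomLift f χ → objSieve (𝒯 := 𝒳) R ht χ :=
    fun y' f hf s χ hχ => objSieve_of_lift (𝒯 := 𝒳) R ht hf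
      (lift_trans F (lift_map_comp_eqToHom 𝒴.p f hFt) hχ)
  have hmemF : ∀ ⦃s : 𝒳.obj⦄ (ψ : s ⟶ t), objSieve (𝒯 := 𝒳) R ht ψ →
      objSieve (𝒯 := 𝒴) R hFt (F.map ψ) := fun s ψ h =>
    objSieve_of_lift (𝒯 := 𝒴) R hFt h
      ((BasedFunctor.isHomLift_iff F _ ψ).mpr (lift_map_comp_eqToHom 𝒳.p ψ ht))
  -- chosen lifts of the morphisms into `F t`
  have hl : ∀ ⦃s' : 𝒴.obj⦄ (ψ' : s' ⟶ F.obj t), ∃ (s : 𝒳.obj) (ψ : s ⟶ t),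
      F.toFunctor.IsHomLift ψ' ψ := fun s' ψ' => hF.exists_lift ψ'
  choose sl ψl hψl using hl
  have hsl : ∀ ⦃s' : 𝒴.obj⦄ (ψ' : s' ⟶ F.obj t), F.obj (sl ψ') = s' := fun s' ψ' =>
    lift_domain_eq F.toFunctor (hψl ψ')
  have hψlc : ∀ ⦃s' : 𝒴.obj⦄ (ψ' : s' ⟶ F.obj t), F.toFunctor.IsStronglyCartesian ψ' (ψl ψ') :=
    fun s' ψ' => cart_of_fibGrpd F.toFunctor hF (hψl ψ')
  -- Step 1: glue the images in `𝒴`
  obtain ⟨ā, hā, hāfac⟩ := glue_hom_obj h𝒴 R hY hFt hFt'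
    (fun s' ψ' h' => eqToHom (hsl ψ').symm ≫ F.map (m (ψl ψ') (hmem ψ' h' (ψl ψ') (hψl ψ'))))
    (fun s' ψ' h' => by
      have h1 : 𝒳.p.IsHomLift (𝒴.p.map ψ' ≫ eqToHom hFt) (ψl ψ') :=
        lift_trans F (lift_map_comp_eqToHom 𝒴.p ψ' hFt) (hψl ψ')
      have h2 : 𝒳.p.IsHomLift (𝒴.p.map ψ' ≫ eqToHom hFt)
          (m (ψl ψ') (hmem ψ' h' (ψl ψ') (hψl ψ'))) := lift_of_lift_map 𝒳.p h1 ht (hm _ _)
      have h3 : 𝒴.p.IsHomLift (𝒴.p.map ψ' ≫ eqToHom hFt)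
          (F.map (m (ψl ψ') (hmem ψ' h' (ψl ψ') (hψl ψ')))) :=
        (BasedFunctor.isHomLift_iff F _ _).mpr h2
      exact (IsHomLift.comp_eqToHom_lift_iff 𝒴.p _ _ _).mpr h3)
    (fun s' s'' ψ' hψ' h hψ'' => by
      have hl2 : F.toFunctor.IsHomLift (h ≫ ψ') (ψl (h ≫ ψ')) := hψl (h ≫ ψ')
      have hχl := cartLift_lift F.toFunctor (hψlc ψ') h (ψl (h ≫ ψ')) hl2
      have hχfac := cartLift_fac F.toFunctor (hψlc ψ') h (ψl (h ≫ ψ')) hl2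
      have e1 := mcongr (ψl (h ≫ ψ')) (cartLift F.toFunctor (hψlc ψ') h (ψl (h ≫ ψ')) hl2 ≫ ψl ψ')
        hχfac.symm (hmem (h ≫ ψ') hψ'' (ψl (h ≫ ψ')) (hψl (h ≫ ψ')))
        (objSieve_comp (𝒯 := 𝒳) R ht (hmem ψ' hψ' (ψl ψ') (hψl ψ')) _)
      have e2 := hcompat (ψl ψ') (hmem ψ' hψ' (ψl ψ') (hψl ψ'))
        (cartLift F.toFunctor (hψlc ψ') h (ψl (h ≫ ψ')) hl2)
        (objSieve_comp (𝒯 := 𝒳) R ht (hmem ψ' hψ' (ψl ψ') (hψl ψ')) _)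
      have e3 := IsHomLift.fac' F.toFunctor h
        (cartLift F.toFunctor (hψlc ψ') h (ψl (h ≫ ψ')) hl2)
      show eqToHom (hsl (h ≫ ψ')).symm ≫ F.map (m (ψl (h ≫ ψ')) _) =
        h ≫ eqToHom (hsl ψ').symm ≫ F.map (m (ψl ψ') _)
      rw [e1, e2, F.map_comp, e3]
      simp)
  -- the glued morphism computes the images of all `m ψ`
  have hL : ∀ ⦃s : 𝒳.obj⦄ (ψ : s ⟶ t) (h : objSieve (𝒯 := 𝒳) R ht ψ),
      F.map ψ ≫ ā = F.map (m ψ h) := by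
    intro s ψ h
    have hl1 : F.toFunctor.IsHomLift (F.map ψ) ψ := lift_map F.toFunctor ψ
    have hχl := cartMap_lift F.toFunctor (hψlc (F.map ψ)) ψ hl1
    have hχfac := cartMap_fac F.toFunctor (hψlc (F.map ψ)) ψ hl1
    have hm0 := hmem (F.map ψ) (hmemF ψ h) (ψl (F.map ψ)) (hψl (F.map ψ))
    have e1 := mcongr ψ (cartMap F.toFunctor (hψlc (F.map ψ)) ψ hl1 ≫ ψl (F.map ψ)) hχfac.symm h
      (objSieve_comp (𝒯 := 𝒳) R ht hm0 _)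
    have e2 := hcompat (ψl (F.map ψ)) hm0 (cartMap F.toFunctor (hψlc (F.map ψ)) ψ hl1)
      (objSieve_comp (𝒯 := 𝒳) R ht hm0 _)
    have e3 := IsHomLift.fac' F.toFunctor (𝟙 (F.obj s))
      (cartMap F.toFunctor (hψlc (F.map ψ)) ψ hl1)
    rw [hāfac (F.map ψ) (hmemF ψ h), e1, e2, F.map_comp, e3]
    simp
  -- Step 2: pull `t'` back along `ā` and glue over `𝒴`
  obtain ⟨t'', c, hc⟩ := hF.exists_lift (x := t') ā
  have hFt'' : F.obj t'' = F.obj t := lift_domain_eq F.toFunctor hc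
  have hsc : F.toFunctor.IsStronglyCartesian ā c := cart_of_fibGrpd F.toFunctor hF hc
  have hmemZ : ∀ ⦃s : 𝒳.obj⦄ (ψ : s ⟶ t),
      objSieve (𝒯 := Z F) (objSieve (𝒯 := 𝒴) R hFt) (rfl : F.obj t = F.obj t) ψ →
      objSieve (𝒯 := 𝒳) R ht ψ := fun s ψ h =>
    hmem (F.map ψ ≫ eqToHom rfl) h ψ (lift_map_comp_eqToHom F.toFunctor ψ rfl)
  have hZmem : ∀ ⦃s : 𝒳.obj⦄ (ψ : s ⟶ t), objSieve (𝒯 := 𝒳) R ht ψ →
      objSieve (𝒯 := Z F) (objSieve (𝒯 := 𝒴) R hFt) (rfl : F.obj t = F.obj t) ψ := fun s ψ h => by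
    show R (𝒴.p.map (F.map ψ ≫ eqToHom rfl) ≫ eqToHom hFt)
    rw [eqToHom_refl, Category.comp_id]
    exact hmemF ψ h
  have hlm : ∀ ⦃s : 𝒳.obj⦄ (ψ : s ⟶ t) (h : objSieve (𝒯 := 𝒳) R ht ψ),
      F.toFunctor.IsHomLift ((F.map ψ ≫ eqToHom rfl) ≫ ā) (m ψ h) := by
    intro s ψ h
    rw [eqToHom_refl, Category.comp_id, hL ψ h]
    exact lift_map F.toFunctor (m ψ h)
  obtain ⟨a'', ha'', ha''fac⟩ := glue_hom_obj (𝒯 := Z F) hF (objSieve (𝒯 := 𝒴) R hFt)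
    (hZ (F.obj t) hFt) (rfl : F.obj t = F.obj t) hFt''
    (fun s ψ h => cartLift F.toFunctor hsc (F.map ψ ≫ eqToHom rfl) (m ψ (hmemZ ψ h))
      (hlm ψ (hmemZ ψ h)))
    (fun s ψ h => cartLift_lift F.toFunctor hsc (F.map ψ ≫ eqToHom rfl) (m ψ (hmemZ ψ h))
      (hlm ψ (hmemZ ψ h)))
    (fun s s' ψ hψ h hψ' => by
      have h1 := cartLift_lift F.toFunctor hsc (F.map (h ≫ ψ) ≫ eqToHom rfl)
        (m (h ≫ ψ) (hmemZ (h ≫ ψ) hψ')) (hlm (h ≫ ψ) (hmemZ (h ≫ ψ) hψ'))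
      have h2 := cartLift_lift F.toFunctor hsc (F.map ψ ≫ eqToHom rfl) (m ψ (hmemZ ψ hψ))
        (hlm ψ (hmemZ ψ hψ))
      have h3 : F.toFunctor.IsHomLift (F.map (h ≫ ψ) ≫ eqToHom rfl)
          (h ≫ cartLift F.toFunctor hsc (F.map ψ ≫ eqToHom rfl) (m ψ (hmemZ ψ hψ))
            (hlm ψ (hmemZ ψ hψ))) :=
        lift_of_eq F.toFunctor (lift_comp F.toFunctor (lift_map F.toFunctor h) h2) (by simp)
      apply cart_ext F.toFunctor hsc _ h1 h3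
      rw [cartLift_fac, Category.assoc, cartLift_fac]
      exact hcompat ψ _ h _)
  have ha : F.toFunctor.IsHomLift ā (a'' ≫ c) := lift_comp_id_left F.toFunctor ha'' hc
  refine ⟨a'' ≫ c, lift_trans F hā ha, fun s ψ h => ?_⟩
  rw [← Category.assoc, ha''fac ψ (hZmem ψ h)]
  exact cartLift_fac F.toFunctor hsc _ _ _

theorem essSurj_comp (hY : (Stk.resSieve R 𝒴).EssSurj)
    (hZ : ∀ (y : 𝒴.obj) (hy : 𝒴.p.obj y = U),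
      (Stk.resSieve (objSieve (𝒯 := 𝒴) R hy) (Z F)).EssSurj) :
    (Stk.resSieve R 𝒳).EssSurj := by
  refine essSurj_of_glue_obj (𝒯 := 𝒳) h𝒳 R (fun D => ?_)
  have hD : ∀ {r₁ r₂ : (Stk.sieveCat R).obj} (n : r₁ ⟶ r₂),
      𝒳.p.IsHomLift n.hom.left (D.map n) := fun n => sieve_map_isHomLift (𝒯 := 𝒳) R D n
  have hFD : ∀ {r₁ r₂ : (Stk.sieveCat R).obj} (n : r₁ ⟶ r₂),
      𝒴.p.IsHomLift n.hom.left (F.map (D.map n)) := fun n =>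
    (BasedFunctor.isHomLift_iff F _ _).mpr (hD n)
  -- Step 1: glue the images in `𝒴`
  obtain ⟨x, hx, π₀, hπ₀, hπ₀nat⟩ :=
    glue_obj_of_essSurj (𝒯 := 𝒴) R hY (BasedFunctor.comp D F)
  have hπ₀' : ∀ r : (Stk.sieveCat R).obj, 𝒴.p.IsHomLift r.obj.hom
      (show F.obj (D.obj r) ⟶ x from π₀ r) := hπ₀
  have hπ₀c : ∀ r : (Stk.sieveCat R).obj, 𝒴.p.IsStronglyCartesian r.obj.hom
      (show F.obj (D.obj r) ⟶ x from π₀ r) := fun r => cart_of_fibGrpd 𝒴.p h𝒴 (hπ₀' r)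
  have hπ₀n : ∀ {r₁ r₂ : (Stk.sieveCat R).obj} (n : r₁ ⟶ r₂),
      F.map (D.map n) ≫ (show F.obj (D.obj r₂) ⟶ x from π₀ r₂) = π₀ r₁ := fun n => hπ₀nat n
  have hw : ∀ r : (Stk.sieveCat R).obj, 𝒴.p.obj (F.obj (D.obj r)) = r.obj.left := fun r =>
    lift_domain_eq 𝒴.p (hπ₀' r)
  -- the functor from the sieve on `x` to the sieve on `U`
  let Pi : (Stk.sieveCat (objSieve (𝒯 := 𝒴) R hx)).obj ⥤ (Stk.sieveCat R).obj :=
    { obj := fun ρ => mkObj R (𝒴.p.map ρ.obj.hom ≫ eqToHom hx) ρ.property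
      map := fun {ρ ρ'} k => mkHom R (𝒴.p.map k.hom.left) (by
        show 𝒴.p.map k.hom.left ≫ 𝒴.p.map ρ'.obj.hom ≫ eqToHom hx =
          𝒴.p.map ρ.obj.hom ≫ eqToHom hx
        rw [← Category.assoc, ← 𝒴.p.map_comp, Over.w k.hom])
      map_id := fun ρ => by
        apply mkHom_ext
        exact 𝒴.p.map_id _
      map_comp := fun {ρ ρ' ρ''} k k' => by
        apply mkHom_ext
        exact 𝒴.p.map_comp _ _ }
  -- Step 2: a functor over `𝒴` out of the sieve on `x`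
  have hρl : ∀ ρ : (Stk.sieveCat (objSieve (𝒯 := 𝒴) R hx)).obj,
      𝒴.p.IsHomLift (Pi.obj ρ).obj.hom ρ.obj.hom := fun ρ =>
    lift_map_comp_eqToHom 𝒴.p ρ.obj.hom hx
  let θ : ∀ ρ : (Stk.sieveCat (objSieve (𝒯 := 𝒴) R hx)).obj,
      ρ.obj.left ⟶ F.obj (D.obj (Pi.obj ρ)) := fun ρ =>
    cartMap 𝒴.p (hπ₀c (Pi.obj ρ)) ρ.obj.hom (hρl ρ)
  have hθl : ∀ ρ, 𝒴.p.IsHomLift (𝟙 (𝒴.p.obj ρ.obj.left)) (θ ρ) := fun ρ =>
    cartMap_lift 𝒴.p (hπ₀c (Pi.obj ρ)) ρ.obj.hom (hρl ρ)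
  have hθfac : ∀ ρ, θ ρ ≫ (show F.obj (D.obj (Pi.obj ρ)) ⟶ x from π₀ (Pi.obj ρ)) = ρ.obj.hom :=
    fun ρ => cartMap_fac 𝒴.p (hπ₀c (Pi.obj ρ)) ρ.obj.hom (hρl ρ)
  have hθnat : ∀ {ρ ρ' : (Stk.sieveCat (objSieve (𝒯 := 𝒴) R hx)).obj} (k : ρ ⟶ ρ'),
      k.hom.left ≫ θ ρ' = θ ρ ≫ F.map (D.map (Pi.map k)) := by
    intro ρ ρ' k
    have h1 : 𝒴.p.IsHomLift (𝒴.p.map k.hom.left) (k.hom.left ≫ θ ρ') :=
      lift_comp_id_right 𝒴.p (lift_map 𝒴.p k.hom.left) (hθl ρ')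
    have h2 : 𝒴.p.IsHomLift (𝒴.p.map k.hom.left) (θ ρ ≫ F.map (D.map (Pi.map k))) :=
      lift_comp_id_left 𝒴.p (hθl ρ) (hFD (Pi.map k))
    apply cart_ext 𝒴.p (hπ₀c (Pi.obj ρ')) _ h1 h2
    rw [Category.assoc, hθfac, Category.assoc, hπ₀n, hθfac]
    exact Over.w k.hom
  obtain ⟨K, τ, hτ, hτnat⟩ := exists_strictify
    (𝒜 := Stk.sieveCat (objSieve (𝒯 := 𝒴) R hx)) (𝒵 := Z F) hF (Pi ⋙ D.toFunctor) θ
    (fun {ρ ρ'} k => hθnat k)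
  have hτ' : ∀ ρ, F.toFunctor.IsHomLift (θ ρ) (τ ρ) := hτ
  have hτn : ∀ {ρ ρ' : (Stk.sieveCat (objSieve (𝒯 := 𝒴) R hx)).obj} (k : ρ ⟶ ρ'),
      K.map k ≫ τ ρ' = τ ρ ≫ D.map (Pi.map k) := fun k => hτnat k
  -- Step 3: glue over `𝒴`
  obtain ⟨t, ht, π₂, hπ₂, hπ₂nat⟩ :=
    glue_obj_of_essSurj (𝒯 := Z F) (objSieve (𝒯 := 𝒴) R hx) (hZ x hx) K
  have ht₀ : F.obj t = x := ht
  have hπ₂' : ∀ ρ, F.toFunctor.IsHomLift ρ.obj.hom (π₂ ρ) := hπ₂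
  have hθiso : ∀ ρ, IsIso (θ ρ) := fun ρ => isIso_of_lift_id 𝒴.p h𝒴 (hθl ρ)
  have hτiso : ∀ ρ, IsIso (τ ρ) := fun ρ =>
    @isIso_of_lift_iso _ _ _ _ F.toFunctor hF _ _ (θ ρ) (hθiso ρ) _ _ (τ ρ) (hτ' ρ)
  have hτl : ∀ ρ, 𝒳.p.IsHomLift (𝟙 (𝒴.p.obj ρ.obj.left)) (τ ρ) := fun ρ =>
    lift_trans F (hθl ρ) (hτ' ρ)
  have hτil : ∀ ρ, 𝒳.p.IsHomLift (𝟙 (𝒴.p.obj ρ.obj.left)) (@inv _ _ _ _ (τ ρ) (hτiso ρ)) :=
    fun ρ => @lift_inv_of_isIso _ _ _ _ 𝒳.p _ _ _ (τ ρ) (hτiso ρ) (hτl ρ)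
  have hπ₂l : ∀ ρ, 𝒳.p.IsHomLift (Pi.obj ρ).obj.hom (π₂ ρ) := fun ρ =>
    lift_trans F (hρl ρ) (hπ₂' ρ)
  -- Step 4: the cone over the sieve on `U`
  let Lam : (Stk.sieveCat R).obj → (Stk.sieveCat (objSieve (𝒯 := 𝒴) R hx)).obj := fun r =>
    mkObj (objSieve (𝒯 := 𝒴) R hx) (show F.obj (D.obj r) ⟶ x from π₀ r)
      (objSieve_of_lift (𝒯 := 𝒴) R hx r.property (hπ₀' r))
  let LamHom : ∀ {r₁ r₂ : (Stk.sieveCat R).obj} (_ : r₁ ⟶ r₂), Lam r₁ ⟶ Lam r₂ := fun {r₁ r₂} n =>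
    mkHom (objSieve (𝒯 := 𝒴) R hx) (F.map (D.map n)) (hπ₀n n)
  let e : ∀ r : (Stk.sieveCat R).obj, r ⟶ Pi.obj (Lam r) := fun r =>
    mkHom R (eqToHom (hw r).symm) (by
      show eqToHom (hw r).symm ≫ 𝒴.p.map (show F.obj (D.obj r) ⟶ x from π₀ r) ≫ eqToHom hx =
        r.obj.hom
      rw [map_comp_eqToHom_of_lift 𝒴.p (hπ₀' r) hx]
      simp)
  have hsq : ∀ {r₁ r₂ : (Stk.sieveCat R).obj} (n : r₁ ⟶ r₂),
      n ≫ e r₂ = e r₁ ≫ Pi.map (LamHom n) := by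
    intro r₁ r₂ n
    apply mkHom_ext
    show n.hom.left ≫ eqToHom (hw r₂).symm = eqToHom (hw r₁).symm ≫ 𝒴.p.map (F.map (D.map n))
    have hn := hFD n
    have e1 := IsHomLift.fac' 𝒴.p n.hom.left (F.map (D.map n))
    rw [e1]
    simp
  have hσnat : ∀ {ρ ρ' : (Stk.sieveCat (objSieve (𝒯 := 𝒴) R hx)).obj} (k : ρ ⟶ ρ'),
      D.map (Pi.map k) ≫ @inv _ _ _ _ (τ ρ') (hτiso ρ') ≫ π₂ ρ' =
        @inv _ _ _ _ (τ ρ) (hτiso ρ) ≫ π₂ ρ := by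
    intro ρ ρ' k
    have := hτiso ρ
    have := hτiso ρ'
    have h1 : inv (τ ρ) ≫ K.map k = D.map (Pi.map k) ≫ inv (τ ρ') := by
      rw [IsIso.inv_comp_eq, ← Category.assoc, IsIso.eq_comp_inv]
      exact hτn k
    rw [← hπ₂nat k, ← Category.assoc, ← Category.assoc, h1]
  refine ⟨t, (F.w_obj t).symm.trans ((congrArg 𝒴.p.obj ht₀).trans hx),
    fun r => D.map (e r) ≫ @inv _ _ _ _ (τ (Lam r)) (hτiso (Lam r)) ≫ π₂ (Lam r), ?_, ?_⟩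
  · intro r
    have h1 : 𝒳.p.IsHomLift (Pi.obj (Lam r)).obj.hom
        (@inv _ _ _ _ (τ (Lam r)) (hτiso (Lam r)) ≫ π₂ (Lam r)) :=
      lift_comp_id_left 𝒳.p (hτil (Lam r)) (hπ₂l (Lam r))
    have h2 : 𝒳.p.IsHomLift ((e r).hom.left ≫ (Pi.obj (Lam r)).obj.hom)
        (D.map (e r) ≫ @inv _ _ _ _ (τ (Lam r)) (hτiso (Lam r)) ≫ π₂ (Lam r)) :=
      lift_comp 𝒳.p (hD (e r)) h1
    exact lift_of_eq 𝒳.p h2 (Over.w (e r).hom)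
  · intro r₁ r₂ n
    show D.map n ≫ D.map (e r₂) ≫ @inv _ _ _ _ (τ (Lam r₂)) (hτiso (Lam r₂)) ≫ π₂ (Lam r₂) =
      D.map (e r₁) ≫ @inv _ _ _ _ (τ (Lam r₁)) (hτiso (Lam r₁)) ≫ π₂ (Lam r₁)
    rw [← Category.assoc, ← D.map_comp, hsq n, D.map_comp, Category.assoc, hσnat (LamHom n)]

end main

/-- A category over a stack in groupoids `𝒴` which is a stack in groupoids for the inherited
topology is a stack in groupoids over the base. -/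
theorem isStack_of_over (J : GrothendieckTopology C) (h𝒴 : Stk.IsStack J 𝒴)
    (hZ : Stk.IsStack (𝒴.p.restrictedTopology J) (Z F)) : Stk.IsStack J 𝒳 := by
  have hF : FibCat.IsFibGrpd F.toFunctor := hZ.1
  have h𝒳 : FibCat.IsFibGrpd 𝒳.p := isFibGrpd_of_comp F h𝒴.1 hF
  refine ⟨h𝒳, fun U R hR => ?_⟩
  have hY := h𝒴.2 R hR
  have hZ' : ∀ (y : 𝒴.obj) (hy : 𝒴.p.obj y = U),
      Stk.IsStackFor (objSieve (𝒯 := 𝒴) R hy) (Z F) := fun y hy =>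
    hZ.2 _ (objSieve_mem J h𝒴.1 R hR hy)
  exact
    { faithful := faithful_comp F h𝒳 h𝒴.1 hF R hY.faithful (fun y hy => (hZ' y hy).faithful)
      full := full_comp F h𝒳 h𝒴.1 hF R hY.full (fun y hy => (hZ' y hy).full)
      essSurj := essSurj_comp F h𝒳 h𝒴.1 hF R hY.essSurj (fun y hy => (hZ' y hy).essSurj) }

/-- the form with the composite structure functor -/
theorem isStack_comp (J : GrothendieckTopology C) (h𝒴 : Stk.IsStack J 𝒴)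
    (𝒵 : BasedCategory.{v₂, u₂} 𝒴.obj) (h𝒵 : Stk.IsStack (𝒴.p.restrictedTopology J) 𝒵) :
    Stk.IsStack J (BasedCategory.ofFunctor (𝒵.p ⋙ 𝒴.p)) :=
  isStack_of_over (𝒳 := BasedCategory.ofFunctor (𝒵.p ⋙ 𝒴.p)) (𝒴 := 𝒴)
    { toFunctor := 𝒵.p, w := rfl } J h𝒴 h𝒵

end Groth.Agent.H84.StkCompose
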