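import Groth.Agent.H84.StkObjSieve
import Groth.Agent.H84.StkRefine
import Groth.Agent.H64.Stk.StackOfRep
import Groth.Agent.H64.Stk.FpStack

/-!
# A faithful functor to a stack whose fibres over slices are stacks

If `F : 𝒮 ⟶ 𝒯` is a faithful functor over `C` of categories fibred in groupoids, `𝒯` is a stack for
`J`, and every 2-fibre product `(C/U) ×_𝒯 𝒮`, as a category over `C/U`, is a stack for the induced
topology of `C/U`, then `𝒮` is a stack for `J`.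
-/

set_option autoImplicit false
set_option backward.isDefEq.respectTransparency false
set_option backward.isDefEq.respectTransparency.types false
open CategoryTheory CategoryTheory.Limits
universe v₃ u₃ v₂ u₂ v u

namespace Groth.Agent.H84.StkFaithfulFp

open Groth.Agent.H32 Groth.Agent.H64 Groth.Agent.H84.StkConcrete Groth.Agent.H84.StkObjSieve
  Groth.Agent.H84.GerbeGlue Groth.Agent.H84.StkRefine

variable {C : Type u} [Category.{v} C]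

section lifts

theorem lift_comp_functor {𝒳 : Type u₂} [Category.{v₂} 𝒳] {B : Type u₃} [Category.{v₃} B]
    (p : 𝒳 ⥤ B) (G : B ⥤ C) {R S : B} {f : R ⟶ S} {a b : 𝒳} {φ : a ⟶ b}
    (h : p.IsHomLift f φ) : (p ⋙ G).IsHomLift (G.map f) φ := by
  obtain ⟨⟩ := h
  exact IsHomLift.map (p ⋙ G) φ

end lifts

section sieveT

variable {U : C} (R : Sieve U)

/-- the sieve on the terminal object of the slice corresponding to `R` -/
def sieveT : Sieve (ovT U) := (Sieve.overEquiv (ovT U)).symm R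

theorem sieveT_iff {X : Over U} (g : X ⟶ ovT U) : sieveT R g ↔ R g.left := Iff.rfl

theorem sieveT_mem (J : GrothendieckTopology C) (hR : R ∈ J U) :
    sieveT R ∈ (J.over U) (ovT U) :=
  J.overEquiv_symm_mem_over (ovT U) R hR

/-- from the sieve category of `sieveT R` (over `C/U`) to that of `R` -/
def Φ : (Stk.sieveCat (sieveT R)).obj ⥤ (Stk.sieveCat R).obj where
  obj ρ := ⟨ρ.obj.left, by
    have h : R ρ.obj.hom.left := ρ.property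
    have e : ρ.obj.hom.left ≫ 𝟙 U = ρ.obj.left.hom := Over.w ρ.obj.hom
    have e' : ρ.obj.hom.left = ρ.obj.left.hom := (Category.comp_id _).symm.trans e
    exact e' ▸ h⟩
  map μ := ObjectProperty.homMk μ.hom.left

/-- objects of the sieve category of `sieveT R` from those of `R` -/
def Ψ (r : (Stk.sieveCat R).obj) : (Stk.sieveCat (sieveT R)).obj :=
  ⟨Over.mk (ovTo r.obj), r.property⟩

def Ψmap {r' r : (Stk.sieveCat R).obj} (m : r' ⟶ r) : Ψ R r' ⟶ Ψ R r :=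
  ObjectProperty.homMk (Over.homMk m.hom (ovTo_comp m.hom))

theorem Φ_Ψ (r : (Stk.sieveCat R).obj) : (Φ R).obj (Ψ R r) = r := rfl

theorem Φ_Ψmap {r' r : (Stk.sieveCat R).obj} (m : r' ⟶ r) : (Φ R).map (Ψmap R m) = m := rfl

end sieveT

section essSurj

variable {𝒮 : BasedCategory.{v₂, u₂} C} {𝒯 : BasedCategory.{v₃, u₃} C} (F : 𝒮 ⥤ᵇ 𝒯) {U : C}

/-- the fibre product over the slice, as a category over the slice -/
abbrev fpOver (y : FibCat.overCat U ⥤ᵇ 𝒯) : BasedCategory (Over U) :=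
  BasedCategory.ofFunctor ((FibCat.fpFst y F).toFunctor : (FibCat.fp y F).obj ⥤ Over U)

variable (R : Sieve U)

theorem essSurj_of_fp (h𝒮 : FibCat.IsFibGrpd 𝒮.p) (hY : (Stk.resSieve R 𝒯).EssSurj)
    (hfp : ∀ y : FibCat.overCat U ⥤ᵇ 𝒯, (Stk.resSieve (sieveT R) (fpOver F y)).EssSurj) :
    (Stk.resSieve R 𝒮).EssSurj := by
  refine essSurj_of_glue_obj h𝒮 R (fun D => ?_)
  obtain ⟨y, ⟨ε⟩⟩ := (restr_essSurj_iff _ _).mp hY (BasedFunctor.comp D F)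
  let K' : Stk.sieveCat R ⥤ᵇ FibCat.fp y F := FibCat.fpLift (Stk.sieveIncl R) D ε
  let D' : Stk.sieveCat (sieveT R) ⥤ᵇ fpOver F y :=
    { toFunctor := Φ R ⋙ K'.toFunctor
      w := rfl }
  obtain ⟨P, hP, π', hπ', hnat⟩ := glue_obj_of_essSurj (sieveT R) (hfp y) D'
  have hPl : (FibCat.fp y F).p.obj P = U := congrArg Comma.left hP
  have ht : 𝒮.p.obj P.obj.snd = U := (fp_snd_obj_eq y F P).trans hPl
  refine ⟨P.obj.snd, ht, fun r => (π' (Ψ R r)).hom.snd, fun r => ?_, fun {r' r} m => ?_⟩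
  · have h1 : (fpOver F y).p.IsHomLift (ovTo r.obj) (π' (Ψ R r)) := hπ' (Ψ R r)
    have h2 : (FibCat.fp y F).p.IsHomLift r.obj.hom (π' (Ψ R r)) :=
      lift_comp_functor _ (Over.forget U) h1
    exact fp_snd_isHomLift y F (π' (Ψ R r)) r.obj.hom
  · have := congrArg (fun μ => μ.hom.snd) (hnat (Ψmap R m))
    exact this

end essSurj

section full

section aux

variable {D : Type u₂} [Category.{v₂} D]

theorem ext_aux {A B C' D' E : D} (c' : A ⟶ B) (Fk : B ⟶ C') (Fm : C' ⟶ D') (Fm' : B ⟶ D')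
    (h : A ⟶ E) (c : E ⟶ C') (h1 : c' ≫ Fk = h ≫ c) (h2 : Fm' = Fk ≫ Fm) :
    c' ≫ Fm' = h ≫ c ≫ Fm := by
  rw [h2, ← Category.assoc, h1, Category.assoc]

theorem w_aux {A B C' D' E : D} (ym : A ⟶ B) (pr : B ⟶ C') (a : D' ⟶ C') [IsIso a] (i : A ⟶ E)
    (Fψ : E ⟶ D') (Fm : E ⟶ C') (hw : ym ≫ pr ≫ inv a = i ≫ Fψ) (hf : Fψ ≫ a = Fm) :
    ym ≫ pr = i ≫ Fm := by
  rw [← hf, ← Category.assoc i, ← hw]
  simp

end aux

variable {𝒮 : BasedCategory.{v₂, u₂} C} {𝒯 : BasedCategory.{v₃, u₃} C} (F : 𝒮 ⥤ᵇ 𝒯) {U : C}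
  (R : Sieve U)

theorem exists_lift_over (h𝒮 : FibCat.IsFibGrpd 𝒮.p) {t : 𝒮.obj} (ht : 𝒮.p.obj t = U) {V : C}
    (f : V ⟶ U) : ∃ (s : 𝒮.obj) (ψ : s ⟶ t), 𝒮.p.IsHomLift f ψ := by
  obtain ⟨s, ψ, hψ⟩ := h𝒮.exists_lift (x := t) (f ≫ eqToHom ht.symm)
  exact ⟨s, ψ, (IsHomLift.lift_comp_eqToHom_iff 𝒮.p f ψ ht.symm).mp hψ⟩

theorem map_isHomLift {V V' : C} {f : V ⟶ V'} {s s' : 𝒮.obj} {ψ : s ⟶ s'}
    (h : 𝒮.p.IsHomLift f ψ) : 𝒯.p.IsHomLift f (F.map ψ) :=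
  BasedFunctor.preserves_isHomLift F f ψ

theorem map_fac {a b c : 𝒮.obj} {k : a ⟶ b} {ψ : b ⟶ c} {ψ' : a ⟶ c} (h : k ≫ ψ = ψ') :
    F.map k ≫ F.map ψ = F.map ψ' :=
  (F.toFunctor.map_comp _ _).symm.trans (congrArg (fun x => F.map x) h)

/-- a compatible family of morphisms of `𝒮` on a sieve glues in `𝒯` -/
theorem glue_image (h𝒮 : FibCat.IsFibGrpd 𝒮.p) (h𝒯 : FibCat.IsFibGrpd 𝒯.p)
    (hY : (Stk.resSieve R 𝒯).Full) {t t' : 𝒮.obj} (ht : 𝒮.p.obj t = U) (ht' : 𝒮.p.obj t' = U)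
    (m : ∀ ⦃s : 𝒮.obj⦄ (ψ : s ⟶ t), objSieve R ht ψ → (s ⟶ t'))
    (hm : ∀ ⦃s : 𝒮.obj⦄ (ψ : s ⟶ t) (h : objSieve R ht ψ),
        𝒮.p.IsHomLift (𝒮.p.map ψ ≫ eqToHom ht) (m ψ h))
    (hcompat : ∀ ⦃s s' : 𝒮.obj⦄ (ψ : s ⟶ t) (hψ : objSieve R ht ψ) (h : s' ⟶ s)
        (hψ' : objSieve R ht (h ≫ ψ)), m (h ≫ ψ) hψ' = h ≫ m ψ hψ) :
    ∃ a' : F.obj t ⟶ F.obj t', 𝒯.p.IsHomLift (𝟙 U) a' ∧
      ∀ ⦃s : 𝒮.obj⦄ (ψ : s ⟶ t) (h : objSieve R ht ψ), F.map ψ ≫ a' = F.map (m ψ h) := by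
  have m_congr : ∀ {s : 𝒮.obj} (ψ ψ' : s ⟶ t) (_ : ψ = ψ') (h : objSieve R ht ψ)
      (h' : objSieve R ht ψ'), m ψ h = m ψ' h' := by
    intro s ψ ψ' e h h'
    subst e
    rfl
  choose sV ψV hψV using fun (V : C) (f : V ⟶ U) => exists_lift_over h𝒮 ht f
  have ht₁ : 𝒯.p.obj (F.obj t) = U := (F.w_obj t).trans ht
  have ht₁' : 𝒯.p.obj (F.obj t') = U := (F.w_obj t').trans ht'
  have hs𝒮 : ∀ {V : C} (f : V ⟶ U), 𝒮.p.IsStronglyCartesian f (ψV V f) := fun f =>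
    cart_of_fibGrpd 𝒮.p h𝒮 (hψV _ f)
  have hFl : ∀ {V : C} (f : V ⟶ U), 𝒯.p.IsHomLift f (F.map (ψV V f)) := fun f =>
    map_isHomLift F (hψV _ f)
  have hsF : ∀ {V : C} (f : V ⟶ U), 𝒯.p.IsStronglyCartesian f (F.map (ψV V f)) := fun f =>
    cart_of_fibGrpd 𝒯.p h𝒯 (hFl f)
  have mem : ∀ {V : C} (f : V ⟶ U), R f → objSieve R ht (ψV V f) := fun f hf =>
    objSieve_of_lift R ht hf (hψV _ f)
  have hml : ∀ {V : C} (f : V ⟶ U) (hf : R f), 𝒮.p.IsHomLift f (m (ψV V f) (mem f hf)) :=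
    fun f hf => lift_of_lift_map 𝒮.p (hψV _ f) ht (hm _ _)
  obtain ⟨a', ha', hfac⟩ := glue_hom h𝒯 R hY ht₁ ht₁'
    (fun V f hf s' χ hχ => cartMap 𝒯.p (hsF f) χ hχ ≫ F.map (m (ψV V f) (mem f hf)))
    (fun V f hf s' χ hχ => lift_comp_id_left 𝒯.p (cartMap_lift 𝒯.p (hsF f) χ hχ)
      (map_isHomLift F (hml f hf)))
    (by
      intro V V' f hf f' hf' u hu s₁ s₁' χ hχ χ' hχ' h hh hhχ
      have hl : 𝒮.p.IsHomLift (u ≫ f) (ψV V' f') := hu ▸ hψV V' f'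
      let k : sV V' f' ⟶ sV V f := cartLift 𝒮.p (hs𝒮 f) u (ψV V' f') hl
      have hk : 𝒮.p.IsHomLift u k := cartLift_lift 𝒮.p (hs𝒮 f) u (ψV V' f') hl
      have hkfac : k ≫ ψV V f = ψV V' f' := cartLift_fac 𝒮.p (hs𝒮 f) u (ψV V' f') hl
      have hFkfac : F.map k ≫ F.map (ψV V f) = F.map (ψV V' f') := map_fac F hkfac
      have h1 := cartMap_comp 𝒯.p (hsF f) (hsF f') (map_isHomLift F hk) hFkfac χ hχ χ' hχ'
        h hh hhχ
      have hmem' : objSieve R ht (k ≫ ψV V f) := objSieve_comp R ht (mem f hf) k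
      have h2 : m (ψV V' f') (mem f' hf') = k ≫ m (ψV V f) (mem f hf) :=
        (m_congr _ _ hkfac.symm _ hmem').trans (hcompat _ (mem f hf) k hmem')
      have h3 : F.map (m (ψV V' f') (mem f' hf')) = F.map k ≫ F.map (m (ψV V f) (mem f hf)) :=
        (map_fac F h2.symm).symm
      exact ext_aux _ _ _ _ _ _ h1 h3)
  refine ⟨a', ha', fun s ψ h => ?_⟩
  have hψ : 𝒮.p.IsHomLift (𝒮.p.map ψ ≫ eqToHom ht) ψ := lift_map_comp_eqToHom 𝒮.p ψ ht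
  have hFψ := map_isHomLift F hψ
  have e1 := hfac _ h _ (F.map ψ) hFψ
  let k : s ⟶ sV _ (𝒮.p.map ψ ≫ eqToHom ht) := cartMap 𝒮.p (hs𝒮 _) ψ hψ
  have hk : 𝒮.p.IsHomLift (𝟙 _) k := cartMap_lift 𝒮.p (hs𝒮 _) ψ hψ
  have hkfac : k ≫ ψV _ _ = ψ := cartMap_fac 𝒮.p (hs𝒮 _) ψ hψ
  have hFkfac : F.map k ≫ F.map (ψV _ (𝒮.p.map ψ ≫ eqToHom ht)) = F.map ψ := map_fac F hkfac
  have e2 : cartMap 𝒯.p (hsF _) (F.map ψ) hFψ = F.map k :=
    (cartMap_uniq 𝒯.p (hsF _) (F.map ψ) hFψ (F.map k) (map_isHomLift F hk) hFkfac).symm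
  have hmem' : objSieve R ht (k ≫ ψV _ (𝒮.p.map ψ ≫ eqToHom ht)) :=
    objSieve_comp R ht (mem _ h) k
  have e3 : m ψ h = k ≫ m (ψV _ _) (mem _ h) :=
    (m_congr _ _ hkfac.symm _ hmem').trans (hcompat _ (mem _ h) k hmem')
  rw [e1, e2]
  exact map_fac F e3.symm

theorem full_of_fp (h𝒮 : FibCat.IsFibGrpd 𝒮.p) (h𝒯 : FibCat.IsFibGrpd 𝒯.p)
    (hY : (Stk.resSieve R 𝒯).Full)
    (hfib : ∀ y : FibCat.overCat U ⥤ᵇ 𝒯, FibCat.IsFibGrpd (fpOver F y).p)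
    (hfp : ∀ y : FibCat.overCat U ⥤ᵇ 𝒯, (Stk.resSieve (sieveT R) (fpOver F y)).Full) :
    (Stk.resSieve R 𝒮).Full := by
  refine full_of_glue_hom_obj h𝒮 R (fun t t' ht ht' m hm hcompat => ?_)
  have m_congr : ∀ {s : 𝒮.obj} (ψ ψ' : s ⟶ t) (_ : ψ = ψ') (h : objSieve R ht ψ)
      (h' : objSieve R ht ψ'), m ψ h = m ψ' h' := by
    intro s ψ ψ' e h h'
    subst e
    rfl
  obtain ⟨a', ha', ha'fac⟩ := glue_image F R h𝒮 h𝒯 hY ht ht' m hm hcompat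
  have hfibT : 𝒯.p.IsFibered := isFibered_of_fibGrpd _ h𝒯
  have ht₁' : 𝒯.p.obj (F.obj t') = U := (F.w_obj t').trans ht'
  let y : FibCat.overCat U ⥤ᵇ 𝒯 := yonedaBased (F.obj t') ht₁'
  let T : Over U := ovT U
  let pr : y.obj T ⟶ F.obj t' := yonedaProj (F.obj t') ht₁' T
  have hpr : 𝒯.p.IsHomLift (𝟙 U) pr := (yonedaProj_isStronglyCartesian (F.obj t') ht₁' T).toIsHomLift
  have ipr : IsIso pr := isIso_of_lift_id 𝒯.p h𝒯 hpr
  have ia' : IsIso a' := isIso_of_lift_id 𝒯.p h𝒯 ha'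
  let P₂ : (FibCat.fp y F).obj := ⟨⟨T, t', asIso pr⟩, hpr⟩
  let P₁ : (FibCat.fp y F).obj := ⟨⟨T, t, asIso pr ≪≫ (asIso a').symm⟩,
    lift_id_comp_id 𝒯.p hpr (lift_inv_of_isIso 𝒯.p a' ha')⟩
  have hP₁ : (fpOver F y).p.obj P₁ = T := rfl
  have hP₂ : (fpOver F y).p.obj P₂ = T := rfl
  -- membership of second components
  have mem : ∀ {s' : (FibCat.fp y F).obj} (ψ' : s' ⟶ P₁),
      objSieve (𝒯 := fpOver F y) (sieveT R) hP₁ ψ' → objSieve R ht ψ'.hom.snd := by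
    intro s' ψ' hψ'
    have h1 : 𝒮.p.IsHomLift ((FibCat.fp y F).p.map ψ') ψ'.hom.snd := FibCat.fp_isHomLift_snd y F ψ'
    have h2 : sieveT R (ψ'.hom.fst ≫ 𝟙 T) := hψ'
    rw [Category.comp_id] at h2
    exact objSieve_of_lift R ht ((sieveT_iff R _).mp h2) h1
  have hw : ∀ {s' : (FibCat.fp y F).obj} (ψ' : s' ⟶ P₁)
      (hψ' : objSieve (𝒯 := fpOver F y) (sieveT R) hP₁ ψ'),
      y.map ψ'.hom.fst ≫ P₂.obj.iso.hom = s'.obj.iso.hom ≫ F.map (m ψ'.hom.snd (mem ψ' hψ')) := by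
    intro s' ψ' hψ'
    have h1 : y.map ψ'.hom.fst ≫ pr ≫ inv a' = s'.obj.iso.hom ≫ F.map ψ'.hom.snd := ψ'.hom.w
    exact w_aux _ _ _ _ _ _ h1 (ha'fac ψ'.hom.snd (mem ψ' hψ'))
  obtain ⟨A, hA, hAfac⟩ := glue_hom_obj (𝒯 := fpOver F y) (hfib y) (sieveT R) (hfp y) hP₁ hP₂
    (fun s' ψ' hψ' => fpHomMk y F (z := s') (z' := P₂) ψ'.hom.fst (m ψ'.hom.snd (mem ψ' hψ')) (hw ψ' hψ'))
    (fun s' ψ' hψ' => lift_map_comp_eqToHom (fpOver F y).p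
      (fpHomMk y F (z := s') (z' := P₂) ψ'.hom.fst (m ψ'.hom.snd (mem ψ' hψ')) (hw ψ' hψ')) hP₂)
    (fun s' s'' ψ' hψ' h hψ'' => fp_hom_ext y F rfl (hcompat ψ'.hom.snd (mem ψ' hψ') h.hom.snd
      (mem (h ≫ ψ') hψ'')))
  have hA' : (FibCat.fp y F).p.IsHomLift (𝟙 U) A := lift_comp_functor _ (Over.forget U) hA
  refine ⟨A.hom.snd, fp_snd_isHomLift y F A (𝟙 U), fun s ψ h => ?_⟩
  -- lift `ψ` to the fibre product
  have hψ : 𝒮.p.IsHomLift (𝒮.p.map ψ ≫ eqToHom ht) ψ := lift_map_comp_eqToHom 𝒮.p ψ ht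
  let X : Over U := Over.mk (𝒮.p.map ψ ≫ eqToHom ht)
  have hg : (FibCat.overCat U).p.IsHomLift (𝒮.p.map ψ ≫ eqToHom ht) (ovTo X) :=
    IsHomLift.map (Over.forget U) (ovTo X)
  have hs : 𝒯.p.IsStronglyCartesian (𝒮.p.map ψ ≫ eqToHom ht) (F.map ψ) :=
    cart_of_fibGrpd 𝒯.p h𝒯 (map_isHomLift F hψ)
  obtain ⟨z', μ, hx, hy, hμ1, hμ2⟩ := fp_exists_lift y F P₁ (𝒮.p.map ψ ≫ eqToHom ht) (ovTo X) ψ
    (fun θ' hθ' _ => isIso_of_lift_id 𝒯.p h𝒯 hθ')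
  subst hy
  have hμ2' : μ.hom.snd = ψ := by rw [hμ2]; simp
  have hmem : objSieve (𝒯 := fpOver F y) (sieveT R) hP₁ μ := by
    show sieveT R (μ.hom.fst ≫ 𝟙 T)
    rw [Category.comp_id, hμ1]
    exact (sieveT R).downward_closed ((sieveT_iff R (ovTo X)).mpr h) _
  have e1 := congrArg (fun ν => ν.hom.snd) (hAfac μ hmem)
  have e2 : μ.hom.snd ≫ A.hom.snd = m μ.hom.snd (mem μ hmem) := e1
  rw [← m_congr _ _ hμ2' (mem μ hmem) h, ← e2, hμ2']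

end full

/-- a category fibred in groupoids with a faithful functor to a stack, all of whose 2-fibre
products with slices are stacks over the slices, is a stack -/
theorem isStack_of_faithful_of_fp_over (J : GrothendieckTopology C)
    {𝒮 : BasedCategory.{v₂, u₂} C} {𝒯 : BasedCategory.{v₃, u₃} C}
    (h𝒮 : FibCat.IsFibGrpd 𝒮.p) (h𝒯 : Stk.IsStack J 𝒯) (F : 𝒮 ⥤ᵇ 𝒯) [F.toFunctor.Faithful]
    (h3 : ∀ (U : C) (y : FibCat.overCat U ⥤ᵇ 𝒯), Stk.IsStack (J.over U) (fpOver F y)) :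
    Stk.IsStack J 𝒮 := by
  refine ⟨h𝒮, fun U R hR => ?_⟩
  have hY : (Stk.resSieve R 𝒯).IsEquivalence := h𝒯.2 R hR
  have hfp : ∀ y : FibCat.overCat U ⥤ᵇ 𝒯,
      (Stk.resSieve (sieveT R) (fpOver F y)).IsEquivalence := fun y =>
    (h3 U y).2 (sieveT R) (sieveT_mem R J hR)
  exact
    { faithful := restr_faithful_of_faithful F _ hY.faithful
      full := full_of_fp F R h𝒮 h𝒯.1 hY.full (fun y => (h3 U y).1) (fun y => (hfp y).full)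
      essSurj := essSurj_of_fp F R h𝒮 hY.essSurj (fun y => (hfp y).essSurj) }

end Groth.Agent.H84.StkFaithfulFp
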