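import Groth.Agent.H84.StkConcrete

/-!
# The stack conditions through sieves on objects

For `t` over `U` and a sieve `R` on `U`, `objSieve R ht` is the sieve on `t` of the morphisms whose
image lies in `R`.  The concrete criteria of `StkConcrete` are restated with families indexed by
the arrows of `objSieve R ht`; this removes the auxiliary arrows of the base from the statements.
-/

set_option autoImplicit false
set_option backward.isDefEq.respectTransparency false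
set_option backward.isDefEq.respectTransparency.types false
open CategoryTheory CategoryTheory.Limits
universe v₃ u₃ v₂ u₂ v u

namespace Groth.Agent.H84.StkObjSieve

open Groth.Agent.H32 Groth.Agent.H64 Groth.Agent.H84.StkConcrete Groth.Agent.H84.GerbeGlue

variable {C : Type u} [Category.{v} C]

section lifts

variable {𝒳 : Type u₂} [Category.{v₂} 𝒳] (p : 𝒳 ⥤ C)

theorem lift_comp_eqToHom' {R S S' : C} {a b : 𝒳} {f : R ⟶ S} {φ : a ⟶ b}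
    (h : p.IsHomLift f φ) (e : S = S') : p.IsHomLift (f ≫ eqToHom e) φ :=
  (IsHomLift.lift_comp_eqToHom_iff p f φ e).mpr h

theorem lift_map_comp_eqToHom {a b : 𝒳} (φ : a ⟶ b) {S : C} (hb : p.obj b = S) :
    p.IsHomLift (p.map φ ≫ eqToHom hb) φ :=
  lift_comp_eqToHom' p (lift_map p φ) hb

theorem map_comp_eqToHom_of_lift {R S : C} {f : R ⟶ S} {a b : 𝒳} {φ : a ⟶ b}
    (h : p.IsHomLift f φ) (hb : p.obj b = S) :
    p.map φ ≫ eqToHom hb = eqToHom (lift_domain_eq p h) ≫ f := by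
  have := IsHomLift.fac' p f φ
  rw [this]
  simp

theorem lift_of_eqToHom_comp {R R' S : C} {f : R ⟶ S} {a b : 𝒳} {φ : a ⟶ b} (e : R' = R)
    (h : p.IsHomLift (eqToHom e ≫ f) φ) : p.IsHomLift f φ :=
  (IsHomLift.lift_eqToHom_comp_iff p f φ e).mp h

/-- two morphisms with the same source: if the first lies over `f` and the second over the image
of the first, then the second lies over `f` -/
theorem lift_of_lift_map {R S : C} {f : R ⟶ S} {a b b' : 𝒳} {ψ : a ⟶ b} {χ : a ⟶ b'}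
    (hψ : p.IsHomLift f ψ) (hb : p.obj b = S) (hχ : p.IsHomLift (p.map ψ ≫ eqToHom hb) χ) :
    p.IsHomLift f χ := by
  rw [map_comp_eqToHom_of_lift p hψ hb] at hχ
  exact lift_of_eqToHom_comp p _ hχ

theorem lift_eqToHom_id {a : 𝒳} {V : C} (e : p.obj a = V) : p.IsHomLift (eqToHom e) (𝟙 a) := by
  subst e
  simp only [eqToHom_refl]
  infer_instance

end lifts

variable {𝒯 : BasedCategory.{v₂, u₂} C}

/-- the sieve on an object `t` over `U` of the morphisms whose image lies in `R` -/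
def objSieve {U : C} (R : Sieve U) {t : 𝒯.obj} (ht : 𝒯.p.obj t = U) : Sieve t :=
  (R.pullback (eqToHom ht)).functorPullback 𝒯.p

theorem objSieve_iff {U : C} (R : Sieve U) {t : 𝒯.obj} (ht : 𝒯.p.obj t = U) {s : 𝒯.obj}
    (ψ : s ⟶ t) : objSieve R ht ψ ↔ R (𝒯.p.map ψ ≫ eqToHom ht) := Iff.rfl

theorem objSieve_of_lift {U : C} (R : Sieve U) {t : 𝒯.obj} (ht : 𝒯.p.obj t = U) {V : C}
    {f : V ⟶ U} (hf : R f) {s : 𝒯.obj} {ψ : s ⟶ t} (hψ : 𝒯.p.IsHomLift f ψ) :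
    objSieve R ht ψ := by
  show R (𝒯.p.map ψ ≫ eqToHom ht)
  rw [map_comp_eqToHom_of_lift 𝒯.p hψ ht]
  exact R.downward_closed hf _

theorem objSieve_comp {U : C} (R : Sieve U) {t : 𝒯.obj} (ht : 𝒯.p.obj t = U) {s s' : 𝒯.obj}
    {ψ : s ⟶ t} (hψ : objSieve R ht ψ) (h : s' ⟶ s) : objSieve R ht (h ≫ ψ) :=
  (objSieve R ht).downward_closed hψ h

section glue

variable (h𝒯 : FibCat.IsFibGrpd 𝒯.p) {U : C} (R : Sieve U)
include h𝒯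

theorem hom_ext_obj (hR : (Stk.resSieve R 𝒯).Faithful) {t t' : 𝒯.obj} (ht : 𝒯.p.obj t = U)
    (ht' : 𝒯.p.obj t' = U) (a b : t ⟶ t') (ha : 𝒯.p.IsHomLift (𝟙 U) a)
    (hb : 𝒯.p.IsHomLift (𝟙 U) b)
    (hloc : ∀ ⦃s : 𝒯.obj⦄ (ψ : s ⟶ t), objSieve R ht ψ → ψ ≫ a = ψ ≫ b) : a = b :=
  hom_ext_of_restr_faithful h𝒯 R hR ht ht' a b ha hb
    (fun _ _ hf _ ψ hψ => hloc ψ (objSieve_of_lift R ht hf hψ))

theorem glue_hom_obj (hR : (Stk.resSieve R 𝒯).Full) {t t' : 𝒯.obj} (ht : 𝒯.p.obj t = U)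
    (ht' : 𝒯.p.obj t' = U)
    (m : ∀ ⦃s : 𝒯.obj⦄ (ψ : s ⟶ t), objSieve R ht ψ → (s ⟶ t'))
    (hm : ∀ ⦃s : 𝒯.obj⦄ (ψ : s ⟶ t) (h : objSieve R ht ψ),
      𝒯.p.IsHomLift (𝒯.p.map ψ ≫ eqToHom ht) (m ψ h))
    (hcompat : ∀ ⦃s s' : 𝒯.obj⦄ (ψ : s ⟶ t) (hψ : objSieve R ht ψ) (h : s' ⟶ s)
      (hψ' : objSieve R ht (h ≫ ψ)), m (h ≫ ψ) hψ' = h ≫ m ψ hψ) :
    ∃ a : t ⟶ t', 𝒯.p.IsHomLift (𝟙 U) a ∧
      ∀ ⦃s : 𝒯.obj⦄ (ψ : s ⟶ t) (h : objSieve R ht ψ), ψ ≫ a = m ψ h := by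
  obtain ⟨a, ha, hfac⟩ := glue_hom h𝒯 R hR ht ht'
    (fun V f hf s ψ hψ => m ψ (objSieve_of_lift R ht hf hψ))
    (fun V f hf s ψ hψ => lift_of_lift_map 𝒯.p hψ ht (hm ψ _))
    (by
      intro V V' f hf f' hf' u hu s s' ψ hψ ψ' hψ' h hh hhψ
      subst hhψ
      exact hcompat ψ _ h _)
  exact ⟨a, ha, fun s ψ h => hfac (𝒯.p.map ψ ≫ eqToHom ht) h s ψ (lift_map_comp_eqToHom 𝒯.p ψ ht)⟩

theorem faithful_of_hom_ext_obj
    (H : ∀ (t t' : 𝒯.obj) (ht : 𝒯.p.obj t = U) (_ : 𝒯.p.obj t' = U) (a b : t ⟶ t'),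
      𝒯.p.IsHomLift (𝟙 U) a → 𝒯.p.IsHomLift (𝟙 U) b →
      (∀ ⦃s : 𝒯.obj⦄ (ψ : s ⟶ t), objSieve R ht ψ → ψ ≫ a = ψ ≫ b) → a = b) :
    (Stk.resSieve R 𝒯).Faithful :=
  faithful_of_hom_ext h𝒯 R (fun t t' ht ht' a b ha hb hloc =>
    H t t' ht ht' a b ha hb (fun s ψ hψ => hloc _ hψ s ψ (lift_map_comp_eqToHom 𝒯.p ψ ht)))

theorem full_of_glue_hom_obj
    (H : ∀ (t t' : 𝒯.obj) (ht : 𝒯.p.obj t = U) (_ : 𝒯.p.obj t' = U)
      (m : ∀ ⦃s : 𝒯.obj⦄ (ψ : s ⟶ t), objSieve R ht ψ → (s ⟶ t'))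
      (_ : ∀ ⦃s : 𝒯.obj⦄ (ψ : s ⟶ t) (h : objSieve R ht ψ),
        𝒯.p.IsHomLift (𝒯.p.map ψ ≫ eqToHom ht) (m ψ h))
      (_ : ∀ ⦃s s' : 𝒯.obj⦄ (ψ : s ⟶ t) (hψ : objSieve R ht ψ) (h : s' ⟶ s)
        (hψ' : objSieve R ht (h ≫ ψ)), m (h ≫ ψ) hψ' = h ≫ m ψ hψ),
      ∃ a : t ⟶ t', 𝒯.p.IsHomLift (𝟙 U) a ∧
        ∀ ⦃s : 𝒯.obj⦄ (ψ : s ⟶ t) (h : objSieve R ht ψ), ψ ≫ a = m ψ h) :
    (Stk.resSieve R 𝒯).Full := by
  refine full_of_glue_hom h𝒯 R (fun t t' ht ht' m₀ hm₀ hcompat₀ => ?_)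
  obtain ⟨a, ha, hfac⟩ := H t t' ht ht'
    (fun s ψ h => m₀ (𝒯.p.map ψ ≫ eqToHom ht) h s ψ (lift_map_comp_eqToHom 𝒯.p ψ ht))
    (fun s ψ h => hm₀ _ h s ψ _)
    (fun s s' ψ hψ h hψ' => hcompat₀ _ hψ _ hψ' (𝒯.p.map h) (by simp) s s' ψ _ (h ≫ ψ) _ h
      (lift_map 𝒯.p h) rfl)
  refine ⟨a, ha, fun V f hf s ψ hψ => ?_⟩
  have e : 𝒯.p.obj s = V := lift_domain_eq 𝒯.p hψ
  have h1 := hcompat₀ f hf (𝒯.p.map ψ ≫ eqToHom ht) (objSieve_of_lift R ht hf hψ) (eqToHom e)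
    (map_comp_eqToHom_of_lift 𝒯.p hψ ht).symm s s ψ hψ ψ (lift_map_comp_eqToHom 𝒯.p ψ ht) (𝟙 s)
    (lift_eqToHom_id 𝒯.p e) (Category.id_comp _)
  rw [Category.id_comp] at h1
  exact (hfac ψ (objSieve_of_lift R ht hf hψ)).trans h1

end glue

end Groth.Agent.H84.StkObjSieve
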