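import Groth.Agent.H84.StkObjSieve
import Groth.Agent.H84.StkRefine
import Groth.Agent.H64.RestrTop

/-!
# A stack fibred in groupoids over a stack is a stack over it

`F : 𝒳 ⥤ᵇ 𝒴` a functor over `C` between stacks in groupoids for `J` whose underlying functor is
fibred in groupoids.  Then `𝒳`, as a category over `𝒴` through `F`, is a stack in groupoids for the
topology on `𝒴` inherited from `J`.
-/

set_option autoImplicit false
set_option backward.isDefEq.respectTransparency false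
set_option backward.isDefEq.respectTransparency.types false
open CategoryTheory CategoryTheory.Limits
universe v₃ u₃ v₂ u₂ v u

namespace Groth.Agent.H84.StkOverStk

open Groth.Agent.H32 Groth.Agent.H64 Groth.Agent.H84.StkConcrete Groth.Agent.H84.GerbeGlue
  Groth.Agent.H84.StkObjSieve Groth.Agent.H84.StkRefine

variable {C : Type u} [Category.{v} C] {𝒳 : BasedCategory.{v₂, u₂} C}
  {𝒴 : BasedCategory.{v₃, u₃} C} (F : 𝒳 ⥤ᵇ 𝒴)

/-- `𝒳` as a category over `𝒴` through `F` -/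
abbrev Z : BasedCategory.{v₂, u₂} 𝒴.obj := BasedCategory.ofFunctor F.toFunctor

/-- transitivity of lifts along `𝒳 ⟶ 𝒴 ⟶ C` -/
theorem lift_trans {V U : C} {f : V ⟶ U} {y' y : 𝒴.obj} {g : y' ⟶ y} {s t : 𝒳.obj} {φ : s ⟶ t}
    (h1 : 𝒴.p.IsHomLift f g) (h2 : F.toFunctor.IsHomLift g φ) : 𝒳.p.IsHomLift f φ := by
  cases h2
  exact (BasedFunctor.isHomLift_iff F f φ).mp h1

/-- the image of a morphism with its target transported lies over the image in `C` -/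
theorem lift_map_eqToHom {s t : 𝒳.obj} (ψ : s ⟶ t) {y : 𝒴.obj} (ht : F.obj t = y)
    (ht₁ : 𝒳.p.obj t = 𝒴.p.obj y) :
    𝒴.p.IsHomLift (𝒳.p.map ψ ≫ eqToHom ht₁) (F.map ψ ≫ eqToHom ht) := by
  have h0 : 𝒴.p.IsHomLift (𝒳.p.map ψ) (F.map ψ) :=
    (BasedFunctor.isHomLift_iff F _ ψ).mpr (lift_map 𝒳.p ψ)
  have h1 : 𝒴.p.IsHomLift (𝒳.p.map ψ) (F.map ψ ≫ eqToHom ht) :=
    (IsHomLift.eqToHom_comp_lift_iff 𝒴.p _ (F.map ψ) ht).mpr h0
  exact lift_comp_eqToHom' 𝒴.p h1 ht₁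

section sieves

variable (h𝒴 : FibCat.IsFibGrpd 𝒴.p) {y : 𝒴.obj} (R : Sieve y)

include h𝒴 in
/-- a morphism into `y` lying over an arrow of the image sieve belongs to the sieve -/
theorem mem_of_lift_mem {y' : 𝒴.obj} (h : y' ⟶ y) {V : C} (f : V ⟶ 𝒴.p.obj y)
    (hf : (R.functorPushforward 𝒴.p) f) (hh : 𝒴.p.IsHomLift f h) : R h := by
  obtain ⟨Z', g, k, hg, e⟩ := hf
  have hsg : 𝒴.p.IsStronglyCartesian (𝒴.p.map g) g := h𝒴.isStronglyCartesian g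
  obtain ⟨χ, -, hχ⟩ := cart_lift 𝒴.p hsg k f e h hh
  rw [← hχ]
  exact R.downward_closed hg χ

include h𝒴 in
theorem objSieve_Z_of {t : 𝒳.obj} (ht : F.obj t = y) (ht₁ : 𝒳.p.obj t = 𝒴.p.obj y) {s : 𝒳.obj}
    (ψ : s ⟶ t) (h : objSieve (𝒯 := 𝒳) (R.functorPushforward 𝒴.p) ht₁ ψ) :
    objSieve (𝒯 := Z F) R ht ψ :=
  mem_of_lift_mem h𝒴 R _ _ h (lift_map_eqToHom F ψ ht ht₁)

theorem objSieve_of_Z {t : 𝒳.obj} (ht : F.obj t = y) (ht₁ : 𝒳.p.obj t = 𝒴.p.obj y) {s : 𝒳.obj}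
    (ψ : s ⟶ t) (h : objSieve (𝒯 := Z F) R ht ψ) :
    objSieve (𝒯 := 𝒳) (R.functorPushforward 𝒴.p) ht₁ ψ := by
  have hl := lift_map_eqToHom F ψ ht ht₁
  have hd : 𝒴.p.obj (F.obj s) = 𝒳.p.obj s := F.w_obj s
  refine ⟨F.obj s, F.map ψ ≫ eqToHom ht, eqToHom hd.symm, h, ?_⟩
  have := IsHomLift.fac 𝒴.p (𝒳.p.map ψ ≫ eqToHom ht₁) (F.map ψ ≫ eqToHom ht)
  rw [this]
  simp

end sieves

section liftFunctor

variable (h𝒴 : FibCat.IsFibGrpd 𝒴.p) {y : 𝒴.obj} (R : Sieve y)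
  (yl : ∀ ⦃V : C⦄ (f : V ⟶ 𝒴.p.obj y), (R.functorPushforward 𝒴.p) f → 𝒴.obj)
  (gl : ∀ ⦃V : C⦄ (f : V ⟶ 𝒴.p.obj y) (hf : (R.functorPushforward 𝒴.p) f), yl f hf ⟶ y)
  (hgl : ∀ ⦃V : C⦄ (f : V ⟶ 𝒴.p.obj y) (hf : (R.functorPushforward 𝒴.p) f),
    𝒴.p.IsHomLift f (gl f hf))

include h𝒴 hgl

/-- the object of the sieve `R` chosen over an arrow of the image sieve -/
def liftObj (r : (Stk.sieveCat (R.functorPushforward 𝒴.p)).obj) : (Stk.sieveCat R).obj :=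
  mkObj R (gl r.obj.hom r.property)
    (mem_of_lift_mem h𝒴 R _ r.obj.hom r.property (hgl r.obj.hom r.property))

theorem liftObj_cart (r : (Stk.sieveCat (R.functorPushforward 𝒴.p)).obj) :
    𝒴.p.IsStronglyCartesian r.obj.hom (gl r.obj.hom r.property) :=
  cart_of_fibGrpd 𝒴.p h𝒴 (hgl r.obj.hom r.property)

omit h𝒴 in
theorem liftHom_aux {r₁ r₂ : (Stk.sieveCat (R.functorPushforward 𝒴.p)).obj} (k : r₁ ⟶ r₂) :
    𝒴.p.IsHomLift (k.hom.left ≫ r₂.obj.hom) (gl r₁.obj.hom r₁.property) := by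
  rw [Over.w k.hom]
  exact hgl r₁.obj.hom r₁.property

/-- the morphism of the sieve `R` chosen over a morphism of the image sieve -/
noncomputable def liftHom {r₁ r₂ : (Stk.sieveCat (R.functorPushforward 𝒴.p)).obj} (k : r₁ ⟶ r₂) :
    liftObj h𝒴 R yl gl hgl r₁ ⟶ liftObj h𝒴 R yl gl hgl r₂ :=
  mkHom R (cartLift 𝒴.p (liftObj_cart h𝒴 R yl gl hgl r₂) k.hom.left (gl r₁.obj.hom r₁.property)
      (liftHom_aux R yl gl hgl k))
    (cartLift_fac 𝒴.p (liftObj_cart h𝒴 R yl gl hgl r₂) k.hom.left _ (liftHom_aux R yl gl hgl k))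

theorem liftHom_lift {r₁ r₂ : (Stk.sieveCat (R.functorPushforward 𝒴.p)).obj} (k : r₁ ⟶ r₂) :
    𝒴.p.IsHomLift k.hom.left (liftHom h𝒴 R yl gl hgl k).hom.left :=
  cartLift_lift 𝒴.p (liftObj_cart h𝒴 R yl gl hgl r₂) k.hom.left _ (liftHom_aux R yl gl hgl k)

theorem liftHom_fac {r₁ r₂ : (Stk.sieveCat (R.functorPushforward 𝒴.p)).obj} (k : r₁ ⟶ r₂) :
    (liftHom h𝒴 R yl gl hgl k).hom.left ≫ gl r₂.obj.hom r₂.property =
      gl r₁.obj.hom r₁.property :=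
  cartLift_fac 𝒴.p (liftObj_cart h𝒴 R yl gl hgl r₂) k.hom.left _ (liftHom_aux R yl gl hgl k)

/-- uniqueness of the chosen morphisms -/
theorem liftHom_uniq {r₁ r₂ : (Stk.sieveCat (R.functorPushforward 𝒴.p)).obj} (k : r₁ ⟶ r₂)
    (n : liftObj h𝒴 R yl gl hgl r₁ ⟶ liftObj h𝒴 R yl gl hgl r₂)
    (hn : 𝒴.p.IsHomLift k.hom.left n.hom.left) : n = liftHom h𝒴 R yl gl hgl k := by
  apply mkHom_ext
  apply cart_ext 𝒴.p (liftObj_cart h𝒴 R yl gl hgl r₂) k.hom.left hn (liftHom_lift h𝒴 R yl gl hgl k)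
  rw [liftHom_fac]
  exact Over.w n.hom

/-- the functor from the image sieve to the sieve given by a choice of lifts -/
noncomputable def liftFunctor :
    (Stk.sieveCat (R.functorPushforward 𝒴.p)).obj ⥤ (Stk.sieveCat R).obj where
  obj := liftObj h𝒴 R yl gl hgl
  map k := liftHom h𝒴 R yl gl hgl k
  map_id r := by
    symm
    apply liftHom_uniq
    have h1 : 𝒴.p.obj (yl r.obj.hom r.property) = r.obj.left :=
      lift_domain_eq 𝒴.p (hgl r.obj.hom r.property)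
    exact lift_id_of_obj 𝒴.p h1
  map_comp {r₁ r₂ r₃} k k' := by
    symm
    apply liftHom_uniq
    exact lift_comp 𝒴.p (liftHom_lift h𝒴 R yl gl hgl k) (liftHom_lift h𝒴 R yl gl hgl k')

end liftFunctor

section main

variable (h𝒳 : FibCat.IsFibGrpd 𝒳.p) (h𝒴 : FibCat.IsFibGrpd 𝒴.p)
  (hF : FibCat.IsFibGrpd F.toFunctor) {y : 𝒴.obj} (R : Sieve y)

include h𝒳 h𝒴 hF

theorem faithful_over (hX : (Stk.resSieve (R.functorPushforward 𝒴.p) 𝒳).Faithful) :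
    (Stk.resSieve R (Z F)).Faithful := by
  refine faithful_of_hom_ext_obj (𝒯 := Z F) hF R (fun t t' ht ht' a b ha hb hloc => ?_)
  have ht₀ : F.obj t = y := ht
  have ht₀' : F.obj t' = y := ht'
  have ht₁ : 𝒳.p.obj t = 𝒴.p.obj y := by rw [← ht₀]; exact (F.w_obj t).symm
  have ht₁' : 𝒳.p.obj t' = 𝒴.p.obj y := by rw [← ht₀']; exact (F.w_obj t').symm
  have hid : 𝒴.p.IsHomLift (𝟙 (𝒴.p.obj y)) (𝟙 y) := inferInstance
  apply hom_ext_obj h𝒳 (R.functorPushforward 𝒴.p) hX ht₁ ht₁' a b (lift_trans F hid ha)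
    (lift_trans F hid hb)
  intro s ψ hψ
  exact hloc ψ (objSieve_Z_of F h𝒴 R ht₀ ht₁ ψ hψ)

theorem full_over (hX : (Stk.resSieve (R.functorPushforward 𝒴.p) 𝒳).Full)
    (hY : (Stk.resSieve (R.functorPushforward 𝒴.p) 𝒴).Faithful) :
    (Stk.resSieve R (Z F)).Full := by
  refine full_of_glue_hom_obj (𝒯 := Z F) hF R (fun t t' ht ht' m hm hcompat => ?_)
  have ht₀ : F.obj t = y := ht
  have ht₀' : F.obj t' = y := ht'
  have ht₁ : 𝒳.p.obj t = 𝒴.p.obj y := by rw [← ht₀]; exact (F.w_obj t).symm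
  have ht₁' : 𝒳.p.obj t' = 𝒴.p.obj y := by rw [← ht₀']; exact (F.w_obj t').symm
  have hm₀ : ∀ ⦃s : 𝒳.obj⦄ (ψ : s ⟶ t) (h : objSieve (𝒯 := Z F) R ht ψ),
      F.toFunctor.IsHomLift (F.map ψ ≫ eqToHom ht₀) (m ψ h) := hm
  obtain ⟨a, ha, hfac⟩ := glue_hom_obj h𝒳 (R.functorPushforward 𝒴.p) hX ht₁ ht₁'
    (fun s ψ h' => m ψ (objSieve_Z_of F h𝒴 R ht₀ ht₁ ψ h'))
    (fun s ψ h' => lift_trans F (lift_map_eqToHom F ψ ht₀ ht₁) (hm₀ ψ _))
    (fun s s' ψ hψ h hψ' => hcompat ψ _ h _)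
  refine ⟨a, ?_, fun s ψ h => hfac ψ (objSieve_of_Z F R ht₀ ht₁ ψ h)⟩
  -- `a` lies over the identity of `y`
  have hFt : 𝒴.p.obj (F.obj t) = 𝒴.p.obj y := congrArg 𝒴.p.obj ht₀
  have key : F.map a ≫ eqToHom ht₀' = eqToHom ht₀ := by
    have hFa : 𝒴.p.IsHomLift (𝟙 (𝒴.p.obj y)) (F.map a) :=
      (BasedFunctor.isHomLift_iff F _ a).mpr ha
    have h1 : 𝒴.p.IsHomLift (𝟙 (𝒴.p.obj y)) (F.map a ≫ eqToHom ht₀') :=
      (IsHomLift.eqToHom_comp_lift_iff 𝒴.p _ (F.map a) ht₀').mpr hFa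
    have h2 : 𝒴.p.IsHomLift (𝟙 (𝒴.p.obj y)) (eqToHom ht₀) := lift_eqToHom 𝒴.p ht₀ hFt
    apply hom_ext_obj h𝒴 (R.functorPushforward 𝒴.p) hY hFt rfl _ _ h1 h2
    intro s' ψ' hψ'
    obtain ⟨s, ψ, hψ⟩ := hF.exists_lift (x := t) ψ'
    have hψ₁ : 𝒴.p.IsHomLift (𝒴.p.map ψ' ≫ eqToHom hFt) ψ' := lift_map_comp_eqToHom 𝒴.p ψ' hFt
    have hψ₂ : 𝒳.p.IsHomLift (𝒴.p.map ψ' ≫ eqToHom hFt) ψ := lift_trans F hψ₁ hψ
    have hs : objSieve (𝒯 := 𝒳) (R.functorPushforward 𝒴.p) ht₁ ψ :=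
      objSieve_of_lift (𝒯 := 𝒳) (R.functorPushforward 𝒴.p) ht₁ hψ' hψ₂
    have h3 := hfac ψ hs
    have h4 := map_comp_eqToHom_of_lift F.toFunctor (hm₀ ψ (objSieve_Z_of F h𝒴 R ht₀ ht₁ ψ hs)) ht₀'
    have h5 : F.map ψ ≫ F.map a ≫ eqToHom ht₀' = F.map ψ ≫ eqToHom ht₀ := by
      rw [← Category.assoc, ← F.map_comp, h3]
      refine h4.trans ?_
      simp
    have e := IsHomLift.fac F.toFunctor ψ' ψ
    rw [e]
    simp only [Category.assoc, eqToHom_refl, Category.id_comp]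
    exact congrArg (eqToHom _ ≫ ·) h5
  exact IsHomLift.of_fac' F.toFunctor (𝟙 y) a ht₀ ht₀' (by
    rw [Category.id_comp, ← key]
    simp)

omit h𝒳 in
theorem essSurj_over (hX : (Stk.resSieve (R.functorPushforward 𝒴.p) 𝒳).EssSurj)
    (hY : (Stk.resSieve (R.functorPushforward 𝒴.p) 𝒴).Full) :
    (Stk.resSieve R (Z F)).EssSurj := by
  refine essSurj_of_glue_obj (𝒯 := Z F) hF R (fun D => ?_)
  -- choose lifts of the arrows of the image sieve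
  have hl : ∀ ⦃V : C⦄ (f : V ⟶ 𝒴.p.obj y), (R.functorPushforward 𝒴.p) f →
      ∃ (y' : 𝒴.obj) (g : y' ⟶ y), 𝒴.p.IsHomLift f g := fun V f _ => h𝒴.exists_lift f
  choose yl gl hgl using hl
  let E := liftFunctor h𝒴 R yl gl hgl
  have hD : ∀ {r₁ r₂ : (Stk.sieveCat R).obj} (n : r₁ ⟶ r₂),
      F.toFunctor.IsHomLift n.hom.left (D.map n) := fun n =>
    sieve_map_isHomLift (𝒯 := Z F) R D n
  have hw : ∀ r : (Stk.sieveCat R).obj, F.obj (D.obj r) = r.obj.left := fun r => D.w_obj r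
  -- the descent datum for `𝒳` over `C`
  let D' : Stk.sieveCat (R.functorPushforward 𝒴.p) ⥤ᵇ 𝒳 :=
    mkBasedFunctor (E ⋙ D.toFunctor)
      (fun {a b} k => lift_trans F (liftHom_lift h𝒴 R yl gl hgl k) (hD (E.map k)))
  obtain ⟨t', ht', π', hπ', hπ'nat⟩ :=
    glue_obj_of_essSurj (𝒯 := 𝒳) (R.functorPushforward 𝒴.p) hX D'
  -- cone over the sieve `R` itself
  let P : (Stk.sieveCat R).obj → (Stk.sieveCat (R.functorPushforward 𝒴.p)).obj := fun r =>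
    mkObj (R.functorPushforward 𝒴.p) (𝒴.p.map r.obj.hom)
      (Sieve.image_mem_functorPushforward 𝒴.p R r.property)
  have hPcart : ∀ r : (Stk.sieveCat R).obj, 𝒴.p.IsStronglyCartesian (𝒴.p.map r.obj.hom)
      (gl (𝒴.p.map r.obj.hom) (P r).property) := fun r => liftObj_cart h𝒴 R yl gl hgl (P r)
  let ι : ∀ r : (Stk.sieveCat R).obj, r ⟶ E.obj (P r) := fun r =>
    mkHom R (cartMap 𝒴.p (hPcart r) r.obj.hom (lift_map 𝒴.p r.obj.hom))
      (cartMap_fac 𝒴.p (hPcart r) r.obj.hom (lift_map 𝒴.p r.obj.hom))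
  have hιl : ∀ r : (Stk.sieveCat R).obj, 𝒴.p.IsHomLift (𝟙 (𝒴.p.obj r.obj.left)) (ι r).hom.left :=
    fun r => cartMap_lift 𝒴.p (hPcart r) r.obj.hom (lift_map 𝒴.p r.obj.hom)
  let π : ∀ r : (Stk.sieveCat R).obj, D.obj r ⟶ t' := fun r => D.map (ι r) ≫ π' (P r)
  have hπ : ∀ r : (Stk.sieveCat R).obj, 𝒳.p.IsHomLift (𝒴.p.map r.obj.hom) (π r) := fun r =>
    lift_comp_id_left 𝒳.p (lift_trans F (hιl r) (hD (ι r))) (hπ' (P r))
  have hπnat : ∀ {r₁ r₂ : (Stk.sieveCat R).obj} (n : r₁ ⟶ r₂), D.map n ≫ π r₂ = π r₁ := by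
    intro r₁ r₂ n
    let Pn : P r₁ ⟶ P r₂ := mkHom (R.functorPushforward 𝒴.p) (𝒴.p.map n.hom.left) (by
      show 𝒴.p.map n.hom.left ≫ 𝒴.p.map r₂.obj.hom = 𝒴.p.map r₁.obj.hom
      rw [← 𝒴.p.map_comp, Over.w n.hom])
    have hsq : n ≫ ι r₂ = ι r₁ ≫ E.map Pn := by
      apply mkHom_ext
      have h1 : 𝒴.p.IsHomLift (𝒴.p.map n.hom.left) (n ≫ ι r₂).hom.left :=
        lift_comp_id_right 𝒴.p (lift_map 𝒴.p n.hom.left) (hιl r₂)
      have h2 : 𝒴.p.IsHomLift (𝒴.p.map n.hom.left) (ι r₁ ≫ E.map Pn).hom.left :=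
        lift_comp_id_left 𝒴.p (hιl r₁) (liftHom_lift h𝒴 R yl gl hgl Pn)
      apply cart_ext 𝒴.p (hPcart r₂) (𝒴.p.map n.hom.left) h1 h2
      exact (Over.w (n ≫ ι r₂).hom).trans (Over.w (ι r₁ ≫ E.map Pn).hom).symm
    have h3 : D'.map Pn ≫ π' (P r₂) = π' (P r₁) := hπ'nat Pn
    show D.map n ≫ D.map (ι r₂) ≫ π' (P r₂) = D.map (ι r₁) ≫ π' (P r₁)
    rw [← h3, ← Category.assoc, ← D.map_comp, hsq, D.map_comp, Category.assoc]
    rfl
  -- the comparison morphism `y ⟶ F t'`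
  have hFt' : 𝒴.p.obj (F.obj t') = 𝒴.p.obj y := (F.w_obj t').trans ht'
  have hRmem : ∀ ⦃s' : 𝒴.obj⦄ (ψ' : s' ⟶ y),
      objSieve (𝒯 := 𝒴) (R.functorPushforward 𝒴.p) rfl ψ' → R ψ' := fun s' ψ' h =>
    mem_of_lift_mem h𝒴 R ψ' _ h (lift_map_comp_eqToHom 𝒴.p ψ' rfl)
  let rr : ∀ ⦃s' : 𝒴.obj⦄ (ψ' : s' ⟶ y),
      objSieve (𝒯 := 𝒴) (R.functorPushforward 𝒴.p) rfl ψ' → (Stk.sieveCat R).obj :=
    fun s' ψ' h => mkObj R ψ' (hRmem ψ' h)
  have hFπ : ∀ r : (Stk.sieveCat R).obj, 𝒴.p.IsHomLift (𝒴.p.map r.obj.hom) (F.map (π r)) :=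
    fun r => (BasedFunctor.isHomLift_iff F _ (π r)).mpr (hπ r)
  obtain ⟨b, hb, hbfac⟩ := glue_hom_obj h𝒴 (R.functorPushforward 𝒴.p) hY
    (rfl : 𝒴.p.obj y = 𝒴.p.obj y) hFt'
    (fun s' ψ' h => eqToHom (hw (rr ψ' h)).symm ≫ F.map (π (rr ψ' h)))
    (fun s' ψ' h => by
      have h1 : 𝒴.p.IsHomLift (𝒴.p.map ψ') (eqToHom (hw (rr ψ' h)).symm ≫ F.map (π (rr ψ' h))) :=
        (IsHomLift.comp_eqToHom_lift_iff 𝒴.p _ (F.map (π (rr ψ' h))) _).mpr (hFπ (rr ψ' h))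
      exact lift_comp_eqToHom' 𝒴.p h1 rfl)
    (fun s' s'' ψ' hψ' h hψ'' => by
      let n : rr (h ≫ ψ') hψ'' ⟶ rr ψ' hψ' := mkHom R h rfl
      have h1 : D.map n ≫ π (rr ψ' hψ') = π (rr (h ≫ ψ') hψ'') := hπnat n
      have hDn : F.toFunctor.IsHomLift n.hom.left (D.map n) := hD n
      have h2 := IsHomLift.fac' F.toFunctor n.hom.left (D.map n)
      show eqToHom (hw (rr (h ≫ ψ') hψ'')).symm ≫ F.map (π (rr (h ≫ ψ') hψ'')) =
        h ≫ eqToHom (hw (rr ψ' hψ')).symm ≫ F.map (π (rr ψ' hψ'))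
      rw [← h1, F.map_comp]
      have h2' : F.map (D.map n) = eqToHom (hw (rr (h ≫ ψ') hψ'')) ≫ h ≫
          eqToHom (hw (rr ψ' hψ')).symm := h2
      rw [h2']
      simp)
  -- transport along the lift of `b`
  have hbiso : IsIso b := isIso_of_lift_id 𝒴.p h𝒴 hb
  obtain ⟨t, β, hβ⟩ := hF.exists_lift (x := t') b
  have ht : F.obj t = y := lift_domain_eq F.toFunctor hβ
  have hβiso : IsIso β := isIso_of_lift_iso F.toFunctor hF hβ
  have hβinv : F.toFunctor.IsHomLift (inv b) (inv β) := IsHomLift.inv F.toFunctor b β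
  refine ⟨t, ht, fun r => π r ≫ inv β, ?_, ?_⟩
  · intro r
    have hmem : objSieve (𝒯 := 𝒴) (R.functorPushforward 𝒴.p) rfl r.obj.hom := by
      show (R.functorPushforward 𝒴.p) (𝒴.p.map r.obj.hom ≫ eqToHom rfl)
      rw [eqToHom_refl, Category.comp_id]
      exact Sieve.image_mem_functorPushforward 𝒴.p R r.property
    have hr : rr r.obj.hom hmem = r := rfl
    have h2 : r.obj.hom ≫ b = eqToHom (hw r).symm ≫ F.map (π r) := hbfac r.obj.hom hmem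
    have h1 : F.toFunctor.IsHomLift (r.obj.hom ≫ b) (π r) := by
      apply IsHomLift.of_fac' F.toFunctor _ _ (hw r) rfl
      rw [h2]
      simp
    have h3 : F.toFunctor.IsHomLift ((r.obj.hom ≫ b) ≫ inv b) (π r ≫ inv β) :=
      lift_comp F.toFunctor h1 hβinv
    have h4 : (r.obj.hom ≫ b) ≫ inv b = r.obj.hom := by simp
    exact h4 ▸ h3
  · intro r₁ r₂ n
    show D.map n ≫ π r₂ ≫ inv β = π r₁ ≫ inv β
    rw [← Category.assoc, hπnat]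

end main

/-- A stack in groupoids `𝒳` fibred in groupoids over a stack in groupoids `𝒴` through a functor
over `C` is a stack in groupoids over `𝒴` for the inherited topology. -/
theorem isStack_over (J : GrothendieckTopology C) (h𝒳 : Stk.IsStack J 𝒳) (h𝒴 : Stk.IsStack J 𝒴)
    (hF : FibCat.IsFibGrpd F.toFunctor) :
    Stk.IsStack (𝒴.p.restrictedTopology J) (BasedCategory.ofFunctor F.toFunctor) := by
  refine ⟨hF, fun y R hR => ?_⟩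
  have hR' : R.functorPushforward 𝒴.p ∈ J (𝒴.p.obj y) :=
    functorPushforward_mem_of_mem_restrictedTopology 𝒴.p h𝒴.1 J hR
  have hX := h𝒳.2 _ hR'
  have hY := h𝒴.2 _ hR'
  exact
    { faithful := faithful_over F h𝒳.1 h𝒴.1 hF R hX.faithful
      full := full_over F h𝒳.1 h𝒴.1 hF R hX.full hY.faithful
      essSurj := essSurj_over F h𝒴.1 hF R hX.essSurj hY.full }

end Groth.Agent.H84.StkOverStk
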