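import Groth.Agent.H84.StkFaithfulFp
import Groth.Agent.H64.Stk.LocEss
import Groth.Agent.H64.Stk.EquivOver
import Mathlib.CategoryTheory.Limits.Shapes.Pullback.Categorical.Basic

/-!
# The strict pullback of a category fibred in groupoids along a functor

For `u : C ⥤ D` and `𝒮` over `D`, the category `SP u 𝒮` over `C` has objects the pairs `(c, s)` with
`s` lying over `u c` and morphisms the pairs `(f, φ)` with `φ` lying over `u f`.  For `𝒮` fibred in
groupoids it is fibred in groupoids over `C` and equivalent over `C` to Mathlib's categorical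
pullback `C ×_D 𝒮` with its first projection.
-/

set_option autoImplicit false
set_option backward.isDefEq.respectTransparency false
set_option backward.isDefEq.respectTransparency.types false
open CategoryTheory CategoryTheory.Limits
universe v₃ u₃ v₂ u₂ v u

namespace Groth.Agent.H84.StrictPull

open Groth.Agent.H32 Groth.Agent.H64 Groth.Agent.H84.StkConcrete Groth.Agent.H84.StkObjSieve
  Groth.Agent.H84.StkFaithfulFp

variable {C : Type u} [Category.{v} C] {D : Type u₂} [Category.{v₂} D] (u : C ⥤ D)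
  (𝒮 : BasedCategory.{v₃, u₃} D)

/-- objects of the strict pullback -/
structure SObj where
  /-- the object of `C` -/
  base : C
  /-- the object of `𝒮` -/
  obj : 𝒮.obj
  h : 𝒮.p.obj obj = u.obj base

variable {u 𝒮}

/-- morphisms of the strict pullback -/
@[ext]
structure SHom (a b : SObj u 𝒮) where
  /-- the morphism of `C` -/
  base : a.base ⟶ b.base
  /-- the morphism of `𝒮` -/
  hom : a.obj ⟶ b.obj
  lift : 𝒮.p.IsHomLift (u.map base) hom

instance : Category (SObj u 𝒮) where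
  Hom := SHom
  id a := ⟨𝟙 _, 𝟙 _, by rw [u.map_id]; exact IsHomLift.id a.h⟩
  comp f g := ⟨f.base ≫ g.base, f.hom ≫ g.hom, by
    rw [u.map_comp]; exact lift_comp 𝒮.p f.lift g.lift⟩
  id_comp f := SHom.ext (Category.id_comp _) (Category.id_comp _)
  comp_id f := SHom.ext (Category.comp_id _) (Category.comp_id _)
  assoc f g h := SHom.ext (Category.assoc _ _ _) (Category.assoc _ _ _)

@[ext] theorem hom_ext' {a b : SObj u 𝒮} {f g : a ⟶ b} (h1 : f.base = g.base) (h2 : f.hom = g.hom) :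
    f = g := SHom.ext h1 h2

@[simp] theorem id_base (a : SObj u 𝒮) : (𝟙 a : a ⟶ a).base = 𝟙 a.base := rfl
@[simp] theorem id_hom (a : SObj u 𝒮) : (𝟙 a : a ⟶ a).hom = 𝟙 a.obj := rfl
@[simp] theorem comp_base {a b c : SObj u 𝒮} (f : a ⟶ b) (g : b ⟶ c) :
    (f ≫ g).base = f.base ≫ g.base := rfl
@[simp] theorem comp_hom {a b c : SObj u 𝒮} (f : a ⟶ b) (g : b ⟶ c) :
    (f ≫ g).hom = f.hom ≫ g.hom := rfl

variable (u 𝒮)

/-- the projection to `C` -/
def fstFunctor : SObj u 𝒮 ⥤ C where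
  obj a := a.base
  map f := f.base

/-- the strict pullback as a category over `C` -/
abbrev SP : BasedCategory.{max v v₃, max u u₃} C := BasedCategory.ofFunctor (fstFunctor u 𝒮)

variable {u 𝒮}

/-- the component in `𝒮` of a morphism over `f` lies over `u f` -/
theorem hom_isHomLift {a b : SObj u 𝒮} {φ : a ⟶ b} {V V' : C} {f : V ⟶ V'}
    (h : (SP u 𝒮).p.IsHomLift f φ) : 𝒮.p.IsHomLift (u.map f) φ.hom := by
  obtain ⟨⟩ := h
  exact φ.lift

/-- constructor for morphisms over a given arrow -/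
theorem exists_hom {a b : SObj u 𝒮} {V V' : C} (ha : a.base = V) (hb : b.base = V') (f : V ⟶ V')
    (ψ : a.obj ⟶ b.obj) (hψ : 𝒮.p.IsHomLift (u.map f) ψ) :
    ∃ φ : a ⟶ b, (SP u 𝒮).p.IsHomLift f φ ∧ φ.hom = ψ := by
  subst ha hb
  let φ : a ⟶ b := ⟨f, ψ, hψ⟩
  exact ⟨φ, IsHomLift.map (SP u 𝒮).p φ, rfl⟩

theorem base_eq_of_isHomLift {a b : SObj u 𝒮} {φ : a ⟶ b} {f : a.base ⟶ b.base}
    (h : (SP u 𝒮).p.IsHomLift f φ) : φ.base = f :=
  (IsHomLift.eq_of_isHomLift (SP u 𝒮).p f φ).symm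

section fib

variable (h𝒮 : FibCat.IsFibGrpd 𝒮.p)
include h𝒮

/-- lifts of arrows of `C` in the strict pullback -/
theorem exists_lift_SP (t : SObj u 𝒮) {U V : C} (ht : t.base = U) (f : V ⟶ U) :
    ∃ (s : SObj u 𝒮) (ψ : s ⟶ t), (SP u 𝒮).p.IsHomLift f ψ := by
  subst ht
  obtain ⟨s', ψ, hψ⟩ := exists_lift_over h𝒮 t.h (u.map f)
  let s : SObj u 𝒮 := ⟨V, s', lift_domain_eq 𝒮.p hψ⟩
  let φ : s ⟶ t := ⟨f, ψ, hψ⟩
  exact ⟨s, φ, IsHomLift.map (SP u 𝒮).p φ⟩

theorem isFibGrpd_SP : FibCat.IsFibGrpd (SP u 𝒮).p := by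
  refine ⟨fun {t V} f => exists_lift_SP h𝒮 t rfl f, fun {z' z} φ => ?_⟩
  have hc : 𝒮.p.IsStronglyCartesian (u.map φ.base) φ.hom := cart_of_fibGrpd 𝒮.p h𝒮 φ.lift
  refine { toIsHomLift := IsHomLift.map (SP u 𝒮).p φ, universal_property' := ?_ }
  intro z'' g φ' hφ'
  have hb : φ'.base = g ≫ φ.base := base_eq_of_isHomLift hφ'
  have hl : 𝒮.p.IsHomLift (u.map g ≫ u.map φ.base) φ'.hom := by
    rw [← u.map_comp, ← hb]; exact φ'.lift
  let χ : z'' ⟶ z' := ⟨g, cartLift 𝒮.p hc (u.map g) φ'.hom hl,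
    cartLift_lift 𝒮.p hc (u.map g) φ'.hom hl⟩
  refine ⟨χ, ⟨IsHomLift.map (SP u 𝒮).p χ, ?_⟩, ?_⟩
  · exact SHom.ext hb.symm (cartLift_fac 𝒮.p hc (u.map g) φ'.hom hl)
  · rintro χ' ⟨hχ'l, hχ'fac⟩
    have hb' : χ'.base = g := base_eq_of_isHomLift hχ'l
    refine SHom.ext hb' ?_
    have h1 : 𝒮.p.IsHomLift (u.map g) χ'.hom := hb' ▸ χ'.lift
    apply cart_ext 𝒮.p hc (u.map g) h1 (cartLift_lift 𝒮.p hc (u.map g) φ'.hom hl)
    rw [cartLift_fac]
    exact congrArg SHom.hom hχ'fac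

end fib

section equiv

variable (u 𝒮)

/-- the functor from the strict pullback to the categorical pullback -/
def toCP : SP u 𝒮 ⥤ᵇ BasedCategory.ofFunctor (CategoricalPullback.π₁ u 𝒮.p) where
  toFunctor :=
    { obj := fun z => ⟨z.base, z.obj, eqToIso z.h.symm⟩
      map := fun {z z'} φ =>
        { fst := φ.base
          snd := φ.hom
          w := by
            have hl := φ.lift
            have := IsHomLift.fac' 𝒮.p (u.map φ.base) φ.hom
            show u.map φ.base ≫ eqToHom z'.h.symm = eqToHom z.h.symm ≫ 𝒮.p.map φ.hom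
            rw [this]
            simp } }
  w := rfl

omit [Category.{v} C] in
theorem eq_conj_of_comm {X Y X' Y' : D} (A : X ⟶ Y) (B : X' ⟶ Y') (hX : X' = X) (hY : Y' = Y)
    (hw : A ≫ eqToHom hY.symm = eqToHom hX.symm ≫ B) : B = eqToHom hX ≫ A ≫ eqToHom hY.symm := by
  subst hX hY
  simpa using hw.symm

instance toCP_faithful : (toCP u 𝒮).toFunctor.Faithful where
  map_injective := by
    intro z z' φ φ' h
    exact SHom.ext (congrArg CategoricalPullback.Hom.fst h) (congrArg CategoricalPullback.Hom.snd h)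

instance toCP_full : (toCP u 𝒮).toFunctor.Full where
  map_surjective := by
    intro z z' m
    have hw : u.map m.fst ≫ eqToHom z'.h.symm = eqToHom z.h.symm ≫ 𝒮.p.map m.snd := m.w
    have hl : 𝒮.p.IsHomLift (u.map m.fst) m.snd :=
      IsHomLift.of_fac' 𝒮.p (u.map m.fst) m.snd z.h z'.h (eq_conj_of_comm _ _ z.h z'.h hw)
    exact ⟨⟨m.fst, m.snd, hl⟩, rfl⟩

variable {u 𝒮}

theorem toCP_fiberwise_essSurj (h𝒮 : FibCat.IsFibGrpd 𝒮.p)
    (η : (BasedCategory.ofFunctor (CategoricalPullback.π₁ u 𝒮.p)).obj) :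
    ∃ (ξ : (SP u 𝒮).obj) (e : (toCP u 𝒮).obj ξ ≅ η),
      (BasedCategory.ofFunctor (CategoricalPullback.π₁ u 𝒮.p)).p.IsHomLift
        (𝟙 ((BasedCategory.ofFunctor (CategoricalPullback.π₁ u 𝒮.p)).p.obj η)) e.hom := by
  obtain ⟨s', ψ, hψ⟩ := h𝒮.exists_lift (x := η.snd) η.iso.hom
  have hs' : 𝒮.p.obj s' = u.obj η.fst := lift_domain_eq 𝒮.p hψ
  have iψ : IsIso ψ := isIso_of_lift_iso 𝒮.p h𝒮 hψ
  let ξ : SObj u 𝒮 := ⟨η.fst, s', hs'⟩
  have hfac := IsHomLift.fac' 𝒮.p η.iso.hom ψ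
  let e : (toCP u 𝒮).obj ξ ≅ η :=
    CategoricalPullback.mkIso (Iso.refl _) (asIso ψ) (by
      show u.map (𝟙 η.fst) ≫ η.iso.hom = eqToHom hs'.symm ≫ 𝒮.p.map ψ
      rw [hfac]
      simp)
  exact ⟨ξ, e, IsHomLift.map (BasedCategory.ofFunctor (CategoricalPullback.π₁ u 𝒮.p)).p e.hom⟩

theorem isEquivOver_toCP (h𝒮 : FibCat.IsFibGrpd 𝒮.p) : FibCat.IsEquivOver (toCP u 𝒮) :=
  isEquivOver_of_fullyFaithful_of_fiberwise_essSurj _ (fun η => toCP_fiberwise_essSurj h𝒮 η)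

end equiv

end Groth.Agent.H84.StrictPull
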