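import Groth.Agent.H84.StrictPull
import Groth.Agent.H84.PushDescent

/-!
# Descent for the strict pullback along a functor preserving covers and pullbacks
-/

set_option autoImplicit false
set_option backward.isDefEq.respectTransparency false
set_option backward.isDefEq.respectTransparency.types false
open CategoryTheory CategoryTheory.Limits
universe v₃ u₃ v₂ u₂ v u

namespace Groth.Agent.H84.StrictPullStack

open Groth.Agent.H32 Groth.Agent.H64 Groth.Agent.H84.StkConcrete Groth.Agent.H84.StkObjSieve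
  Groth.Agent.H84.StkFaithfulFp Groth.Agent.H84.StrictPull Groth.Agent.H84.GerbeGlue
  Groth.Agent.H84.PushDescent

variable {C : Type u} [Category.{v} C] {D : Type u₂} [Category.{v₂} D] (u : C ⥤ D)
  {𝒮 : BasedCategory.{v₃, u₃} D}

section faithful

variable (h𝒮 : FibCat.IsFibGrpd 𝒮.p) {U : C} (R : Sieve U)
include h𝒮

theorem faithful_SP (hS : (Stk.resSieve (R.functorPushforward u) 𝒮).Faithful) :
    (Stk.resSieve R (SP u 𝒮)).Faithful := by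
  refine faithful_of_hom_ext_obj (isFibGrpd_SP h𝒮) R (fun t t' ht ht' a b ha hb hloc => ?_)
  have hab : a.base = b.base :=
    (IsHomLift.fac' (SP u 𝒮).p (𝟙 U) a).trans (IsHomLift.fac' (SP u 𝒮).p (𝟙 U) b).symm
  refine SHom.ext hab ?_
  have ht₁ : 𝒮.p.obj t.obj = u.obj U := t.h.trans (congrArg u.obj ht)
  have ht₁' : 𝒮.p.obj t'.obj = u.obj U := t'.h.trans (congrArg u.obj ht')
  have ha' : 𝒮.p.IsHomLift (𝟙 (u.obj U)) a.hom := by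
    have := hom_isHomLift ha
    rwa [u.map_id] at this
  have hb' : 𝒮.p.IsHomLift (𝟙 (u.obj U)) b.hom := by
    have := hom_isHomLift hb
    rwa [u.map_id] at this
  apply hom_ext_obj h𝒮 (R.functorPushforward u) hS ht₁ ht₁' a.hom b.hom ha' hb'
  intro s' χ hχ
  obtain ⟨V, f, h, hf, e⟩ := hχ
  obtain ⟨s, ψ, hψ⟩ := exists_lift_SP h𝒮 t ht f
  have hψc : 𝒮.p.IsStronglyCartesian (u.map f) ψ.hom :=
    cart_of_fibGrpd 𝒮.p h𝒮 (hom_isHomLift hψ)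
  have hχl : 𝒮.p.IsHomLift (h ≫ u.map f) χ := e ▸ lift_map_comp_eqToHom 𝒮.p χ ht₁
  have hθ : cartLift 𝒮.p hψc h χ hχl ≫ ψ.hom = χ := cartLift_fac 𝒮.p hψc h χ hχl
  have h1 := hloc ψ (objSieve_of_lift R ht hf hψ)
  have h2 : ψ.hom ≫ a.hom = ψ.hom ≫ b.hom := congrArg SHom.hom h1
  rw [← hθ, Category.assoc, Category.assoc, h2]

end faithful

section full

variable [HasPullbacks C] [PreservesLimitsOfShape WalkingCospan u]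
  (h𝒮 : FibCat.IsFibGrpd 𝒮.p)
include h𝒮

section aux

variable {E : Type u₂} [Category.{v₂} E]

omit h𝒮 in
theorem indep_aux {A B₁ B₂ Q T : E} (θ₁ : A ⟶ B₁) (θ₂ : A ⟶ B₂) (θQ : A ⟶ Q) (k₁ : Q ⟶ B₁)
    (k₂ : Q ⟶ B₂) (m₁ : B₁ ⟶ T) (m₂ : B₂ ⟶ T) (mQ : Q ⟶ T) (h1 : θQ ≫ k₁ = θ₁)
    (h2 : θQ ≫ k₂ = θ₂) (e1 : mQ = k₁ ≫ m₁) (e2 : mQ = k₂ ≫ m₂) : θ₁ ≫ m₁ = θ₂ ≫ m₂ := by
  rw [← h1, ← h2, Category.assoc, Category.assoc, ← e1, ← e2]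

end aux

/-- the value of a compatible family on a morphism of `𝒮` into the second component of `t`
does not depend on the chosen factorization through the family -/
theorem indep (t t' : SObj u 𝒮) (R : Sieve t.base)
    (m : ∀ ⦃s : SObj u 𝒮⦄ (ψ : s ⟶ t), objSieve (𝒯 := SP u 𝒮) R rfl ψ → (s ⟶ t'))
    (hcompat : ∀ ⦃s s' : SObj u 𝒮⦄ (ψ : s ⟶ t) (hψ : objSieve (𝒯 := SP u 𝒮) R rfl ψ) (h : s' ⟶ s)
      (hψ' : objSieve (𝒯 := SP u 𝒮) R rfl (h ≫ ψ)), m (h ≫ ψ) hψ' = h ≫ m ψ hψ)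
    {s' : 𝒮.obj} (χ : s' ⟶ t.obj) {s₁ s₂ : SObj u 𝒮}
    (ψ₁ : s₁ ⟶ t) (hψ₁ : objSieve (𝒯 := SP u 𝒮) R rfl ψ₁)
    (ψ₂ : s₂ ⟶ t) (hψ₂ : objSieve (𝒯 := SP u 𝒮) R rfl ψ₂)
    (θ₁ : s' ⟶ s₁.obj) (θ₂ : s' ⟶ s₂.obj) (e₁ : θ₁ ≫ ψ₁.hom = χ) (e₂ : θ₂ ≫ ψ₂.hom = χ) :
    θ₁ ≫ (m ψ₁ hψ₁).hom = θ₂ ≫ (m ψ₂ hψ₂).hom := by
  have m_congr : ∀ {s : SObj u 𝒮} (ψ ψ' : s ⟶ t) (_ : ψ = ψ')
      (h : objSieve (𝒯 := SP u 𝒮) R rfl ψ) (h' : objSieve (𝒯 := SP u 𝒮) R rfl ψ'),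
      m ψ h = m ψ' h' := by
    intro s ψ ψ' e h h'
    subst e
    rfl
  -- the pullback of the two base arrows
  let pr₁ : pullback ψ₁.base ψ₂.base ⟶ s₁.base := pullback.fst ψ₁.base ψ₂.base
  let pr₂ : pullback ψ₁.base ψ₂.base ⟶ s₂.base := pullback.snd ψ₁.base ψ₂.base
  have hcond : pr₁ ≫ ψ₁.base = pr₂ ≫ ψ₂.base := pullback.condition
  have hPB : IsPullback (u.map pr₁) (u.map pr₂) (u.map ψ₁.base) (u.map ψ₂.base) :=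
    (IsPullback.of_hasPullback ψ₁.base ψ₂.base).map u
  -- an object over the pullback
  obtain ⟨sQ', κ, hκ⟩ := exists_lift_over h𝒮 s₁.h (u.map pr₁)
  let sQ : SObj u 𝒮 := ⟨pullback ψ₁.base ψ₂.base, sQ', lift_domain_eq 𝒮.p hκ⟩
  let k₁ : sQ ⟶ s₁ := ⟨pr₁, κ, hκ⟩
  have hψQ : objSieve (𝒯 := SP u 𝒮) R rfl (k₁ ≫ ψ₁) := objSieve_comp R rfl hψ₁ k₁
  have hc₁ : 𝒮.p.IsStronglyCartesian (u.map pr₁) k₁.hom := cart_of_fibGrpd 𝒮.p h𝒮 hκ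
  have hc₂ : 𝒮.p.IsStronglyCartesian (u.map ψ₂.base) ψ₂.hom := cart_of_fibGrpd 𝒮.p h𝒮 ψ₂.lift
  have hl₂ : 𝒮.p.IsHomLift (u.map pr₂ ≫ u.map ψ₂.base) (k₁ ≫ ψ₁).hom := by
    rw [← u.map_comp, ← hcond]
    exact (k₁ ≫ ψ₁).lift
  let k₂ : sQ ⟶ s₂ := ⟨pr₂, cartLift 𝒮.p hc₂ (u.map pr₂) (k₁ ≫ ψ₁).hom hl₂,
    cartLift_lift 𝒮.p hc₂ (u.map pr₂) (k₁ ≫ ψ₁).hom hl₂⟩
  have hk₂ : k₂ ≫ ψ₂ = k₁ ≫ ψ₁ :=
    SHom.ext hcond.symm (cartLift_fac 𝒮.p hc₂ (u.map pr₂) (k₁ ≫ ψ₁).hom hl₂)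
  -- the base arrows of the two factorizations
  have hθ₁ : 𝒮.p.IsHomLift (𝒮.p.map θ₁ ≫ eqToHom s₁.h) θ₁ := lift_map_comp_eqToHom 𝒮.p θ₁ s₁.h
  have hθ₂ : 𝒮.p.IsHomLift (𝒮.p.map θ₂ ≫ eqToHom s₂.h) θ₂ := lift_map_comp_eqToHom 𝒮.p θ₂ s₂.h
  have hχ₁ : 𝒮.p.IsHomLift ((𝒮.p.map θ₁ ≫ eqToHom s₁.h) ≫ u.map ψ₁.base) χ :=
    e₁ ▸ lift_comp 𝒮.p hθ₁ ψ₁.lift
  have hχ₂ : 𝒮.p.IsHomLift ((𝒮.p.map θ₂ ≫ eqToHom s₂.h) ≫ u.map ψ₂.base) χ :=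
    e₂ ▸ lift_comp 𝒮.p hθ₂ ψ₂.lift
  have hh : (𝒮.p.map θ₁ ≫ eqToHom s₁.h) ≫ u.map ψ₁.base =
      (𝒮.p.map θ₂ ≫ eqToHom s₂.h) ≫ u.map ψ₂.base := isHomLift_unique 𝒮.p _ _ χ hχ₁ hχ₂
  obtain ⟨q, hq₁, hq₂⟩ : ∃ q : 𝒮.p.obj s' ⟶ u.obj (pullback ψ₁.base ψ₂.base),
      q ≫ u.map pr₁ = 𝒮.p.map θ₁ ≫ eqToHom s₁.h ∧ q ≫ u.map pr₂ = 𝒮.p.map θ₂ ≫ eqToHom s₂.h :=
    ⟨hPB.lift _ _ hh, hPB.lift_fst _ _ hh, hPB.lift_snd _ _ hh⟩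
  have hlQ : 𝒮.p.IsHomLift (q ≫ u.map pr₁) θ₁ := lift_of_eq 𝒮.p hθ₁ hq₁.symm
  have hθQl : 𝒮.p.IsHomLift q (cartLift 𝒮.p hc₁ q θ₁ hlQ) := cartLift_lift 𝒮.p hc₁ _ θ₁ hlQ
  have hθQ₁ : cartLift 𝒮.p hc₁ q θ₁ hlQ ≫ k₁.hom = θ₁ := cartLift_fac 𝒮.p hc₁ _ θ₁ hlQ
  have hθQ₂ : cartLift 𝒮.p hc₁ q θ₁ hlQ ≫ k₂.hom = θ₂ := by
    have hL : 𝒮.p.IsHomLift (𝒮.p.map θ₂ ≫ eqToHom s₂.h) (cartLift 𝒮.p hc₁ q θ₁ hlQ ≫ k₂.hom) :=
      lift_of_eq 𝒮.p (lift_comp 𝒮.p hθQl k₂.lift) hq₂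
    apply cart_ext 𝒮.p hc₂ _ hL hθ₂
    have e3 : k₂.hom ≫ ψ₂.hom = k₁.hom ≫ ψ₁.hom := congrArg SHom.hom hk₂
    rw [Category.assoc, e3, ← Category.assoc, hθQ₁, e₁, e₂]
  -- the values of the family
  have eQ₁ : m (k₁ ≫ ψ₁) hψQ = k₁ ≫ m ψ₁ hψ₁ := hcompat ψ₁ hψ₁ k₁ hψQ
  have hψQ' : objSieve (𝒯 := SP u 𝒮) R rfl (k₂ ≫ ψ₂) := objSieve_comp R rfl hψ₂ k₂
  have eQ₂ : m (k₁ ≫ ψ₁) hψQ = k₂ ≫ m ψ₂ hψ₂ :=
    (m_congr _ _ hk₂.symm hψQ hψQ').trans (hcompat ψ₂ hψ₂ k₂ hψQ')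
  exact indep_aux θ₁ θ₂ _ k₁.hom k₂.hom _ _ (m (k₁ ≫ ψ₁) hψQ).hom hθQ₁ hθQ₂
    (congrArg SHom.hom eQ₁) (congrArg SHom.hom eQ₂)

omit [HasPullbacks C] [PreservesLimitsOfShape WalkingCospan u] in
/-- factorization of a morphism of `𝒮` over an arrow of the pushed-forward sieve -/
theorem exists_witness (t : SObj u 𝒮) (R : Sieve t.base) (ht₁ : 𝒮.p.obj t.obj = u.obj t.base)
    {s' : 𝒮.obj} (χ : s' ⟶ t.obj) (hχ : objSieve (R.functorPushforward u) ht₁ χ) :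
    ∃ (s : SObj u 𝒮) (ψ : s ⟶ t) (_ : objSieve (𝒯 := SP u 𝒮) R rfl ψ) (θ : s' ⟶ s.obj),
      θ ≫ ψ.hom = χ := by
  obtain ⟨V, f, h, hf, e⟩ := hχ
  obtain ⟨s, ψ, hψ⟩ := exists_lift_SP h𝒮 t rfl f
  have hψc : 𝒮.p.IsStronglyCartesian (u.map f) ψ.hom :=
    cart_of_fibGrpd 𝒮.p h𝒮 (hom_isHomLift hψ)
  have hχl : 𝒮.p.IsHomLift (h ≫ u.map f) χ := e ▸ lift_map_comp_eqToHom 𝒮.p χ ht₁
  exact ⟨s, ψ, objSieve_of_lift R rfl hf hψ, cartLift 𝒮.p hψc h χ hχl,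
    cartLift_fac 𝒮.p hψc h χ hχl⟩

theorem full_SP {U : C} (R : Sieve U)
    (hS : (Stk.resSieve (R.functorPushforward u) 𝒮).Full) :
    (Stk.resSieve R (SP u 𝒮)).Full := by
  refine full_of_glue_hom_obj (isFibGrpd_SP h𝒮) R (fun t t' ht ht' m hm hcompat => ?_)
  subst ht
  have ht₁ : 𝒮.p.obj t.obj = u.obj t.base := t.h
  have ht₁' : 𝒮.p.obj t'.obj = u.obj t.base := t'.h.trans (congrArg u.obj ht')
  choose sW ψW hψW θW eW using fun (s' : 𝒮.obj) (χ : s' ⟶ t.obj)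
    (hχ : objSieve (R.functorPushforward u) ht₁ χ) => exists_witness u h𝒮 t R ht₁ χ hχ
  -- the second component of a member of the family lies over the expected arrow
  have hml : ∀ {s : SObj u 𝒮} (ψ : s ⟶ t) (hψ : objSieve (𝒯 := SP u 𝒮) R rfl ψ),
      𝒮.p.IsHomLift (u.map ψ.base) (m ψ hψ).hom := by
    intro s ψ hψ
    have h1 : (SP u 𝒮).p.IsHomLift (ψ.base ≫ 𝟙 t.base) (m ψ hψ) := hm ψ hψ
    rw [Category.comp_id] at h1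
    exact hom_isHomLift h1
  obtain ⟨a', ha', hfac⟩ := glue_hom_obj h𝒮 (R.functorPushforward u) hS ht₁ ht₁'
    (fun s' χ hχ => θW s' χ hχ ≫ (m (ψW s' χ hχ) (hψW s' χ hχ)).hom)
    (by
      intro s' χ hχ
      have hθ : 𝒮.p.IsHomLift (𝒮.p.map (θW s' χ hχ) ≫ eqToHom (sW s' χ hχ).h) (θW s' χ hχ) :=
        lift_map_comp_eqToHom 𝒮.p _ _
      have h1 : 𝒮.p.IsHomLift ((𝒮.p.map (θW s' χ hχ) ≫ eqToHom (sW s' χ hχ).h) ≫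
          u.map (ψW s' χ hχ).base) χ := by
        have := lift_comp 𝒮.p hθ (ψW s' χ hχ).lift
        rwa [eW s' χ hχ] at this
      have h2 : 𝒮.p.IsHomLift (𝒮.p.map χ ≫ eqToHom ht₁) χ := lift_map_comp_eqToHom 𝒮.p χ ht₁
      have e := isHomLift_unique 𝒮.p _ _ χ h1 h2
      exact lift_of_eq 𝒮.p (lift_comp 𝒮.p hθ (hml _ _)) e)
    (by
      intro s₁ s₂ χ hχ h hχ'
      have e1 : (h ≫ θW s₁ χ hχ) ≫ (ψW s₁ χ hχ).hom = h ≫ χ := by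
        rw [Category.assoc, eW s₁ χ hχ]
      have := indep u h𝒮 t t' R m hcompat (h ≫ χ) (ψW s₂ (h ≫ χ) hχ') (hψW s₂ (h ≫ χ) hχ')
        (ψW s₁ χ hχ) (hψW s₁ χ hχ) (θW s₂ (h ≫ χ) hχ') (h ≫ θW s₁ χ hχ) (eW s₂ (h ≫ χ) hχ') e1
      rw [this, Category.assoc])
  have hu : 𝒮.p.IsHomLift (u.map (𝟙 t.base)) a' := by rw [u.map_id]; exact ha'
  obtain ⟨a, ha, haa'⟩ := exists_hom (u := u) (a := t) (b := t') rfl ht' (𝟙 t.base) a' hu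
  refine ⟨a, ha, fun s ψ hψ => ?_⟩
  have hb : (ψ ≫ a).base = (m ψ hψ).base := by
    have h1 : (SP u 𝒮).p.IsHomLift ((SP u 𝒮).p.map ψ ≫ eqToHom rfl) (ψ ≫ a) :=
      lift_comp_id_right (SP u 𝒮).p (lift_map_comp_eqToHom (SP u 𝒮).p ψ rfl) ha
    have h2 : (SP u 𝒮).p.IsHomLift ((SP u 𝒮).p.map ψ ≫ eqToHom rfl) (m ψ hψ) := hm ψ hψ
    exact (IsHomLift.fac' (SP u 𝒮).p ((SP u 𝒮).p.map ψ ≫ eqToHom rfl) (ψ ≫ a)).trans
      (IsHomLift.fac' (SP u 𝒮).p ((SP u 𝒮).p.map ψ ≫ eqToHom rfl) (m ψ hψ)).symm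
  refine SHom.ext hb ?_
  have hmem : objSieve (R.functorPushforward u) ht₁ ψ.hom := by
    have hR : R ψ.base := by
      have : R (ψ.base ≫ 𝟙 t.base) := hψ
      rwa [Category.comp_id] at this
    exact objSieve_of_lift (R.functorPushforward u) ht₁
      (Sieve.image_mem_functorPushforward u R hR) ψ.lift
  have e1 := hfac ψ.hom hmem
  have e2 := indep u h𝒮 t t' R m hcompat ψ.hom (ψW _ ψ.hom hmem) (hψW _ ψ.hom hmem) ψ hψ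
    (θW _ ψ.hom hmem) (𝟙 _) (eW _ ψ.hom hmem) (Category.id_comp _)
  rw [Category.id_comp] at e2
  show ψ.hom ≫ a.hom = (m ψ hψ).hom
  rw [haa', e1, e2]

end full

section essSurj

variable [HasPullbacks C] [PreservesLimitsOfShape WalkingCospan u]
  (h𝒮 : FibCat.IsFibGrpd 𝒮.p)

variable (𝒮) in
/-- the projection of the strict pullback to `𝒮` -/
def sndFunctor : SObj u 𝒮 ⥤ 𝒮.obj where
  obj z := z.obj
  map φ := φ.hom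

omit [HasPullbacks C] [PreservesLimitsOfShape WalkingCospan u] in
theorem inv_nat_aux {E : Type u₂} [Category.{v₂} E] {A A' B B' : E} (a : A' ⟶ A) (b : B' ⟶ B)
    (k : A ⟶ B) (k' : A' ⟶ B') [IsIso k] [IsIso k'] (h : a ≫ k = k' ≫ b) :
    b ≫ inv k = inv k' ≫ a := by
  rw [IsIso.comp_inv_eq, Category.assoc, h, ← Category.assoc, IsIso.inv_hom_id, Category.id_comp]

include h𝒮 in
theorem essSurj_SP {U : C} (R : Sieve U)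
    (hS : (Stk.resSieve (R.functorPushforward u) 𝒮).EssSurj) :
    (Stk.resSieve R (SP u 𝒮)).EssSurj := by
  refine essSurj_of_glue_obj (isFibGrpd_SP h𝒮) R (fun E' => ?_)
  have hE'l : ∀ {r' r : (Stk.sieveCat R).obj} (m : r' ⟶ r),
      𝒮.p.IsHomLift (u.map m.hom.left) (E'.map m).hom :=
    fun m => hom_isHomLift (sieve_map_isHomLift R E' m)
  let E : pushCat u R ⥤ᵇ 𝒮 :=
    mkBasedFunctor (𝒜 := pushCat u R) (E'.toFunctor ⋙ sndFunctor u 𝒮) (fun {a b} m => hE'l m)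
  obtain ⟨G, κ, hκ, hκnat⟩ := exists_extension u h𝒮 E
  obtain ⟨t, ht, π', hπ', hπ'nat⟩ := glue_obj_of_essSurj (R.functorPushforward u) hS G
  let P : SObj u 𝒮 := ⟨U, t, ht⟩
  have iκ : ∀ r, IsIso (κ r) := fun r => isIso_of_lift_id 𝒮.p h𝒮 (hκ r)
  -- the cone in `𝒮`
  let πs : ∀ r : (Stk.sieveCat R).obj, (E'.obj r).obj ⟶ t := fun r =>
    inv (κ r) ≫ π' (img u R r)
  have hπs : ∀ r, 𝒮.p.IsHomLift (u.map r.obj.hom) (πs r) := fun r =>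
    lift_comp_id_left 𝒮.p (lift_inv_of_isIso 𝒮.p (κ r) (hκ r)) (hπ' (img u R r))
  have hex : ∀ r : (Stk.sieveCat R).obj,
      ∃ φ : E'.obj r ⟶ P, (SP u 𝒮).p.IsHomLift r.obj.hom φ ∧ φ.hom = πs r := fun r =>
    exists_hom (u := u) (a := E'.obj r) (b := P) (V := r.obj.left) (V' := U) (E'.w_obj r) rfl
      r.obj.hom (πs r) (hπs r)
  choose π hπ hπhom using hex
  refine ⟨P, rfl, π, hπ, fun {r' r} m => ?_⟩
  have hb : (E'.map m ≫ π r).base = (π r').base := by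
    have h1 : (SP u 𝒮).p.IsHomLift (m.hom.left ≫ r.obj.hom) (E'.map m ≫ π r) :=
      lift_comp _ (sieve_map_isHomLift R E' m) (hπ r)
    have h2 : (SP u 𝒮).p.IsHomLift (m.hom.left ≫ r.obj.hom) (π r') :=
      lift_of_eq _ (hπ r') (Over.w m.hom).symm
    exact (IsHomLift.fac' (SP u 𝒮).p (m.hom.left ≫ r.obj.hom) (E'.map m ≫ π r)).trans
      (IsHomLift.fac' (SP u 𝒮).p (m.hom.left ≫ r.obj.hom) (π r')).symm
  refine SHom.ext hb ?_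
  show (E'.map m).hom ≫ (π r).hom = (π r').hom
  rw [hπhom, hπhom]
  have e1 : E.map m ≫ inv (κ r) = inv (κ r') ≫ G.map (imgMap u R m) :=
    inv_nat_aux _ _ _ _ (hκnat m)
  show E.map m ≫ inv (κ r) ≫ π' (img u R r) = inv (κ r') ≫ π' (img u R r')
  rw [← Category.assoc, e1, Category.assoc, hπ'nat]

end essSurj

section main

variable [HasPullbacks C] [PreservesLimitsOfShape WalkingCospan u]

/-- the strict pullback of a stack along a functor preserving covers and pullbacks is a stack -/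
theorem isStack_SP (J : GrothendieckTopology C) (K : GrothendieckTopology D)
    (hu : CoverPreserving J K u) (h𝒮 : Stk.IsStack K 𝒮) : Stk.IsStack J (SP u 𝒮) := by
  refine ⟨isFibGrpd_SP h𝒮.1, fun U R hR => ?_⟩
  have hS : (Stk.resSieve (R.functorPushforward u) 𝒮).IsEquivalence :=
    h𝒮.2 _ (hu.cover_preserve hR)
  exact
    { faithful := faithful_SP u h𝒮.1 R hS.faithful
      full := full_SP u h𝒮.1 R hS.full
      essSurj := essSurj_SP u h𝒮.1 R hS.essSurj }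

/-- the categorical pullback of a stack along a functor preserving covers and pullbacks, with its
first projection, is a stack -/
theorem isStack_categoricalPullback_fst (J : GrothendieckTopology C) (K : GrothendieckTopology D)
    (hu : CoverPreserving J K u) (h𝒮 : Stk.IsStack K 𝒮) :
    Stk.IsStack J (BasedCategory.ofFunctor (CategoricalPullback.π₁ u 𝒮.p)) :=
  (isStack_iff_of_isEquivOver J (isEquivOver_toCP h𝒮.1)).mp (isStack_SP u J K hu h𝒮)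

end main

end Groth.Agent.H84.StrictPullStack
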