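import Groth.Agent.H84.AltDet

set_option autoImplicit false

namespace Groth.Agent.H84

open Matrix MvPolynomial

theorem mapR_sub {m : Type*} {R R' : Type*} [CommRing R] [CommRing R'] (f : R →+* R')
    (A B : Matrix m m R) : (A - B).map f = A.map f - B.map f :=
  Matrix.map_sub f (map_sub f) A B

theorem mapR_add {m : Type*} {R R' : Type*} [CommRing R] [CommRing R'] (f : R →+* R')
    (A B : Matrix m m R) : (A + B).map f = A.map f + B.map f :=
  Matrix.map_add f (map_add f) A B

section Generic

variable (n : ℕ)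

/-- The generic `n × n` matrix over `ℤ[x_ij]`. -/
noncomputable def genMat : Matrix (Fin n) (Fin n) (MvPolynomial (Fin n × Fin n) ℤ) :=
  Matrix.of fun i j => X (i, j)

theorem exists_pfPoly :
    ∃ pf : MvPolynomial (Fin n × Fin n) ℤ, pf ^ 2 = (genMat n - (genMat n)ᵀ).det := by
  let S := MvPolynomial (Fin n × Fin n) ℤ
  let K := FractionRing S
  have halt : IsAltMat ((genMat n - (genMat n)ᵀ).map (algebraMap S K)) :=
    (isAltMat_sub_transpose (genMat n)).map (algebraMap S K)
  obtain ⟨r, hr⟩ := isSquare_det_of_isAltMat (K := K) n (ι := Fin n) (by simp) _ halt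
  have hdet : ((genMat n - (genMat n)ᵀ).map (algebraMap S K)).det
      = algebraMap S K (genMat n - (genMat n)ᵀ).det := by
    rw [← RingHom.mapMatrix_apply, ← RingHom.map_det]
  set d : S := (genMat n - (genMat n)ᵀ).det with hd
  have hroot : Polynomial.aeval r (Polynomial.X ^ 2 - Polynomial.C d : Polynomial S) = 0 := by
    simp only [map_sub, map_pow, Polynomial.aeval_X, Polynomial.aeval_C]
    rw [← hdet, hr]; ring
  have hmonic : (Polynomial.X ^ 2 - Polynomial.C d : Polynomial S).Monic :=
    Polynomial.monic_X_pow_sub_C d (by norm_num)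
  obtain ⟨r', hr', -⟩ := exists_integer_of_is_root_of_monic hmonic hroot
  refine ⟨r', ?_⟩
  apply IsFractionRing.injective S K
  rw [map_pow, ← hr', ← hdet, hr]; ring

/-- A polynomial square root of the determinant of the generic alternating matrix. -/
noncomputable def pfPoly : MvPolynomial (Fin n × Fin n) ℤ := (exists_pfPoly n).choose

theorem pfPoly_sq : pfPoly n ^ 2 = (genMat n - (genMat n)ᵀ).det := (exists_pfPoly n).choose_spec

end Generic

section Eval

variable {n : ℕ} {R : Type*} [CommRing R]

/-- Evaluation homomorphism at a matrix. -/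
noncomputable def evalMat (Y : Matrix (Fin n) (Fin n) R) : MvPolynomial (Fin n × Fin n) ℤ →+* R :=
  eval₂Hom (Int.castRingHom R) (fun p => Y p.1 p.2)

theorem genMat_map_evalMat (Y : Matrix (Fin n) (Fin n) R) : (genMat n).map (evalMat Y) = Y := by
  ext i j
  simp [genMat, evalMat]

/-- The "Pfaffian" of the alternating matrix `Y - Yᵀ`, as a function of `Y`. -/
noncomputable def pfEval (Y : Matrix (Fin n) (Fin n) R) : R := evalMat Y (pfPoly n)

theorem pfEval_sq (Y : Matrix (Fin n) (Fin n) R) : pfEval Y ^ 2 = (Y - Yᵀ).det := by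
  unfold pfEval
  rw [← map_pow, pfPoly_sq, RingHom.map_det, RingHom.mapMatrix_apply, mapR_sub,
    Matrix.transpose_map, genMat_map_evalMat]

theorem evalMat_comp {R' : Type*} [CommRing R'] (f : R →+* R') (Y : Matrix (Fin n) (Fin n) R) :
    f.comp (evalMat Y) = evalMat (Y.map f) := by
  apply MvPolynomial.ringHom_ext
  · intro z; simp [evalMat]
  · intro p; simp [evalMat]

theorem pfEval_map {R' : Type*} [CommRing R'] (f : R →+* R') (Y : Matrix (Fin n) (Fin n) R) :
    f (pfEval Y) = pfEval (Y.map f) := by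
  unfold pfEval
  rw [← evalMat_comp]; rfl

theorem pfEval_genMat : pfEval (genMat n) = pfPoly n := by
  unfold pfEval
  have : evalMat (genMat n) = RingHom.id _ := by
    apply MvPolynomial.ringHom_ext
    · intro z; simp [evalMat]
    · intro p; simp [evalMat, genMat]
  rw [this]; rfl

theorem pfEval_eq_zero_of_pfPoly_eq_zero (h : pfPoly n = 0) (Y : Matrix (Fin n) (Fin n) R) :
    pfEval Y = 0 := by
  unfold pfEval; rw [h, map_zero]

end Eval

/-- Sign determination in a domain by specialization. -/
theorem eq_of_sq_eq_of_spec {T S : Type*} [CommRing T] [IsDomain T] [CommRing S] [IsDomain S]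
    [CharZero S] (a b : T) (h : a ^ 2 = b ^ 2) (θ : T →+* S) (c : S) (ha : θ a = c) (hb : θ b = c)
    (h0 : c = 0 → a = b) : a = b := by
  have h' : (a - b) * (a + b) = 0 := by ring_nf; rw [h]; ring
  rcases mul_eq_zero.mp h' with h1 | h1
  · exact sub_eq_zero.mp h1
  · have hab : a = -b := eq_neg_of_add_eq_zero_left h1
    have hc : c = -c := by
      calc c = θ a := ha.symm
        _ = θ (-b) := by rw [hab]
        _ = -c := by rw [map_neg, hb]
    have hc0 : c = 0 := by
      have h2 : (2 : S) * c = 0 := by linear_combination hc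
      rcases mul_eq_zero.mp h2 with h3 | h3
      · exact absurd h3 two_ne_zero
      · exact h3
    exact h0 hc0

section Identities

variable (n : ℕ)

/-- Generic matrices in two sets of variables. -/
noncomputable def genL : Matrix (Fin n) (Fin n) (MvPolynomial ((Fin n × Fin n) ⊕ (Fin n × Fin n)) ℤ) :=
  Matrix.of fun i j => X (Sum.inl (i, j))

noncomputable def genR : Matrix (Fin n) (Fin n) (MvPolynomial ((Fin n × Fin n) ⊕ (Fin n × Fin n)) ℤ) :=
  Matrix.of fun i j => X (Sum.inr (i, j))

/-- Evaluation at a pair of matrices. -/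
noncomputable def evalMat₂ {R : Type*} [CommRing R] (A Y : Matrix (Fin n) (Fin n) R) :
    MvPolynomial ((Fin n × Fin n) ⊕ (Fin n × Fin n)) ℤ →+* R :=
  eval₂Hom (Int.castRingHom R) (Sum.elim (fun p => A p.1 p.2) (fun p => Y p.1 p.2))

theorem genL_map {R : Type*} [CommRing R] (A Y : Matrix (Fin n) (Fin n) R) :
    (genL n).map (evalMat₂ n A Y) = A := by
  ext i j; simp [genL, evalMat₂]

theorem genR_map {R : Type*} [CommRing R] (A Y : Matrix (Fin n) (Fin n) R) :
    (genR n).map (evalMat₂ n A Y) = Y := by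
  ext i j; simp [genR, evalMat₂]

theorem pfEval_congr_generic :
    pfEval ((genL n)ᵀ * genR n * genL n) = (genL n).det * pfEval (genR n) := by
  refine eq_of_sq_eq_of_spec _ _ ?_ (evalMat₂ n (1 : Matrix (Fin n) (Fin n) _) (genMat n))
    (pfPoly n) ?_ ?_ ?_
  · rw [pfEval_sq, mul_pow, pfEval_sq]
    have : (genL n)ᵀ * genR n * genL n - ((genL n)ᵀ * genR n * genL n)ᵀ
        = (genL n)ᵀ * (genR n - (genR n)ᵀ) * genL n := by
      simp only [Matrix.transpose_mul, Matrix.transpose_transpose, Matrix.mul_sub, Matrix.sub_mul,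
        Matrix.mul_assoc]
    rw [this, Matrix.det_mul, Matrix.det_mul, Matrix.det_transpose]
    ring
  · rw [pfEval_map, Matrix.map_mul, Matrix.map_mul, Matrix.transpose_map, genL_map, genR_map]
    simp [pfEval_genMat]
  · rw [map_mul, pfEval_map, genR_map, RingHom.map_det, RingHom.mapMatrix_apply, genL_map]
    simp [pfEval_genMat]
  · intro h
    rw [pfEval_eq_zero_of_pfPoly_eq_zero h, pfEval_eq_zero_of_pfPoly_eq_zero h, mul_zero]

theorem pfEval_congr {R : Type*} [CommRing R] (A Y : Matrix (Fin n) (Fin n) R) :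
    pfEval (Aᵀ * Y * A) = A.det * pfEval Y := by
  have h := congrArg (evalMat₂ n A Y) (pfEval_congr_generic n)
  rw [pfEval_map, map_mul, pfEval_map, RingHom.map_det, RingHom.mapMatrix_apply,
    Matrix.map_mul, Matrix.map_mul, Matrix.transpose_map, genL_map, genR_map] at h
  exact h

theorem pfEval_add_generic :
    pfEval (genL n + (genR n + (genR n)ᵀ)) = pfEval (genL n) := by
  refine eq_of_sq_eq_of_spec _ _ ?_ (evalMat₂ n (genMat n) (0 : Matrix (Fin n) (Fin n) _))
    (pfPoly n) ?_ ?_ ?_
  · rw [pfEval_sq, pfEval_sq]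
    congr 1
    simp only [Matrix.transpose_add, Matrix.transpose_transpose]
    abel
  · rw [pfEval_map, mapR_add, mapR_add, Matrix.transpose_map, genL_map, genR_map]
    simp [pfEval_genMat]
  · rw [pfEval_map, genL_map, pfEval_genMat]
  · intro h
    rw [pfEval_eq_zero_of_pfPoly_eq_zero h, pfEval_eq_zero_of_pfPoly_eq_zero h]

theorem pfEval_add {R : Type*} [CommRing R] (Y E : Matrix (Fin n) (Fin n) R) :
    pfEval (Y + (E + Eᵀ)) = pfEval Y := by
  have h := congrArg (evalMat₂ n Y E) (pfEval_add_generic n)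
  rw [pfEval_map, pfEval_map, mapR_add, mapR_add, Matrix.transpose_map, genL_map,
    genR_map] at h
  exact h

/-- Symmetrization of a matrix using its upper triangular part. -/
def symOf {R : Type*} (W : Matrix (Fin n) (Fin n) R) : Matrix (Fin n) (Fin n) R :=
  Matrix.of fun i j => if i ≤ j then W i j else W j i

theorem symOf_transpose {R : Type*} (W : Matrix (Fin n) (Fin n) R) : (symOf n W)ᵀ = symOf n W := by
  ext i j
  simp only [symOf, Matrix.transpose_apply, Matrix.of_apply]
  rcases lt_trichotomy i j with h | h | h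
  · rw [if_neg (not_le.mpr h), if_pos h.le]
  · subst h; rfl
  · rw [if_pos h.le, if_neg (not_le.mpr h)]

theorem symOf_map {R R' : Type*} (f : R → R') (W : Matrix (Fin n) (Fin n) R) :
    (symOf n W).map f = symOf n (W.map f) := by
  ext i j
  simp only [symOf, Matrix.map_apply, Matrix.of_apply]
  split_ifs <;> rfl

theorem symOf_of_symm {R : Type*} (Z : Matrix (Fin n) (Fin n) R) (hZ : Zᵀ = Z) : symOf n Z = Z := by
  ext i j
  simp only [symOf, Matrix.of_apply]
  split_ifs with h
  · rfl
  · have := congrFun (congrFun hZ i) j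
    simpa using this

theorem symOf_zero {R : Type*} [Zero R] : symOf n (0 : Matrix (Fin n) (Fin n) R) = 0 := by
  ext i j
  simp [symOf]

theorem pfEval_add_symm_generic :
    pfEval (genL n + symOf n (genR n)) = pfEval (genL n) := by
  refine eq_of_sq_eq_of_spec _ _ ?_ (evalMat₂ n (genMat n) (0 : Matrix (Fin n) (Fin n) _))
    (pfPoly n) ?_ ?_ ?_
  · rw [pfEval_sq, pfEval_sq]
    congr 1
    simp only [Matrix.transpose_add, symOf_transpose]
    abel
  · rw [pfEval_map, mapR_add, symOf_map, genL_map, genR_map, symOf_zero]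
    simp [pfEval_genMat]
  · rw [pfEval_map, genL_map, pfEval_genMat]
  · intro h
    rw [pfEval_eq_zero_of_pfPoly_eq_zero h, pfEval_eq_zero_of_pfPoly_eq_zero h]

theorem pfEval_add_symm {R : Type*} [CommRing R] (Y Z : Matrix (Fin n) (Fin n) R) (hZ : Zᵀ = Z) :
    pfEval (Y + Z) = pfEval Y := by
  have h := congrArg (evalMat₂ n Y Z) (pfEval_add_symm_generic n)
  rw [pfEval_map, pfEval_map, mapR_add, symOf_map, genL_map, genR_map, symOf_of_symm n Z hZ] at h
  exact h

/-- The strictly upper triangular part of a matrix. -/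
def upperOf {R : Type*} [Zero R] (P : Matrix (Fin n) (Fin n) R) : Matrix (Fin n) (Fin n) R :=
  Matrix.of fun i j => if i < j then P i j else 0

theorem upperOf_sub_transpose {R : Type*} [CommRing R] (P : Matrix (Fin n) (Fin n) R)
    (hP : IsAltMat P) : upperOf n P - (upperOf n P)ᵀ = P := by
  ext i j
  simp only [upperOf, Matrix.sub_apply, Matrix.transpose_apply, Matrix.of_apply]
  rcases lt_trichotomy i j with h | h | h
  · rw [if_pos h, if_neg (not_lt.mpr h.le), sub_zero]
  · subst h; simp [hP.2 i]
  · rw [if_neg (not_lt.mpr h.le), if_pos h, zero_sub, hP.apply_swap j i]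

/-- **Symplectic matrices have determinant one**, over any commutative ring: if `P` is an
alternating matrix with unit determinant and `Gᵀ P G = P`, then `det G = 1`. -/
theorem det_eq_one_of_transpose_mul_mul_eq {R : Type*} [CommRing R] (P G : Matrix (Fin n) (Fin n) R)
    (hP : IsAltMat P) (hG : Gᵀ * P * G = P) (hdet : IsUnit P.det) : G.det = 1 := by
  set Y := upperOf n P with hY
  have hYP : Y - Yᵀ = P := upperOf_sub_transpose n P hP
  set Z := Gᵀ * Y * G - Y with hZdef
  have hZ : Zᵀ = Z := by
    have h1 : Gᵀ * Y * G - (Gᵀ * Y * G)ᵀ = Y - Yᵀ := by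
      rw [hYP]
      rw [← hG, ← hYP]
      simp only [Matrix.transpose_mul, Matrix.transpose_transpose, Matrix.mul_sub, Matrix.sub_mul,
        Matrix.mul_assoc]
    rw [hZdef, Matrix.transpose_sub]
    have h2 : (Gᵀ * Y * G)ᵀ = Gᵀ * Y * G - (Y - Yᵀ) := by rw [← h1]; abel
    rw [h2]; abel
  have h3 : pfEval (Gᵀ * Y * G) = pfEval Y := by
    have : Gᵀ * Y * G = Y + Z := by rw [hZdef]; abel
    rw [this, pfEval_add_symm n Y Z hZ]
  rw [pfEval_congr] at h3
  have hunit : IsUnit (pfEval Y) := by
    have h4 : pfEval Y ^ 2 = P.det := by rw [pfEval_sq, hYP]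
    have : IsUnit (pfEval Y ^ 2) := h4 ▸ hdet
    exact (isUnit_pow_iff two_ne_zero).mp this
  have h5 : (G.det - 1) * pfEval Y = 0 := by rw [sub_mul, h3, one_mul, sub_self]
  have h6 := hunit.mul_left_eq_zero.mp h5
  exact sub_eq_zero.mp h6

end Identities

end Groth.Agent.H84
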