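import Mathlib

set_option backward.isDefEq.respectTransparency false
set_option backward.isDefEq.respectTransparency.types false

/-!
# t-structures and triangulated subcategories: Hom-chases

Auxiliary lemmas for the t-structure on a Verdier quotient.
-/

universe v u

open CategoryTheory CategoryTheory.Limits CategoryTheory.Pretriangulated
  CategoryTheory.Triangulated

namespace Groth.Agent.H84.TQuot

variable {C : Type u} [Category.{v} C] [Preadditive C] [HasZeroObject C] [HasShift C ℤ]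
  [∀ n : ℤ, (shiftFunctor C n).Additive] [Pretriangulated C]

/-- Exactness of `Hom(-, Z)` at the first vertex of a distinguished triangle. -/
lemma yoneda_exact₁ (T : Triangle C) (hT : T ∈ distTriang C) {Z : C} (f : T.obj₁ ⟶ Z)
    (hf : T.mor₃ ≫ f⟦(1 : ℤ)⟧' = 0) : ∃ g : T.obj₂ ⟶ Z, f = T.mor₁ ≫ g := by
  obtain ⟨g, hg⟩ := Triangle.yoneda_exact₃ T.rotate (rot_of_distTriang _ hT) (f⟦(1 : ℤ)⟧') hf
  obtain ⟨g₀, rfl⟩ := (shiftFunctor C (1 : ℤ)).map_surjective g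
  refine ⟨-g₀, (shiftFunctor C (1 : ℤ)).map_injective ?_⟩
  rw [hg]
  simp

variable (t : TStructure C) (D : ObjectProperty C)

/-- The hypotheses on the triangulated subcategory `D` relative to the t-structure `t`. -/
structure Hyp : Prop where
  bdd : ∀ X : C, t.bounded X
  h1 : ∀ X : C, D X → ∀ n : ℤ, D ((t.truncGELE n n).obj X)
  h2 : ∀ (X Y Z : C) (f : X ⟶ Y) (g : Y ⟶ Z) (h : Z ⟶ X⟦(1 : ℤ)⟧),
      Triangle.mk f g h ∈ distTriang C → t.heart X → t.heart Y → t.heart Z → D Y → D X ∧ D Z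

variable {t D}
variable [IsTriangulated C] [D.IsTriangulated] [D.IsClosedUnderIsomorphisms]

lemma Hyp.D_of_isZero (_ : Hyp t D) {X : C} (hX : IsZero X) : D X := by
  obtain ⟨Z, hZ, hDZ⟩ := (inferInstance : D.ContainsZero).exists_zero
  exact D.prop_of_iso (hZ.iso hX) hDZ

/-- `D` is stable under the truncations `τ^{≥ n}`. -/
lemma Hyp.D_truncGE (hyp : Hyp t D) {N : C} (hN : D N) (n : ℤ) : D ((t.truncGE n).obj N) := by
  obtain ⟨b, hb⟩ := (hyp.bdd N).2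
  have key : ∀ k : ℕ, D ((t.truncGE (b + 1 - k)).obj N) := by
    intro k
    induction k with
    | zero =>
      apply hyp.D_of_isZero
      simpa using t.isZero_truncGE_obj_of_isLE b (b + 1) rfl N
    | succ k ih =>
      set m : ℤ := b + 1 - ((k + 1 : ℕ) : ℤ) with hm
      have hm' : m + 1 = b + 1 - (k : ℤ) := by rw [hm]; push_cast; ring
      rw [← hm'] at ih
      let Y := (t.truncGE m).obj N
      have hT := t.triangleLEGE_distinguished m (m + 1) rfl Y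
      have h₁ : D ((t.truncLE m).obj Y) :=
        D.prop_of_iso ((t.truncGELEIsoLEGE m m).app N) (hyp.h1 N hN m)
      have h₃ : D ((t.truncGE (m + 1)).obj Y) := by
        have := t.isIso_truncGE_map_truncGEπ_app (m + 1) m (by lia) N
        exact D.prop_of_iso (asIso ((t.truncGE (m + 1)).map ((t.truncGEπ m).app N))) ih
      exact D.ext_of_isTriangulatedClosed₂ _ hT h₁ h₃
  by_cases hn : b + 1 ≤ n
  · apply hyp.D_of_isZero
    have : t.IsLE N (n - 1) := t.isLE_of_le N b (n - 1) (by lia)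
    exact t.isZero_truncGE_obj_of_isLE (n - 1) n (by lia) N
  · obtain ⟨k, hk⟩ := Int.eq_ofNat_of_zero_le (show 0 ≤ b + 1 - n by lia)
    have := key k
    rwa [show b + 1 - (k : ℤ) = n by lia] at this

/-- The hypothesis `h2` in any degree. -/
lemma Hyp.h2' (hyp : Hyp t D) (n : ℤ) (T : Triangle C) (hT : T ∈ distTriang C)
    (_ : t.IsLE T.obj₁ n) (_ : t.IsGE T.obj₁ n) (_ : t.IsLE T.obj₂ n) (_ : t.IsGE T.obj₂ n)
    (_ : t.IsLE T.obj₃ n) (_ : t.IsGE T.obj₃ n) (hD : D T.obj₂) : D T.obj₁ ∧ D T.obj₃ := by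
  have hT' := Triangle.shift_distinguished T hT n
  set T' := (CategoryTheory.shiftFunctor (Triangle C) n).obj T with hT'def
  have e₁ : T'.obj₁ = T.obj₁⟦n⟧ := rfl
  have e₂ : T'.obj₂ = T.obj₂⟦n⟧ := rfl
  have e₃ : T'.obj₃ = T.obj₃⟦n⟧ := rfl
  have hh : ∀ (X : C) [t.IsLE X n] [t.IsGE X n], t.heart (X⟦n⟧) := fun X _ _ => by
    rw [t.mem_heart_iff]
    exact ⟨t.isLE_shift X n n 0 (by lia), t.isGE_shift X n n 0 (by lia)⟩
  have := hyp.h2 T'.obj₁ T'.obj₂ T'.obj₃ T'.mor₁ T'.mor₂ T'.mor₃ hT'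
    (hh T.obj₁) (hh T.obj₂) (hh T.obj₃) (D.le_shift n _ hD)
  exact ⟨(D.prop_shift_iff_of_isStableUnderShift _ n).1 this.1,
    (D.prop_shift_iff_of_isStableUnderShift _ n).1 this.2⟩

omit [D.IsTriangulated] [D.IsClosedUnderIsomorphisms] in
/-- The key Hom-chase: for a distinguished triangle `A ⟶ B ⟶ X ⟶ A⟦1⟧` with `X ≤ n₀` and
`Z ≥ n₁ = n₀ + 1`, a morphism `τ^{≤ n₁} B ⟶ Z` which vanishes on `τ^{≤ n₁} A` is zero. -/
lemma chase (T : Triangle C) (hT : T ∈ distTriang C) (n₀ n₁ : ℤ) (h : n₀ + 1 = n₁)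
    [t.IsLE T.obj₃ n₀] {Z : C} [t.IsGE Z n₁]
    (r : (t.truncLE n₁).obj T.obj₂ ⟶ Z) (hr : (t.truncLE n₁).map T.mor₁ ≫ r = 0) : r = 0 := by
  have hσ : IsIso ((t.truncGE (n₁ + 1)).map T.mor₁) :=
    t.isIso₂_truncGE_map_of_isLE T.invRotate (inv_rot_of_distTriang _ hT) n₁ (n₁ + 1) rfl
      (t.isLE_shift T.obj₃ n₀ (-1) n₁ (by lia))
  set TA := (t.triangleLEGE n₁ (n₁ + 1) rfl).obj T.obj₁ with hTA
  set TB := (t.triangleLEGE n₁ (n₁ + 1) rfl).obj T.obj₂ with hTB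
  have hTAd : TA ∈ distTriang C := t.triangleLEGE_distinguished _ _ _ _
  have hTBd : TB ∈ distTriang C := t.triangleLEGE_distinguished _ _ _ _
  set φ : TA ⟶ TB := (t.triangleLEGE n₁ (n₁ + 1) rfl).map T.mor₁ with hφ
  have c₁ : TA.mor₁ ≫ T.mor₁ = (t.truncLE n₁).map T.mor₁ ≫ TB.mor₁ := φ.comm₁
  have c₂ : TA.mor₂ ≫ (t.truncGE (n₁ + 1)).map T.mor₁ = T.mor₁ ≫ TB.mor₂ := φ.comm₂
  have c₃ : TA.mor₃ ≫ ((t.truncLE n₁).map T.mor₁)⟦(1 : ℤ)⟧' =
      (t.truncGE (n₁ + 1)).map T.mor₁ ≫ TB.mor₃ := φ.comm₃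
  -- extension of `r` to `B`
  have ha : TB.mor₃ ≫ r⟦(1 : ℤ)⟧' = 0 := by
    rw [← cancel_epi ((t.truncGE (n₁ + 1)).map T.mor₁), ← reassoc_of% c₃, ← Functor.map_comp,
      hr, Functor.map_zero, comp_zero, comp_zero]
  obtain ⟨r', hr'⟩ := yoneda_exact₁ TB hTBd r ha
  -- correction
  have hb : TA.mor₁ ≫ T.mor₁ ≫ r' = 0 := by
    rw [reassoc_of% c₁, ← hr', hr]
  obtain ⟨s', hs'⟩ := Triangle.yoneda_exact₂ TA hTAd (T.mor₁ ≫ r') hb
  have hc : T.mor₁ ≫ (r' - TB.mor₂ ≫ inv ((t.truncGE (n₁ + 1)).map T.mor₁) ≫ s') = 0 := by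
    rw [Preadditive.comp_sub, hs', ← reassoc_of% c₂, IsIso.hom_inv_id_assoc, sub_self]
  obtain ⟨z, hz⟩ := Triangle.yoneda_exact₂ T hT _ hc
  have hz0 : z = 0 := t.zero z n₀ n₁ (by lia)
  rw [hz0, comp_zero, sub_eq_zero] at hz
  rw [hr', hz]
  rw [comp_distTriang_mor_zero₁₂_assoc _ hTBd, zero_comp]

/-- If `p : H ⟶ R` is a morphism between objects concentrated in degree `n` which is
"epi against objects `≥ n`", then `R` lies in `D` as soon as `H` does. -/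
lemma Hyp.D_of_epi (hyp : Hyp t D) (n : ℤ) {H R : C} [t.IsLE H n] [t.IsGE H n]
    [t.IsLE R n] [t.IsGE R n] (p : H ⟶ R)
    (hp : ∀ (Z : C) [t.IsGE Z n] (r : R ⟶ Z), p ≫ r = 0 → r = 0) (hH : D H) : D R := by
  obtain ⟨K, i, d, hK⟩ := distinguished_cocone_triangle₁ p
  have hKge : t.IsGE K n := by
    have h₁ : t.IsGE (R⟦(-1 : ℤ)⟧) n :=
      have := t.isGE_shift R n (-1) (n + 1) (by lia)
      t.isGE_of_ge _ n (n + 1) (by lia)
    exact t.isGE₂ _ (inv_rot_of_distTriang _ hK) n h₁ (show t.IsGE H n by infer_instance)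
  have hKle : t.IsLE K n := by
    rw [t.isLE_iff_orthogonal n (n + 1) rfl]
    intro Y f hY
    have : t.IsGE (Y⟦(1 : ℤ)⟧) n := t.isGE_shift Y (n + 1) 1 n (by lia)
    have hpd : p ≫ d = 0 := comp_distTriang_mor_zero₂₃ _ hK
    have h0 : d ≫ f⟦(1 : ℤ)⟧' = 0 :=
      hp _ _ (by rw [← Category.assoc, hpd, zero_comp])
    obtain ⟨g, hg⟩ := yoneda_exact₁ _ hK f h0
    have hg0 : g = 0 := by
      have : t.IsLE (Triangle.mk i p d).obj₂ n := (inferInstance : t.IsLE H n)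
      exact t.zero g n (n + 1) (by lia)
    rw [hg, hg0, comp_zero]
  exact (hyp.h2' n _ hK hKle hKge ‹_› ‹_› ‹_› ‹_› hH).2

/-- The main lemma: for a distinguished triangle `A ⟶ B ⟶ X ⟶ A⟦1⟧` with `A` in `D` and
`X ≤ n₀`, the truncation `τ^{≥ n₀ + 1} B` lies in `D`. -/
lemma Hyp.D_truncGE_of_triangle (hyp : Hyp t D) (T : Triangle C) (hT : T ∈ distTriang C)
    (n₀ n₁ : ℤ) (h : n₀ + 1 = n₁) [t.IsLE T.obj₃ n₀] (hA : D T.obj₁) :
    D ((t.truncGE n₁).obj T.obj₂) := by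
  -- the cohomology object in degree `n₁`
  have hR : D ((t.truncGELE n₁ n₁).obj T.obj₂) := by
    refine hyp.D_of_epi n₁ ((t.truncGELE n₁ n₁).map T.mor₁) ?_ (hyp.h1 _ hA n₁)
    intro Z _ r hr
    apply t.from_truncGE_obj_ext
    rw [comp_zero]
    apply chase T hT n₀ n₁ h
    have := (t.truncGEπ n₁).naturality ((t.truncLE n₁).map T.mor₁)
    dsimp at this
    rw [reassoc_of% this]
    dsimp at hr
    rw [hr, comp_zero]
  -- the higher truncation
  have hS : D ((t.truncGE (n₁ + 1)).obj T.obj₂) := by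
    have hσ : IsIso ((t.truncGE (n₁ + 1)).map T.mor₁) :=
      t.isIso₂_truncGE_map_of_isLE T.invRotate (inv_rot_of_distTriang _ hT) n₁ (n₁ + 1) rfl
        (t.isLE_shift T.obj₃ n₀ (-1) n₁ (by lia))
    exact D.prop_of_iso (asIso ((t.truncGE (n₁ + 1)).map T.mor₁)) (hyp.D_truncGE hA _)
  let Y := (t.truncGE n₁).obj T.obj₂
  have hY := t.triangleLEGE_distinguished n₁ (n₁ + 1) rfl Y
  have h₁ : D ((t.truncLE n₁).obj Y) :=
    D.prop_of_iso ((t.truncGELEIsoLEGE n₁ n₁).app T.obj₂) hR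
  have h₃ : D ((t.truncGE (n₁ + 1)).obj Y) := by
    have := t.isIso_truncGE_map_truncGEπ_app (n₁ + 1) n₁ (by lia) T.obj₂
    exact D.prop_of_iso (asIso ((t.truncGE (n₁ + 1)).map ((t.truncGEπ n₁).app T.obj₂))) hS
  exact D.ext_of_isTriangulatedClosed₂ _ hY h₁ h₃

end Groth.Agent.H84.TQuot
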