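import Groth.Agent.H84.TQuot

set_option backward.isDefEq.respectTransparency false
set_option backward.isDefEq.respectTransparency.types false

/-!
# The t-structure on a Verdier quotient
-/

universe v' u' v u

open CategoryTheory CategoryTheory.Limits CategoryTheory.Pretriangulated
  CategoryTheory.Triangulated

namespace Groth.Agent.H84.TQuot

variable {C : Type u} [Category.{v} C] [Preadditive C] [HasZeroObject C] [HasShift C ℤ]
  [∀ n : ℤ, (shiftFunctor C n).Additive] [Pretriangulated C] [IsTriangulated C]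
  {t : TStructure C} {D : ObjectProperty C} [D.IsTriangulated] [D.IsClosedUnderIsomorphisms]
  {E : Type u'} [Category.{v'} E] [Preadditive E] [HasZeroObject E] [HasShift E ℤ]
  [∀ n : ℤ, (shiftFunctor E n).Additive] [Pretriangulated E]
  (q : C ⥤ E) [q.CommShift ℤ] [q.IsTriangulated] [q.IsLocalization D.trW]

include D in
/-- Vanishing of morphisms from `≤ 0` to `≥ 1` in the quotient. -/
lemma Hyp.map_eq_zero (hyp : Hyp t D) {X Y : C} [t.IsLE X 0] [t.IsGE Y 1]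
    (φ : q.obj X ⟶ q.obj Y) : φ = 0 := by
  obtain ⟨ρ, rfl⟩ := Localization.exists_rightFraction q D.trW φ
  obtain ⟨N, g, h, hT, hN⟩ := ρ.hs
  have hD : D ((t.truncGE 1).obj ρ.X') := by
    have : t.IsLE (Triangle.mk ρ.s g h).invRotate.obj₃ 0 := (inferInstance : t.IsLE X 0)
    exact hyp.D_truncGE_of_triangle (Triangle.mk ρ.s g h).invRotate (inv_rot_of_distTriang _ hT)
      0 1 rfl (D.le_shift (-1) _ hN)
  have hi : D.trW ((t.truncLTι 1).app ρ.X') :=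
    ObjectProperty.trW.mk D (t.triangleLTGE_distinguished 1 ρ.X') hD
  have : IsIso (q.map ((t.truncLTι 1).app ρ.X')) := Localization.inverts q D.trW _ hi
  have hf : q.map ρ.f = 0 := by
    rw [← cancel_epi (q.map ((t.truncLTι 1).app ρ.X')), ← q.map_comp, comp_zero]
    have : t.IsLE ((t.truncLT 1).obj ρ.X') 0 := t.isLE_truncLT_obj _ 1 0
    rw [t.zero ((t.truncLTι 1).app ρ.X' ≫ ρ.f) 0 1, q.map_zero]
  rw [MorphismProperty.RightFraction.map, hf, comp_zero]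

include D in
/-- The quotient t-structure on the Verdier quotient. -/
noncomputable def Hyp.tQuot (hyp : Hyp t D) : TStructure E where
  le n := fun Y => ∃ X : C, t.IsLE X n ∧ Nonempty (q.obj X ≅ Y)
  ge n := fun Y => ∃ X : C, t.IsGE X n ∧ Nonempty (q.obj X ≅ Y)
  le_isClosedUnderIsomorphisms n := ⟨fun e ⟨X, hX, ⟨e'⟩⟩ => ⟨X, hX, ⟨e' ≪≫ e⟩⟩⟩
  ge_isClosedUnderIsomorphisms n := ⟨fun e ⟨X, hX, ⟨e'⟩⟩ => ⟨X, hX, ⟨e' ≪≫ e⟩⟩⟩
  le_shift n a n' h Y := by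
    rintro ⟨X, hX, ⟨e⟩⟩
    exact ⟨X⟦a⟧, t.isLE_shift X n a n' h,
      ⟨(q.commShiftIso a).app X ≪≫ (shiftFunctor E a).mapIso e⟩⟩
  ge_shift n a n' h Y := by
    rintro ⟨X, hX, ⟨e⟩⟩
    exact ⟨X⟦a⟧, t.isGE_shift X n a n' h,
      ⟨(q.commShiftIso a).app X ≪≫ (shiftFunctor E a).mapIso e⟩⟩
  zero' X Y f := by
    rintro ⟨X₀, hX₀, ⟨eX⟩⟩ ⟨Y₀, hY₀, ⟨eY⟩⟩
    have h0 := hyp.map_eq_zero q (eX.hom ≫ f ≫ eY.inv)
    rw [← cancel_epi eX.hom, ← cancel_mono eY.inv, Category.assoc, h0, comp_zero, zero_comp]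
  le_zero_le := fun Y ⟨X, hX, e⟩ => ⟨X, t.isLE_of_le X 0 1, e⟩
  ge_one_le := fun Y ⟨X, hX, e⟩ => ⟨X, t.isGE_of_ge X 0 1, e⟩
  exists_triangle_zero_one A := by
    have := Localization.essSurj q D.trW
    let X := q.objPreimage A
    let e : q.obj X ≅ A := q.objObjPreimageIso A
    have hT := q.map_distinguished _ (t.triangleLEGE_distinguished 0 1 rfl X)
    refine ⟨q.obj ((t.truncLE 0).obj X), q.obj ((t.truncGE 1).obj X),
      ⟨_, inferInstance, ⟨Iso.refl _⟩⟩, ⟨_, inferInstance, ⟨Iso.refl _⟩⟩,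
      q.map ((t.truncLEι 0).app X) ≫ e.hom, e.inv ≫ q.map ((t.truncGEπ 1).app X),
      q.map ((t.truncGEδLE 0 1 rfl).app X) ≫ (q.commShiftIso (1 : ℤ)).hom.app _, ?_⟩
    refine isomorphic_distinguished _ hT _
      (Triangle.isoMk _ _ (Iso.refl _) e.symm (Iso.refl _) ?_ ?_ ?_)
    · dsimp
      simp
      rfl
    · dsimp
      simp
      rfl
    · dsimp
      simp
      rfl

omit [IsTriangulated C] [D.IsTriangulated] [D.IsClosedUnderIsomorphisms] in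
lemma tstructure_ext {t₁ t₂ : TStructure C} (hle : t₁.le = t₂.le) (hge : t₁.ge = t₂.ge) :
    t₁ = t₂ := by
  cases t₁
  cases t₂
  simp only [TStructure.mk.injEq]
  exact ⟨hle, hge⟩

omit [IsTriangulated C] [D.IsTriangulated] [D.IsClosedUnderIsomorphisms] in
/-- Two t-structures with `t₁.le n ≤ t₂.le n` and `t₁.ge n ≤ t₂.ge n` for all `n` are equal. -/
lemma tstructure_eq_of_le {t₁ t₂ : TStructure C} (hle : ∀ n, t₁.le n ≤ t₂.le n)
    (hge : ∀ n, t₁.ge n ≤ t₂.ge n) : t₂ = t₁ := by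
  apply tstructure_ext
  · funext n
    refine le_antisymm ?_ (hle n)
    intro W hW
    rw [TStructure.le_iff_isLE] at hW ⊢
    rw [t₁.isLE_iff_orthogonal n (n + 1) rfl]
    intro Z f hZ
    have : t₂.IsGE Z (n + 1) := ⟨hge _ _ hZ.ge⟩
    exact t₂.zero f n (n + 1)
  · funext n
    refine le_antisymm ?_ (hge n)
    intro W hW
    rw [TStructure.ge_iff_isGE] at hW ⊢
    rw [t₁.isGE_iff_orthogonal (n - 1) n (by lia)]
    intro Z f hZ
    have : t₂.IsLE Z (n - 1) := ⟨hle _ _ hZ.le⟩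
    exact t₂.zero f (n - 1) n

include D in
theorem main (hyp : Hyp t D) :
    ∃ t' : TStructure E,
      (∀ (X : C) (n : ℤ), t.IsLE X n → t'.IsLE (q.obj X) n) ∧
      (∀ (X : C) (n : ℤ), t.IsGE X n → t'.IsGE (q.obj X) n) ∧
      (∀ (Y : E) (n : ℤ), t'.IsLE Y n ↔ ∃ X : C, t.IsLE X n ∧ Nonempty (q.obj X ≅ Y)) ∧
      (∀ (Y : E) (n : ℤ), t'.IsGE Y n ↔ ∃ X : C, t.IsGE X n ∧ Nonempty (q.obj X ≅ Y)) ∧
      ∀ t'' : TStructure E,
        (∀ (X : C) (n : ℤ), t.IsLE X n → t''.IsLE (q.obj X) n) →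
        (∀ (X : C) (n : ℤ), t.IsGE X n → t''.IsGE (q.obj X) n) → t'' = t' := by
  refine ⟨hyp.tQuot q, fun X n hX => ⟨⟨X, hX, ⟨Iso.refl _⟩⟩⟩, fun X n hX => ⟨⟨X, hX, ⟨Iso.refl _⟩⟩⟩,
    fun Y n => ⟨fun h => h.le, fun h => ⟨h⟩⟩, fun Y n => ⟨fun h => h.ge, fun h => ⟨h⟩⟩, ?_⟩
  intro t'' hle hge
  apply tstructure_eq_of_le
  · rintro n Y ⟨X, hX, ⟨e⟩⟩
    have := hle X n hX
    exact (t''.le n).prop_of_iso e this.le
  · rintro n Y ⟨X, hX, ⟨e⟩⟩
    have := hge X n hX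
    exact (t''.ge n).prop_of_iso e this.ge

end Groth.Agent.H84.TQuot
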