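import Mathlib

/-!
# Detecting `m H ≠ H` by a map to a module killed by a power of `m`
-/

universe u

namespace Groth.Agent.H84.TorsionTest

variable {A : Type u} [CommRing A] [IsNoetherianRing A]
  {M : Type u} [AddCommGroup M] [Module A M] [Module.Finite A M]

/-- Artin–Rees consequence: if `Z ≤ M` and `B' ≤ Z` with `m (Z/B') ≠ Z/B'`, then for some `n`
the submodule `Z` is not contained in `B + m^n M`. -/
lemma exists_not_le (m : Ideal A) (Z : Submodule A M) (B' : Submodule A Z)
    (h : m • (⊤ : Submodule A (Z ⧸ B')) ≠ ⊤) :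
    ∃ n : ℕ, ¬ (Z ≤ B'.map Z.subtype ⊔ m ^ n • (⊤ : Submodule A M)) := by
  obtain ⟨k, hk⟩ := m.exists_pow_inf_eq_pow_smul Z
  refine ⟨k + 1, fun hle => h ?_⟩
  have hk1 : m ^ (k + 1) • (⊤ : Submodule A M) ⊓ Z ≤ m • Z := by
    rw [hk (k + 1) (by lia)]
    simp only [add_tsub_cancel_left, pow_one]
    exact Submodule.smul_mono le_rfl inf_le_right
  have hmZ : m • Z = (m • (⊤ : Submodule A Z)).map Z.subtype := by
    rw [Submodule.map_smul'', Submodule.map_top, Submodule.range_subtype]
  rw [eq_top_iff]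
  rintro q -
  obtain ⟨z, rfl⟩ := Submodule.Quotient.mk_surjective _ q
  obtain ⟨b, hb, x, hx, hbx⟩ := Submodule.mem_sup.1 (hle z.2)
  obtain ⟨b', hb', rfl⟩ := hb
  have hxZ : x ∈ Z := by
    have : x = z.val - b'.val := by rw [← hbx]; simp
    rw [this]
    exact Z.sub_mem z.2 b'.2
  have hx' : x ∈ m • Z := hk1 ⟨hx, hxZ⟩
  rw [hmZ] at hx'
  obtain ⟨x', hx'm, rfl⟩ := hx'
  have hz : z = b' + x' := Subtype.ext (by simpa using hbx.symm)
  have : (Submodule.Quotient.mk z : Z ⧸ B') = B'.mkQ x' := by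
    rw [hz, Submodule.Quotient.mk_add, (Submodule.Quotient.mk_eq_zero _).2 hb', zero_add]
    rfl
  rw [this]
  have := Submodule.mem_map_of_mem (f := B'.mkQ) hx'm
  rwa [Submodule.map_smul'', Submodule.map_top, Submodule.range_mkQ] at this

open CategoryTheory CategoryTheory.Limits

omit [IsNoetherianRing A] in
lemma smul_top_eq_top_of_surjective {N N' : Type u} [AddCommGroup N] [Module A N]
    [AddCommGroup N'] [Module A N'] (m : Ideal A) (ψ : N →ₗ[A] N') (hψ : Function.Surjective ψ)
    (h : m • (⊤ : Submodule A N) = ⊤) : m • (⊤ : Submodule A N') = ⊤ := by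
  have := congrArg (Submodule.map ψ) h
  rwa [Submodule.map_smul'', Submodule.map_top, LinearMap.range_eq_top.2 hψ] at this

/-- The complex-level statement. -/
lemma exists_map_to_single (E : CochainComplex (ModuleCat.{u} A) ℤ) (i : ℤ)
    [Module.Finite A (E.X i)] (m : Ideal A)
    (h : m • (⊤ : Submodule A (E.homology i)) ≠ ⊤) :
    ∃ (n : ℕ) (X : ModuleCat.{u} A) (_ : Module.Finite A X)
      (_ : m ^ n • (⊤ : Submodule A X) = ⊥)
      (g : E ⟶ (HomologicalComplex.single (ModuleCat.{u} A) (ComplexShape.up ℤ) i).obj X),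
      HomologicalComplex.homologyMap g i ≠ 0 := by
  set S := E.sc i with hS
  let Z : Submodule A (E.X i) := LinearMap.ker S.g.hom
  let B' : Submodule A Z := LinearMap.range S.moduleCatToCycles
  have h' : m • (⊤ : Submodule A (Z ⧸ B')) ≠ ⊤ := by
    intro h0
    apply h
    exact smul_top_eq_top_of_surjective m S.moduleCatHomologyIso.symm.toLinearEquiv.toLinearMap
      S.moduleCatHomologyIso.symm.toLinearEquiv.surjective h0
  obtain ⟨n, hn⟩ := exists_not_le m Z B' h'
  set N : Submodule A (E.X i) := B'.map Z.subtype ⊔ m ^ n • (⊤ : Submodule A (E.X i)) with hN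
  let X : ModuleCat.{u} A := ModuleCat.of A (E.X i ⧸ N)
  let φ : E.X i ⟶ X := ModuleCat.ofHom N.mkQ
  have hφ : ∀ k : ℤ, (ComplexShape.up ℤ).Rel k i → E.d k i ≫ φ = 0 := by
    intro k hk
    obtain rfl : (ComplexShape.up ℤ).prev i = k := (ComplexShape.up ℤ).prev_eq' hk
    ext y
    change N.mkQ (S.f.hom y) = 0
    rw [Submodule.mkQ_apply, Submodule.Quotient.mk_eq_zero]
    exact Submodule.mem_sup_left ⟨S.moduleCatToCycles y, ⟨y, rfl⟩, rfl⟩
  let L := (HomologicalComplex.single (ModuleCat.{u} A) (ComplexShape.up ℤ) i).obj X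
  let g : E ⟶ L := HomologicalComplex.mkHomToSingle φ hφ
  have hgf : g.f i = φ ≫ (HomologicalComplex.singleObjXSelf (ComplexShape.up ℤ) i X).inv :=
    HomologicalComplex.mkHomToSingle_f φ hφ
  refine ⟨n, X, inferInstanceAs (Module.Finite A (E.X i ⧸ N)), ?_, g, ?_⟩
  · change m ^ n • (⊤ : Submodule A (E.X i ⧸ N)) = ⊥
    have : (m ^ n • (⊤ : Submodule A (E.X i))).map N.mkQ = ⊥ := by
      rw [← LinearMap.le_ker_iff_map, Submodule.ker_mkQ]
      exact le_sup_right
    rwa [Submodule.map_smul'', Submodule.map_top, Submodule.range_mkQ] at this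
  · intro h0
    apply hn
    have h1 : IsIso (L.iCycles i) := L.isIso_iCycles i _ rfl (by simp [L])
    have h2 : IsIso (L.homologyπ i) := L.isIso_homologyπ _ i rfl (by simp [L])
    have h3 : HomologicalComplex.cyclesMap g i = 0 := by
      rw [← cancel_mono (L.homologyπ i), zero_comp, ← HomologicalComplex.homologyπ_naturality, h0,
        comp_zero]
    have h4 : E.iCycles i ≫ φ = 0 := by
      have := HomologicalComplex.cyclesMap_i g i
      rw [h3, zero_comp, hgf] at this
      rw [← cancel_mono (HomologicalComplex.singleObjXSelf (ComplexShape.up ℤ) i X).inv, zero_comp,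
        Category.assoc, ← this]
    intro z hz
    have hz' : z = S.iCycles (S.moduleCatCyclesIso.inv ⟨z, hz⟩) := by
      rw [ShortComplex.moduleCatCyclesIso_inv_iCycles_apply]
      rfl
    have : φ.hom z = 0 := by
      rw [hz']
      exact congr($h4 (S.moduleCatCyclesIso.inv ⟨z, hz⟩))
    rwa [show φ.hom z = N.mkQ z from rfl, Submodule.mkQ_apply, Submodule.Quotient.mk_eq_zero] at this

end Groth.Agent.H84.TorsionTest
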