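import Groth.Agent.H84.TorsionTest
import Groth.Agent.H28.PCohRing2

/-!
# S6989: detecting `m Hⁱ(K) ≠ Hⁱ(K)` by a map to a shifted torsion module
-/

set_option autoImplicit false
set_option backward.isDefEq.respectTransparency false
set_option backward.isDefEq.respectTransparency.types false

universe u

open CategoryTheory CategoryTheory.Limits

attribute [local instance] HasDerivedCategory.standard

namespace Groth.Agent.H84.TorsionTest

open Groth.Agent.H28.PCohRing Groth.Agent.H28.PCohDer DerivedCategory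

theorem main (A : Type u) [CommRing A]
    [IsNoetherianRing A] (K : Dual.D A) (hb : ∃ b : ℤ, ∀ j : ℤ, b < j → Subsingleton (Dual.HD A K j))
    (hfin : ∀ j : ℤ, Module.Finite A (Dual.HD A K j)) (m : Ideal A) [m.IsMaximal] (i : ℤ)
    (hi : m • (⊤ : Submodule A (Dual.HD A K i)) ≠ ⊤) :
    ∃ (E : Type u) (_ : AddCommGroup E) (_ : Module A E) (_ : Module.Finite A E) (n : ℕ)
      (_ : m ^ n • (⊤ : Submodule A E) = ⊥) (f : K ⟶ (shiftFunctor (Dual.D A) (-i)).obj (Dual.inD A E)),
      (DerivedCategory.homologyFunctor (ModuleCat.{u} A) i).map f ≠ 0 := by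
  obtain ⟨b, hb⟩ := hb
  obtain ⟨E, ⟨-, hEP⟩, ⟨e⟩⟩ := (isNPC_iff_of_noetherian A i K).mpr
    ⟨⟨b, fun j hj => by
      have := hb j hj
      exact ModuleCat.isZero_of_subsingleton _⟩, fun j _ => hfin j⟩
  have hfinE : Module.Finite A (E.X i) := (hEP i le_rfl).1
  -- transfer the hypothesis to `E.homology i`
  let ι : (DerivedCategory.homologyFunctor (ModuleCat.{u} A) i).obj K ≅ E.homology i :=
    (DerivedCategory.homologyFunctor (ModuleCat.{u} A) i).mapIso e.symm ≪≫
      (DerivedCategory.homologyFunctorFactors (ModuleCat.{u} A) i).app E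
  have hE : m • (⊤ : Submodule A (E.homology i)) ≠ ⊤ := by
    intro h0
    apply hi
    exact smul_top_eq_top_of_surjective m ι.symm.toLinearEquiv.toLinearMap
      ι.symm.toLinearEquiv.surjective h0
  obtain ⟨n, X, hX, hXm, g, hg⟩ := exists_map_to_single E i m hE
  let σ : ((DerivedCategory.singleFunctor (ModuleCat.{u} A) 0).obj X)⟦-i⟧ ≅
      Q.obj ((HomologicalComplex.single (ModuleCat.{u} A) (ComplexShape.up ℤ) i).obj X) :=
    ((DerivedCategory.singleFunctors (ModuleCat.{u} A)).shiftIso (-i) i 0 (by lia)).app X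
  refine ⟨X, inferInstance, inferInstance, hX, n, hXm, e.inv ≫ Q.map g ≫ σ.inv, ?_⟩
  intro h0
  apply hg
  rw [Functor.map_comp, Functor.map_comp] at h0
  have h1 : (DerivedCategory.homologyFunctor (ModuleCat.{u} A) i).map (Q.map g) = 0 := by
    rw [← cancel_epi ((DerivedCategory.homologyFunctor (ModuleCat.{u} A) i).map e.inv),
      ← cancel_mono ((DerivedCategory.homologyFunctor (ModuleCat.{u} A) i).map σ.inv),
      Category.assoc, h0, comp_zero, zero_comp]
  have h2 := (DerivedCategory.homologyFunctorFactors (ModuleCat.{u} A) i).hom.naturality g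
  dsimp at h2
  rw [h1, zero_comp] at h2
  have h3 : (DerivedCategory.homologyFunctorFactors (ModuleCat.{u} A) i).hom.app E ≫
      HomologicalComplex.homologyMap g i = 0 := h2.symm
  exact (cancel_epi ((DerivedCategory.homologyFunctorFactors (ModuleCat.{u} A) i).hom.app E)).1
    (h3.trans comp_zero.symm)

end Groth.Agent.H84.TorsionTest
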