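import Mathlib.FieldTheory.IsAlgClosed.Classification
import Mathlib.RingTheory.AlgebraicIndependent.TranscendenceBasis

/-!
# Algebraically closed fields of the same transcendence degree over a common base ring
-/

set_option autoImplicit false
set_option linter.style.haveILetI false
universe u

namespace Groth.Agent.H84

open Cardinal

/-- Two algebraically closed fields (in the same universe) of the same transcendence degree over
a common base ring `R` acting faithfully are isomorphic by a ring isomorphism compatible with `R`. -/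
theorem exists_ringEquiv_of_trdeg_eq {R K L : Type u} [CommRing R] [Field K] [Field L]
    [Algebra R K] [Algebra R L] [IsAlgClosed K] [IsAlgClosed L] [FaithfulSMul R K] [FaithfulSMul R L]
    (h : Algebra.trdeg R K = Algebra.trdeg R L) :
    ∃ E : K ≃+* L, ∀ r : R, E (algebraMap R K r) = algebraMap R L r := by
  have hnt : Nontrivial R := RingHom.domain_nontrivial (algebraMap R K)
  obtain ⟨s, hs⟩ := exists_isTranscendenceBasis R K
  obtain ⟨t, ht⟩ := exists_isTranscendenceBasis R L
  have hcard : #s = #t := by rw [hs.cardinalMk_eq_trdeg, ht.cardinalMk_eq_trdeg, h]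
  obtain ⟨e⟩ := Cardinal.eq.mp hcard
  have := IsAlgClosed.isAlgClosure_of_transcendence_basis _ hs
  have := IsAlgClosed.isAlgClosure_of_transcendence_basis _ ht
  let e' : Algebra.adjoin R (Set.range ((↑) : s → K)) ≃ₐ[R]
      Algebra.adjoin R (Set.range ((↑) : t → L)) :=
    hs.1.aevalEquiv.symm.trans ((MvPolynomial.renameEquiv R e).trans ht.1.aevalEquiv)
  refine ⟨IsAlgClosure.equivOfEquiv K L e'.toRingEquiv, fun r => ?_⟩
  have h1 : algebraMap R K r = algebraMap (Algebra.adjoin R (Set.range ((↑) : s → K))) K
      (algebraMap R (Algebra.adjoin R (Set.range ((↑) : s → K))) r) := rfl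
  rw [h1, IsAlgClosure.equivOfEquiv_algebraMap]
  have h2 : e'.toRingEquiv (algebraMap R (Algebra.adjoin R (Set.range ((↑) : s → K))) r) =
      algebraMap R (Algebra.adjoin R (Set.range ((↑) : t → L))) r := e'.commutes r
  rw [h2]
  rfl

/-- Variant of `exists_ringEquiv_of_trdeg_eq` where the second field receives `R` through a ring
homomorphism `j` rather than an instance. -/
theorem exists_ringEquiv_of_trdeg_eq' {R K L : Type u} [CommRing R] [Field K] [Field L]
    [Algebra R K] [IsAlgClosed K] [IsAlgClosed L] [FaithfulSMul R K]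
    (j : R →+* L) (hj : Function.Injective j)
    (h : Algebra.trdeg R K = @Algebra.trdeg R L _ _ j.toAlgebra) :
    ∃ E : K ≃+* L, ∀ r : R, E (algebraMap R K r) = j r := by
  letI := j.toAlgebra
  have : FaithfulSMul R L := (faithfulSMul_iff_algebraMap_injective R L).mpr hj
  exact exists_ringEquiv_of_trdeg_eq h

/-- If `R₀` is a finitely generated algebra over a field `k₀` mapping injectively to an extension
field `k` of infinite transcendence degree over `k₀`, then `k` has the same transcendence degree
over `R₀`. -/
theorem trdeg_toAlgebra_eq {k₀ R₀ k : Type u} [Field k₀] [CommRing R₀] [Field k]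
    [Algebra k₀ R₀] [Algebra k₀ k] [Algebra.FiniteType k₀ R₀]
    (j : R₀ →+* k) (hj : Function.Injective j)
    (hcompat : ∀ x : k₀, j (algebraMap k₀ R₀ x) = algebraMap k₀ k x)
    (hκ : ℵ₀ ≤ Algebra.trdeg k₀ k) :
    @Algebra.trdeg R₀ k _ _ j.toAlgebra = Algebra.trdeg k₀ k := by
  letI := j.toAlgebra
  have hnt : Nontrivial R₀ := RingHom.domain_nontrivial j
  have t : IsScalarTower k₀ R₀ k := IsScalarTower.of_algebraMap_eq (fun x => (hcompat x).symm)
  have f1 : FaithfulSMul k₀ R₀ :=
    (faithfulSMul_iff_algebraMap_injective k₀ R₀).mpr (algebraMap k₀ R₀).injective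
  have f2 : FaithfulSMul R₀ k := (faithfulSMul_iff_algebraMap_injective R₀ k).mpr hj
  have hfin₀ : Algebra.trdeg k₀ R₀ < ℵ₀ := trdeg_lt_aleph0_of_finiteType
  exact Cardinal.eq_of_add_eq_of_aleph0_le (trdeg_add_eq k₀ R₀ (A := k)) (hfin₀.trans_le hκ) hκ

end Groth.Agent.H84
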