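import Groth.Agent.H84.UppOre
import Mathlib.CategoryTheory.Localization.CalculusOfFractions.Fractions

/-!
# The localisation `u_p 𝒮` is fibred over `D`
-/

set_option autoImplicit false
set_option backward.isDefEq.respectTransparency false
set_option backward.isDefEq.respectTransparency.types false
open CategoryTheory CategoryTheory.Limits
universe v₄ u₄ v₃ u₃ v₂ u₂ v u

namespace Groth.Agent.H84.UpFibered

open Groth.Agent.H32 Groth.Agent.H64 Groth.Agent.H84.StkConcrete Groth.Agent.H84.UppOre Stk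

section general

variable {E : Type u₃} [Category.{v₃} E] {E' : Type u₄} [Category.{v₄} E']
  (L : E ⥤ E') (W : MorphismProperty E) [L.IsLocalization W] [W.HasRightCalculusOfFractions]

/-- two morphisms of the localisation with the same source and target can be written with a
common denominator -/
theorem exists_common_denominator {X Y : E} (f₁ f₂ : L.obj X ⟶ L.obj Y) :
    ∃ (X' : E) (s : X' ⟶ X) (_ : W s) (n₁ n₂ : X' ⟶ Y),
      L.map s ≫ f₁ = L.map n₁ ∧ L.map s ≫ f₂ = L.map n₂ := by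
  obtain ⟨φ₁, h₁⟩ := Localization.exists_rightFraction L W f₁
  obtain ⟨φ₂, h₂⟩ := Localization.exists_rightFraction L W f₂
  have e₁ : L.map φ₁.s ≫ f₁ = L.map φ₁.f := by rw [h₁]; exact φ₁.map_s_comp_map L _
  have e₂ : L.map φ₂.s ≫ f₂ = L.map φ₂.f := by rw [h₂]; exact φ₂.map_s_comp_map L _
  obtain ⟨ψ, hψ⟩ := (MorphismProperty.LeftFraction.mk φ₁.s φ₂.s φ₂.hs).exists_rightFraction
  have hψ' : ψ.s ≫ φ₁.s = ψ.f ≫ φ₂.s := hψ
  refine ⟨_, ψ.s ≫ φ₁.s, W.comp_mem _ _ ψ.hs φ₁.hs, ψ.s ≫ φ₁.f, ψ.f ≫ φ₂.f, ?_, ?_⟩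
  · rw [L.map_comp, Category.assoc, e₁, ← L.map_comp]
  · rw [hψ', L.map_comp, Category.assoc, e₂, ← L.map_comp]

end general

section up

variable {C : Type u} [Category.{v} C] {D : Type u₂} [Category.{v₂} D] (u : C ⥤ D)
  (𝒮 : BasedCategory.{v₃, u₃} C)

/-- the structure functor of `u_p 𝒮` -/
noncomputable abbrev P : (uppR u 𝒮).Localization ⥤ D :=
  Localization.Construction.lift (UppObj.forget u 𝒮) (uppR_isInvertedBy u 𝒮)

theorem up_p : (up u 𝒮).p = P u 𝒮 := rfl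

theorem P_map_Q {a b : UppObj u 𝒮} (k : a ⟶ b) : (P u 𝒮).map ((uppR u 𝒮).Q.map k) = k.bot := by
  have := Functor.congr_hom
    (Localization.Construction.fac (UppObj.forget u 𝒮) (uppR_isInvertedBy u 𝒮)) k
  simpa using this

variable {u 𝒮}

/-- restriction of an object of `u_pp 𝒮` along an arrow of `D` -/
def resObj (a : UppObj u 𝒮) {R : D} (f : R ⟶ a.V) : UppObj u 𝒮 := ⟨a.x, R, f ≫ a.φ⟩

/-- the canonical morphism from a restriction -/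
def resHom (a : UppObj u 𝒮) {R : D} (f : R ⟶ a.V) : resObj a f ⟶ a where
  top := 𝟙 a.x
  bot := f
  w := by
    show (f ≫ a.φ) ≫ u.map (𝒮.p.map (𝟙 a.x)) = f ≫ a.φ
    rw [𝒮.p.map_id, u.map_id, Category.comp_id]

theorem Q_isIso {a b : UppObj u 𝒮} (s : a ⟶ b) (hs : uppR u 𝒮 s) :
    IsIso ((uppR u 𝒮).Q.map s) := (uppR u 𝒮).Q_inverts s hs

theorem isHomLift_of_map_eq {a b : UppObj u 𝒮} {χ : (uppR u 𝒮).Q.obj a ⟶ (uppR u 𝒮).Q.obj b}
    {g : a.V ⟶ b.V} (h : (P u 𝒮).map χ = g) : (P u 𝒮).IsHomLift g χ :=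
  h ▸ IsHomLift.map (P u 𝒮) χ

theorem map_eq_of_isHomLift {a b : UppObj u 𝒮} {χ : (uppR u 𝒮).Q.obj a ⟶ (uppR u 𝒮).Q.obj b}
    {g : a.V ⟶ b.V} (h : (P u 𝒮).IsHomLift g χ) : (P u 𝒮).map χ = g :=
  (IsHomLift.eq_of_isHomLift (P u 𝒮) (a := (uppR u 𝒮).Q.obj a) (b := (uppR u 𝒮).Q.obj b) g χ).symm

/-- the universal property of the canonical morphism from a restriction -/
theorem resHom_univ [(uppR u 𝒮).HasRightCalculusOfFractions] (a : UppObj u 𝒮) {R : D}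
    (f : R ⟶ a.V) (c₀ : UppObj u 𝒮) (g : c₀.V ⟶ R)
    (ψ : (uppR u 𝒮).Q.obj c₀ ⟶ (uppR u 𝒮).Q.obj a) (hPψ : (P u 𝒮).map ψ = g ≫ f) :
    ∃ χ₀ : (uppR u 𝒮).Q.obj c₀ ⟶ (uppR u 𝒮).Q.obj (resObj a f),
      ((P u 𝒮).map χ₀ = g ∧ χ₀ ≫ (uppR u 𝒮).Q.map (resHom a f) = ψ) ∧
      ∀ χ : (uppR u 𝒮).Q.obj c₀ ⟶ (uppR u 𝒮).Q.obj (resObj a f),
        (P u 𝒮).map χ = g → χ ≫ (uppR u 𝒮).Q.map (resHom a f) = ψ → χ = χ₀ := by
  obtain ⟨φ, hφ⟩ := Localization.exists_rightFraction (uppR u 𝒮).Q (uppR u 𝒮) ψ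
  have e₀ : (uppR u 𝒮).Q.map φ.s ≫ ψ = (uppR u 𝒮).Q.map φ.f := by
    rw [hφ]; exact φ.map_s_comp_map _ _
  have hbot : φ.f.bot = φ.s.bot ≫ g ≫ f := by
    have := congrArg (fun m => (P u 𝒮).map m) e₀
    simp only [Functor.map_comp, P_map_Q, hPψ] at this
    exact this.symm
  let m' : φ.X' ⟶ resObj a f :=
    { top := φ.f.top
      bot := φ.s.bot ≫ g
      w := by
        show φ.X'.φ ≫ u.map (𝒮.p.map φ.f.top) = (φ.s.bot ≫ g) ≫ f ≫ a.φ
        rw [φ.f.w, hbot]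
        simp only [Category.assoc] }
  have hm' : m' ≫ resHom a f = φ.f := by
    apply UppObj.hom_ext
    · exact Category.comp_id _
    · show (φ.s.bot ≫ g) ≫ f = φ.f.bot
      rw [hbot, Category.assoc]
  have is : IsIso ((uppR u 𝒮).Q.map φ.s) := Q_isIso φ.s φ.hs
  have isb : IsIso φ.s.bot := φ.hs.2
  have hχ₀fac : (inv ((uppR u 𝒮).Q.map φ.s) ≫ (uppR u 𝒮).Q.map m') ≫
      (uppR u 𝒮).Q.map (resHom a f) = ψ := by
    rw [← cancel_epi ((uppR u 𝒮).Q.map φ.s), Category.assoc, IsIso.hom_inv_id_assoc,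
      ← Functor.map_comp, hm', e₀]
  have hPχ₀ : (P u 𝒮).map (inv ((uppR u 𝒮).Q.map φ.s) ≫ (uppR u 𝒮).Q.map m') = g := by
    have h1 : (P u 𝒮).map ((uppR u 𝒮).Q.map φ.s) ≫
        (P u 𝒮).map (inv ((uppR u 𝒮).Q.map φ.s) ≫ (uppR u 𝒮).Q.map m') = φ.s.bot ≫ g := by
      rw [← Functor.map_comp, IsIso.hom_inv_id_assoc, P_map_Q]
    rw [P_map_Q] at h1
    exact (cancel_epi φ.s.bot).mp h1
  refine ⟨inv ((uppR u 𝒮).Q.map φ.s) ≫ (uppR u 𝒮).Q.map m', ⟨hPχ₀, hχ₀fac⟩, ?_⟩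
  intro χ hPχ hχ
  obtain ⟨c', s, hs, n₁, n₂, h₁, h₂⟩ := exists_common_denominator (uppR u 𝒮).Q (uppR u 𝒮) χ
    (inv ((uppR u 𝒮).Q.map φ.s) ≫ (uppR u 𝒮).Q.map m')
  have iss : IsIso ((uppR u 𝒮).Q.map s) := Q_isIso s hs
  have hn₁ : n₁.bot = s.bot ≫ g := by
    have := congrArg (fun m => (P u 𝒮).map m) h₁
    simp only [Functor.map_comp, P_map_Q, hPχ] at this
    exact this.symm
  have hn₂ : n₂.bot = s.bot ≫ g := by
    have := congrArg (fun m => (P u 𝒮).map m) h₂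
    rw [Functor.map_comp, hPχ₀, P_map_Q, P_map_Q] at this
    exact this.symm
  have hk : (uppR u 𝒮).Q.map (n₁ ≫ resHom a f) = (uppR u 𝒮).Q.map (n₂ ≫ resHom a f) := by
    rw [Functor.map_comp, Functor.map_comp, ← h₁, ← h₂, Category.assoc, Category.assoc, hχ,
      hχ₀fac]
  obtain ⟨c'', t, ht, htn⟩ :=
    (MorphismProperty.map_eq_iff_precomp (uppR u 𝒮).Q (uppR u 𝒮) _ _).mp hk
  have htn' : t ≫ n₁ = t ≫ n₂ := by
    apply UppObj.hom_ext
    · have h3 : (t ≫ n₁ ≫ resHom a f).top = (t ≫ n₂ ≫ resHom a f).top :=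
        congrArg UppObj.Hom.top htn
      have e1 : (t ≫ n₁ ≫ resHom a f).top = (t ≫ n₁).top :=
        congrArg (fun k => t.top ≫ k) (Category.comp_id n₁.top)
      have e2 : (t ≫ n₂ ≫ resHom a f).top = (t ≫ n₂).top :=
        congrArg (fun k => t.top ≫ k) (Category.comp_id n₂.top)
      rw [← e1, ← e2, h3]
    · show t.bot ≫ n₁.bot = t.bot ≫ n₂.bot
      rw [hn₁, hn₂]
  have ist : IsIso ((uppR u 𝒮).Q.map t) := Q_isIso t ht
  have hQn : (uppR u 𝒮).Q.map n₁ = (uppR u 𝒮).Q.map n₂ := by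
    rw [← cancel_epi ((uppR u 𝒮).Q.map t), ← Functor.map_comp, ← Functor.map_comp, htn']
  rw [← cancel_epi ((uppR u 𝒮).Q.map s), h₁, h₂, hQn]

/-- the image in `u_p 𝒮` of the canonical morphism from a restriction is strongly cartesian -/
theorem Q_resHom_cart [(uppR u 𝒮).HasRightCalculusOfFractions] (a : UppObj u 𝒮) {R : D}
    (f : R ⟶ a.V) : (P u 𝒮).IsStronglyCartesian f ((uppR u 𝒮).Q.map (resHom a f)) := by
  have hl : (P u 𝒮).IsHomLift f ((uppR u 𝒮).Q.map (resHom a f)) :=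
    isHomLift_of_map_eq (a := resObj a f) (b := a) (P_map_Q u 𝒮 (resHom a f))
  refine { toIsHomLift := hl, universal_property' := ?_ }
  intro c g ψ hψ
  obtain ⟨c₀, rfl⟩ := (Localization.Construction.objEquiv (uppR u 𝒮)).surjective c
  change c₀.V ⟶ R at g
  change (uppR u 𝒮).Q.obj c₀ ⟶ (uppR u 𝒮).Q.obj a at ψ
  have hPψ : (P u 𝒮).map ψ = g ≫ f := map_eq_of_isHomLift (a := c₀) (b := a) hψ
  obtain ⟨χ₀, ⟨h1, h2⟩, huniq⟩ := resHom_univ a f c₀ g ψ hPψ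
  refine ⟨χ₀, ⟨isHomLift_of_map_eq (a := c₀) (b := resObj a f) h1, h2⟩, ?_⟩
  rintro χ ⟨hχl, hχ⟩
  exact huniq χ (map_eq_of_isHomLift (a := c₀) (b := resObj a f) hχl) hχ

variable (u 𝒮)

/-- the localisation `u_p 𝒮` is fibred over `D` -/
theorem isFibered_up [𝒮.p.IsFibered]
    (hC : ∀ (I : Type) [SmallCategory I] [FinCategory I], Nonempty I → HasLimitsOfShape I C)
    (hu : ∀ (I : Type) [SmallCategory I] [FinCategory I], Nonempty I → PreservesLimitsOfShape I u) :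
    (Stk.up u 𝒮).p.IsFibered := by
  have := hasRightCalculusOfFractions_uppR u 𝒮 hC hu
  show (P u 𝒮).IsFibered
  apply Functor.IsFibered.of_exists_isStronglyCartesian
  intro a R f
  obtain ⟨a₀, rfl⟩ := (Localization.Construction.objEquiv (uppR u 𝒮)).surjective a
  exact ⟨(uppR u 𝒮).Q.obj (resObj a₀ f), (uppR u 𝒮).Q.map (resHom a₀ f), Q_resHom_cart a₀ f⟩

/-- the localisation `u_p 𝒮` of a category fibred in groupoids is fibred in groupoids over `D` -/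
theorem isFibGrpd_up (h𝒮 : FibCat.IsFibGrpd 𝒮.p)
    (hC : ∀ (I : Type) [SmallCategory I] [FinCategory I], Nonempty I → HasLimitsOfShape I C)
    (hu : ∀ (I : Type) [SmallCategory I] [FinCategory I], Nonempty I → PreservesLimitsOfShape I u) :
    FibCat.IsFibGrpd (Stk.up u 𝒮).p := by
  have hfib : 𝒮.p.IsFibered := isFibered_of_fibGrpd _ h𝒮
  have := hasRightCalculusOfFractions_uppR u 𝒮 hC hu
  show FibCat.IsFibGrpd (P u 𝒮)
  refine ⟨?_, ?_⟩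
  · intro a R f
    obtain ⟨a₀, rfl⟩ := (Localization.Construction.objEquiv (uppR u 𝒮)).surjective a
    exact ⟨(uppR u 𝒮).Q.obj (resObj a₀ f), (uppR u 𝒮).Q.map (resHom a₀ f),
      (Q_resHom_cart a₀ f).toIsHomLift⟩
  · intro c a ψ
    obtain ⟨c₀, rfl⟩ := (Localization.Construction.objEquiv (uppR u 𝒮)).surjective c
    obtain ⟨a₀, rfl⟩ := (Localization.Construction.objEquiv (uppR u 𝒮)).surjective a
    change (uppR u 𝒮).Q.obj c₀ ⟶ (uppR u 𝒮).Q.obj a₀ at ψ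
    obtain ⟨φ, hφ⟩ := Localization.exists_rightFraction (uppR u 𝒮).Q (uppR u 𝒮) ψ
    have e₀ : (uppR u 𝒮).Q.map φ.s ≫ ψ = (uppR u 𝒮).Q.map φ.f := by
      rw [hφ]; exact φ.map_s_comp_map _ _
    let m₁ : φ.X' ⟶ resObj a₀ φ.f.bot :=
      { top := φ.f.top
        bot := 𝟙 _
        w := by
          show φ.X'.φ ≫ u.map (𝒮.p.map φ.f.top) = 𝟙 _ ≫ φ.f.bot ≫ a₀.φ
          rw [φ.f.w, Category.id_comp] }
    have hm₁ : uppR u 𝒮 m₁ := ⟨h𝒮.isStronglyCartesian φ.f.top, (inferInstance : IsIso (𝟙 φ.X'.V))⟩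
    have hfac : m₁ ≫ resHom a₀ φ.f.bot = φ.f := by
      apply UppObj.hom_ext
      · exact Category.comp_id _
      · exact Category.id_comp _
    have is : IsIso ((uppR u 𝒮).Q.map φ.s) := Q_isIso φ.s φ.hs
    have im : IsIso ((uppR u 𝒮).Q.map m₁) := Q_isIso m₁ hm₁
    have hψ : ψ = (inv ((uppR u 𝒮).Q.map φ.s) ≫ (uppR u 𝒮).Q.map m₁) ≫
        (uppR u 𝒮).Q.map (resHom a₀ φ.f.bot) := by
      rw [← cancel_epi ((uppR u 𝒮).Q.map φ.s), e₀, Category.assoc, IsIso.hom_inv_id_assoc,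
        ← Functor.map_comp, hfac]
    have iθ : IsIso (inv ((uppR u 𝒮).Q.map φ.s) ≫ (uppR u 𝒮).Q.map m₁) := inferInstance
    have hc₁ : (P u 𝒮).IsStronglyCartesian
        ((P u 𝒮).map (inv ((uppR u 𝒮).Q.map φ.s) ≫ (uppR u 𝒮).Q.map m₁))
        (inv ((uppR u 𝒮).Q.map φ.s) ≫ (uppR u 𝒮).Q.map m₁) :=
      Functor.IsStronglyCartesian.of_isIso (P u 𝒮) _ _
    have hc₂ := Q_resHom_cart a₀ φ.f.bot
    have hc : (P u 𝒮).IsStronglyCartesian
        ((P u 𝒮).map (inv ((uppR u 𝒮).Q.map φ.s) ≫ (uppR u 𝒮).Q.map m₁) ≫ φ.f.bot)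
        ((inv ((uppR u 𝒮).Q.map φ.s) ≫ (uppR u 𝒮).Q.map m₁) ≫
          (uppR u 𝒮).Q.map (resHom a₀ φ.f.bot)) := inferInstance
    have hmap : (P u 𝒮).map ψ =
        (P u 𝒮).map (inv ((uppR u 𝒮).Q.map φ.s) ≫ (uppR u 𝒮).Q.map m₁) ≫ φ.f.bot := by
      rw [hψ, Functor.map_comp, P_map_Q]
      rfl
    rw [hmap]
    exact hψ ▸ hc

end up

end Groth.Agent.H84.UpFibered
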