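import Groth.Prelude.Def_W4stkalgstUpp
import Groth.Agent.H84.StkConcrete
import Mathlib.CategoryTheory.Localization.CalculusOfFractions
import Mathlib.CategoryTheory.Limits.Preserves.Shapes.Equalizers
import Mathlib.CategoryTheory.Limits.Preserves.Shapes.Pullbacks

/-!
# The class `R` of `u_pp 𝒮` admits a right calculus of fractions
-/

set_option autoImplicit false
set_option backward.isDefEq.respectTransparency false
set_option backward.isDefEq.respectTransparency.types false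
open CategoryTheory CategoryTheory.Limits
universe v₃ u₃ v₂ u₂ v u

namespace Groth.Agent.H84.UppOre

open Groth.Agent.H32 Groth.Agent.H64 Groth.Agent.H84.StkConcrete Stk

variable {C : Type u} [Category.{v} C] {D : Type u₂} [Category.{v₂} D] (u : C ⥤ D)
  (𝒮 : BasedCategory.{v₃, u₃} C)

theorem uppR_id (a : UppObj u 𝒮) : uppR u 𝒮 (𝟙 a) := by
  refine ⟨?_, ?_⟩
  · show 𝒮.p.IsStronglyCartesian (𝒮.p.map (𝟙 a.x)) (𝟙 a.x)
    rw [𝒮.p.map_id]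
    infer_instance
  · show IsIso (𝟙 a.V)
    infer_instance

theorem uppR_comp {a b c : UppObj u 𝒮} (f : a ⟶ b) (g : b ⟶ c) (hf : uppR u 𝒮 f)
    (hg : uppR u 𝒮 g) : uppR u 𝒮 (f ≫ g) := by
  obtain ⟨hf1, hf2⟩ := hf
  obtain ⟨hg1, hg2⟩ := hg
  refine ⟨?_, ?_⟩
  · show 𝒮.p.IsStronglyCartesian (𝒮.p.map (f.top ≫ g.top)) (f.top ≫ g.top)
    rw [𝒮.p.map_comp]
    infer_instance
  · show IsIso (f.bot ≫ g.bot)
    infer_instance

instance : (uppR u 𝒮).IsMultiplicative where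
  id_mem a := uppR_id u 𝒮 a
  comp_mem f g hf hg := uppR_comp u 𝒮 f g hf hg

section bc

variable {u 𝒮} [𝒮.p.IsFibered]

open Functor.IsPreFibered in
/-- base change of an object of `u_pp 𝒮` along an arrow of `C` through which its structure
morphism factors -/
noncomputable def bcObj (a : UppObj u 𝒮) {P : C} (π : P ⟶ 𝒮.p.obj a.x) (ψ : a.V ⟶ u.obj P) :
    UppObj u 𝒮 :=
  ⟨pullbackObj (p := 𝒮.p) rfl π, a.V,
    ψ ≫ eqToHom (congrArg u.obj (pullbackObj_proj (p := 𝒮.p) rfl π).symm)⟩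

open Functor.IsPreFibered in
theorem bcObj_proj (a : UppObj u 𝒮) {P : C} (π : P ⟶ 𝒮.p.obj a.x) (ψ : a.V ⟶ u.obj P) :
    𝒮.p.obj (bcObj a π ψ).x = P := pullbackObj_proj (p := 𝒮.p) rfl π

open Functor.IsPreFibered in
/-- the chosen cartesian morphism -/
noncomputable def bcTop (a : UppObj u 𝒮) {P : C} (π : P ⟶ 𝒮.p.obj a.x) (ψ : a.V ⟶ u.obj P) :
    (bcObj a π ψ).x ⟶ a.x := pullbackMap (p := 𝒮.p) rfl π

open Functor.IsPreFibered in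
theorem bcTop_cart (a : UppObj u 𝒮) {P : C} (π : P ⟶ 𝒮.p.obj a.x) (ψ : a.V ⟶ u.obj P) :
    𝒮.p.IsStronglyCartesian π (bcTop a π ψ) := by
  have : 𝒮.p.IsCartesian π (pullbackMap (p := 𝒮.p) rfl π) := inferInstance
  exact (inferInstance : 𝒮.p.IsStronglyCartesian π (pullbackMap (p := 𝒮.p) rfl π))

theorem bcTop_map (a : UppObj u 𝒮) {P : C} (π : P ⟶ 𝒮.p.obj a.x) (ψ : a.V ⟶ u.obj P) :
    𝒮.p.map (bcTop a π ψ) = eqToHom (bcObj_proj a π ψ) ≫ π := by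
  have h := (bcTop_cart a π ψ).toIsHomLift
  have := IsHomLift.fac' 𝒮.p π (bcTop a π ψ)
  rw [this]
  simp

/-- morphisms out of a base change -/
noncomputable def bcHomMk (a : UppObj u 𝒮) {P : C} (π : P ⟶ 𝒮.p.obj a.x) (ψ : a.V ⟶ u.obj P)
    {b : UppObj u 𝒮} (k : (bcObj a π ψ).x ⟶ b.x) (π₂ : P ⟶ 𝒮.p.obj b.x)
    (hk : 𝒮.p.IsHomLift π₂ k) (β : a.V ⟶ b.V) (hβ : ψ ≫ u.map π₂ = β ≫ b.φ) :
    bcObj a π ψ ⟶ b where
  top := k
  bot := β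
  w := by
    have hfac := IsHomLift.fac' 𝒮.p π₂ k
    show (ψ ≫ eqToHom _) ≫ u.map (𝒮.p.map k) = β ≫ b.φ
    rw [hfac, ← hβ]
    simp [eqToHom_map]

/-- the canonical morphism from a base change -/
noncomputable def bcHom (a : UppObj u 𝒮) {P : C} (π : P ⟶ 𝒮.p.obj a.x) (ψ : a.V ⟶ u.obj P)
    (hψ : ψ ≫ u.map π = a.φ) : bcObj a π ψ ⟶ a :=
  bcHomMk a π ψ (bcTop a π ψ) π (bcTop_cart a π ψ).toIsHomLift (𝟙 _) (by rw [hψ, Category.id_comp])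

theorem bcHom_mem (a : UppObj u 𝒮) {P : C} (π : P ⟶ 𝒮.p.obj a.x) (ψ : a.V ⟶ u.obj P)
    (hψ : ψ ≫ u.map π = a.φ) : uppR u 𝒮 (bcHom a π ψ hψ) := by
  refine ⟨?_, ?_⟩
  · show 𝒮.p.IsStronglyCartesian (𝒮.p.map (bcTop a π ψ)) (bcTop a π ψ)
    have := bcTop_cart a π ψ
    exact strong_map_of_strong 𝒮.p π _
  · show IsIso (𝟙 a.V)
    infer_instance

end bc

section ore

variable [𝒮.p.IsFibered]

theorem ore [HasPullbacks C] [PreservesLimitsOfShape WalkingCospan u] {a b b' : UppObj u 𝒮}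
    (f : a ⟶ b') (s : b ⟶ b') (hs : uppR u 𝒮 s) :
    ∃ (a' : UppObj u 𝒮) (t : a' ⟶ a) (_ : uppR u 𝒮 t) (g : a' ⟶ b), t ≫ f = g ≫ s := by
  obtain ⟨hs1, hs2⟩ := hs
  let π₁ := pullback.fst (𝒮.p.map f.top) (𝒮.p.map s.top)
  let π₂ := pullback.snd (𝒮.p.map f.top) (𝒮.p.map s.top)
  have hcond : π₁ ≫ 𝒮.p.map f.top = π₂ ≫ 𝒮.p.map s.top := pullback.condition
  have hPB : IsPullback (u.map π₁) (u.map π₂) (u.map (𝒮.p.map f.top)) (u.map (𝒮.p.map s.top)) :=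
    (IsPullback.of_hasPullback (𝒮.p.map f.top) (𝒮.p.map s.top)).map u
  have hw : a.φ ≫ u.map (𝒮.p.map f.top) =
      (f.bot ≫ inv s.bot ≫ b.φ) ≫ u.map (𝒮.p.map s.top) := by
    rw [f.w, Category.assoc, Category.assoc, s.w, IsIso.inv_hom_id_assoc]
  obtain ⟨ψ, hψ₁, hψ₂⟩ : ∃ ψ : a.V ⟶ u.obj (pullback (𝒮.p.map f.top) (𝒮.p.map s.top)),
      ψ ≫ u.map π₁ = a.φ ∧ ψ ≫ u.map π₂ = f.bot ≫ inv s.bot ≫ b.φ :=
    ⟨hPB.lift _ _ hw, hPB.lift_fst _ _ hw, hPB.lift_snd _ _ hw⟩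
  have hl : 𝒮.p.IsHomLift (π₂ ≫ 𝒮.p.map s.top) (bcTop a π₁ ψ ≫ f.top) :=
    lift_of_eq 𝒮.p (lift_comp 𝒮.p (bcTop_cart a π₁ ψ).toIsHomLift (lift_map 𝒮.p f.top)) hcond
  let g : bcObj a π₁ ψ ⟶ b :=
    bcHomMk a π₁ ψ (cartLift 𝒮.p hs1 π₂ _ hl) π₂ (cartLift_lift 𝒮.p hs1 π₂ _ hl)
      (f.bot ≫ inv s.bot) (by rw [hψ₂, Category.assoc])
  refine ⟨bcObj a π₁ ψ, bcHom a π₁ ψ hψ₁, bcHom_mem a π₁ ψ hψ₁, g, ?_⟩
  apply UppObj.hom_ext
  · exact (cartLift_fac 𝒮.p hs1 π₂ _ hl).symm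
  · show 𝟙 _ ≫ f.bot = (f.bot ≫ inv s.bot) ≫ s.bot
    rw [Category.id_comp, Category.assoc, IsIso.inv_hom_id, Category.comp_id]

theorem ext_cond [HasEqualizers C] [PreservesLimitsOfShape WalkingParallelPair u]
    {a b b' : UppObj u 𝒮} (f₁ f₂ : a ⟶ b) (s : b ⟶ b') (hs : uppR u 𝒮 s)
    (h : f₁ ≫ s = f₂ ≫ s) :
    ∃ (a' : UppObj u 𝒮) (t : a' ⟶ a) (_ : uppR u 𝒮 t), t ≫ f₁ = t ≫ f₂ := by
  obtain ⟨hs1, hs2⟩ := hs
  have hbot : f₁.bot = f₂.bot := by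
    have : f₁.bot ≫ s.bot = f₂.bot ≫ s.bot := congrArg UppObj.Hom.bot h
    exact (cancel_mono s.bot).mp this
  have htop : f₁.top ≫ s.top = f₂.top ≫ s.top := congrArg UppObj.Hom.top h
  let ι := equalizer.ι (𝒮.p.map f₁.top) (𝒮.p.map f₂.top)
  have hι : ι ≫ 𝒮.p.map f₁.top = ι ≫ 𝒮.p.map f₂.top := equalizer.condition _ _
  have hw : a.φ ≫ u.map (𝒮.p.map f₁.top) = a.φ ≫ u.map (𝒮.p.map f₂.top) := by
    rw [f₁.w, f₂.w, hbot]
  have hlim : IsLimit (Fork.ofι (u.map ι) (by rw [← u.map_comp, hι, u.map_comp]) :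
      Fork (u.map (𝒮.p.map f₁.top)) (u.map (𝒮.p.map f₂.top))) :=
    isLimitForkMapOfIsLimit u hι (equalizerIsEqualizer _ _)
  obtain ⟨ψ, hψ⟩ := Fork.IsLimit.lift' hlim a.φ hw
  have hψ' : ψ ≫ u.map ι = a.φ := hψ
  refine ⟨bcObj a ι ψ, bcHom a ι ψ hψ', bcHom_mem a ι ψ hψ', ?_⟩
  apply UppObj.hom_ext
  · show bcTop a ι ψ ≫ f₁.top = bcTop a ι ψ ≫ f₂.top
    have h1 : 𝒮.p.IsHomLift (ι ≫ 𝒮.p.map f₁.top) (bcTop a ι ψ ≫ f₁.top) :=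
      lift_comp 𝒮.p (bcTop_cart a ι ψ).toIsHomLift (lift_map 𝒮.p f₁.top)
    have h2 : 𝒮.p.IsHomLift (ι ≫ 𝒮.p.map f₁.top) (bcTop a ι ψ ≫ f₂.top) :=
      lift_of_eq 𝒮.p (lift_comp 𝒮.p (bcTop_cart a ι ψ).toIsHomLift (lift_map 𝒮.p f₂.top)) hι.symm
    -- both lie over the same arrow and agree after the strongly cartesian `s.top`
    obtain ⟨χ, -, huniq⟩ := Functor.IsStronglyCartesian.universal_property 𝒮.p
      (𝒮.p.map s.top) s.top (ι ≫ 𝒮.p.map f₁.top) ((ι ≫ 𝒮.p.map f₁.top) ≫ 𝒮.p.map s.top) rfl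
      ((bcTop a ι ψ ≫ f₁.top) ≫ s.top)
    have e1 := huniq (bcTop a ι ψ ≫ f₁.top) ⟨h1, rfl⟩
    have e2 := huniq (bcTop a ι ψ ≫ f₂.top) ⟨h2, by rw [Category.assoc, ← htop, Category.assoc]⟩
    rw [e1, e2]
  · show 𝟙 _ ≫ f₁.bot = 𝟙 _ ≫ f₂.bot
    rw [hbot]

end ore

theorem hasRightCalculusOfFractions_uppR [𝒮.p.IsFibered]
    (hC : ∀ (I : Type) [SmallCategory I] [FinCategory I], Nonempty I → HasLimitsOfShape I C)
    (hu : ∀ (I : Type) [SmallCategory I] [FinCategory I], Nonempty I → PreservesLimitsOfShape I u) :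
    (uppR u 𝒮).HasRightCalculusOfFractions := by
  have : HasPullbacks C := hC WalkingCospan ⟨WalkingCospan.one⟩
  have : PreservesLimitsOfShape WalkingCospan u := hu WalkingCospan ⟨WalkingCospan.one⟩
  have : HasEqualizers C := hC WalkingParallelPair ⟨WalkingParallelPair.zero⟩
  have : PreservesLimitsOfShape WalkingParallelPair u :=
    hu WalkingParallelPair ⟨WalkingParallelPair.zero⟩
  exact
    { exists_rightFraction := fun X Y φ => by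
        obtain ⟨a', t, ht, g, e⟩ := ore u 𝒮 φ.f φ.s φ.hs
        exact ⟨⟨t, ht, g⟩, e⟩
      ext := fun X Y Y' f₁ f₂ s hs h => ext_cond u 𝒮 f₁ f₂ s hs h }

end Groth.Agent.H84.UppOre
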