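import Mathlib

set_option autoImplicit false
open CategoryTheory CategoryTheory.Limits Opposite
universe u

namespace Groth.Agent.H84.WeaklyContractible

variable {C : Type u} [SmallCategory C] (J : GrothendieckTopology C) (U : C)

/-- The presheaf coproduct of the representables over a sieve. -/
noncomputable abbrev P (S : Sieve U) : Cᵒᵖ ⥤ Type u :=
  ∐ fun i : (Σ V : C, {f : V ⟶ U // S f}) => yoneda.obj i.1

noncomputable abbrev σ (S : Sieve U) : P U S ⟶ yoneda.obj U :=
  Sigma.desc (fun i : (Σ V : C, {f : V ⟶ U // S f}) => yoneda.map i.2.1)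

theorem σ_locSurj (S : Sieve U) (hS : S ∈ J U) : Presheaf.IsLocallySurjective J (σ U S) := by
  constructor
  intro X t
  refine J.superset_covering ?_ (J.pullback_stable t hS)
  intro Y g hg
  let i : (Σ V : C, {f : V ⟶ U // S f}) := ⟨Y, g ≫ t, hg⟩
  refine ⟨(Sigma.ι (fun i : (Σ V : C, {f : V ⟶ U // S f}) => yoneda.obj i.1) i).app (op Y) (𝟙 Y), ?_⟩
  have h1 := congrFun (congrArg (fun α => α.app (op Y))
    (Sigma.ι_desc (fun i : (Σ V : C, {f : V ⟶ U // S f}) => yoneda.map i.2.1) i)) (𝟙 Y)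
  simp only [NatTrans.comp_app_apply] at h1
  rw [h1]
  simp [i]

theorem forward
    (H : ∀ S : Sieve U, S ∈ J U → IsSplitEpi ((presheafToSheaf J (Type u)).map (σ U S)))
    (F G : Sheaf J (Type u)) (φ : F ⟶ G) (hφ : Epi φ) :
    Function.Surjective (φ.hom.app (op U)) := by
  intro t
  let A := sheafificationAdjunction J (Type u)
  have hls : Sheaf.IsLocallySurjective φ := (Sheaf.isLocallySurjective_iff_epi φ).mpr hφ
  let S : Sieve U := Presheaf.imageSieve φ.hom t
  have hS : S ∈ J U := Presheaf.imageSieve_mem J φ.hom (U := op U) t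
  have hsplit := H S hS
  choose s hs using fun i : (Σ V : C, {f : V ⟶ U // S f}) => i.2.2
  let ψ : P U S ⟶ F.obj := Sigma.desc (fun i => yonedaEquiv.symm (s i))
  let τ : yoneda.obj U ⟶ G.obj := yonedaEquiv.symm t
  have hψ : ψ ≫ φ.hom = σ U S ≫ τ := by
    apply Sigma.hom_ext
    intro i
    rw [Sigma.ι_desc_assoc, Sigma.ι_desc_assoc]
    apply yonedaEquiv.injective
    rw [yonedaEquiv_comp, yonedaEquiv_comp, Equiv.apply_symm_apply]
    simp only [τ]
    rw [hs i]
    rw [yonedaEquiv_yoneda_map]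
    exact (yonedaEquiv_symm_app_apply _ _ _).symm
  let sec := section_ ((presheafToSheaf J (Type u)).map (σ U S))
  have hsec : sec ≫ (presheafToSheaf J (Type u)).map (σ U S) = 𝟙 _ := IsSplitEpi.id _
  let ψ' : (presheafToSheaf J (Type u)).obj (P U S) ⟶ F := (A.homEquiv _ _).symm ψ
  refine ⟨yonedaEquiv (A.homEquiv _ _ (sec ≫ ψ')), ?_⟩
  have h1 : ψ' ≫ φ = (presheafToSheaf J (Type u)).map (σ U S) ≫ (A.homEquiv _ G).symm τ := by
    apply (A.homEquiv _ _).injective
    rw [A.homEquiv_naturality_right, A.homEquiv_naturality_left]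
    simp only [ψ', Equiv.apply_symm_apply]
    exact hψ
  have h2 : A.homEquiv _ _ (sec ≫ ψ') ≫ φ.hom = τ := by
    have : A.homEquiv _ _ (sec ≫ ψ') ≫ (sheafToPresheaf J (Type u)).map φ =
        A.homEquiv _ _ ((sec ≫ ψ') ≫ φ) := (A.homEquiv_naturality_right _ _).symm
    change A.homEquiv _ _ (sec ≫ ψ') ≫ (sheafToPresheaf J (Type u)).map φ = τ
    rw [this, Category.assoc, h1, reassoc_of% hsec, Equiv.apply_symm_apply]
  have h3 := congrArg yonedaEquiv h2
  rw [yonedaEquiv_comp] at h3
  simpa [τ] using h3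

theorem backward
    (H : ∀ (F G : Sheaf J (Type u)) (φ : F ⟶ G), Epi φ → Function.Surjective (φ.hom.app (op U)))
    (S : Sieve U) (hS : S ∈ J U) :
    IsSplitEpi ((presheafToSheaf J (Type u)).map (σ U S)) := by
  let A := sheafificationAdjunction J (Type u)
  have hls : Sheaf.IsLocallySurjective ((presheafToSheaf J (Type u)).map (σ U S)) := by
    rw [Presheaf.isLocallySurjective_presheafToSheaf_map_iff]
    exact σ_locSurj J U S hS
  have hepi : Epi ((presheafToSheaf J (Type u)).map (σ U S)) :=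
    (Sheaf.isLocallySurjective_iff_epi _).mp hls
  let η : yoneda.obj U ⟶ ((presheafToSheaf J (Type u)).obj (yoneda.obj U)).obj :=
    A.unit.app (yoneda.obj U)
  obtain ⟨p, hp⟩ := H _ _ ((presheafToSheaf J (Type u)).map (σ U S)) hepi (yonedaEquiv η)
  let sec : (presheafToSheaf J (Type u)).obj (yoneda.obj U) ⟶
      (presheafToSheaf J (Type u)).obj (P U S) := (A.homEquiv _ _).symm (yonedaEquiv.symm p)
  refine ⟨⟨sec, ?_⟩⟩
  apply (A.homEquiv _ _).injective
  rw [A.homEquiv_naturality_right]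
  have hsec : A.homEquiv _ _ sec = yonedaEquiv.symm p := Equiv.apply_symm_apply _ _
  rw [hsec]
  have : yonedaEquiv.symm p ≫
      (sheafToPresheaf J (Type u)).map ((presheafToSheaf J (Type u)).map (σ U S)) = η := by
    apply yonedaEquiv.injective
    rw [yonedaEquiv_comp, Equiv.apply_symm_apply]
    exact hp
  rw [this]
  exact (A.homEquiv_id _).symm

end Groth.Agent.H84.WeaklyContractible
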