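import Mathlib.RingTheory.WittVector.Complete
import Mathlib.RingTheory.WittVector.Frobenius
import Mathlib.RingTheory.Nakayama
import Mathlib.LinearAlgebra.Dimension.OrzechProperty
import Mathlib.LinearAlgebra.FreeModule.Finite.Basic
import Mathlib.LinearAlgebra.FreeModule.StrongRankCondition
import Groth.Agent.H84.FrobFixed

set_option autoImplicit false
universe u v

namespace Groth.Agent.H84

section abstract

variable {R : Type u} [CommRing R] (π : R) {M : Type v} [AddCommGroup M] [Module R M]

/-- Successive approximation: an additive map commuting with `π` which is surjective modulo `π`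
is surjective on a `π`-adically separated and complete module. -/
theorem surjective_of_surjective_mod
    (hH : ∀ m : M, (∀ j : ℕ, ∃ z : M, m = π ^ j • z) → m = 0)
    (hC : ∀ x : ℕ → M, (∀ j, ∃ t : M, x (j + 1) = x j + π ^ j • t) →
      ∃ L : M, ∀ j, ∃ z : M, L = x j + π ^ j • z)
    (G : M →+ M) (hG : ∀ m, G (π • m) = π • G m)
    (hS : ∀ y : M, ∃ t z : M, G t = y + π • z) (y : M) : ∃ x : M, G x = y := by
  classical
  choose tS zS hS' using hS
  have hGpow : ∀ (j : ℕ) (m : M), G (π ^ j • m) = π ^ j • G m := by
    intro j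
    induction j with
    | zero => intro m; simp
    | succ j ih =>
      intro m
      rw [pow_succ, mul_smul, ih, hG, ← mul_smul]
  -- the sequence of pairs
  let step : ℕ → M × M → M × M := fun j xz => (xz.1 + π ^ j • tS xz.2, - zS xz.2)
  let seq : ℕ → M × M := fun n => Nat.rec (0, y) (fun j xz => step j xz) n
  have seq_succ : ∀ j, seq (j + 1) = step j (seq j) := fun j => rfl
  have hinv : ∀ j, y - G (seq j).1 = π ^ j • (seq j).2 := by
    intro j
    induction j with
    | zero => simp [seq]
    | succ j ih =>
      rw [seq_succ]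
      simp only [step]
      rw [map_add, hGpow, hS', ← sub_sub, ih, smul_add, pow_succ, mul_smul, smul_neg]
      rw [sub_add_cancel_left, smul_neg]
  obtain ⟨L, hL⟩ := hC (fun j => (seq j).1) (fun j => ⟨tS (seq j).2, by rw [seq_succ]⟩)
  refine ⟨L, ?_⟩
  have : y - G L = 0 := by
    apply hH
    intro j
    obtain ⟨z, hz⟩ := hL j
    refine ⟨(seq j).2 - G z, ?_⟩
    rw [hz, map_add, hGpow, ← sub_sub, hinv j, smul_sub]
  exact (sub_eq_zero.mp this).symm

end abstract

end Groth.Agent.H84

namespace Groth.Agent.H84

section complete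

variable {R : Type u} [CommRing R] (π : R) [IsAdicComplete (Ideal.span {π}) R]

theorem ring_haus (a : R) (h : ∀ j : ℕ, ∃ z : R, a = π ^ j * z) : a = 0 := by
  apply IsHausdorff.haus' (I := Ideal.span {π}) a
  intro n
  rw [SModEq.zero, smul_eq_mul, Ideal.mul_top, Ideal.span_singleton_pow, Ideal.mem_span_singleton]
  obtain ⟨z, hz⟩ := h n
  exact ⟨z, hz⟩

theorem ring_complete (x : ℕ → R) (h : ∀ j, ∃ t : R, x (j + 1) = x j + π ^ j * t) :
    ∃ L : R, ∀ j, ∃ z : R, L = x j + π ^ j * z := by
  have hcauchy : ∀ {m n : ℕ}, m ≤ n →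
      x m ≡ x n [SMOD (Ideal.span {π} ^ m • ⊤ : Submodule R R)] := by
    intro m n hmn
    induction n, hmn using Nat.le_induction with
    | base => exact SModEq.refl _
    | succ n hmn ih =>
      refine ih.trans ?_
      rw [SModEq.sub_mem, smul_eq_mul, Ideal.mul_top, Ideal.span_singleton_pow,
        Ideal.mem_span_singleton]
      obtain ⟨t, ht⟩ := h n
      have e1 : x n - x (n + 1) = -(π ^ n * t) := by rw [ht]; ring
      rw [e1]
      exact ((pow_dvd_pow π hmn).mul_right t).neg_right
  obtain ⟨L, hL⟩ := IsPrecomplete.prec' (I := Ideal.span {π}) x hcauchy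
  refine ⟨L, fun j => ?_⟩
  have := hL j
  rw [SModEq.sub_mem, smul_eq_mul, Ideal.mul_top, Ideal.span_singleton_pow,
    Ideal.mem_span_singleton] at this
  obtain ⟨z, hz⟩ := this
  exact ⟨-z, by linear_combination -hz⟩

variable {M : Type v} [AddCommGroup M] [Module R M] {ι : Type*} [Fintype ι]
  (b : Module.Basis ι R M)

omit [Fintype ι] in
include b in
theorem module_haus (m : M) (h : ∀ j : ℕ, ∃ z : M, m = π ^ j • z) : m = 0 := by
  apply b.ext_elem
  intro i
  rw [map_zero, Finsupp.zero_apply]
  apply ring_haus π
  intro j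
  obtain ⟨z, hz⟩ := h j
  exact ⟨b.repr z i, by rw [hz, map_smul, Finsupp.smul_apply, smul_eq_mul]⟩

include b in
theorem module_complete (x : ℕ → M) (h : ∀ j, ∃ t : M, x (j + 1) = x j + π ^ j • t) :
    ∃ L : M, ∀ j, ∃ z : M, L = x j + π ^ j • z := by
  classical
  have hcoord : ∀ i : ι, ∃ L : R, ∀ j, ∃ z : R, L = b.repr (x j) i + π ^ j * z := by
    intro i
    apply ring_complete π (fun j => b.repr (x j) i)
    intro j
    obtain ⟨t, ht⟩ := h j
    exact ⟨b.repr t i, by simp [ht]⟩
  choose L hL using hcoord
  choose z hz using hL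
  refine ⟨b.equivFun.symm L, fun j => ⟨b.equivFun.symm (fun i => z i j), ?_⟩⟩
  apply b.ext_elem
  intro i
  have := hz i j
  have e1 : ∀ f : ι → R, b.repr (b.equivFun.symm f) i = f i := by
    intro f
    have := congrFun (b.equivFun.apply_symm_apply f) i
    rwa [Module.Basis.equivFun_apply] at this
  simp only [map_add, map_smul, Finsupp.add_apply, Finsupp.smul_apply, smul_eq_mul, e1]
  exact this

end complete

end Groth.Agent.H84

namespace Groth.Agent.H84

section witt

open WittVector

variable {k : Type u} [Field k] [IsAlgClosed k] {p : ℕ} [hp : Fact p.Prime] [CharP k p]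
variable {M : Type v} [AddCommGroup M] [Module (WittVector p k) M]
variable {ι : Type v} [Fintype ι] (b : Module.Basis ι (WittVector p k) M)

/-- reduction modulo `p` in coordinates. -/
noncomputable def red (m : M) : ι → k := fun i => WittVector.constantCoeff (b.repr m i)

omit [IsAlgClosed k] [CharP k p] [Fintype ι] in
theorem red_add (m m' : M) : red b (m + m') = red b m + red b m' := by
  funext i; simp only [red, map_add, Finsupp.add_apply, Pi.add_apply]

omit [IsAlgClosed k] [CharP k p] [Fintype ι] in
theorem red_sub (m m' : M) : red b (m - m') = red b m - red b m' := by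
  funext i; simp only [red, map_sub, Finsupp.sub_apply, Pi.sub_apply]

omit [IsAlgClosed k] [CharP k p] [Fintype ι] in
theorem red_zero : red b (0 : M) = 0 := by
  funext i; simp [red]

omit [IsAlgClosed k] [CharP k p] [Fintype ι] in
theorem red_smul (a : WittVector p k) (m : M) :
    red b (a • m) = WittVector.constantCoeff a • red b m := by
  funext i
  simp only [red, map_smul, Finsupp.smul_apply, smul_eq_mul, map_mul, Pi.smul_apply]

theorem red_eq_zero_iff (m : M) : red b m = 0 ↔ ∃ m' : M, m = (p : WittVector p k) • m' := by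
  classical
  constructor
  · intro h
    have h1 : ∀ i, ∃ d : WittVector p k, b.repr m i = (p : WittVector p k) * d := by
      intro i
      have hi : (b.repr m i).coeff 0 = 0 := congrFun h i
      have := (WittVector.mem_span_p_iff_coeff_zero_eq_zero (b.repr m i)).mpr hi
      rw [Ideal.mem_span_singleton] at this
      exact this
    choose d hd using h1
    refine ⟨b.equivFun.symm d, ?_⟩
    apply b.ext_elem
    intro i
    have e1 : b.repr (b.equivFun.symm d) i = d i := by
      have := congrFun (b.equivFun.apply_symm_apply d) i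
      rwa [Module.Basis.equivFun_apply] at this
    rw [map_smul, Finsupp.smul_apply, smul_eq_mul, e1, hd]
  · rintro ⟨m', rfl⟩
    rw [red_smul]
    have : WittVector.constantCoeff (p : WittVector p k) = 0 := by
      rw [map_natCast]; exact CharP.cast_eq_zero k p
    rw [this, zero_smul]

/-- a section of the reduction. -/
noncomputable def sec (v : ι → k) : M :=
  b.equivFun.symm (fun i => Function.surjInv (WittVector.constantCoeff_surjective p (R := k)) (v i))

omit [IsAlgClosed k] [CharP k p] in
theorem red_sec (v : ι → k) : red b (sec b v) = v := by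
  funext i
  have e1 : ∀ f : ι → WittVector p k, b.repr (b.equivFun.symm f) i = f i := by
    intro f
    have := congrFun (b.equivFun.apply_symm_apply f) i
    rwa [Module.Basis.equivFun_apply] at this
  simp only [red, sec, e1]
  exact Function.surjInv_eq _ _

end witt

end Groth.Agent.H84

namespace Groth.Agent.H84

section wittF

open WittVector

variable {k : Type u} [Field k] [IsAlgClosed k] {p : ℕ} [hp : Fact p.Prime] [CharP k p]
variable {M : Type v} [AddCommGroup M] [Module (WittVector p k) M]
variable {ι : Type v} [Fintype ι] (b : Module.Basis ι (WittVector p k) M)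
variable (ν : ℕ) (F : M →+ M)
  (hF : ∀ (a : WittVector p k) (m : M),
    F (a • m) = ((⇑(WittVector.frobenius : WittVector p k →+* WittVector p k))^[ν] a) • F m)

omit [IsAlgClosed k] [CharP k p] in
theorem iter_frob_natCast (n : ℕ) :
    (⇑(WittVector.frobenius : WittVector p k →+* WittVector p k))^[ν] (n : WittVector p k) = n := by
  induction ν with
  | zero => rfl
  | succ ν ih => rw [Function.iterate_succ_apply', ih, map_natCast]

omit [IsAlgClosed k] in
theorem constantCoeff_iter_frob (a : WittVector p k) :
    WittVector.constantCoeff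
      ((⇑(WittVector.frobenius : WittVector p k →+* WittVector p k))^[ν] a) =
      (WittVector.constantCoeff a) ^ (p ^ ν) := by
  induction ν with
  | zero => simp
  | succ ν ih =>
    rw [Function.iterate_succ_apply']
    have : WittVector.constantCoeff (WittVector.frobenius
        ((⇑(WittVector.frobenius : WittVector p k →+* WittVector p k))^[ν] a)) =
        (WittVector.constantCoeff
          ((⇑(WittVector.frobenius : WittVector p k →+* WittVector p k))^[ν] a)) ^ p :=
      WittVector.coeff_frobenius_charP p _ 0
    rw [this, ih, ← pow_mul, pow_succ]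

include hF in
omit [IsAlgClosed k] [Fintype ι] in
theorem F_p_smul (m : M) : F ((p : WittVector p k) • m) = (p : WittVector p k) • F m := by
  rw [hF, iter_frob_natCast]

/-- the induced map modulo `p`. -/
noncomputable def phibar (v : ι → k) : ι → k := red b (F (sec b v))

include hF in
theorem red_F (m : M) : red b (F m) = phibar b F (red b m) := by
  have h0 : red b (m - sec b (red b m)) = 0 := by
    rw [red_sub, red_sec, sub_self]
  obtain ⟨m', hm'⟩ := (red_eq_zero_iff b _).mp h0
  have h1 : F m - F (sec b (red b m)) = (p : WittVector p k) • F m' := by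
    rw [← map_sub, hm', F_p_smul ν F hF]
  have h2 : red b (F m - F (sec b (red b m))) = 0 := by
    rw [h1]; exact (red_eq_zero_iff b _).mpr ⟨_, rfl⟩
  rw [red_sub, sub_eq_zero] at h2
  exact h2

include hF in
/-- the induced Frobenius-semilinear map modulo `p`. -/
noncomputable def phibarₛₗ : (ι → k) →ₛₗ[iterateFrobenius k p ν] (ι → k) where
  toFun := phibar b F
  map_add' v v' := by
    have h := red_F b ν F hF (sec b v + sec b v')
    rw [red_add, red_sec, red_sec] at h
    rw [← h, map_add, red_add, red_F b ν F hF, red_F b ν F hF, red_sec, red_sec]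
  map_smul' a v := by
    obtain ⟨a', rfl⟩ := WittVector.constantCoeff_surjective p (R := k) a
    have h := red_F b ν F hF (a' • sec b v)
    rw [red_smul, red_sec] at h
    rw [← h, hF, red_smul, constantCoeff_iter_frob, red_F b ν F hF, red_sec,
      iterateFrobenius_def]

theorem phibarₛₗ_apply (v : ι → k) : phibarₛₗ b ν F hF v = phibar b F v := rfl

include hF in
theorem phibar_injective (hbij : Function.Bijective F) :
    Function.Injective (phibarₛₗ b ν F hF) := by
  rw [injective_iff_map_eq_zero]
  intro v hv
  rw [phibarₛₗ_apply] at hv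
  have h1 : red b (F (sec b v)) = 0 := hv
  obtain ⟨m'', hm''⟩ := (red_eq_zero_iff b _).mp h1
  obtain ⟨m', rfl⟩ := hbij.surjective m''
  rw [← F_p_smul ν F hF] at hm''
  have := hbij.injective hm''
  rw [← red_sec b v, this]
  exact (red_eq_zero_iff b _).mpr ⟨_, rfl⟩

end wittF

end Groth.Agent.H84

namespace Groth.Agent.H84

section wittMain

open WittVector

variable {k : Type u} [Field k] [IsAlgClosed k] {p : ℕ} [hp : Fact p.Prime] [CharP k p]
variable {M : Type v} [AddCommGroup M] [Module (WittVector p k) M]
variable {ι : Type v} [Fintype ι] (b : Module.Basis ι (WittVector p k) M)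
variable (ν : ℕ) (F : M →+ M)
  (hF : ∀ (a : WittVector p k) (m : M),
    F (a • m) = ((⇑(WittVector.frobenius : WittVector p k →+* WittVector p k))^[ν] a) • F m)

omit [IsAlgClosed k] [CharP k p] in
theorem q_facts (hν : 1 ≤ ν) : 2 ≤ p ^ ν := by
  have hp' : p.Prime := hp.out
  calc 2 ≤ p := hp'.two_le
    _ = p ^ 1 := (pow_one p).symm
    _ ≤ p ^ ν := Nat.pow_le_pow_right hp'.pos hν

include hF b in
/-- `F - 1` is surjective. -/
theorem F_sub_one_surjective (hν : 1 ≤ ν) (hbij : Function.Bijective F) (y : M) :
    ∃ x : M, F x - x = y := by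
  have hq2 : 2 ≤ p ^ ν := q_facts ν hν
  have hq0 : ((p ^ ν : ℕ) : k) = 0 := by
    rw [Nat.cast_pow, CharP.cast_eq_zero k p, zero_pow (by omega)]
  have hσ : ∀ a : k, iterateFrobenius k p ν a = a ^ (p ^ ν) := fun a => iterateFrobenius_def p ν a
  have hsurj := sub_one_surjective (iterateFrobenius k p ν) (p ^ ν) hσ hq2 hq0
    (phibarₛₗ b ν F hF) (phibar_injective b ν F hF hbij)
  let G : M →+ M := F - AddMonoidHom.id M
  have hGapp : ∀ m, G m = F m - m := fun m => rfl
  have := surjective_of_surjective_mod (p : WittVector p k)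
    (module_haus (p : WittVector p k) b) (module_complete (p : WittVector p k) b) G
    (fun m => by rw [hGapp, hGapp, F_p_smul ν F hF, smul_sub])
    (fun y => by
      obtain ⟨v, hv⟩ := hsurj (red b y)
      rw [phibarₛₗ_apply] at hv
      have h0 : red b (F (sec b v) - sec b v - y) = 0 := by
        rw [red_sub, red_sub, red_F b ν F hF, red_sec, hv, sub_self]
      obtain ⟨z, hz⟩ := (red_eq_zero_iff b _).mp h0
      refine ⟨sec b v, z, ?_⟩
      rw [hGapp, ← hz]; abel) y
  obtain ⟨x, hx⟩ := this
  exact ⟨x, hx⟩

include hF in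
/-- lifting fixed vectors. -/
theorem exists_fixed_lift (hν : 1 ≤ ν) (hbij : Function.Bijective F) (v : ι → k)
    (hv : phibar b F v = v) : ∃ e : M, F e = e ∧ red b e = v := by
  have h0 : red b (F (sec b v) - sec b v) = 0 := by
    rw [red_sub, red_F b ν F hF, red_sec, hv, sub_self]
  obtain ⟨y, hy⟩ := (red_eq_zero_iff b _).mp h0
  obtain ⟨x, hx⟩ := F_sub_one_surjective b ν F hF hν hbij y
  refine ⟨sec b v - (p : WittVector p k) • x, ?_, ?_⟩
  · rw [map_sub, F_p_smul ν F hF]
    have : F (sec b v) = sec b v + (p : WittVector p k) • y := by rw [← hy]; abel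
    rw [this, ← hx, smul_sub]; abel
  · rw [red_sub, red_sec, (red_eq_zero_iff b _).mpr ⟨x, rfl⟩, sub_zero]

include hF b in
/-- The main theorem: a basis of fixed vectors. -/
theorem exists_fixed_basis [Module.Finite (WittVector p k) M] (hν : 1 ≤ ν)
    (hbij : Function.Bijective F) :
    ∃ b' : Module.Basis ι (WittVector p k) M, ∀ i, F (b' i) = b' i := by
  classical
  have hq2 : 2 ≤ p ^ ν := q_facts ν hν
  have hq0 : ((p ^ ν : ℕ) : k) = 0 := by
    rw [Nat.cast_pow, CharP.cast_eq_zero k p, zero_pow (by omega)]
  have hσ : ∀ a : k, iterateFrobenius k p ν a = a ^ (p ^ ν) := fun a => iterateFrobenius_def p ν a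
  have hspan := span_fixed_eq_top (iterateFrobenius k p ν) (p ^ ν) hσ hq2 hq0
    (phibarₛₗ b ν F hF) (phibar_injective b ν F hF hbij)
  obtain ⟨ι', bV, hbV⟩ : ∃ (ι' : Type (max u v)) (bV : Module.Basis ι' k (ι → k)),
      ∀ j, phibar b F (bV j) = bV j := by
    refine ⟨_, Module.Basis.ofSpan (K := k) (s := {v : ι → k | phibarₛₗ b ν F hF v = v})
      (le_of_eq hspan.symm), fun j => ?_⟩
    have hj : Module.Basis.ofSpan (K := k) (s := {v : ι → k | phibarₛₗ b ν F hF v = v})
        (le_of_eq hspan.symm) j ∈ {v : ι → k | phibarₛₗ b ν F hF v = v} :=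
      Module.Basis.ofSpan_subset _ (Set.mem_range_self j)
    exact hj
  letI : Fintype ι' := FiniteDimensional.fintypeBasisIndex bV
  have hcard : Fintype.card ι = Fintype.card ι' := by
    rw [← Module.finrank_eq_card_basis bV, Module.finrank_pi k]
  let ε := Fintype.equivOfCardEq hcard
  have hlift : ∀ i : ι, ∃ e : M, F e = e ∧ red b e = bV (ε i) := fun i =>
    exists_fixed_lift b ν F hF hν hbij _ (hbV (ε i))
  choose e he_fix he_red using hlift
  -- spanning by Nakayama
  have hle : (⊤ : Submodule (WittVector p k) M) ≤ Submodule.span (WittVector p k) (Set.range e) ⊔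
      (Ideal.span {(p : WittVector p k)}) • (⊤ : Submodule (WittVector p k) M) := by
    intro m _
    let c := bV.repr (red b m)
    let a : ι → WittVector p k := fun i =>
      Function.surjInv (WittVector.constantCoeff_surjective p (R := k)) (c (ε i))
    have ha : ∀ i, WittVector.constantCoeff (a i) = c (ε i) := fun i =>
      Function.surjInv_eq _ _
    let m' : M := ∑ i, a i • e i
    have hm' : red b m' = red b m := by
      have h1 : red b m' = ∑ i, c (ε i) • bV (ε i) := by
        have : ∀ s : Finset ι, red b (∑ i ∈ s, a i • e i) = ∑ i ∈ s, c (ε i) • bV (ε i) := by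
          intro s
          induction s using Finset.induction_on with
          | empty => simp [red_zero]
          | insert i s hi ih =>
            rw [Finset.sum_insert hi, Finset.sum_insert hi, red_add, ih, red_smul, ha, he_red]
        exact this Finset.univ
      rw [h1, Fintype.sum_equiv ε (fun i => c (ε i) • bV (ε i)) (fun j => c j • bV j)
        (fun i => rfl)]
      exact bV.sum_repr (red b m)
    have h0 : red b (m - m') = 0 := by rw [red_sub, hm', sub_self]
    obtain ⟨z, hz⟩ := (red_eq_zero_iff b _).mp h0
    have : m = m' + (p : WittVector p k) • z := by rw [← hz]; abel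
    rw [this]
    apply Submodule.add_mem_sup
    · apply Submodule.sum_mem
      intro i _
      exact Submodule.smul_mem _ _ (Submodule.subset_span (Set.mem_range_self i))
    · exact Submodule.smul_mem_smul (Ideal.subset_span rfl) Submodule.mem_top
  have hjac : Ideal.span {(p : WittVector p k)} ≤ (⊥ : Ideal (WittVector p k)).jacobson :=
    IsAdicComplete.le_jacobson_bot _
  have htop : (⊤ : Submodule (WittVector p k) M) ≤
      Submodule.span (WittVector p k) (Set.range e) :=
    Submodule.le_of_le_smul_of_le_jacobson_bot Module.Finite.fg_top hjac hle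
  have hrank : Fintype.card ι = Module.finrank (WittVector p k) M :=
    (Module.finrank_eq_card_basis b).symm
  refine ⟨basisOfTopLeSpanOfCardEqFinrank e htop hrank, fun i => ?_⟩
  rw [coe_basisOfTopLeSpanOfCardEqFinrank]
  exact he_fix i

end wittMain

end Groth.Agent.H84
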